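import Cfsg.Agent.Lib.Dickson.Transfer

/-!
Overgroups of the exceptional and subfield subgroups of `PSL₂(q)`, from Dickson's list (helper99).
-/

set_option autoImplicit false
set_option linter.unusedSectionVars false

namespace Cfsg.Agent.ClMax99

open Cfsg.Agent.Dickson
open scoped MatrixGroups commutatorElement

/-- Two squares that do not commute. -/
def SqWit (G : Type*) [Group G] : Prop := ∃ a b : G, (a * a) * (b * b) ≠ (b * b) * (a * a)

/-- A commutator of order not dividing `p`, or two commutators that do not commute. -/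
def ComWit (p : ℕ) (G : Type*) [Group G] : Prop :=
  (∃ a b c d : G, ⁅a, b⁆ * ⁅c, d⁆ ≠ ⁅c, d⁆ * ⁅a, b⁆) ∨ (∃ a b : G, ⁅a, b⁆ ^ p ≠ 1)

theorem SqWit.map {G H : Type*} [Group G] [Group H] (h : SqWit G) (f : G →* H)
    (hf : Function.Injective f) : SqWit H := by
  obtain ⟨a, b, hab⟩ := h
  exact ⟨f a, f b, fun e => hab (hf (by simpa only [map_mul] using e))⟩

theorem ComWit.map {p : ℕ} {G H : Type*} [Group G] [Group H] (h : ComWit p G) (f : G →* H)
    (hf : Function.Injective f) : ComWit p H := by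
  rcases h with ⟨a, b, c, d, h⟩ | ⟨a, b, h⟩
  · exact Or.inl ⟨f a, f b, f c, f d, fun e => h (hf (by
      simpa only [map_mul, map_commutatorElement] using e))⟩
  · exact Or.inr ⟨f a, f b, fun e => h (hf (by
      simpa only [map_pow, map_commutatorElement, map_one] using e))⟩

theorem not_sqWit_dihedral (n : ℕ) : ¬ SqWit (DihedralGroup n) := by
  rintro ⟨a, b, h⟩
  apply h
  rcases a with i | i <;> rcases b with j | j <;>
    simp only [DihedralGroup.r_mul_r, DihedralGroup.sr_mul_sr, sub_self, DihedralGroup.r_zero,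
      one_mul, mul_one] <;> rw [add_comm]

theorem not_sqWit_cyclic {G : Type*} [Group G] [IsCyclic G] : ¬ SqWit G := by
  rintro ⟨a, b, h⟩
  obtain ⟨g, hg⟩ := IsCyclic.exists_generator (α := G)
  obtain ⟨i, rfl⟩ := Subgroup.mem_zpowers_iff.mp (hg a)
  obtain ⟨j, rfl⟩ := Subgroup.mem_zpowers_iff.mp (hg b)
  apply h
  simp only [← zpow_add]
  ring_nf

theorem sqWit_of_simple {G : Type*} [Group G] [IsSimpleGroup G]
    (hG : ∃ a b : G, a * b ≠ b * a) : SqWit G := by
  by_contra hc
  simp only [SqWit, not_exists, not_not] at hc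
  obtain ⟨x, y, hxy⟩ := hG
  let S : Subgroup G := Subgroup.closure (Set.range fun a : G => a * a)
  have hN : S.Normal := ⟨fun n hn g => by
    induction hn using Subgroup.closure_induction with
    | mem z hz =>
      obtain ⟨a, rfl⟩ := hz
      refine Subgroup.subset_closure ⟨g * a * g⁻¹, ?_⟩
      group
    | one => simp
    | mul u v _ _ hu hv => simpa [mul_assoc] using mul_mem hu hv
    | inv u _ hu => simpa [mul_assoc] using inv_mem hu⟩
  have hcom : IsMulCommutative S := Subgroup.isMulCommutative_closure (by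
    rintro _ ⟨a, rfl⟩ _ ⟨b, rfl⟩
    exact hc a b)
  rcases hN.eq_bot_or_eq_top with h | h
  · have h1 : ∀ a : G, a * a = 1 := fun a => by
      have : a * a ∈ S := Subgroup.subset_closure ⟨a, rfl⟩
      rwa [h, Subgroup.mem_bot] at this
    have hinv : ∀ a : G, a⁻¹ = a := fun a => inv_eq_of_mul_eq_one_left (h1 a)
    exact hxy (by rw [← hinv (x * y), mul_inv_rev, hinv, hinv])
  · have hx : x ∈ S := h ▸ Subgroup.mem_top x
    have hy : y ∈ S := h ▸ Subgroup.mem_top y
    exact hxy (congrArg Subtype.val (hcom.is_comm.comm (⟨x, hx⟩ : S) ⟨y, hy⟩))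

theorem comWit_of_simple (p : ℕ) {G : Type*} [Group G] [IsSimpleGroup G]
    (hG : ∃ a b : G, a * b ≠ b * a) : ComWit p G := by
  left
  by_contra hc
  simp only [not_exists, not_not] at hc
  obtain ⟨x, y, hxy⟩ := hG
  have hcom : IsMulCommutative (commutator G) := by
    rw [commutator_eq_closure]
    refine Subgroup.isMulCommutative_closure ?_
    rintro _ ⟨a, b, rfl⟩ _ ⟨c, d, rfl⟩
    exact hc a b c d
  rcases (inferInstance : (commutator G).Normal).eq_bot_or_eq_top with h | h
  · have hm := Subgroup.commutator_mem_commutator (Subgroup.mem_top x) (Subgroup.mem_top y)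
    rw [← commutator_def, h, Subgroup.mem_bot] at hm
    exact hxy (commutatorElement_eq_one_iff_mul_comm.mp hm)
  · have hx : x ∈ commutator G := h ▸ Subgroup.mem_top x
    have hy : y ∈ commutator G := h ▸ Subgroup.mem_top y
    exact hxy (congrArg Subtype.val (hcom.is_comm.comm (⟨x, hx⟩ : commutator G) ⟨y, hy⟩))

theorem sqWit_A4 : SqWit (alternatingGroup (Fin 4)) :=
  ⟨⟨Equiv.swap 0 1 * Equiv.swap 1 2, Equiv.Perm.mem_alternatingGroup.mpr (by decide)⟩, ⟨Equiv.swap 1 2 * Equiv.swap 2 3, Equiv.Perm.mem_alternatingGroup.mpr (by decide)⟩,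
    by decide⟩

theorem comWit_A4 {p : ℕ} (hp : Odd p) : ComWit p (alternatingGroup (Fin 4)) := by
  right
  let a : alternatingGroup (Fin 4) := ⟨Equiv.swap 0 1 * Equiv.swap 1 2, Equiv.Perm.mem_alternatingGroup.mpr (by decide)⟩
  let b : alternatingGroup (Fin 4) := ⟨Equiv.swap 1 2 * Equiv.swap 2 3, Equiv.Perm.mem_alternatingGroup.mpr (by decide)⟩
  refine ⟨a, b, fun h => ?_⟩
  have h2 : ⁅a, b⁆ ^ 2 = 1 := by decide
  have hne : ⁅a, b⁆ ≠ 1 := by decide
  obtain ⟨k, rfl⟩ := hp
  rw [pow_succ, pow_mul, h2, one_pow, one_mul] at h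
  exact hne h

theorem sqWit_A5 : SqWit (alternatingGroup (Fin 5)) :=
  ⟨⟨Equiv.swap 0 1 * Equiv.swap 1 2, Equiv.Perm.mem_alternatingGroup.mpr (by decide)⟩, ⟨Equiv.swap 1 2 * Equiv.swap 2 3, Equiv.Perm.mem_alternatingGroup.mpr (by decide)⟩,
    by decide⟩

theorem comWit_A5 (p : ℕ) : ComWit p (alternatingGroup (Fin 5)) :=
  haveI := alternatingGroup.isSimpleGroup_five
  comWit_of_simple p ⟨⟨Equiv.swap 0 1 * Equiv.swap 1 2, Equiv.Perm.mem_alternatingGroup.mpr (by decide)⟩,
    ⟨Equiv.swap 1 2 * Equiv.swap 2 3, Equiv.Perm.mem_alternatingGroup.mpr (by decide)⟩, by decide⟩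

theorem sqWit_S4 : SqWit (Equiv.Perm (Fin 4)) :=
  sqWit_A4.map (alternatingGroup (Fin 4)).subtype Subtype.val_injective

theorem comWit_S4 {p : ℕ} (hp : Odd p) : ComWit p (Equiv.Perm (Fin 4)) :=
  (comWit_A4 hp).map (alternatingGroup (Fin 4)).subtype Subtype.val_injective

theorem wit_PSL2 {K : Type*} [Field K] [Finite K] (p : ℕ) (h : 4 ≤ Nat.card K ∨ (Nat.card K = 3 ∧ Odd p)) :
    SqWit (Matrix.ProjectiveSpecialLinearGroup (Fin 2) K) ∧
      ComWit p (Matrix.ProjectiveSpecialLinearGroup (Fin 2) K) := by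
  rcases h with h | ⟨h, hp⟩
  · haveI : IsSimpleGroup (Matrix.ProjectiveSpecialLinearGroup (Fin 2) K) :=
      Matrix.ProjectiveSpecialLinearGroup.rank_two_simple h
    have hG : ∃ a b : Matrix.ProjectiveSpecialLinearGroup (Fin 2) K, a * b ≠ b * a := by
      refine ⟨QuotientGroup.mk (PLocalB.upper 1), QuotientGroup.mk (PLocalB.lower 1), ?_⟩
      rw [← QuotientGroup.mk_mul, ← QuotientGroup.mk_mul]
      intro e
      rcases mk_eq_mk_iff.mp e with e | e <;>
      · have h00 := congrArg (fun A : SL(2, K) => A 0 0) e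
        have h01 := congrArg (fun A : SL(2, K) => A 0 1) e
        have h11 := congrArg (fun A : SL(2, K) => A 1 1) e
        simp only [Matrix.SpecialLinearGroup.coe_mul, Matrix.SpecialLinearGroup.coe_neg,
          Matrix.neg_apply, Matrix.mul_apply, Fin.sum_univ_two] at h00 h01 h11
        simp [PLocalB.upper, PLocalB.lower] at h00 h01 h11
        all_goals exact one_ne_zero (α := K) (by linear_combination h00 - h01)
    exact ⟨sqWit_of_simple hG, comWit_of_simple p hG⟩
  · obtain ⟨e⟩ := LinearGroup.psl_two_small (F := K) (Or.inl h)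
    have hA : alternatingGroup (Fin 4) ≃* Matrix.ProjectiveSpecialLinearGroup (Fin 2) K := by
      rw [h] at e
      exact e.symm
    exact ⟨sqWit_A4.map hA.toMonoidHom hA.injective, (comWit_A4 hp).map hA.toMonoidHom hA.injective⟩

theorem wit_PGL2 {K : Type*} [Field K] [Finite K] (p : ℕ) (h : 4 ≤ Nat.card K ∨ (Nat.card K = 3 ∧ Odd p)) :
    SqWit (Matrix.ProjGenLinGroup (Fin 2) K) ∧ ComWit p (Matrix.ProjGenLinGroup (Fin 2) K) :=
  ⟨(wit_PSL2 p h).1.map _ Matrix.ProjectiveSpecialLinearGroup.toPGL_injective,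
    (wit_PSL2 p h).2.map _ Matrix.ProjectiveSpecialLinearGroup.toPGL_injective⟩

section Borel

attribute [local instance] Cfsg.Agent.PLocalB.lineAction pslLine

variable {F : Type*} [Field F]

theorem comm_mem_upp {g h : PSL2 F} (hg : g • (OnePoint.infty : OnePoint F) = OnePoint.infty)
    (hh : h • (OnePoint.infty : OnePoint F) = OnePoint.infty) : ⁅g, h⁆ ∈ (uppHom F).range := by
  obtain ⟨A, rfl, hA⟩ := exists_upper_rep hg
  obtain ⟨B, rfl, hB⟩ := exists_upper_rep hh
  have hA' := upper_diag hA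
  have hB' := upper_diag hB
  have e : IsUni (OnePoint.infty : OnePoint F) (QuotientGroup.mk ⁅A, B⁆ : PSL2 F) := by
    rw [isUni_infty_iff]
    · simp [commutatorElement_def, Matrix.mul_apply, Fin.sum_univ_two,
        Matrix.SpecialLinearGroup.coe_inv, Matrix.adjugate_fin_two, hA, hB]
      grind
    · simp [commutatorElement_def, Matrix.mul_apply, Fin.sum_univ_two,
        Matrix.SpecialLinearGroup.coe_inv, Matrix.adjugate_fin_two, hA, hB]
  obtain ⟨b, hb⟩ := isUni_infty_iff_upp.mp e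
  exact ⟨_, hb.symm⟩

theorem not_comWit_borel (p : ℕ) [CharP F p] {M : Subgroup (PSL2 F)} (t : PSL2 F)
    (ht : ∀ g ∈ M, (t * g * t⁻¹) • (OnePoint.infty : OnePoint F) = OnePoint.infty) :
    ¬ ComWit p M := by
  let c : M →* PSL2 F := (MulAut.conj t).toMonoidHom.comp M.subtype
  have hc : Function.Injective c := (MulAut.conj t).injective.comp Subtype.val_injective
  have hfix : ∀ g : M, c g • (OnePoint.infty : OnePoint F) = OnePoint.infty := fun g => ht g g.2
  have hmem : ∀ a b : M, c ⁅a, b⁆ ∈ (uppHom F).range := fun a b => by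
    rw [map_commutatorElement]; exact comm_mem_upp (hfix a) (hfix b)
  rintro (⟨a, b, x, y, h⟩ | ⟨a, b, h⟩)
  · obtain ⟨u, hu⟩ := hmem a b
    obtain ⟨v, hv⟩ := hmem x y
    apply h
    apply hc
    rw [map_mul, map_mul, ← hu, ← hv, ← map_mul, ← map_mul, mul_comm]
  · obtain ⟨u, hu⟩ := hmem a b
    apply h
    apply hc
    rw [map_pow, map_one, ← hu, ← map_pow]
    have : u ^ p = 1 := by
      apply Multiplicative.toAdd.injective
      simp [CharP.cast_eq_zero, nsmul_eq_mul]
    rw [this, map_one]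

end Borel

variable {F : Type*} [Field F] [Fintype F]

theorem card_PGL_two (K : Type*) [Field K] [Finite K] :
    Nat.card (Matrix.ProjGenLinGroup (Fin 2) K) = Nat.card K * (Nat.card K ^ 2 - 1) := by
  haveI : Fintype K := Fintype.ofFinite K
  rw [S0265.result, LinearGroup.card_SL_two]

theorem card_PSL_two_even {K : Type*} [Field K] [Finite K] (h : Even (Nat.card K)) :
    Nat.card (PSL2 K) = Nat.card K * (Nat.card K ^ 2 - 1) := by
  have h1 := LinearGroup.gcd_mul_card_PSL_two (F := K)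
  have h2 := Finite.one_lt_card (α := K)
  rw [(Nat.coprime_two_left.mpr (by grind)).gcd_eq_one, one_mul] at h1
  exact h1

theorem card_PSL_two_odd {K : Type*} [Field K] [Finite K] (h : Odd (Nat.card K)) :
    2 * Nat.card (PSL2 K) = Nat.card K * (Nat.card K ^ 2 - 1) := by
  have h1 := LinearGroup.gcd_mul_card_PSL_two (F := K)
  rw [Nat.gcd_eq_left (even_iff_two_dvd.mp (by grind))] at h1
  exact h1

theorem card_PSL_two_dvd (K : Type*) [Field K] [Finite K] :
    Nat.card (PSL2 K) ∣ Nat.card K * (Nat.card K ^ 2 - 1) :=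
  ⟨_, (LinearGroup.gcd_mul_card_PSL_two (F := K)).symm.trans (mul_comm _ _)⟩

/-- The possible proper overgroups of a subgroup with both witnesses. -/
theorem overgroup_cases (p : ℕ) [Fact p.Prime] [CharP F p] {H M : Subgroup (PSL2 F)} (hle : H ≤ M)
    (hM : M ≠ ⊤) (h1 : SqWit H) (h2 : ComWit p H) :
    (Nat.card M = 12 ∨ Nat.card M = 24 ∨ Nat.card M = 60) ∨
      ∃ t m : ℕ, 3 ≤ t ∧ 2 ≤ m ∧ t ^ m = Fintype.card F ∧
        (Nat.gcd 2 (t - 1) * Nat.card M = t * (t ^ 2 - 1) ∨ Nat.card M = t * (t ^ 2 - 1)) := by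
  have w1 : SqWit M := h1.map (Subgroup.inclusion hle) (Subgroup.inclusion_injective hle)
  have w2 : ComWit p M := h2.map (Subgroup.inclusion hle) (Subgroup.inclusion_injective hle)
  rcases kind p M with ⟨k, -, hcyc, -⟩ | ⟨t, ht⟩ | ⟨n, -, -, ⟨e⟩⟩ | ⟨⟨e⟩⟩ | ⟨⟨e⟩⟩ | ⟨⟨e⟩⟩ |
      ⟨T, hT, ⟨m, hm, hcard⟩, hiso⟩
  · exact absurd w1 not_sqWit_cyclic
  · exact absurd w2 (not_comWit_borel p t ht)
  · exact absurd (w1.map e.toMonoidHom e.injective) (not_sqWit_dihedral n)
  · left; left
    rw [Nat.card_congr e.toEquiv, nat_card_alternatingGroup, Nat.card_fin]; decide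
  · left; right; left
    rw [Nat.card_congr e.toEquiv, Nat.card_perm, Nat.card_fin]; decide
  · left; right; right
    rw [Nat.card_congr e.toEquiv, nat_card_alternatingGroup, Nat.card_fin]; decide
  · right
    have hcases : Nat.gcd 2 (Nat.card T - 1) * Nat.card M = Nat.card T * (Nat.card T ^ 2 - 1) ∨
        Nat.card M = Nat.card T * (Nat.card T ^ 2 - 1) := by
      rcases hiso with ⟨⟨e⟩⟩ | ⟨⟨e⟩⟩
      · exact Or.inl (by rw [Nat.card_congr e.toEquiv]; exact LinearGroup.gcd_mul_card_PSL_two)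
      · exact Or.inr (by rw [Nat.card_congr e.toEquiv, card_PGL_two])
    refine ⟨Nat.card T, m, hT, ?_, hcard, hcases⟩
    by_contra hm2
    obtain rfl : m = 1 := by omega
    rw [pow_one] at hcard
    apply hM
    refine Subgroup.eq_top_of_le_card M ?_
    have hG := LinearGroup.gcd_mul_card_PSL_two (F := F)
    rw [Nat.card_eq_fintype_card (α := F), ← hcard] at hG
    have hd : 0 < Nat.gcd 2 (Nat.card T - 1) := Nat.gcd_pos_of_pos_left _ two_pos
    rcases hcases with h | h
    · exact (Nat.eq_of_mul_eq_mul_left hd (hG.trans h.symm)).le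
    · rw [h, ← hG]; exact Nat.le_mul_of_pos_left _ hd

theorem isCoatom_of_card {G : Type*} [Group G] [Finite G] {H : Subgroup G}
    (hne : Nat.card H < Nat.card G) (h : ∀ M : Subgroup G, H ≤ M → M ≠ ⊤ → Nat.card M ≤ Nat.card H) :
    IsCoatom H := by
  refine ⟨fun e => ?_, fun M hlt => ?_⟩
  · rw [e, Subgroup.card_top] at hne
    exact lt_irrefl _ hne
  · by_contra hM
    exact hlt.ne (Subgroup.eq_of_le_of_card_ge hlt.le (h M hlt.le hM))

end Cfsg.Agent.ClMax99
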