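import Cfsg.Agent.Lib.Forms.Symp

/-!
Necessary conditions on similitudes of a non-degenerate alternating form.
-/

set_option autoImplicit false

namespace Cfsg.Agent.ClMax99.AltSim

open Module Submodule

variable {F V : Type*} [Field F] [AddCommGroup V] [Module F V] [FiniteDimensional F V]
variable (B : LinearMap.BilinForm F V)

/-- A subspace with non-degenerate restriction has even dimension. -/
theorem even_finrank (hA : B.IsAlt) (M : Submodule F V)
    (hM : ∀ u ∈ M, (∀ v ∈ M, B u v = 0) → u = 0) : Even (finrank F M) := by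
  obtain ⟨m, e, f, he, hf, hef, hee, hff, hspan⟩ := Forms.exists_symplectic_family B hA M hM
  rw [Forms.finrank_eq_of_symplectic_family B hA M e f he hf hef hee hff hspan]
  exact even_two_mul m

/-- A non-degenerate pairing of `M` with `N` bounds the dimension of `M`. -/
theorem finrank_le_of_pairing (M N : Submodule F V)
    (h : ∀ u ∈ M, (∀ v ∈ N, B u v = 0) → u = 0) : finrank F M ≤ finrank F N := by
  let L : M →ₗ[F] Dual F N := (B.domRestrict₁₂ M N)
  have hL : Function.Injective L := by
    rw [← LinearMap.ker_eq_bot, eq_bot_iff]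
    intro u hu
    refine (mem_bot F).2 (Subtype.ext (h u u.2 fun v hv => ?_))
    exact LinearMap.congr_fun (LinearMap.mem_ker.1 hu) ⟨v, hv⟩
  exact (LinearMap.finrank_le_finrank_of_injective hL).trans Subspace.dual_finrank_eq.le

/-- The moved space of an isometry with no fixed vectors in it has even dimension. -/
theorem even_moved (hA : B.IsAlt) (hB : B.Nondegenerate) (T : Module.End F V)
    (hT : ∀ u v, B (T u) (T v) = B u v)
    (hd : Disjoint (LinearMap.ker (T - 1)) (LinearMap.range (T - 1))) :
    Even (finrank F (LinearMap.range (T - 1))) := by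
  refine even_finrank B hA _ fun u hu h => hB.1 u fun v => ?_
  have htop : LinearMap.ker (T - 1) ⊔ LinearMap.range (T - 1) = ⊤ := by
    refine Submodule.eq_top_of_disjoint _ _ ?_ hd
    rw [add_comm, LinearMap.finrank_range_add_finrank_ker]
  obtain ⟨c, hc, m, hm, rfl⟩ := mem_sup.1 (htop ▸ mem_top : v ∈ LinearMap.ker (T - 1) ⊔ _)
  obtain ⟨w, rfl⟩ := hu
  rw [LinearMap.mem_ker, LinearMap.sub_apply, Module.End.one_apply, sub_eq_zero] at hc
  have e := hT w c
  rw [hc] at e
  rw [map_add, h m hm, add_zero, LinearMap.sub_apply, Module.End.one_apply, map_sub,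
    LinearMap.sub_apply, e, sub_self]

variable {n : ℕ}

/-- A diagonal similitude: the classes of eigenvalues are paired. -/
theorem diag_pairing (B : LinearMap.BilinForm F (Fin n → F)) (hA : B.IsAlt) (hB : B.Nondegenerate)
    [DecidableEq F] (a : Fin n → F) (c : F)
    (h : ∀ u v, B (fun i => a i * u i) (fun i => a i * v i) = c * B u v) (s t : F) (hs : s ≠ 0)
    (hst : s * t = c) :
    (Finset.univ.filter fun i => a i = s).card ≤ (Finset.univ.filter fun i => a i = t).card ∧
      (s = t → Even (Finset.univ.filter fun i => a i = s).card) := by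
  let sp : F → Submodule F (Fin n → F) := fun w =>
    span F (Set.range fun i : {i // i ∈ Finset.univ.filter fun i => a i = w} => Pi.single (i : Fin n) (1 : F))
  have hsp : ∀ w, finrank F (sp w) = (Finset.univ.filter fun i => a i = w).card := fun w => by
    rw [finrank_span_eq_card
      ((Pi.basisFun F (Fin n)).linearIndependent.comp _ Subtype.val_injective |> fun h => by
        simpa [Function.comp_def] using h), Fintype.card_coe]
  have hsing : ∀ (i : Fin n) (k : F), (fun l => k * (Pi.single i (1 : F) : Fin n → F) l) = k • Pi.single i 1 :=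
    fun i k => rfl
  have heig : ∀ i : Fin n, (fun l => a l * (Pi.single i (1 : F) : Fin n → F) l) = a i • Pi.single i 1 := by
    intro i
    funext l
    by_cases hl : l = i
    · subst hl; simp
    · simp [hl]
  have hbase : ∀ i j : Fin n, a i * a j ≠ c → B (Pi.single i 1) (Pi.single j 1) = 0 := by
    intro i j hij
    have e := h (Pi.single i 1) (Pi.single j 1)
    rw [heig, heig, map_smul, map_smul, LinearMap.smul_apply, smul_eq_mul, smul_eq_mul, ← mul_assoc,
      mul_comm (a j), ← sub_eq_zero, ← sub_mul, mul_eq_zero] at e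
    exact e.resolve_left (sub_ne_zero.2 hij)
  have key : ∀ u ∈ sp s, (∀ v ∈ sp t, B u v = 0) → u = 0 := by
    intro u hu hv
    refine hB.1 u fun v => ?_
    rw [pi_eq_sum_univ' v, map_sum]
    refine Finset.sum_eq_zero fun j _ => ?_
    rw [map_smul, smul_eq_mul]
    refine mul_eq_zero_of_right _ ?_
    by_cases hj : a j = t
    · exact hv _ (subset_span ⟨⟨j, by simpa using hj⟩, rfl⟩)
    · have : sp s ≤ LinearMap.ker (B.flip (Pi.single j 1)) := span_le.2 (by
        rintro _ ⟨⟨i, hi⟩, rfl⟩
        simp only [Finset.mem_filter, Finset.mem_univ, true_and] at hi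
        refine hbase i j fun e => hj ?_
        rw [hi, ← hst] at e
        exact mul_left_cancel₀ hs e)
      exact LinearMap.mem_ker.1 (this hu)
  refine ⟨by rw [← hsp, ← hsp]; exact finrank_le_of_pairing B _ _ key, fun hEq => ?_⟩
  subst hEq
  rw [← hsp]
  exact even_finrank B hA _ key

end Cfsg.Agent.ClMax99.AltSim
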