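import Cfsg.Agent.ClMax99.InvCount

/-!
Glue for elements of prime order modulo scalars in `SL_n(q)` (helper99).
-/

set_option autoImplicit false
set_option linter.unusedSectionVars false

namespace Cfsg.Agent.ClMax99.Inv

open Module

variable {F : Type*} [Field F] [Fintype F] {r : ℕ} [hr : Fact r.Prime]

theorem cast_ne_zero_of_ne {p : ℕ} [Fact p.Prime] [CharP F p] (h : r ≠ p) : (r : F) ≠ 0 := by
  rw [Ne, CharP.cast_eq_zero_iff F p, Nat.prime_dvd_prime_iff_eq Fact.out hr.out]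
  exact fun e => h e.symm

theorem orderOf_dvd_iff_dvd_pow (k : ℕ) :
    orderOf (Fintype.card F : ZMod r) ∣ k ↔ r ∣ Fintype.card F ^ k - 1 := by
  rw [orderOf_dvd_iff_pow_eq_one, ← ZMod.natCast_eq_zero_iff,
    Nat.cast_sub (Nat.one_le_pow _ _ Fintype.card_pos), Nat.cast_one, Nat.cast_pow, sub_eq_zero]

theorem orderOf_eq_one_iff_dvd :
    orderOf (Fintype.card F : ZMod r) = 1 ↔ r ∣ Fintype.card F - 1 := by
  rw [← Nat.dvd_one, orderOf_dvd_iff_dvd_pow, pow_one]

theorem not_dvd_pow_sub_one {p : ℕ} [Fact p.Prime] [CharP F p] {k : ℕ} (hk : 1 ≤ k) :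
    ¬ p ∣ Fintype.card F ^ k - 1 := by
  intro h
  have h1 : p ∣ Fintype.card F ^ k :=
    dvd_pow ((CharP.cast_eq_zero_iff F p _).mp (FiniteField.cast_card_eq_zero F)) (by omega)
  have h2 := Nat.dvd_sub h1 h
  rw [Nat.sub_sub_self (Nat.one_le_pow _ _ Fintype.card_pos)] at h2
  exact (Fact.out : p.Prime).not_dvd_one h2

theorem orderOf_pos_of_ne {p : ℕ} [Fact p.Prime] [CharP F p] (h : r ≠ p) :
    0 < orderOf (Fintype.card F : ZMod r) := by
  obtain ⟨n, -, hn⟩ := FiniteField.card F p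
  have hne : (Fintype.card F : ZMod r) ≠ 0 := by
    rw [Ne, ZMod.natCast_eq_zero_iff, hn]
    exact fun hd => h ((Nat.prime_dvd_prime_iff_eq hr.out Fact.out).mp (hr.out.dvd_of_dvd_pow hd))
  exact orderOf_pos_iff.mpr (isOfFinOrder_iff_pow_eq_one.mpr
    ⟨r - 1, by have := hr.out.two_le; omega, ZMod.pow_card_sub_one_eq_one hne⟩)

theorem exists_root_of_not_dvd (h : ¬ r ∣ Fintype.card F - 1) {z : F} : ∃ w : F, w ^ r = z := by
  rcases eq_or_ne z 0 with rfl | hz
  · exact ⟨0, zero_pow hr.out.ne_zero⟩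
  · have hc : (Nat.card Fˣ).Coprime r := by
      rw [Nat.card_units, Nat.card_eq_fintype_card]
      exact (hr.out.coprime_iff_not_dvd.mpr h).symm
    obtain ⟨w, hw⟩ := (powCoprime hc).surjective (Units.mk0 z hz)
    exact ⟨w, by simpa using congrArg Units.val hw⟩

theorem isPower_of_pow_div_eq_one (h : r ∣ Fintype.card F - 1) {u : F} (hu0 : u ≠ 0)
    (hu : u ^ ((Fintype.card F - 1) / r) = 1) : ∃ w : F, w ^ r = u := by
  obtain ⟨g, hg⟩ := IsCyclic.exists_generator (α := Fˣ)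
  obtain ⟨j, hj⟩ := mem_powers_iff_mem_zpowers.mpr (hg (Units.mk0 u hu0))
  have ho : orderOf g = Fintype.card F - 1 := by
    rw [orderOf_eq_card_of_forall_mem_zpowers hg, Nat.card_units, Nat.card_eq_fintype_card]
  have hj' : g ^ (j * ((Fintype.card F - 1) / r)) = 1 := by
    rw [pow_mul, show g ^ j = Units.mk0 u hu0 from hj]
    exact Units.ext (by simpa using hu)
  have hpos : 0 < (Fintype.card F - 1) / r :=
    Nat.div_pos (Nat.le_of_dvd (by have := Fintype.one_lt_card (α := F); omega) h) hr.out.pos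
  rw [← orderOf_dvd_iff_pow_eq_one, ho] at hj'
  nth_rewrite 1 [← Nat.mul_div_cancel' h] at hj'
  obtain ⟨c, rfl⟩ := Nat.dvd_of_mul_dvd_mul_right hpos hj'
  refine ⟨((g ^ c : Fˣ) : F), ?_⟩
  rw [← Units.val_pow_eq_pow_val, ← pow_mul, mul_comm, show g ^ (r * c) = Units.mk0 u hu0 from hj]
  rfl

/-- The determinant condition excludes non-powers when `(n)_r ≤ (q-1)_r`. -/
theorem no_bad_scalar (h : r ∣ Fintype.card F - 1) {n k : ℕ} (hn : n = r * k) (hn0 : 0 < n)
    (hv : padicValNat r n ≤ padicValNat r (Fintype.card F - 1)) (h4 : r = 2 → Fintype.card F % 4 = 1)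
    {z : F} (hz : ∀ w : F, w ^ r ≠ z) (hdet : ((-1) ^ (r + 1) * z) ^ k = 1) : False := by
  have hq := Fintype.one_lt_card (α := F)
  set u := (-1 : F) ^ (r + 1) * z with hu
  have hz0 : z ≠ 0 := fun e => hz 0 (by rw [e, zero_pow hr.out.ne_zero])
  have hu0 : u ≠ 0 := mul_ne_zero (pow_ne_zero _ (neg_ne_zero.mpr one_ne_zero)) hz0
  have huz : ∀ w, w ^ r ≠ u := by
    intro w hw
    rcases hr.out.eq_two_or_odd' with rfl | hodd
    · obtain ⟨c, hc⟩ := FiniteField.isSquare_neg_one_iff.mpr (by rw [h4 rfl]; norm_num :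
        Fintype.card F % 4 ≠ 3)
      apply hz (c * w)
      rw [mul_pow, hw, hu, pow_two, ← hc]
      ring
    · apply hz w
      rw [hw, hu, (hodd.add_one).neg_one_pow, one_mul]
  have hk : 0 < k := by rcases Nat.eq_zero_or_pos k with rfl | h <;> simp_all
  set g := Nat.gcd k (Fintype.card F - 1) with hg
  have hug : u ^ g = 1 :=
    pow_gcd_eq_one.mpr ⟨hdet, FiniteField.pow_card_sub_one_eq_one _ hu0⟩
  obtain ⟨c, hc⟩ : g ∣ Fintype.card F - 1 := Nat.gcd_dvd_right _ _
  by_cases hrc : r ∣ c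
  · obtain ⟨c', rfl⟩ := hrc
    obtain ⟨w, hw⟩ := isPower_of_pow_div_eq_one h hu0 (by
      rw [show (Fintype.card F - 1) / r = g * c' by
        rw [hc, mul_left_comm, Nat.mul_div_cancel_left _ hr.out.pos], pow_mul, hug, one_pow])
    exact huz w hw
  · have hd : r ^ padicValNat r (Fintype.card F - 1) ∣ g := by
      refine ((hr.out.coprime_iff_not_dvd.mpr hrc).pow_left _).dvd_of_dvd_mul_right ?_
      rw [← hc]; exact pow_padicValNat_dvd
    have hle : padicValNat r (Fintype.card F - 1) ≤ padicValNat r k :=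
      (padicValNat_dvd_iff_le hk.ne').mp (hd.trans (Nat.gcd_dvd_left _ _))
    rw [hn, padicValNat.mul hr.out.ne_zero hk.ne', padicValNat.self hr.out.one_lt] at hv
    omega

/-- A non-power scalar compatible with determinant 1. -/
theorem exists_bad_scalar (h : r ∣ Fintype.card F - 1) {n : ℕ} (hn0 : 0 < n)
    (hcase : padicValNat r (Fintype.card F - 1) < padicValNat r n ∨
      (r = 2 ∧ Even n ∧ Fintype.card F % 4 ≠ 1)) :
    ∃ (k : ℕ) (z : F), n = r * k ∧ (∀ w : F, w ^ r ≠ z) ∧ ((-1) ^ (r + 1) * z) ^ k = 1 := by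
  have hq := Fintype.one_lt_card (α := F)
  by_cases h2 : r = 2 ∧ Even n ∧ Fintype.card F % 4 ≠ 1
  · obtain ⟨rfl, ⟨k, hk⟩, h4⟩ := h2
    refine ⟨k, -1, by omega, fun w hw => ?_, by norm_num⟩
    have := FiniteField.isSquare_neg_one_iff.mp ⟨w, by rw [← pow_two, hw]⟩
    omega
  · have hv := hcase.resolve_right h2
    set a := padicValNat r (Fintype.card F - 1)
    have hdvdn : r ^ (a + 1) ∣ n := (padicValNat_dvd_iff_le hn0.ne').mpr hv
    obtain ⟨k, hk⟩ : r ∣ n := (dvd_pow_self r (Nat.succ_ne_zero a)).trans hdvdn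
    have hdk : r ^ a ∣ k := by
      rw [hk, pow_succ'] at hdvdn
      exact Nat.dvd_of_mul_dvd_mul_left hr.out.pos hdvdn
    obtain ⟨M, hM⟩ : r ^ a ∣ Fintype.card F - 1 := pow_padicValNat_dvd
    have hrM : ¬ r ∣ M := by
      rintro ⟨M', rfl⟩
      have h1 : r ^ (a + 1) ∣ Fintype.card F - 1 := ⟨M', by rw [hM]; ring⟩
      have := (padicValNat_dvd_iff_le (p := r) (by omega)).mp h1
      omega
    obtain ⟨g, hg⟩ := IsCyclic.exists_generator (α := Fˣ)
    have ho : orderOf g = Fintype.card F - 1 := by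
      rw [orderOf_eq_card_of_forall_mem_zpowers hg, Nat.card_units, Nat.card_eq_fintype_card]
    set u : F := ((g ^ M : Fˣ) : F) with hu
    have hu1 : u ^ k = 1 := by
      obtain ⟨c, rfl⟩ := hdk
      rw [hu, ← Units.val_pow_eq_pow_val, ← pow_mul, ← mul_assoc, mul_comm M, ← hM, ← ho, pow_mul,
        pow_orderOf_eq_one, one_pow, Units.val_one]
    have hsq : ((-1 : F) ^ (r + 1)) * ((-1) ^ (r + 1)) = 1 := by rw [← mul_pow]; simp
    refine ⟨k, (-1) ^ (r + 1) * u, hk, fun w hw => ?_, by rw [← mul_assoc, hsq, one_mul, hu1]⟩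
    have hneg : ∃ c : F, c ^ r = (-1) ^ (r + 1) := by
      rcases hr.out.eq_two_or_odd' with rfl | hodd
      · have hev : Even n := ⟨k, by omega⟩
        obtain ⟨c, hc⟩ := FiniteField.isSquare_neg_one_iff.mpr (by
          intro e; exact h2 ⟨rfl, hev, by omega⟩ : Fintype.card F % 4 ≠ 3)
        exact ⟨c, by rw [pow_two, ← hc]; ring⟩
      · exact ⟨1, by rw [one_pow, (hodd.add_one).neg_one_pow]⟩
    obtain ⟨c, hc⟩ := hneg
    have hw' : (c * w) ^ r = u := by rw [mul_pow, hw, hc, ← mul_assoc, hsq, one_mul]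
    have hpow : (g ^ M) ^ ((Fintype.card F - 1) / r) = 1 := by
      apply Units.ext
      rw [Units.val_pow_eq_pow_val, ← hu, ← hw', ← pow_mul, Nat.mul_div_cancel' h, Units.val_one]
      refine FiniteField.pow_card_sub_one_eq_one _ fun e => ?_
      rw [e, zero_pow hr.out.ne_zero] at hw'
      exact Units.ne_zero _ hw'.symm
    rw [← pow_mul, ← orderOf_dvd_iff_pow_eq_one, ho] at hpow
    obtain ⟨e, he⟩ := hpow
    have h3 : r * ((Fintype.card F - 1) / r) = Fintype.card F - 1 := Nat.mul_div_cancel' h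
    apply hrM
    refine ⟨e, Nat.eq_of_mul_eq_mul_right
      (Nat.div_pos (Nat.le_of_dvd (by omega) h) hr.out.pos) ?_⟩
    rw [mul_assoc, mul_comm e, ← mul_assoc, h3, he]

section Matrices

variable {n : ℕ}

theorem toLin_pow (A : Matrix (Fin n) (Fin n) F) {k : ℕ} {z : F} (h : A ^ k = z • 1) :
    (Matrix.toLin' A) ^ k = z • 1 := by
  rw [← Matrix.toLin'_pow, h, map_smul, Matrix.toLin'_one]
  rfl

theorem scalar_ne_zero (hn : 0 < n) {A : Matrix (Fin n) (Fin n) F} (hA : A.det = 1) {k : ℕ} {z : F}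
    (h : A ^ k = z • 1) : z ≠ 0 := by
  rintro rfl
  haveI : Nonempty (Fin n) := ⟨⟨0, hn⟩⟩
  have := congrArg Matrix.det h
  rw [Matrix.det_pow, hA, one_pow, zero_smul, Matrix.det_zero] at this
  exact one_ne_zero this

theorem map_smul_le_iff {V : Type*} [AddCommGroup V] [Module F V] (f : Module.End F V) {c : F}
    (hc : c ≠ 0) (W : Submodule F V) : W.map (c • f) ≤ W ↔ W.map f ≤ W := by
  rw [Submodule.map_smul f W c hc]

theorem smul_pow_eq_one {V : Type*} [AddCommGroup V] [Module F V] {f : Module.End F V} {w : F}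
    (hw : w ≠ 0) (h : f ^ r = (w ^ r) • 1) : (w⁻¹ • f) ^ r = 1 := by
  rw [smul_pow, h, smul_smul, ← mul_pow, inv_mul_cancel₀ hw, one_pow, one_smul]

/-- An element of `SL_n` from a matrix. -/
def mkSL (A : Matrix (Fin n) (Fin n) F) (h : A.det = 1) : Matrix.SpecialLinearGroup (Fin n) F := ⟨A, h⟩

theorem not_scalar_of_nonpower {A : Matrix (Fin n) (Fin n) F} {z : F} (hn : 0 < n)
    (hz : ∀ w : F, w ^ r ≠ z) (hA : A ^ r = z • 1) (c : F) : A ≠ c • 1 := by
  rintro rfl
  apply hz c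
  have h := congrArg (fun B : Matrix (Fin n) (Fin n) F => B ⟨0, hn⟩ ⟨0, hn⟩) hA
  simpa [smul_pow] using h

theorem not_scalar_of_ker {A : Matrix (Fin n) (Fin n) F} (hn : 0 < n)
    (h1 : ¬ r ∣ Fintype.card F - 1) (hA : A ^ r = 1)
    (hk : finrank F (LinearMap.ker (Matrix.toLin' A - 1)) < n) (c : F) : A ≠ c • 1 := by
  rintro rfl
  have hc : c ^ r = 1 := by
    have h := congrArg (fun B : Matrix (Fin n) (Fin n) F => B ⟨0, hn⟩ ⟨0, hn⟩) hA
    simpa [smul_pow] using h
  have hc0 : c ≠ 0 := fun e => by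
    rw [e, zero_pow hr.out.ne_zero] at hc; exact zero_ne_one hc
  have h2 := pow_gcd_eq_one.mpr ⟨hc, FiniteField.pow_card_sub_one_eq_one _ hc0⟩
  rw [Nat.Coprime.gcd_eq_one (hr.out.coprime_iff_not_dvd.mpr h1), pow_one] at h2
  rw [h2, one_smul, Matrix.toLin'_one] at hk

  rw [show (LinearMap.id : (Fin n → F) →ₗ[F] Fin n → F) - 1 = 0 from sub_self _, LinearMap.ker_zero,
    finrank_top, Module.finrank_fin_fun] at hk
  exact lt_irrefl _ hk

theorem finrank_range_add_ker {V : Type*} [AddCommGroup V] [Module F V] [FiniteDimensional F V]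
    {N : ℕ} (hN : finrank F V = N) (y : Module.End F V) :
    finrank F (LinearMap.range (y - 1)) + finrank F (LinearMap.ker (y - 1)) = N := by
  rw [LinearMap.finrank_range_add_finrank_ker, hN]

end Matrices

end Cfsg.Agent.ClMax99.Inv
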