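import Cfsg.Agent.ClMax99.InvElt
import Cfsg.Agent.ClMax99.InvSL
import Cfsg.Prelude.Def_GeometricClasses

/-!
Ranks of displacements of Kronecker products.
-/

set_option autoImplicit false
set_option linter.unusedSectionVars false

namespace Cfsg.Agent.ClMax99.TensorRank

open Module
open scoped Matrix Kronecker

variable {F : Type*} [Field F] {a b : ℕ}

theorem rank_eq {ι : Type*} [Fintype ι] [DecidableEq ι] (A : Matrix ι ι F) :
    A.rank = finrank F (LinearMap.range (Matrix.toLin' A)) := by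
  rw [Matrix.toLin'_apply']; rfl

theorem rank_conj {ι : Type*} [Fintype ι] [DecidableEq ι] (P : GL ι F) (A : Matrix ι ι F) (c : F) :
    ((P : Matrix ι ι F) * A * ((P⁻¹ : GL ι F) : Matrix ι ι F) - c • 1).rank = (A - c • 1).rank := by
  have hP : (P : Matrix ι ι F) * ((P⁻¹ : GL ι F) : Matrix ι ι F) = 1 := by
    rw [← Units.val_mul, mul_inv_cancel, Units.val_one]
  have : (P : Matrix ι ι F) * A * ((P⁻¹ : GL ι F) : Matrix ι ι F) - c • 1 =
      (P : Matrix ι ι F) * (A - c • 1) * ((P⁻¹ : GL ι F) : Matrix ι ι F) := by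
    rw [mul_sub, sub_mul, Matrix.mul_smul, mul_one, Matrix.smul_mul, hP]
  rw [this, Matrix.rank_mul_eq_left_of_isUnit_det _ _ ((Matrix.isUnit_iff_isUnit_det _).1 (Units.isUnit _)),
    Matrix.rank_mul_eq_right_of_isUnit_det _ _ ((Matrix.isUnit_iff_isUnit_det _).1 (Units.isUnit _))]

theorem rank_reindex_sub {ι κ : Type} [Fintype ι] [DecidableEq ι] [Fintype κ] [DecidableEq κ] (e : κ ≃ ι)
    (A : Matrix κ κ F) (c : F) : (Matrix.reindex e e A - c • 1).rank = (A - c • 1).rank := by
  rw [← Matrix.rank_reindex e e (A - c • 1)]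
  congr 1
  ext i j
  simp [Matrix.one_apply, Matrix.smul_apply]

theorem kronecker_mulVec (g : Matrix (Fin a) (Fin a) F) (h : Matrix (Fin b) (Fin b) F)
    (u : Fin a → F) (w : Fin b → F) :
    (g ⊗ₖ h) *ᵥ (fun p => u p.1 * w p.2) = fun p => (g *ᵥ u) p.1 * (h *ᵥ w) p.2 := by
  funext p
  simp only [Matrix.mulVec, dotProduct, Matrix.kroneckerMap_apply, Fintype.sum_prod_type, Finset.sum_mul_sum]
  exact Finset.sum_congr rfl fun i _ => Finset.sum_congr rfl fun j _ => by ring

/-- A Kronecker product with non-scalar first factor moves at least `b` dimensions. -/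
theorem le_rank_of_nonscalar {g : Matrix (Fin a) (Fin a) F} (hg : ∀ s : F, g ≠ s • 1) (h : GL (Fin b) F) (c : F) :
    b ≤ (g ⊗ₖ (h : Matrix (Fin b) (Fin b) F) - c • 1).rank := by
  classical
  obtain ⟨u, k, hku, hindep⟩ : ∃ (u : Fin a → F) (k : Fin a), True ∧ ∀ w : Fin b → F,
      (∀ i l, (g *ᵥ u) i * ((h : Matrix (Fin b) (Fin b) F) *ᵥ w) l = c * (u i * w l)) → w = 0 := by
    have hinj : ∀ w, (h : Matrix (Fin b) (Fin b) F) *ᵥ w = 0 → w = 0 := fun w hw => by
      have := congrArg (((h⁻¹ : GL (Fin b) F) : Matrix (Fin b) (Fin b) F) *ᵥ ·) hw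
      simpa [Matrix.mulVec_mulVec, ← Units.val_mul] using this
    by_cases hoff : ∃ i j, i ≠ j ∧ g i j ≠ 0
    · obtain ⟨i, j, hij, hne⟩ := hoff
      refine ⟨Pi.single j 1, i, trivial, fun w hw => hinj w (funext fun l => ?_)⟩
      have := hw i l
      rw [Matrix.mulVec_single_one, Pi.single_eq_of_ne hij, zero_mul, mul_zero] at this
      exact (mul_eq_zero.1 this).resolve_left hne
    · push Not at hoff
      obtain ⟨i, j, hij⟩ : ∃ i j, g i i ≠ g j j := by
        by_contra hc
        push Not at hc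
        rcases Nat.eq_zero_or_pos a with rfl | ha
        · exact hg 0 (Matrix.ext fun i => i.elim0)
        refine hg (g ⟨0, ha⟩ ⟨0, ha⟩) (Matrix.ext fun i j => ?_)
        by_cases h : i = j
        · subst h; simp [hc i ⟨0, ha⟩]
        · simp [hoff i j h, h]
      have hne : i ≠ j := fun e => hij (by rw [e])
      have hgu : ∀ m, (g *ᵥ (Pi.single i 1 + Pi.single j 1)) m = g m i + g m j := fun m => by
        rw [Matrix.mulVec_add, Matrix.mulVec_single_one, Matrix.mulVec_single_one]; rfl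
      refine ⟨Pi.single i 1 + Pi.single j 1, i, trivial, fun w hw => hinj w (funext fun l => ?_)⟩
      have e1 := hw i l
      have e2 := hw j l
      simp only [hgu, hoff i j hne, hoff j i hne.symm, Pi.add_apply, Pi.single_eq_same, Pi.single_eq_of_ne hne,
        Pi.single_eq_of_ne hne.symm, add_zero, zero_add] at e1 e2
      have : (g i i - g j j) * ((h : Matrix (Fin b) (Fin b) F) *ᵥ w) l = 0 := by linear_combination e1 - e2
      exact (mul_eq_zero.1 this).resolve_left (sub_ne_zero.2 hij)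
  let L : (Fin b → F) →ₗ[F] (Fin a × Fin b → F) :=
    { toFun := fun w p => u p.1 * w p.2
      map_add' := fun w w' => by funext p; simp [mul_add]
      map_smul' := fun t w => by funext p; simp [mul_left_comm] }
  have hLi : Function.Injective ((Matrix.toLin' (g ⊗ₖ (h : Matrix (Fin b) (Fin b) F) - c • 1)) ∘ₗ L) :=
    (injective_iff_map_eq_zero _).2 fun w hw => hindep w fun i l => by
      have := congrFun hw (i, l)
      simp only [LinearMap.comp_apply, Matrix.toLin'_apply, Matrix.sub_mulVec, Matrix.smul_mulVec,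
        Matrix.one_mulVec, L, LinearMap.coe_mk, AddHom.coe_mk, kronecker_mulVec, Pi.sub_apply, Pi.smul_apply,
        smul_eq_mul, Pi.zero_apply, sub_eq_zero] at this
      exact this
  rw [rank_eq]
  have h1 := LinearMap.finrank_range_of_inj hLi
  rw [Module.finrank_fin_fun] at h1
  refine h1.ge.trans ?_
  exact Submodule.finrank_mono (LinearMap.range_comp_le_range _ _)

/-- The rank of `1 ⊗ N`. -/
theorem rank_one_kronecker (N : Matrix (Fin b) (Fin b) F) :
    ((1 : Matrix (Fin a) (Fin a) F) ⊗ₖ N).rank = a * N.rank := by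
  classical
  set R := LinearMap.range (Matrix.toLin' N)
  have hap : ∀ (z : Fin a × Fin b → F) (i : Fin a) (l : Fin b),
      (((1 : Matrix (Fin a) (Fin a) F) ⊗ₖ N) *ᵥ z) (i, l) = (N *ᵥ fun m => z (i, m)) l := fun z i l => by
    simp [Matrix.mulVec, dotProduct, Fintype.sum_prod_type, Matrix.one_apply]
  let Φ : (Fin a → R) →ₗ[F] (Fin a × Fin b → F) :=
    { toFun := fun y p => (y p.1).1 p.2
      map_add' := fun y y' => by funext p; simp
      map_smul' := fun t y => by funext p; simp }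
  have hΦi : Function.Injective Φ := fun y y' e =>
    funext fun i => Subtype.ext (funext fun l => congrFun e (i, l))
  have hr : LinearMap.range (Matrix.toLin' ((1 : Matrix (Fin a) (Fin a) F) ⊗ₖ N)) = LinearMap.range Φ := by
    refine le_antisymm ?_ ?_
    · rintro _ ⟨z, rfl⟩
      refine ⟨fun i => ⟨N *ᵥ fun m => z (i, m), ⟨fun m => z (i, m), Matrix.toLin'_apply _ _⟩⟩, funext fun p => ?_⟩
      exact (hap z p.1 p.2).symm
    · rintro _ ⟨y, rfl⟩
      choose x hx using fun i => (y i).2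
      refine ⟨fun p => x p.1 p.2, funext fun p => ?_⟩
      rw [Matrix.toLin'_apply]
      refine (hap _ p.1 p.2).trans ?_
      have := congrFun (hx p.1) p.2
      rwa [Matrix.toLin'_apply] at this
  rw [rank_eq, rank_eq, hr, LinearMap.finrank_range_of_inj hΦi, Module.finrank_pi_fintype, Finset.sum_const,
    Finset.card_univ, Fintype.card_fin, smul_eq_mul]

/-- The dichotomy for members of a tensor stabiliser. -/
theorem cases_of_mem {n : ℕ} {e : Fin n ≃ Fin a × Fin b} {P x : GL (Fin n) F}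
    (hx : x ∈ Cfsg.Geo.tensorProductSubgroup a b e P) :
    ∃ (g : GL (Fin a) F) (h : GL (Fin b) F),
      (∀ c : F, ((x : Matrix (Fin n) (Fin n) F) - c • 1).rank =
        ((g : Matrix (Fin a) (Fin a) F) ⊗ₖ (h : Matrix (Fin b) (Fin b) F) - c • 1).rank) ∧
      ∀ (k : ℕ) (z : F), ((x : Matrix (Fin n) (Fin n) F)) ^ k = z • 1 →
        ((g : Matrix (Fin a) (Fin a) F) ⊗ₖ (h : Matrix (Fin b) (Fin b) F)) ^ k = z • 1 := by
  obtain ⟨w, ⟨y, ⟨g, h, hy⟩, hyw⟩, hwx⟩ := hx
  have hval : (x : Matrix (Fin n) (Fin n) F) = (P : Matrix (Fin n) (Fin n) F) *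
      Matrix.reindexAlgEquiv F F e.symm ((g : Matrix (Fin a) (Fin a) F) ⊗ₖ (h : Matrix (Fin b) (Fin b) F)) *
        ((P⁻¹ : GL (Fin n) F) : Matrix (Fin n) (Fin n) F) := by
    rw [← hy, ← hwx, ← hyw]
    rfl
  refine ⟨g, h, fun c => ?_, fun k z hz => ?_⟩
  · rw [hval, rank_conj, Matrix.coe_reindexAlgEquiv, rank_reindex_sub]
  · set M := (g : Matrix (Fin a) (Fin a) F) ⊗ₖ (h : Matrix (Fin b) (Fin b) F)
    set A := (P : Matrix (Fin n) (Fin n) F)
    set A' := ((P⁻¹ : GL (Fin n) F) : Matrix (Fin n) (Fin n) F)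
    have hAA : A' * A = 1 := by rw [← Units.val_mul, inv_mul_cancel, Units.val_one]
    have hAA' : A * A' = 1 := by rw [← Units.val_mul, mul_inv_cancel, Units.val_one]
    have hpow : ∀ k : ℕ, (x : Matrix (Fin n) (Fin n) F) ^ k = A * Matrix.reindexAlgEquiv F F e.symm (M ^ k) * A' := by
      intro k
      induction k with
      | zero => rw [pow_zero, pow_zero, map_one, mul_one, hAA']
      | succ k ih =>
        rw [pow_succ, ih, hval, pow_succ, map_mul]
        simp only [mul_assoc]
        rw [← mul_assoc A' A, hAA, one_mul]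
    refine (Matrix.reindexAlgEquiv F F e.symm).injective ?_
    have h1 := congrArg (fun B => A' * B * A) ((hpow k).symm.trans hz)
    simp only [← mul_assoc, hAA, one_mul] at h1
    simp only [mul_assoc, hAA, mul_one, Matrix.mul_smul, Matrix.smul_mul, one_mul] at h1
    rw [h1, map_smul, map_one]

/-- A matrix outside every conjugate of a tensor stabiliser: the two rank obstructions. -/
theorem not_conj_mem {n : ℕ} {e : Fin n ≃ Fin a × Fin b} {P x g₀ : GL (Fin n) F} {c c' : F}
    (h1 : ((x : Matrix (Fin n) (Fin n) F) - c • 1).rank < b)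
    (h2 : ¬ a ∣ ((x : Matrix (Fin n) (Fin n) F) - c' • 1).rank) :
    g₀⁻¹ * x * g₀ ∉ Cfsg.Geo.tensorProductSubgroup a b e P := fun hm => by
  obtain ⟨g, h, hr, -⟩ := cases_of_mem hm
  have hc : ∀ c : F, ((g₀⁻¹ * x * g₀ : GL (Fin n) F) : Matrix (Fin n) (Fin n) F).rank = _ := fun c => rfl
  have hconj : ∀ c : F, (((g₀⁻¹ * x * g₀ : GL (Fin n) F) : Matrix (Fin n) (Fin n) F) - c • 1).rank =
      ((x : Matrix (Fin n) (Fin n) F) - c • 1).rank := fun c => by
    rw [Units.val_mul, Units.val_mul]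
    have := rank_conj g₀⁻¹ (x : Matrix (Fin n) (Fin n) F) c
    rwa [inv_inv] at this
  by_cases hg : ∃ s : F, (g : Matrix (Fin a) (Fin a) F) = s • 1
  · obtain ⟨s, hs⟩ := hg
    refine h2 ?_
    rw [← hconj, hr, hs, Matrix.smul_kronecker, ← Matrix.kronecker_smul]
    rw [← Matrix.one_kronecker_one (m := Fin a) (n := Fin b), ← Matrix.kronecker_smul,
      show ∀ A B : Matrix (Fin b) (Fin b) F, (1 : Matrix (Fin a) (Fin a) F) ⊗ₖ A - (1 : Matrix (Fin a) (Fin a) F) ⊗ₖ B = (1 : Matrix (Fin a) (Fin a) F) ⊗ₖ (A - B) from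
        fun A B => by ext p p'; simp [mul_sub],
      rank_one_kronecker]
    exact dvd_mul_right _ _
  · push Not at hg
    have := le_rank_of_nonscalar hg h c
    rw [← hr, hconj] at this
    omega

end Cfsg.Agent.ClMax99.TensorRank
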