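import Mathlib

/-!
An involution of a set of `a * t` points respects some partition into `t` blocks of size `a` (helper99).
-/

set_option autoImplicit false

namespace Cfsg.Agent.ClMax99.BlockInvol

/-- Points: `k` swapped pairs and `l` fixed ones. -/
abbrev Pts (k l : ℕ) : Type := (Fin k ⊕ Fin k) ⊕ Fin l

/-- The involution. -/
def swp (k l : ℕ) : Pts k l → Pts k l := Sum.map Sum.swap id

/-- A partition into `t` blocks of size `a` permuted by the involution. -/
def Part (a t k l : ℕ) : Prop :=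
  ∃ (β : Pts k l → Fin t) (σ : Equiv.Perm (Fin t)),
    (∀ y, β (swp k l y) = σ (β y)) ∧ ∀ j, Nat.card {y // β y = j} = a

/-- Splitting the points. -/
def splitEquiv (k₁ k₂ l₁ l₂ : ℕ) : Pts (k₁ + k₂) (l₁ + l₂) ≃ Pts k₁ l₁ ⊕ Pts k₂ l₂ :=
  (Equiv.sumCongr ((Equiv.sumCongr finSumFinEquiv.symm finSumFinEquiv.symm).trans
    (Equiv.sumSumSumComm (Fin k₁) (Fin k₂) (Fin k₁) (Fin k₂))) finSumFinEquiv.symm).trans
    (Equiv.sumSumSumComm (Fin k₁ ⊕ Fin k₁) (Fin k₂ ⊕ Fin k₂) (Fin l₁) (Fin l₂))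

theorem split_swp (k₁ k₂ l₁ l₂ : ℕ) (y : Pts (k₁ + k₂) (l₁ + l₂)) :
    splitEquiv k₁ k₂ l₁ l₂ (swp _ _ y) = Sum.map (swp k₁ l₁) (swp k₂ l₂) (splitEquiv k₁ k₂ l₁ l₂ y) := by
  obtain ⟨x, rfl⟩ := (splitEquiv k₁ k₂ l₁ l₂).symm.surjective y
  rw [Equiv.apply_symm_apply]
  rcases x with ((i | i) | i) | ((i | i) | i) <;> simp [splitEquiv, swp]

theorem part_add {a t₁ t₂ k₁ k₂ l₁ l₂ : ℕ} (h₁ : Part a t₁ k₁ l₁) (h₂ : Part a t₂ k₂ l₂) :
    Part a (t₁ + t₂) (k₁ + k₂) (l₁ + l₂) := by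
  obtain ⟨β₁, σ₁, hs₁, hc₁⟩ := h₁
  obtain ⟨β₂, σ₂, hs₂, hc₂⟩ := h₂
  refine ⟨fun y => finSumFinEquiv (Sum.map β₁ β₂ (splitEquiv k₁ k₂ l₁ l₂ y)),
    (finSumFinEquiv.symm.trans (Equiv.sumCongr σ₁ σ₂)).trans finSumFinEquiv, fun y => ?_, fun j => ?_⟩
  · simp only [split_swp, Equiv.trans_apply, Equiv.symm_apply_apply]
    rcases splitEquiv k₁ k₂ l₁ l₂ y with x | x
    · simp [hs₁]
    · simp [hs₂]
  · obtain ⟨j, rfl⟩ := (finSumFinEquiv (m := t₁) (n := t₂)).surjective j
    rw [Nat.card_congr ((splitEquiv k₁ k₂ l₁ l₂).subtypeEquiv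
      (q := fun x => Sum.map β₁ β₂ x = j) (fun y => by simp)), Nat.card_congr Equiv.subtypeSum,
      Nat.card_sum]
    rcases j with j | j
    · simpa [Nat.card_eq_fintype_card] using hc₁ j
    · simpa [Nat.card_eq_fintype_card] using hc₂ j

theorem part_one {a k l : ℕ} (h : 2 * k + l = a) : Part a 1 k l := by
  refine ⟨fun _ => 0, 1, fun y => by simp, fun j => ?_⟩
  rw [Nat.card_congr (Equiv.subtypeUnivEquiv fun y => Subsingleton.elim _ _)]
  simp [Nat.card_sum]
  omega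

theorem part_two (a : ℕ) : Part a 2 a 0 := by
  refine ⟨Sum.elim (Sum.elim (fun _ => 0) (fun _ => 1)) (fun i => i.elim0), Equiv.swap 0 1, ?_, ?_⟩
  · rintro ((i | i) | i)
    · simp [swp]
    · simp [swp]
    · exact i.elim0
  · intro j
    rw [Nat.card_congr Equiv.subtypeSum, Nat.card_sum, Nat.card_congr Equiv.subtypeSum, Nat.card_sum]
    fin_cases j <;> simp

theorem part_exists (a t k l : ℕ) (ha : 0 < a) (h : 2 * k + l = a * t) : Part a t k l := by
  induction t using Nat.strongRecOn generalizing k l with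
  | _ t ih =>
    rcases Nat.eq_zero_or_pos t with rfl | ht
    · rw [mul_zero] at h
      obtain rfl : k = 0 := by omega
      obtain rfl : l = 0 := by omega
      exact ⟨fun y => isEmptyElim y, 1, fun y => isEmptyElim y, fun j => j.elim0⟩
    by_cases hk : 2 ≤ t ∧ a ≤ k
    · obtain ⟨t', rfl⟩ := Nat.exists_eq_add_of_le hk.1
      obtain ⟨k', rfl⟩ := Nat.exists_eq_add_of_le hk.2
      have := part_add (part_two a) (ih t' (by omega) k' l (by rw [Nat.mul_add a] at h; omega))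
      rwa [Nat.zero_add] at this
    · obtain ⟨t', rfl⟩ := Nat.exists_eq_add_of_le (show 1 ≤ t by omega)
      rw [Nat.mul_add a, mul_one] at h
      have key : a - 2 * min k (a / 2) ≤ l := by
        rcases Nat.lt_or_ge t' 1 with h' | h'
        · obtain rfl : t' = 0 := by omega
          omega
        · have hka : k < a := by
            by_contra hc
            exact hk ⟨by omega, by omega⟩
          have : a ≤ a * t' := Nat.le_mul_of_pos_right _ h'
          omega
      obtain ⟨k', hk'⟩ := Nat.exists_eq_add_of_le (min_le_left k (a / 2))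
      obtain ⟨l', hl'⟩ := Nat.exists_eq_add_of_le key
      have := part_add (part_one (a := a) (k := min k (a / 2)) (l := a - 2 * min k (a / 2)) (by omega))
        (ih t' (by omega) k' l' (by omega))
      rwa [← hk', ← hl'] at this

end Cfsg.Agent.ClMax99.BlockInvol
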