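import Cfsg.Agent.ClMax99.InvCompl
import Cfsg.Prelude.Def_GeometricClasses

/-!
Decompositions into equal summands permuted by an element of prime order modulo scalars (helper99).
-/

set_option autoImplicit false
set_option linter.unusedSectionVars false

namespace Cfsg.Agent.ClMax99.Inv

open Module Polynomial

variable {F : Type*} [Field F] {n a t : ℕ}

/-- A monomial basis compatible with blocks gives a permuted decomposition. -/
theorem decomp_of_monomial {Y : Type*} [Finite Y] (f : Module.End F (Fin n → F)) (B : Y → (Fin n → F))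
    (hB : LinearIndependent F B) (hspan : Submodule.span F (Set.range B) = ⊤) (π : Equiv.Perm Y)
    (β : Y → Fin t) (σ : Equiv.Perm (Fin t)) (hσ : ∀ y, β (π y) = σ (β y))
    (hcard : ∀ j, Nat.card {y // β y = j} = a) (ht : 2 ≤ t) (ha : 0 < a)
    (hmon : ∀ y, ∃ c : F, c ≠ 0 ∧ f (B y) = c • B (π y)) :
    ∃ D : Fin t → Submodule F (Fin n → F), Cfsg.Geo.IsMDecomposition a D ∧
      ∃ τ : Equiv.Perm (Fin t), ∀ j, (D j).map f = D (τ j) := by
  classical
  haveI := Fintype.ofFinite Y
  refine ⟨fun j => Submodule.span F (B '' {y | β y = j}), ⟨ht, ha, fun j => ?_, ?_, ?_⟩, σ, fun j => ?_⟩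
  · rw [Set.image_eq_range]
    have hlin : LinearIndependent F (fun y : {y | β y = j} => B y) := hB.comp _ Subtype.val_injective
    rw [finrank_span_eq_card hlin, ← Nat.card_eq_fintype_card]
    exact hcard j
  · intro i
    refine (hB.disjoint_span_image (s := {y | β y = i}) (t := {y | β y ≠ i})
      (Set.disjoint_left.mpr fun y h1 h2 => h2 h1)).mono_right ?_
    refine iSup₂_le fun j hj => Submodule.span_mono (Set.image_mono fun y hy => ?_)
    simp only [Set.mem_setOf_eq] at hy ⊢
    rwa [hy]
  · rw [eq_top_iff, ← hspan, Submodule.span_le]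
    rintro _ ⟨y, rfl⟩
    exact Submodule.mem_iSup_of_mem (β y) (Submodule.subset_span ⟨y, rfl, rfl⟩)
  · show (Submodule.span F (B '' {y | β y = j})).map f = Submodule.span F (B '' {y | β y = σ j})
    rw [Submodule.map_span]
    apply le_antisymm <;> rw [Submodule.span_le]
    · rintro _ ⟨_, ⟨y, hy, rfl⟩, rfl⟩
      obtain ⟨c, -, hcy⟩ := hmon y
      rw [hcy]
      refine Submodule.smul_mem _ _ (Submodule.subset_span ⟨_, ?_, rfl⟩)
      show β _ = σ j
      rw [hσ, show β y = j from hy]
    · rintro _ ⟨y, hy, rfl⟩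
      obtain ⟨c, hc0, hcy⟩ := hmon (π.symm y)
      rw [Equiv.apply_symm_apply] at hcy
      rw [SetLike.mem_coe, ← Submodule.smul_mem_iff _ hc0, ← hcy]
      refine Submodule.subset_span ⟨_, ⟨_, ?_, rfl⟩, rfl⟩
      show β _ = j
      have h1 := hσ (π.symm y)
      rw [Equiv.apply_symm_apply, show β y = σ j from hy] at h1
      exact σ.injective h1.symm

/-- Splitting off blocks one at a time. -/
theorem blocks_of_step {V : Type*} [AddCommGroup V] [Module F V] (f : Module.End F V)
    (P : ℕ → Submodule F V → Prop) (h0 : ∀ X, P 0 X → X = ⊥)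
    (hstep : ∀ k X, P (k + 1) X → ∃ U X', Disjoint U X' ∧ U ⊔ X' = X ∧ U.map f ≤ U ∧
      finrank F U = a ∧ P k X') (k : ℕ) (X : Submodule F V) (hX : P k X) :
    ∃ D : Fin k → Submodule F V, iSupIndep D ∧ iSup D = X ∧ ∀ j, (D j).map f ≤ D j ∧ finrank F (D j) = a := by
  induction k generalizing X with
  | zero =>
    refine ⟨fun j => j.elim0, fun j => j.elim0, ?_, fun j => j.elim0⟩
    rw [h0 X hX]; simp
  | succ k ih =>
    obtain ⟨U, X', hd, hs, hUi, hU, hX'⟩ := hstep k X hX
    obtain ⟨D, hD, hDs, hDp⟩ := ih X' hX'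
    refine ⟨Fin.cons U D, ?_, ?_, ?_⟩
    · intro i
      induction i using Fin.cases with
      | zero =>
        rw [Fin.cons_zero]
        refine hd.mono_right (iSup₂_le fun j hj => ?_)
        obtain ⟨j, rfl⟩ := Fin.exists_succ_eq.mpr hj
        rw [Fin.cons_succ, ← hDs]
        exact le_iSup D j
      | succ i =>
        rw [Fin.cons_succ]
        have hle : D i ≤ X' := hDs ▸ le_iSup D i
        rw [disjoint_iff, eq_bot_iff]
        have hsup : (⨆ j, ⨆ (_ : j ≠ i.succ), (Fin.cons U D : Fin (k + 1) → Submodule F V) j) ≤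
            U ⊔ ⨆ j, ⨆ (_ : j ≠ i), D j := by
          refine iSup₂_le fun j hj => ?_
          induction j using Fin.cases with
          | zero => rw [Fin.cons_zero]; exact le_sup_left
          | succ j =>
            rw [Fin.cons_succ]
            exact le_sup_of_le_right (le_iSup₂_of_le j (fun e => hj (by rw [e])) le_rfl)
        refine (inf_le_inf_left _ hsup).trans ?_
        intro v hv
        obtain ⟨hvD, hv'⟩ := Submodule.mem_inf.mp hv
        obtain ⟨u, hu, w, hw, rfl⟩ := Submodule.mem_sup.mp hv'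
        have hwX : w ∈ X' := hDs ▸ (iSup₂_le fun j _ => le_iSup D j : _ ≤ iSup D) hw
        have hu0 : u = 0 := Submodule.disjoint_def.mp hd u hu (by
          have := X'.sub_mem (hle hvD) hwX
          rwa [add_sub_cancel_right] at this)
        rw [hu0, zero_add] at hvD ⊢
        rw [Submodule.mem_bot]
        exact Submodule.disjoint_def.mp (hD i) w hvD hw
    · rw [← hs, ← hDs]
      refine le_antisymm (iSup_le fun j => ?_) (sup_le ?_ (iSup_le fun j => ?_))
      · induction j using Fin.cases with
        | zero => rw [Fin.cons_zero]; exact le_sup_left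
        | succ j => rw [Fin.cons_succ]; exact le_sup_of_le_right (le_iSup D j)
      · exact le_iSup_of_le 0 (by rw [Fin.cons_zero])
      · exact le_iSup_of_le j.succ (by rw [Fin.cons_succ])
    · intro j
      induction j using Fin.cases with
      | zero => exact ⟨hUi, hU⟩
      | succ j => exact hDp j

/-- An invariant subspace with an invariant complement inside an invariant subspace. -/
theorem exists_invariant_compl_in {V : Type*} [AddCommGroup V] [Module F V] [FiniteDimensional F V]
    {f : Module.End F V} {r : ℕ} {z : F} (hrF : (r : F) ≠ 0) (hz : z ≠ 0) (hf : f ^ r = z • 1)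
    {U X : Submodule F V} (hU : U.map f ≤ U) (hX : X.map f ≤ X) (hUX : U ≤ X) :
    ∃ X', Disjoint U X' ∧ U ⊔ X' = X ∧ X'.map f ≤ X' := by
  obtain ⟨W, hc, hW⟩ := exists_invariant_compl hrF hz hf hU
  refine ⟨W ⊓ X, hc.disjoint.mono_right inf_le_left, ?_, ?_⟩
  · rw [← sup_inf_assoc_of_le W hUX, hc.sup_eq_top, top_inf_eq]
  · exact (Submodule.map_inf_le f).trans (inf_le_inf hW hX)

/-- Cyclic generators for an irreducible annihilator. -/
theorem exists_cyclic_family {V : Type*} [AddCommGroup V] [Module F V] [FiniteDimensional F V]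
    {f : Module.End F V} {g : F[X]} (hg : Irreducible g) {R : Submodule F V} (hR : R.map f ≤ R)
    (hgR : ∀ v ∈ R, aeval f g v = 0) (k : ℕ) (hk : k * g.natDegree ≤ finrank F R) :
    ∃ v : Fin k → V, (∀ j, v j ∈ R) ∧
      LinearIndependent F (fun x : Fin k × Fin g.natDegree => (f ^ (x.2 : ℕ)) (v x.1)) := by
  induction k with
  | zero => exact ⟨Fin.elim0, fun j => j.elim0, linearIndependent_empty_type⟩
  | succ k ih =>
    rw [Nat.succ_mul] at hk
    obtain ⟨v, hvR, hv⟩ := ih (by omega)
    have hRk : ∀ (j : ℕ) (u : V), u ∈ R → (f ^ j) u ∈ R := fun j u hu => by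
      simpa using aeval_mem hR ((X : F[X]) ^ j) hu
    set W := Submodule.span F (Set.range fun x : Fin k × Fin g.natDegree => (f ^ (x.2 : ℕ)) (v x.1)) with hW
    have hWR : W ≤ R := by
      rw [hW, Submodule.span_le]; rintro _ ⟨x, rfl⟩; exact hRk _ _ (hvR _)
    have hpoly : ∀ P : F[X], ∀ j, aeval f P (v j) ∈ W := by
      intro P j
      have e : aeval f (P % g) (v j) = aeval f P (v j) := by
        conv_rhs => rw [← EuclideanDomain.mod_add_div P g]
        rw [map_add, mul_comm g, map_mul, LinearMap.add_apply, Module.End.mul_apply, hgR _ (hvR j),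
          map_zero, add_zero]
      rw [← e, aeval_eq_sum_range' (n := g.natDegree) (natDegree_mod_lt P (hg.natDegree_pos.ne')),
        LinearMap.sum_apply]
      refine Submodule.sum_mem _ fun i hi => ?_
      rw [LinearMap.smul_apply]
      exact W.smul_mem _ (Submodule.subset_span ⟨(j, ⟨i, Finset.mem_range.mp hi⟩), rfl⟩)
    have hWf : W.map f ≤ W := by
      rw [hW, Submodule.map_span_le]
      rintro _ ⟨x, rfl⟩
      have := hpoly ((X : F[X]) ^ ((x.2 : ℕ) + 1)) x.1
      rw [map_pow, aeval_X, pow_succ', Module.End.mul_apply] at this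
      exact this
    have hlt : W < R := by
      refine lt_of_le_of_ne hWR fun e => ?_
      have h1 := finrank_span_eq_card hv
      rw [← hW, e, Fintype.card_prod, Fintype.card_fin, Fintype.card_fin] at h1
      have := hg.natDegree_pos
      omega
    obtain ⟨u, huR, huW⟩ := SetLike.exists_of_lt hlt
    refine ⟨Fin.cons u v, fun j => Fin.cases huR hvR j, ?_⟩
    have hkey : ∀ P : F[X], aeval f P u ∈ W → g ∣ P := by
      intro P hP
      by_contra hnd
      obtain ⟨A, B, hAB⟩ := (hg.coprime_iff_not_dvd.mpr hnd)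
      have : aeval f (A * g + B * P) u ∈ W := by
        rw [map_add, LinearMap.add_apply, map_mul, map_mul, Module.End.mul_apply, Module.End.mul_apply,
          hgR u huR, map_zero, zero_add]
        exact aeval_mem hWf B hP
      rw [hAB, map_one, Module.End.one_apply] at this
      exact huW this
    rw [Fintype.linearIndependent_iff]
    intro c hc
    rw [Fintype.sum_prod_type, Fin.sum_univ_succ] at hc
    simp only [Fin.cons_zero, Fin.cons_succ] at hc
    set P : F[X] := ∑ i : Fin g.natDegree, C (c (0, i)) * X ^ (i : ℕ) with hPdef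
    have hPu : aeval f P u = ∑ i : Fin g.natDegree, c (0, i) • (f ^ (i : ℕ)) u := by
      simp [hPdef, map_sum, LinearMap.sum_apply, Module.algebraMap_end_eq_smul_id]
    have hP0 : P = 0 := by
      refine eq_zero_of_dvd_of_degree_lt (hkey P ?_) ?_
      · rw [hPu, eq_neg_of_add_eq_zero_left hc]
        exact W.neg_mem (Submodule.sum_mem _ fun i _ => Submodule.sum_mem _ fun j _ =>
          W.smul_mem _ (Submodule.subset_span ⟨(i, j), rfl⟩))
      · rw [degree_eq_natDegree hg.ne_zero, hPdef]
        exact degree_sum_fin_lt _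
    have hzero : ∀ i, c (0, i) = 0 := fun i => by
      have h := congrArg (fun Q : F[X] => Q.coeff (i : ℕ)) hP0
      simp only [hPdef, finsetSum_coeff, coeff_C_mul, coeff_X_pow, coeff_zero, mul_ite, mul_one,
        mul_zero] at h
      rw [Finset.sum_eq_single i (fun b _ hb => if_neg (fun e => hb (Fin.ext e.symm)))
        (fun hi => absurd (Finset.mem_univ i) hi), if_pos rfl] at h
      exact h
    rw [← hPu, hP0, map_zero, LinearMap.zero_apply, zero_add] at hc
    have hrest := Fintype.linearIndependent_iff.mp hv (fun x => c (x.1.succ, x.2))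
      (by rw [Fintype.sum_prod_type]; exact hc)
    rintro ⟨j, i⟩
    induction j using Fin.cases with
    | zero => exact hzero i
    | succ j => exact hrest (j, i)

section Perm

variable {f : Module.End F (Fin n → F)} {D : Fin t → Submodule F (Fin n → F)} {σ : Equiv.Perm (Fin t)}
  {r : ℕ}

theorem pow_mem (hσ : ∀ j, (D j).map f = D (σ j)) (k : ℕ) (j : Fin t) (v : Fin n → F) (hv : v ∈ D j) :
    (f ^ k) v ∈ D ((σ ^ k) j) := by
  induction k with
  | zero => simpa using hv
  | succ k ih =>
    rw [pow_succ' f, Module.End.mul_apply, pow_succ' σ, Equiv.Perm.mul_apply, ← hσ]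
    exact Submodule.mem_map_of_mem ih

theorem perm_pow_eq_one (hD : Cfsg.Geo.IsMDecomposition a D) (hσ : ∀ j, (D j).map f = D (σ j))
    (hf : f ^ r = 1) : σ ^ r = 1 := by
  ext j
  by_contra hj
  have hne : D j ≠ ⊥ := fun e => by
    have := hD.finrank_eq j
    rw [e, finrank_bot] at this
    have := hD.pos
    omega
  obtain ⟨v, hv, hv0⟩ := Submodule.exists_mem_ne_zero_of_ne_bot hne
  have h1 := pow_mem hσ r j v hv
  rw [hf, Module.End.one_apply] at h1
  exact hv0 (Submodule.disjoint_def.mp
    (hD.indep.pairwiseDisjoint (fun e => hj (by rw [Equiv.Perm.one_apply, ← e]))) v hv h1)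

theorem ne_of_moved [hr : Fact r.Prime] (hσr : σ ^ r = 1) {j : Fin t} (hj : σ j ≠ j) {i : ℕ}
    (hi : 0 < i) (hir : i < r) : (σ ^ i) j ≠ j := by
  intro e
  apply hj
  have hco : Nat.Coprime i r :=
    ((hr.out.coprime_iff_not_dvd).mpr (Nat.not_dvd_of_pos_of_lt hi hir)).symm
  obtain ⟨c, hc⟩ := Nat.exists_mul_mod_eq_one_of_coprime hco hr.out.one_lt
  have h1 : ((σ ^ i) ^ c) j = j := Equiv.Perm.pow_apply_eq_self_of_apply_eq_self e c
  rwa [← pow_mul, pow_eq_pow_mod _ hσr, hc.2, pow_one] at h1

/-- A moved block: `a` fixed vectors, and `(r - 1) * a` moved dimensions. -/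
theorem moved_bounds [hr : Fact r.Prime] (hD : Cfsg.Geo.IsMDecomposition a D)
    (hσ : ∀ j, (D j).map f = D (σ j)) (hf : f ^ r = 1) (hne : σ ≠ 1) :
    a ≤ finrank F (LinearMap.ker (f - 1)) ∧ (r - 1) * a ≤ finrank F (LinearMap.range (f - 1)) := by
  obtain ⟨j, hj⟩ : ∃ j, σ j ≠ j := by
    by_contra hcon
    push Not at hcon
    exact hne (Equiv.ext hcon)
  have hσr := perm_pow_eq_one hD hσ hf
  constructor
  · set T : Module.End F (Fin n → F) := ∑ i ∈ Finset.range r, f ^ i with hT
    have hTC : ∀ v, T v ∈ LinearMap.ker (f - 1) := fun v => by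
      rw [LinearMap.mem_ker]
      show ((f - 1) * T) v = 0
      rw [hT, mul_geom_sum, hf, sub_self, LinearMap.zero_apply]
    have hinj : Function.Injective (T.domRestrict (D j)) := by
      rw [← LinearMap.ker_eq_bot, Submodule.eq_bot_iff]
      rintro ⟨v, hv⟩ hker
      rw [LinearMap.mem_ker, LinearMap.domRestrict_apply, hT, LinearMap.sum_apply,
        Finset.range_eq_Ico, Finset.sum_eq_sum_Ico_succ_bot hr.out.pos, pow_zero, Module.End.one_apply] at hker
      apply Subtype.ext
      dsimp only at hker ⊢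
      refine Submodule.disjoint_def.mp (hD.indep j) v hv ?_
      rw [eq_neg_of_add_eq_zero_left hker]
      refine Submodule.neg_mem _ (Submodule.sum_mem _ fun i hi => ?_)
      rw [Finset.mem_Ico] at hi
      exact Submodule.mem_iSup_of_mem _ (Submodule.mem_iSup_of_mem
        (ne_of_moved hσr hj (by omega) hi.2) (pow_mem hσ i j v hv))
    rw [← hD.finrank_eq j, ← LinearMap.finrank_range_of_inj hinj]
    exact Submodule.finrank_mono (by rintro _ ⟨x, rfl⟩; exact hTC _)
  · -- the vectors `f^(i+1) b - b`
    let b := Module.finBasisOfFinrankEq F (D j) (hD.finrank_eq j)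
    let w : Fin (r - 1) × Fin a → (Fin n → F) := fun x =>
      (f ^ ((x.1 : ℕ) + 1)) (b x.2 : Fin n → F) - (b x.2 : Fin n → F)
    have hw : ∀ x, w x ∈ LinearMap.range (f - 1) := fun x => by
      refine ⟨(∑ i ∈ Finset.range ((x.1 : ℕ) + 1), f ^ i) (b x.2 : Fin n → F), ?_⟩
      show ((f - 1) * ∑ i ∈ Finset.range ((x.1 : ℕ) + 1), f ^ i) _ = _
      rw [mul_geom_sum]
      rfl
    have hli : LinearIndependent F w := by
      rw [Fintype.linearIndependent_iff]
      intro c hc
      rw [Fintype.sum_prod_type] at hc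
      let u : Fin (r - 1) → D j := fun i => ∑ l, c (i, l) • b l
      have hu : ∀ i, u i = 0 := by
        intro i
        have hsplit : (∑ k : Fin (r - 1), (f ^ ((k : ℕ) + 1)) (u k : Fin n → F)) - ∑ k : Fin (r - 1), (u k : Fin n → F) = 0 := by
          rw [← Finset.sum_sub_distrib, ← hc]
          refine Finset.sum_congr rfl fun k _ => ?_
          simp [u, w, smul_sub, Finset.sum_sub_distrib, map_sum]
        rw [← Finset.add_sum_erase _ _ (Finset.mem_univ i), add_sub_assoc] at hsplit
        have hblock : D ((σ ^ ((i : ℕ) + 1)) j) ⊓ (⨆ l, ⨆ (_ : l ≠ (σ ^ ((i : ℕ) + 1)) j), D l) = ⊥ :=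
          (hD.indep _).eq_bot
        have hmem : (f ^ ((i : ℕ) + 1)) (u i : Fin n → F) ∈ (⊥ : Submodule F (Fin n → F)) := by
          rw [← hblock]
          refine Submodule.mem_inf.mpr ⟨pow_mem hσ _ j _ (u i).2, ?_⟩
          rw [eq_neg_of_add_eq_zero_left hsplit]
          refine Submodule.neg_mem _ (Submodule.sub_mem _ (Submodule.sum_mem _ fun k hk => ?_)
            (Submodule.sum_mem _ fun k _ => ?_))
          · refine Submodule.mem_iSup_of_mem _ (Submodule.mem_iSup_of_mem ?_ (pow_mem hσ _ j _ (u k).2))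
            intro e
            have hne' : (k : ℕ) ≠ (i : ℕ) := fun h => (Finset.mem_erase.mp hk).1 (Fin.ext h)
            have hk' := k.2
            have hi' := i.2
            rcases Nat.lt_or_ge (k : ℕ) (i : ℕ) with h | h
            · rw [show (i : ℕ) + 1 = ((k : ℕ) + 1) + ((i : ℕ) - k) by omega,
                pow_add σ ((k : ℕ) + 1) ((i : ℕ) - k), Equiv.Perm.mul_apply] at e
              exact ne_of_moved hσr hj (by omega) (by omega) ((σ ^ ((k : ℕ) + 1)).injective e.symm)
            · rw [show (k : ℕ) + 1 = ((i : ℕ) + 1) + ((k : ℕ) - i) by omega,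
                pow_add σ ((i : ℕ) + 1) ((k : ℕ) - i), Equiv.Perm.mul_apply] at e
              exact ne_of_moved hσr hj (by omega) (by omega) ((σ ^ ((i : ℕ) + 1)).injective e)
          · exact Submodule.mem_iSup_of_mem _ (Submodule.mem_iSup_of_mem
              (ne_of_moved hσr hj (by omega) (by have := i.2; omega)).symm (u k).2)
        rw [Submodule.mem_bot] at hmem
        apply Subtype.ext
        have h2 := congrArg (f ^ (r - ((i : ℕ) + 1))) hmem
        rw [← Module.End.mul_apply, ← pow_add, Nat.sub_add_cancel (by have := i.2; omega), hf,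
          Module.End.one_apply, map_zero] at h2
        exact h2
      rintro ⟨i, l⟩
      exact Fintype.linearIndependent_iff.mp b.linearIndependent (fun l => c (i, l)) (hu i) l
    have h1 := finrank_span_eq_card hli
    rw [Fintype.card_prod, Fintype.card_fin, Fintype.card_fin] at h1
    rw [← h1]
    exact Submodule.finrank_mono (Submodule.span_le.mpr (by rintro _ ⟨x, rfl⟩; exact hw x))

/-- Fixed lines and cycles of lines: `n ≤ r · dim C`. -/
theorem le_mul_ker [hr : Fact r.Prime] (hrF : (r : F) ≠ 0) (hD : Cfsg.Geo.IsMDecomposition 1 D)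
    (hσ : ∀ j, (D j).map f = D (σ j)) (hf : f ^ r = 1) (hfix : ∀ j, σ j = j → ∀ v ∈ D j, f v = v) :
    t ≤ r * finrank F (LinearMap.ker (f - 1)) := by
  classical
  have hσr := perm_pow_eq_one hD hσ hf
  choose v hv hv0 using fun j => Submodule.exists_mem_ne_zero_of_ne_bot (p := D j) (fun e => by
    have := hD.finrank_eq j
    rw [e, finrank_bot] at this
    omega)
  let J : Finset (Fin t) := Finset.univ.filter fun j => ∀ i < r, j ≤ (σ ^ i) j
  have hcov : ∀ j, ∃ x ∈ J ×ˢ Finset.range r, (σ ^ x.2) x.1 = j := by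
    intro j
    obtain ⟨m, hm, hmin⟩ := Finset.exists_min_image (Finset.range r) (fun i => (σ ^ i) j)
      ⟨0, Finset.mem_range.mpr hr.out.pos⟩
    rw [Finset.mem_range] at hm
    refine ⟨((σ ^ m) j, (r - m) % r), Finset.mem_product.mpr ⟨?_, Finset.mem_range.mpr (Nat.mod_lt _ hr.out.pos)⟩, ?_⟩
    · simp only [J, Finset.mem_filter, Finset.mem_univ, true_and]
      intro i _
      rw [← Equiv.Perm.mul_apply, ← pow_add, pow_eq_pow_mod (i + m) hσr]
      exact hmin _ (Finset.mem_range.mpr (Nat.mod_lt _ hr.out.pos))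
    · show (σ ^ ((r - m) % r)) ((σ ^ m) j) = j
      rw [← pow_eq_pow_mod _ hσr, ← Equiv.Perm.mul_apply, ← pow_add, Nat.sub_add_cancel hm.le, hσr,
        Equiv.Perm.one_apply]
  have hcard : t ≤ J.card * r := by
    have h := Finset.card_le_card_of_surjOn (fun x : Fin t × ℕ => (σ ^ x.2) x.1)
      (s := J ×ˢ Finset.range r) (t := (Finset.univ : Finset (Fin t))) (fun j _ => hcov j)
    simpa using h
  have hJ : J.card ≤ finrank F (LinearMap.ker (f - 1)) := by
    let T : Module.End F (Fin n → F) := ∑ i ∈ Finset.range r, f ^ i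
    have hTC : ∀ x, T x ∈ LinearMap.ker (f - 1) := fun x => by
      rw [LinearMap.mem_ker]
      show ((f - 1) * T) x = 0
      rw [mul_geom_sum, hf, sub_self, LinearMap.zero_apply]
    have hli : LinearIndependent F (fun j : J => T (v j)) := by
      rw [Fintype.linearIndependent_iff]
      intro c hc j₀
      have hexp : ∀ j : J, T (v j) = ∑ i ∈ Finset.range r, (f ^ i) (v j) := fun j => LinearMap.sum_apply _ _ _
      set O : Submodule F (Fin n → F) := ⨆ l, ⨆ (_ : l ≠ (j₀ : Fin t)), D l with hO
      have hother : ∀ j : J, j ≠ j₀ → T (v j) ∈ O := by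
        intro j hne
        rw [hexp]
        refine Submodule.sum_mem _ fun i hi => ?_
        refine Submodule.mem_iSup_of_mem _ (Submodule.mem_iSup_of_mem ?_ (pow_mem hσ i _ _ (hv _)))
        intro e
        apply hne
        have h1 := (Finset.mem_filter.mp j.2).2 i (Finset.mem_range.mp hi)
        have h2 := (Finset.mem_filter.mp j₀.2).2 ((r - i) % r) (Nat.mod_lt _ hr.out.pos)
        rw [← e, ← pow_eq_pow_mod _ hσr, ← Equiv.Perm.mul_apply, ← pow_add,
          Nat.sub_add_cancel (Finset.mem_range.mp hi).le, hσr, Equiv.Perm.one_apply] at h2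
        exact Subtype.ext (le_antisymm (e ▸ h1) (e ▸ h2))
      have hsum : ∑ j ∈ (Finset.univ.erase j₀), c j • T (v j) ∈ O :=
        Submodule.sum_mem _ fun j hj => O.smul_mem _ (hother j (Finset.mem_erase.mp hj).1)
      rw [← Finset.add_sum_erase _ _ (Finset.mem_univ j₀)] at hc
      have hTj : c j₀ • T (v j₀) ∈ O := by
        rw [eq_neg_of_add_eq_zero_left hc]; exact O.neg_mem hsum
      obtain ⟨d, hd0, hdO⟩ : ∃ d : F, d ≠ 0 ∧ T (v j₀) - d • v j₀ ∈ O := by
        by_cases hf0 : σ (j₀ : Fin t) = j₀
        · refine ⟨r, hrF, ?_⟩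
          have : ∀ i : ℕ, (f ^ i) (v j₀) = v j₀ := fun i => by
            induction i with
            | zero => simp
            | succ i ih => rw [pow_succ', Module.End.mul_apply, ih, hfix _ hf0 _ (hv _)]
          rw [hexp, Finset.sum_congr rfl (fun i _ => this i), Finset.sum_const, Finset.card_range,
            Nat.cast_smul_eq_nsmul, sub_self]
          exact zero_mem _
        · refine ⟨1, one_ne_zero, ?_⟩
          rw [hexp, Finset.range_eq_Ico, Finset.sum_eq_sum_Ico_succ_bot hr.out.pos, pow_zero,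
            Module.End.one_apply, one_smul, add_sub_cancel_left]
          refine Submodule.sum_mem _ fun i hi => ?_
          rw [Finset.mem_Ico] at hi
          exact Submodule.mem_iSup_of_mem _ (Submodule.mem_iSup_of_mem
            (ne_of_moved hσr hf0 (by omega) hi.2) (pow_mem hσ i _ _ (hv _)))
      have hvO : (c j₀ * d) • v j₀ ∈ O := by
        have := O.sub_mem hTj (O.smul_mem (c j₀) hdO)
        rwa [smul_sub, sub_sub_cancel, smul_smul] at this
      by_contra hc0
      exact hv0 _ (Submodule.disjoint_def.mp (hD.indep _) _ (hv _)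
        ((O.smul_mem_iff (mul_ne_zero hc0 hd0)).mp hvO))
    have h1 := finrank_span_eq_card hli
    rw [Fintype.card_coe] at h1
    rw [← h1]
    exact Submodule.finrank_mono (Submodule.span_le.mpr (by rintro _ ⟨x, rfl⟩; exact hTC _))
  calc t ≤ J.card * r := hcard
    _ ≤ finrank F (LinearMap.ker (f - 1)) * r := Nat.mul_le_mul_right r hJ
    _ = _ := mul_comm _ _

end Perm

end Cfsg.Agent.ClMax99.Inv
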