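import Cfsg.Agent.ClMax99.Decomp

/-!
Prime divisors of the number of decompositions into equal summands (helper99).
-/

set_option autoImplicit false
set_option linter.unusedSectionVars false

namespace Cfsg.Agent.ClMax99.Inv

open Module

variable {F : Type*} [Field F] [Fintype F] {n a t : ℕ}

theorem card_decomp_mul (hat : n = a * t) (ht : 2 ≤ t) (ha : 1 ≤ a) :
    Nat.card {D : Fin t → Submodule F (Fin n → F) // Cfsg.Geo.IsMDecomposition a D} *
      (∏ j : Fin a, (Fintype.card F ^ a - Fintype.card F ^ (j : ℕ))) ^ t =
    ∏ j : Fin n, (Fintype.card F ^ n - Fintype.card F ^ (j : ℕ)) := by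
  classical
  let e : Fin n ≃ Fin t × Fin a := (finCongr (by rw [hat, mul_comm])).trans finProdFinEquiv.symm
  let S := {B : Fin t × Fin a → (Fin n → F) // LinearIndependent F B}
  have hS : Nat.card S = ∏ j : Fin n, (Fintype.card F ^ n - Fintype.card F ^ (j : ℕ)) := by
    have h := card_linearIndependent (K := F) (V := Fin n → F) (k := n) (by rw [Module.finrank_fin_fun])
    rw [Module.finrank_fin_fun] at h
    rw [← h]
    exact Nat.card_congr ((Equiv.arrowCongr e.symm (Equiv.refl _)).subtypeEquiv fun B =>
      (linearIndependent_equiv e).symm)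
  let π : S → {D : Fin t → Submodule F (Fin n → F) // Cfsg.Geo.IsMDecomposition a D} := fun B =>
    ⟨fun j => Submodule.span F (Set.range fun l => B.1 (j, l)), by
      have himg : ∀ j, Set.range (fun l => B.1 (j, l)) = B.1 '' {x | x.1 = j} := fun j => by
        ext v; simp only [Set.mem_range, Set.mem_image, Set.mem_setOf_eq]
        constructor
        · rintro ⟨l, rfl⟩; exact ⟨(j, l), rfl, rfl⟩
        · rintro ⟨⟨j', l⟩, rfl, rfl⟩; exact ⟨l, rfl⟩
      refine ⟨ht, ha, fun j => ?_, ?_, ?_⟩
      · exact (finrank_span_eq_card (B.2.comp (fun l => ((j, l) : Fin t × Fin a))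
          (fun l l' h => congrArg Prod.snd h))).trans (Fintype.card_fin a)
      · intro i
        show Disjoint (Submodule.span F (Set.range fun l => B.1 (i, l))) _
        rw [himg]
        refine (B.2.disjoint_span_image (s := {x | x.1 = i}) (t := {x | x.1 ≠ i})
          (Set.disjoint_left.mpr fun y h1 h2 => h2 h1)).mono_right ?_
        refine iSup₂_le fun j hj => ?_
        show Submodule.span F (Set.range fun l => B.1 (j, l)) ≤ _
        rw [himg]
        exact Submodule.span_mono (Set.image_mono fun y (hy : y.1 = j) => show y.1 ≠ i from hy ▸ hj)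
      · rw [eq_top_iff, ← B.2.span_eq_top_of_card_eq_finrank' (by
          rw [Fintype.card_prod, Fintype.card_fin, Fintype.card_fin, Module.finrank_fin_fun, hat, mul_comm]),
          Submodule.span_le]
        rintro _ ⟨⟨j, l⟩, rfl⟩
        exact Submodule.mem_iSup_of_mem j (Submodule.subset_span ⟨l, rfl⟩)⟩
  have hfib : ∀ D, Nat.card {B // π B = D} =
      (∏ j : Fin a, (Fintype.card F ^ a - Fintype.card F ^ (j : ℕ))) ^ t := by
    rintro ⟨D, hD⟩
    have e2 : {B // π B = ⟨D, hD⟩} ≃ Π j, {s : Fin a → D j // LinearIndependent F s} :=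
      { toFun := fun B j => ⟨fun l => ⟨B.1.1 (j, l), by
            have h : Submodule.span F (Set.range fun l => B.1.1 (j, l)) = D j :=
              congrFun (congrArg Subtype.val B.2) j
            exact le_of_eq h (Submodule.subset_span ⟨l, rfl⟩)⟩,
          LinearIndependent.of_comp (D j).subtype (B.1.2.comp (fun l => ((j, l) : Fin t × Fin a))
            (fun l l' h => congrArg Prod.snd h))⟩
        invFun := fun s => ⟨⟨fun x => ((s x.1).1 x.2 : Fin n → F), by
            rw [Fintype.linearIndependent_iff]
            intro c hc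
            rw [Fintype.sum_prod_type] at hc
            have hz : ∀ j, (∑ l, c (j, l) • (s j).1 l : D j) = 0 := by
              intro j
              apply Subtype.ext
              refine Submodule.disjoint_def.mp (hD.indep j) _ (∑ l, c (j, l) • (s j).1 l : D j).2 ?_
              rw [← Finset.add_sum_erase _ _ (Finset.mem_univ j)] at hc
              simp only [Submodule.coe_sum, Submodule.coe_smul]
              rw [eq_neg_of_add_eq_zero_left hc]
              refine Submodule.neg_mem _ (Submodule.sum_mem _ fun k hk => ?_)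
              refine Submodule.mem_iSup_of_mem k (Submodule.mem_iSup_of_mem (Finset.mem_erase.mp hk).1 ?_)
              exact Submodule.sum_mem _ fun l _ => Submodule.smul_mem _ _ ((s k).1 l).2
            rintro ⟨j, l⟩
            exact Fintype.linearIndependent_iff.mp (s j).2 (fun l => c (j, l)) (hz j) l⟩, by
          apply Subtype.ext
          funext j
          show Submodule.span F (Set.range fun l => ((s j).1 l : Fin n → F)) = D j
          apply Submodule.eq_of_le_of_finrank_eq
          · rw [Submodule.span_le]; rintro _ ⟨l, rfl⟩; exact ((s j).1 l).2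
          · rw [hD.finrank_eq j]
            have h2 := finrank_span_eq_card (R := F) ((s j).2.map' (D j).subtype (D j).ker_subtype)
            rw [Fintype.card_fin] at h2
            exact h2⟩
        left_inv := fun B => rfl
        right_inv := fun s => rfl }
    rw [Nat.card_congr e2, Nat.card_pi, Finset.prod_congr rfl (fun j _ => ?_), Finset.prod_const,
      Finset.card_univ, Fintype.card_fin]
    haveI : Fintype (D j) := Fintype.ofFinite _
    rw [card_linearIndependent (K := F) (V := D j) (hD.finrank_eq j).ge, hD.finrank_eq j]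
  haveI : Fintype {D : Fin t → Submodule F (Fin n → F) // Cfsg.Geo.IsMDecomposition a D} :=
    Fintype.ofFinite _
  rw [← hS, ← Nat.card_congr (Equiv.sigmaFiberEquiv π), Nat.card_sigma,
    Finset.sum_congr rfl (fun D _ => hfib D), Finset.sum_const, Finset.card_univ, smul_eq_mul,
    Nat.card_eq_fintype_card]

theorem factorial_dvd_card :
    Nat.factorial t ∣ Nat.card {D : Fin t → Submodule F (Fin n → F) // Cfsg.Geo.IsMDecomposition a D} := by
  classical
  let act : MulAction (Equiv.Perm (Fin t))
      {D : Fin t → Submodule F (Fin n → F) // Cfsg.Geo.IsMDecomposition a D} :=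
    { smul := fun g D => ⟨D.1 ∘ g.symm, ⟨D.2.two_le, D.2.pos, fun i => D.2.finrank_eq _,
        D.2.indep.comp g.symm.injective, (g.symm.surjective.iSup_comp D.1).trans D.2.iSup_eq_top⟩⟩
      one_smul := fun D => Subtype.ext rfl
      mul_smul := fun g h D => Subtype.ext rfl }
  letI := act
  have h : ∀ D : {D : Fin t → Submodule F (Fin n → F) // Cfsg.Geo.IsMDecomposition a D},
      MulAction.stabilizer (Equiv.Perm (Fin t)) D = ⊥ := by
    intro D
    rw [Subgroup.eq_bot_iff_forall]
    intro g hg
    have hg' : D.1 ∘ g.symm = D.1 := congrArg Subtype.val hg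
    ext i
    by_contra hne
    have h1 : D.1 i = D.1 (g i) := by
      have := congrFun hg' (g i)
      rwa [Function.comp_apply, Equiv.symm_apply_apply] at this
    have h2 : Disjoint (D.1 i) (D.1 (g i)) :=
      D.2.indep.pairwiseDisjoint (fun e => hne (by rw [Equiv.Perm.one_apply, ← e]))
    rw [← h1, disjoint_self] at h2
    have h3 := D.2.finrank_eq i
    rw [h2, finrank_bot] at h3
    have := D.2.pos
    omega
  rw [Nat.card_congr (MulAction.selfEquivOrbitsQuotientProd h), Nat.card_prod, Nat.card_perm, Nat.card_fin]
  exact dvd_mul_left _ _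

/-- A prime other than the characteristic dividing the number of unordered decompositions. -/
theorem exists_dvd_of_dvd_decomp {p r : ℕ} [Fact p.Prime] [CharP F p] (hr : r.Prime) (hrp : r ≠ p)
    (hat : n = a * t) (ht : 2 ≤ t) (ha : 1 ≤ a)
    (h : r ∣ Nat.card {D : Fin t → Submodule F (Fin n → F) // Cfsg.Geo.IsMDecomposition a D} / Nat.factorial t) :
    ∃ k, 0 < k ∧ k ≤ n ∧ r ∣ Fintype.card F ^ k - 1 := by
  have h' : r ∣ ∏ j : Fin n, (Fintype.card F ^ n - Fintype.card F ^ (j : ℕ)) := by
    rw [← card_decomp_mul hat ht ha, ← Nat.div_mul_cancel (factorial_dvd_card (n := n) (a := a) (t := t) (F := F))]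
    exact (h.mul_right _).mul_right _
  obtain ⟨j, -, hj⟩ := (Nat.Prime.prime hr).exists_mem_finset_dvd h'
  refine ⟨n - j, by have := j.2; omega, Nat.sub_le _ _, ?_⟩
  rw [show Fintype.card F ^ n = Fintype.card F ^ (j : ℕ) * Fintype.card F ^ (n - j) by
    rw [← pow_add, Nat.add_sub_cancel' j.2.le], ← Nat.mul_sub_one] at hj
  rcases hr.dvd_mul.mp hj with hj | hj
  · obtain ⟨f, -, hf⟩ := FiniteField.card F p
    rw [hf, ← pow_mul] at hj
    exact absurd ((Nat.prime_dvd_prime_iff_eq hr Fact.out).mp (hr.dvd_of_dvd_pow hj)) hrp
  · exact hj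

end Cfsg.Agent.ClMax99.Inv
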