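import Cfsg.Agent.ClMax99.DecompCount

/-!
Which elements of odd prime order permute a decomposition into equal summands (helper99).
-/

set_option autoImplicit false
set_option linter.unusedSectionVars false

namespace Cfsg.Agent.ClMax99.Inv

open Module Polynomial

variable {F : Type*} [Field F] [Fintype F] {r : ℕ} [hr : Fact r.Prime] {n a t : ℕ}

theorem finrank_split {V : Type*} [AddCommGroup V] [Module F V] [FiniteDimensional F V]
    (f : Module.End F V) (W : Submodule F V) :
    finrank F (W.map (f - 1)) + finrank F ↥(W ⊓ LinearMap.ker (f - 1)) = finrank F W := by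
  have h := LinearMap.finrank_range_add_finrank_ker ((f - 1).domRestrict W)
  rw [LinearMap.range_domRestrict, LinearMap.ker_domRestrict] at h
  rw [← h, add_right_inj]
  exact ((Submodule.equivMapOfInjective W.subtype W.injective_subtype _).finrank_eq.trans
      (by rw [Submodule.map_comap_subtype])).symm

theorem exists_sub_dim {V : Type*} [AddCommGroup V] [Module F V] [FiniteDimensional F V]
    (X : Submodule F V) (d : ℕ) (hd : d ≤ finrank F X) : ∃ D ≤ X, finrank F D = d := by
  let b := Module.finBasis F X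
  refine ⟨(Submodule.span F (Set.range (b ∘ Fin.castLE hd))).map X.subtype, Submodule.map_subtype_le _ _, ?_⟩
  rw [Submodule.finrank_map_subtype_eq, finrank_span_eq_card, Fintype.card_fin]
  exact b.linearIndependent.comp _ (Fin.castLE_injective hd)

theorem geom_ne_zero (hrF : (r : F) ≠ 0) : (∑ j ∈ Finset.range r, (X : F[X]) ^ j) ≠ 0 := by
  intro e
  have := congrArg (eval 1) e
  simp [eval_finsetSum] at this
  exact hrF this

/-- Blocks without cycles. -/
theorem exists_fixed_blocks (hrF : (r : F) ≠ 0) {y : Module.End F (Fin n → F)} (hy : y ^ r = 1)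
    (ht : 2 ≤ t) (ha : 0 < a) (hat : n = a * t)
    (hk : t * (a % orderOf (Fintype.card F : ZMod r)) ≤ finrank F (LinearMap.ker (y - 1))) :
    ∃ D : Fin t → Submodule F (Fin n → F), Cfsg.Geo.IsMDecomposition a D ∧ ∀ j, (D j).map y ≤ D j := by
  classical
  set c := orderOf (Fintype.card F : ZMod r) with hc
  set C := LinearMap.ker (y - 1) with hC
  have hy1 : y ^ r = (1 : F) • 1 := by rw [one_smul]; exact hy
  have hyC : ∀ v, v ∈ C → y v = v := fun v hv => by
    rw [hC, LinearMap.mem_ker, LinearMap.sub_apply, Module.End.one_apply, sub_eq_zero] at hv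
    exact hv
  suffices hstep : ∀ (k : ℕ) (W : Submodule F (Fin n → F)), (W.map y ≤ W ∧ finrank F W = (k + 1) * a ∧
      (k + 1) * (a % c) ≤ finrank F ↥(W ⊓ C)) → ∃ U W' : Submodule F (Fin n → F), Disjoint U W' ∧
        U ⊔ W' = W ∧ U.map y ≤ U ∧ finrank F U = a ∧ W'.map y ≤ W' ∧ finrank F W' = k * a ∧
        k * (a % c) ≤ finrank F ↥(W' ⊓ C) by
    obtain ⟨D, hD, hDs, hDp⟩ := blocks_of_step (a := a) y
      (fun k (W : Submodule F (Fin n → F)) => W.map y ≤ W ∧ finrank F W = k * a ∧
        k * (a % c) ≤ finrank F ↥(W ⊓ C))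
      (fun W h => Submodule.finrank_eq_zero.mp (by rw [h.2.1, zero_mul])) hstep t ⊤
      ⟨by simp, by rw [finrank_top, Module.finrank_fin_fun, hat, mul_comm], by rwa [top_inf_eq]⟩
    exact ⟨D, ⟨ht, ha, fun j => (hDp j).2, hD, hDs⟩, fun j => (hDp j).1⟩
  rintro k W ⟨hW, hWd, hWC⟩
  set e := finrank F ↥(W ⊓ C) with he
  set R := W.map (y - 1) with hR
  have hsplit : finrank F R + e = finrank F W := finrank_split y W
  obtain ⟨s, hs⟩ := dvd_finrank_moved hrF hy hW
  rw [mul_comm] at hs
  rw [← hR, ← hc] at hs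
  set s₁ := min (a / c) s with hs₁
  have hac : a / c * c ≤ a := Nat.div_mul_le_self a c
  have hs1c : s₁ * c ≤ finrank F R := by rw [hs]; exact Nat.mul_le_mul_right _ (min_le_right _ _)
  have hRW : R ≤ W := by
    rintro _ ⟨v, hv, rfl⟩
    exact W.sub_mem (hW ⟨v, hv, rfl⟩) hv
  have hRR : R ≤ LinearMap.range (y - 1) := LinearMap.map_le_range
  have hRinv : R.map y ≤ R := by
    rintro _ ⟨_, ⟨v, hv, rfl⟩, rfl⟩
    exact ⟨y v, hW ⟨v, hv, rfl⟩, by simp⟩
  obtain ⟨L, hL, hL0⟩ := exists_factor_list (P := ∑ j ∈ Finset.range r, (X : F[X]) ^ j) (geom_ne_zero hrF) y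
  obtain ⟨P, -, hPR, hPi, hPd⟩ := exists_chain (f := y) L (fun g hg => (hL g hg).1) (d := c)
    (fun g hg => natDegree_eq_orderOf hrF (hL g hg).1 (hL g hg).2)
    (W := (⊥ : Submodule F (Fin n → F))) (R := R) (by simp) hRinv bot_le (by
      rintro _ ⟨v, -, rfl⟩
      rw [hL0 _ (geom_apply_sub hy v)]
      exact zero_mem _) s₁ (by rw [finrank_bot, zero_add]; exact hs1c)
  rw [finrank_bot, zero_add] at hPd
  rw [Nat.add_mul, one_mul] at hWd hWC
  have hd : a - s₁ * c ≤ e := by
    rcases le_total (a / c) s with h | h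
    · rw [hs₁, min_eq_left h]
      have := Nat.div_add_mod a c
      rw [mul_comm] at this
      omega
    · rw [hs₁, min_eq_right h]
      rw [hs] at hsplit
      omega
  obtain ⟨E, hE, hEd⟩ := exists_sub_dim (W ⊓ C) (a - s₁ * c) hd
  have hdis : Disjoint C (LinearMap.range (y - 1)) := disjoint_ker_range hrF hy
  have hU : (E ⊔ P).map y ≤ E ⊔ P := by
    rw [Submodule.map_sup]
    refine sup_le_sup ?_ hPi
    rintro _ ⟨v, hv, rfl⟩
    rwa [hyC v (inf_le_right (a := W) (hE hv))]
  have hUW : E ⊔ P ≤ W := sup_le (hE.trans inf_le_left) (hPR.trans hRW)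
  obtain ⟨W', hd', hs', hW'⟩ := exists_invariant_compl_in hrF one_ne_zero hy1 hU hW hUW
  have hUd : finrank F ↥(E ⊔ P) = a := by
    have h := Submodule.finrank_sup_add_finrank_inf_eq E P
    rw [(hdis.mono (hE.trans inf_le_right) (hPR.trans hRR)).eq_bot, finrank_bot, hEd, hPd] at h
    have : s₁ * c ≤ a := le_trans (Nat.mul_le_mul_right _ (min_le_left _ _)) hac
    omega
  have hW'd : finrank F W' = k * a := by
    have h := Submodule.finrank_sup_add_finrank_inf_eq (E ⊔ P) W'
    rw [hd'.eq_bot, finrank_bot, hs', hUd, hWd] at h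
    omega
  refine ⟨E ⊔ P, W', hd', hs', hU, hUd, hW', hW'd, ?_⟩
  have hsum : W ⊓ C ≤ E ⊔ (W' ⊓ C) := by
    rintro v ⟨hvW, hvC⟩
    rw [← hs'] at hvW
    obtain ⟨u, hu, w, hw, rfl⟩ := Submodule.mem_sup.mp hvW
    have hfix := hyC _ hvC
    rw [map_add] at hfix
    have h0 : y u - u = 0 := by
      refine Submodule.disjoint_def.mp hd' _ (Submodule.sub_mem _ (hU ⟨u, hu, rfl⟩) hu) ?_
      rw [show y u - u = w - y w by rw [sub_eq_sub_iff_add_eq_add, hfix]; abel]
      exact W'.sub_mem hw (hW' ⟨w, hw, rfl⟩)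
    have huC : u ∈ C := by
      rw [hC, LinearMap.mem_ker, LinearMap.sub_apply, Module.End.one_apply, h0]
    have hwC : w ∈ C := by simpa using C.sub_mem hvC huC
    have huE : u ∈ E := by
      obtain ⟨e', he', p, hp, rfl⟩ := Submodule.mem_sup.mp hu
      have he'C : e' ∈ C := inf_le_right (a := W) (hE he')
      have hp0 : p = 0 := Submodule.disjoint_def.mp hdis p (by simpa using C.sub_mem huC he'C) (hRR (hPR hp))
      rw [hp0, add_zero]; exact he'
    exact Submodule.add_mem_sup huE ⟨hw, hwC⟩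
  have h1 := Submodule.finrank_mono hsum
  have h2 := Submodule.finrank_add_le_finrank_add_finrank E (W' ⊓ C)
  rw [hEd] at h2
  rcases le_total (a / c) s with h | h
  · rw [hs₁, min_eq_left h] at h2
    have := Nat.div_add_mod a c
    rw [mul_comm] at this
    omega
  · rw [hs₁, min_eq_right h] at h2
    rw [hs] at hsplit
    have : k * (a % c) ≤ k * a := Nat.mul_le_mul_left _ (Nat.mod_le _ _)
    have : s * c ≤ a := le_trans (Nat.mul_le_mul_right _ h) hac
    omega

/-- The successor modulo `r` on exponents. -/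
theorem rot_apply {V : Type*} [AddCommGroup V] [Module F V] (f : Module.End F V) {z : F}
    (hf : f ^ r = z • 1) (hz : z ≠ 0) (i : Fin r) (v : V) :
    ∃ c : F, c ≠ 0 ∧ f ((f ^ (i : ℕ)) v) = c • (f ^ ((finRotate r i : Fin r) : ℕ)) v := by
  obtain ⟨m, rfl⟩ : ∃ m, r = m + 1 := ⟨r - 1, by have := hr.out.pos; omega⟩
  rw [← Module.End.mul_apply, ← pow_succ', coe_finRotate]
  split_ifs with h
  · refine ⟨z, hz, ?_⟩
    rw [h, Fin.val_last, hf]
    simp
  · exact ⟨1, one_ne_zero, by rw [one_smul]⟩

/-- Cycles of blocks for a nonsquare scalar. -/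
theorem exists_cycles {z : F} (hz : ∀ w : F, w ^ r ≠ z) {f : Module.End F (Fin n → F)}
    (hf : f ^ r = z • 1) (ht : 2 ≤ t) (ha : 0 < a) (hat : n = a * t) {u : ℕ} (hu : t = u * r) :
    ∃ D : Fin t → Submodule F (Fin n → F), Cfsg.Geo.IsMDecomposition a D ∧
      ∃ σ : Equiv.Perm (Fin t), ∀ j, (D j).map f = D (σ j) := by
  classical
  have hz0 : z ≠ 0 := fun e => hz 0 (by rw [e, zero_pow hr.out.ne_zero])
  have hdeg : (X ^ r - C z : F[X]).natDegree = r := natDegree_X_pow_sub_C
  obtain ⟨v, -, hv⟩ := exists_cyclic_family (irreducible_of_nonpower hz) (R := (⊤ : Submodule F (Fin n → F)))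
    (f := f) (by simp) (fun v _ => by simpa using aeval_nonpower hf v) (u * a)
    (by rw [hdeg, finrank_top, Module.finrank_fin_fun, hat, hu, mul_comm a, mul_assoc, mul_assoc, mul_comm a r])
  let ι : ((Fin u × Fin a) × Fin r) → Fin (u * a) × Fin (X ^ r - C z : F[X]).natDegree :=
    fun y => (finProdFinEquiv y.1, Fin.cast hdeg.symm y.2)
  have hι : Function.Injective ι := fun y y' e => by
    simp only [ι, Prod.mk.injEq, EmbeddingLike.apply_eq_iff_eq] at e
    exact Prod.ext e.1 (Fin.cast_injective _ e.2)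
  let B : (Fin u × Fin a) × Fin r → (Fin n → F) := fun y => (f ^ (y.2 : ℕ)) (v (finProdFinEquiv y.1))
  have hB : LinearIndependent F B := hv.comp ι hι
  let π : Equiv.Perm ((Fin u × Fin a) × Fin r) := Equiv.prodCongr (Equiv.refl _) (finRotate r)
  let E : Fin u × Fin r ≃ Fin t := finProdFinEquiv.trans (finCongr hu.symm)
  refine decomp_of_monomial f B hB (hB.span_eq_top_of_card_eq_finrank' ?_) π
    (fun y => E (y.1.1, y.2)) (E.symm.trans ((Equiv.prodCongr (Equiv.refl _) (finRotate r)).trans E))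
    (fun y => by simp [π]) (fun j => ?_) ht ha (fun y => ?_)
  · simp only [Fintype.card_prod, Fintype.card_fin, Module.finrank_fin_fun]
    rw [hat, hu]; ring
  · obtain ⟨⟨l, i⟩, rfl⟩ := E.surjective j
    refine (Nat.card_congr
      { toFun := fun y => y.1.1.2
        invFun := fun b => ⟨((l, b), i), rfl⟩
        left_inv := fun y => by
          obtain ⟨⟨⟨l', b⟩, i'⟩, h⟩ := y
          simp only [EmbeddingLike.apply_eq_iff_eq, Prod.mk.injEq] at h
          obtain ⟨rfl, rfl⟩ := h
          rfl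
        right_inv := fun b => rfl }).trans (Nat.card_fin a)
  · exact rot_apply f hf hz0 y.2 _

theorem geom_irreducible (hrF : (r : F) ≠ 0) (hc : orderOf (Fintype.card F : ZMod r) = r - 1) :
    Irreducible (∑ j ∈ Finset.range r, (X : F[X]) ^ j) ∧
      (∑ j ∈ Finset.range r, (X : F[X]) ^ j).natDegree = r - 1 := by
  have h2 := hr.out.two_le
  have hd : (∑ j ∈ Finset.range r, (X : F[X]) ^ j).natDegree = r - 1 := by
    apply le_antisymm
    · refine natDegree_sum_le_of_forall_le _ _ fun j hj => ?_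
      rw [natDegree_X_pow]
      have := Finset.mem_range.mp hj
      omega
    · refine le_natDegree_of_ne_zero ?_
      rw [finsetSum_coeff, Finset.sum_eq_single (r - 1)]
      · simp
      · intro b _ hb; simp [coeff_X_pow, Ne.symm hb]
      · intro h; exact absurd (Finset.mem_range.mpr (by omega)) h
  refine ⟨?_, hd⟩
  have hu : ¬ IsUnit (∑ j ∈ Finset.range r, (X : F[X]) ^ j) := fun h => by
    have := natDegree_eq_zero_of_isUnit h
    omega
  obtain ⟨g, hg, hgd⟩ := WfDvdMonoid.exists_irreducible_factor hu (geom_ne_zero hrF)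
  have hdeg := natDegree_eq_orderOf hrF hg hgd
  exact (associated_of_dvd_of_natDegree_le hgd (geom_ne_zero hrF) (by omega)).irreducible hg

/-- Lines: fixed lines and cycles of length `r`. -/
theorem exists_lines (hrF : (r : F) ≠ 0) (hc : orderOf (Fintype.card F : ZMod r) = r - 1)
    {y : Module.End F (Fin n → F)} (hy : y ^ r = 1) (hn : 2 ≤ n)
    (hk : finrank F (LinearMap.range (y - 1)) / (r - 1) ≤ finrank F (LinearMap.ker (y - 1))) :
    ∃ D : Fin n → Submodule F (Fin n → F), Cfsg.Geo.IsMDecomposition 1 D ∧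
      ∃ σ : Equiv.Perm (Fin n), ∀ j, (D j).map y = D (σ j) := by
  classical
  have h2 := hr.out.two_le
  obtain ⟨hirr, hdeg⟩ := geom_irreducible hrF hc
  set G := ∑ j ∈ Finset.range r, (X : F[X]) ^ j with hG
  set C := LinearMap.ker (y - 1) with hC
  set R := LinearMap.range (y - 1) with hR
  obtain ⟨s, hs⟩ : (r - 1) ∣ finrank F R := by
    have h := dvd_finrank_moved hrF hy (W := ⊤) (by simp)
    rwa [Submodule.map_top, hc] at h
  rw [hs, Nat.mul_div_cancel_left _ (by omega)] at hk
  obtain ⟨m, hm⟩ := Nat.exists_eq_add_of_le hk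
  have hdim : s * (r - 1) + (s + m) = n := by
    have h := finrank_range_add_ker (Module.finrank_fin_fun F (n := n)) y
    rw [← hm, mul_comm s, ← hs]
    exact h
  obtain ⟨v, hvR, hv⟩ := exists_cyclic_family hirr (f := y) (R := R) map_range_sub_le
    (by rintro _ ⟨w, rfl⟩; exact geom_apply_sub hy w) s (by rw [hdeg, hs, mul_comm])
  let b := (Module.finBasisOfFinrankEq F C hm)
  let w : Fin s → (Fin n → F) := fun j => v j + (b (Fin.castAdd m j) : Fin n → F)
  let B : (Fin s × Fin r) ⊕ Fin m → (Fin n → F) :=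
    Sum.elim (fun x => (y ^ (x.2 : ℕ)) (w x.1)) (fun l => (b (Fin.natAdd s l) : Fin n → F))
  have hyC : ∀ x, x ∈ C → y x = x := fun x hx => by
    rw [hC, LinearMap.mem_ker, LinearMap.sub_apply, Module.End.one_apply, sub_eq_zero] at hx
    exact hx
  have hpow : ∀ (i : ℕ) (x : Fin n → F), x ∈ C → (y ^ i) x = x := fun i x hx => by
    induction i with
    | zero => simp
    | succ i ih => rw [pow_succ', Module.End.mul_apply, ih, hyC x hx]
  set S := Submodule.span F (Set.range B) with hS
  have hSb : ∀ l, (b l : Fin n → F) ∈ S := by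
    intro l
    induction l using Fin.addCases with
    | left j =>
      have hsum : ∑ i : Fin r, B (Sum.inl (j, i)) ∈ S :=
        S.sum_mem fun i _ => Submodule.subset_span ⟨_, rfl⟩
      have h0 : ∑ i : Fin r, (y ^ (i : ℕ)) (v j) = 0 := by
        obtain ⟨u, hu⟩ := hvR j
        rw [← hu, Fin.sum_univ_eq_sum_range (fun i => (y ^ i) ((y - 1) u)) r]
        have := geom_apply_sub hy u
        simpa [map_sum, LinearMap.sum_apply] using this
      simp only [B, w, Sum.elim_inl, map_add, hpow _ _ (b (Fin.castAdd m j)).2, Finset.sum_add_distrib,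
        h0, zero_add, Finset.sum_const, Finset.card_univ, Fintype.card_fin] at hsum
      rw [← Nat.cast_smul_eq_nsmul F] at hsum
      exact (S.smul_mem_iff hrF).mp hsum
    | right l => exact Submodule.subset_span ⟨Sum.inr l, rfl⟩
  have hSC : C ≤ S := fun x hx => by
    have h := b.sum_repr ⟨x, hx⟩
    have h' := congrArg Subtype.val h
    rw [Submodule.coe_sum] at h'
    rw [show x = ∑ l, ((b.repr ⟨x, hx⟩ l • b l : C) : Fin n → F) from h'.symm]
    exact S.sum_mem fun l _ => S.smul_mem _ (hSb l)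
  have hSR : R ≤ S := by
    have hspan : Submodule.span F (Set.range fun x : Fin s × Fin G.natDegree => (y ^ (x.2 : ℕ)) (v x.1)) = R := by
      apply Submodule.eq_of_le_of_finrank_eq
      · rw [Submodule.span_le]
        rintro _ ⟨x, rfl⟩
        have h := aeval_mem (f := y) map_range_sub_le ((X : F[X]) ^ (x.2 : ℕ)) (hvR x.1)
        rw [map_pow, aeval_X] at h
        exact h
      · rw [finrank_span_eq_card hv, Fintype.card_prod, Fintype.card_fin, Fintype.card_fin, hdeg, hs, mul_comm]
    rw [← hspan, Submodule.span_le]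
    rintro _ ⟨⟨j, i⟩, rfl⟩
    have hi : (i : ℕ) < r := by have := i.2; omega
    have h1 : B (Sum.inl (j, ⟨i, hi⟩)) ∈ S := Submodule.subset_span ⟨_, rfl⟩
    have h2 := S.sub_mem h1 (hSb (Fin.castAdd m j))
    simp only [B, w, Sum.elim_inl, map_add, hpow _ _ (b (Fin.castAdd m j)).2, add_sub_cancel_right] at h2
    exact h2
  have hStop : S = ⊤ := by
    apply Submodule.eq_top_of_finrank_eq
    refine le_antisymm (Submodule.finrank_le _) ?_
    have h := Submodule.finrank_sup_add_finrank_inf_eq C R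
    rw [(disjoint_ker_range hrF hy).eq_bot, finrank_bot] at h
    have h' := Submodule.finrank_mono (sup_le hSC hSR)
    rw [Module.finrank_fin_fun]
    have := finrank_range_add_ker (Module.finrank_fin_fun F (n := n)) y
    rw [← hR, ← hC] at this
    omega
  have hcard : Fintype.card ((Fin s × Fin r) ⊕ Fin m) = n := by
    simp only [Fintype.card_sum, Fintype.card_prod, Fintype.card_fin]
    obtain ⟨r', hr'⟩ : ∃ r', r = r' + 1 := ⟨r - 1, by omega⟩
    rw [hr', Nat.add_sub_cancel] at hdim
    rw [hr', Nat.mul_add, mul_one]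
    omega
  let π : Equiv.Perm ((Fin s × Fin r) ⊕ Fin m) :=
    Equiv.sumCongr (Equiv.prodCongr (Equiv.refl _) (finRotate r)) (Equiv.refl _)
  let β := Fintype.equivFinOfCardEq hcard
  refine decomp_of_monomial y B
    (linearIndependent_of_top_le_span_of_card_eq_finrank (by rw [← hStop]) (by rw [hcard, Module.finrank_fin_fun]))
    hStop π β (β.symm.trans (π.trans β)) (fun x => by simp) (fun j => ?_) hn one_pos (fun x => ?_)
  · exact (Nat.card_congr (β.subtypeEquiv (q := fun x => x = j) (fun x => Iff.rfl))).trans (by simp)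
  · rcases x with ⟨j, i⟩ | l
    · exact rot_apply y (z := 1) (by rw [one_smul]; exact hy) one_ne_zero i (w j)
    · exact ⟨1, one_ne_zero, by simpa [B, π] using hyC _ (b (Fin.natAdd s l)).2⟩

end Cfsg.Agent.ClMax99.Inv
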