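import Cfsg.Agent.ClMax99.SympConj

/-!
Quadratic extension-field subalgebras of matrix algebras and their normalisers.
-/

set_option autoImplicit false

namespace Cfsg.Agent.ClMax99.Ext2

open Module Matrix

variable {F : Type*} [Field F] [Fintype F] {n : ℕ}

/-- A generator of a quadratic field subalgebra. -/
theorem exists_gen (hn : 0 < n) (K : Subalgebra F (Matrix (Fin n) (Fin n) F)) (hK : Cfsg.Geo.IsFieldSubalgebra 2 K) :
    ∃ (j : Matrix (Fin n) (Fin n) F) (α β : F), j ∈ K ∧ j * j = β • 1 + α • j ∧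
      (∀ k ∈ K, ∃ a b : F, k = a • 1 + b • j) ∧
      (∀ t : F, t ^ 2 ≠ β + α * t) ∧ α ^ 2 + 4 * β ≠ 0 ∧ ((2 : F) ≠ 0 → α = 0) := by
  haveI : Nonempty (Fin n) := ⟨⟨0, hn⟩⟩
  obtain ⟨j, hjK, hj⟩ : ∃ j ∈ K, ∀ a : F, j ≠ a • 1 := by
    by_contra hcon
    push Not at hcon
    have hle : Subalgebra.toSubmodule K ≤ F ∙ (1 : Matrix (Fin n) (Fin n) F) := fun k hk => by
      obtain ⟨a, ha⟩ := hcon k hk
      exact Submodule.mem_span_singleton.2 ⟨a, ha.symm⟩
    have h1 := Submodule.finrank_mono hle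
    rw [finrank_span_singleton one_ne_zero] at h1
    have h2 : finrank F (Subalgebra.toSubmodule K) = 2 := hK.finrank_eq
    omega
  have hli : LinearIndependent F ![(1 : Matrix (Fin n) (Fin n) F), j] := by
    rw [LinearIndependent.pair_iff]
    intro a b hab
    by_cases hb : b = 0
    · subst hb
      simp at hab
      exact ⟨hab, rfl⟩
    · exfalso
      refine hj (-(b⁻¹ * a)) ?_
      have : b • j = -(a • (1 : Matrix (Fin n) (Fin n) F)) := eq_neg_of_add_eq_zero_right hab
      rw [← inv_smul_smul₀ hb j, this, smul_neg, smul_smul, neg_smul]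
  have hspan : ∀ k ∈ K, ∃ a b : F, k = a • 1 + b • j := by
    intro k hk
    have hsub : Submodule.span F (Set.range ![(1 : Matrix (Fin n) (Fin n) F), j]) ≤ Subalgebra.toSubmodule K := by
      rw [Submodule.span_le]
      rintro _ ⟨i, rfl⟩
      fin_cases i
      · exact K.one_mem
      · exact hjK
    have heq := Submodule.eq_of_le_of_finrank_eq hsub (by
      rw [finrank_span_eq_card hli, Fintype.card_fin]; exact hK.finrank_eq.symm)
    have hk' : k ∈ Submodule.span F (Set.range ![(1 : Matrix (Fin n) (Fin n) F), j]) := heq.symm ▸ hk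
    obtain ⟨c, rfl⟩ := (Submodule.mem_span_range_iff_exists_fun F).1 hk'
    exact ⟨c 0, c 1, by simp [Fin.sum_univ_two]⟩
  obtain ⟨β, α, hjj⟩ := hspan _ (K.mul_mem hjK hjK)
  have main : ∀ (j : Matrix (Fin n) (Fin n) F) (α β : F), j ∈ K → (∀ a : F, j ≠ a • 1) →
      j * j = β • 1 + α • j → (∀ t : F, t ^ 2 ≠ β + α * t) ∧ α ^ 2 + 4 * β ≠ 0 := by
    intro j α β hjK hj hjj
    have hroot : ∀ t : F, t ^ 2 ≠ β + α * t := by
      intro t ht
      obtain ⟨y, hy, hy'⟩ := hK.inv _ (K.sub_mem hjK (K.smul_mem K.one_mem t)) (sub_ne_zero.2 (hj t))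
      have h0 : (j - (α - t) • (1 : Matrix (Fin n) (Fin n) F)) * (j - t • 1) = 0 := by
        simp only [sub_mul, mul_sub, Matrix.smul_mul, Matrix.mul_smul, one_mul, mul_one, hjj, smul_smul]
        have : t * (α - t) = -β := by linear_combination -ht
        match_scalars
        · linear_combination this
        · ring
      have h1 : j - (α - t) • (1 : Matrix (Fin n) (Fin n) F) = 0 := by
        have h := congrArg (fun A => A * y) h0
        simp only [mul_assoc, hy', mul_one, zero_mul] at h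
        exact h
      exact hj _ (sub_eq_zero.1 h1)
    refine ⟨hroot, fun h0 => ?_⟩
    by_cases h2 : (2 : F) = 0
    · have hc : ringChar F = 2 := by
        by_contra hne
        exact Ring.two_ne_zero hne h2
      obtain ⟨t, ht⟩ := FiniteField.isSquare_of_char_two hc β
      have hα : α = 0 := by
        have : α ^ 2 = 0 := by linear_combination h0 - 2 * β * h2
        exact pow_eq_zero_iff (n := 2) (by norm_num) |>.1 this
      exact hroot t (by rw [pow_two, ← ht, hα, zero_mul, add_zero])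
    · refine hroot (α / 2) ?_
      field_simp
      linear_combination -h0
  by_cases h2 : (2 : F) = 0
  · exact ⟨j, α, β, hjK, hjj, hspan, (main j α β hjK hj hjj).1, (main j α β hjK hj hjj).2, fun h => absurd h2 h⟩
  · set j' := j - (α / 2) • (1 : Matrix (Fin n) (Fin n) F) with hj'
    have hj'K : j' ∈ K := K.sub_mem hjK (K.smul_mem K.one_mem _)
    have hj'ns : ∀ a : F, j' ≠ a • 1 := fun a ha => hj (a + α / 2) (by
      rw [add_smul, ← ha, hj', sub_add_cancel])
    have hj'j : j' * j' = (β + α ^ 2 / 4) • 1 + (0 : F) • j' := by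
      have h4 : (4 : F) ≠ 0 := by
        rw [show (4 : F) = 2 * 2 by norm_num]; exact mul_ne_zero h2 h2
      simp only [hj', sub_mul, mul_sub, Matrix.smul_mul, Matrix.mul_smul, one_mul, mul_one, hjj, smul_smul]
      match_scalars <;> field_simp <;> ring
    refine ⟨j', 0, _, hj'K, hj'j, fun k hk => ?_, (main j' 0 _ hj'K hj'ns hj'j).1,
      (main j' 0 _ hj'K hj'ns hj'j).2, fun _ => rfl⟩
    obtain ⟨a, b, rfl⟩ := hspan k hk
    exact ⟨a + b * (α / 2), b, by rw [hj', smul_sub, smul_smul]; module⟩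

/-- Planes of a map with an irreducible quadratic polynomial. -/
theorem exists_quad_planes {V : Type*} [AddCommGroup V] [Module F V] [FiniteDimensional F V]
    (T : Module.End F V) {α β : F} (hz : ∀ t : F, t ^ 2 ≠ β + α * t)
    (hT : ∀ y, T (T y) = β • y + α • T y) :
    ∀ k : ℕ, 2 * k ≤ finrank F V + 1 →
      ∃ v : Fin k → V, LinearIndependent F (Sum.elim v (fun i => T (v i))) := by
  intro k
  induction k with
  | zero => exact fun _ => ⟨Fin.elim0, linearIndependent_empty_type⟩
  | succ k ih =>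
    intro hk
    obtain ⟨v, hv⟩ := ih (by omega)
    set S := Submodule.span F (Set.range (Sum.elim v (fun i => T (v i)))) with hS
    have hSdim : finrank F S = k + k := by
      rw [hS, finrank_span_eq_card hv, Fintype.card_sum, Fintype.card_fin]
    obtain ⟨y, -, hy⟩ := SetLike.exists_of_lt (show S < ⊤ from lt_top_iff_ne_top.2 fun h => by
      rw [h, finrank_top] at hSdim
      omega)
    have hinv : ∀ s ∈ S, T s ∈ S := by
      intro s hs
      refine (Submodule.span_le.2 ?_ : S ≤ S.comap T) hs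
      rintro _ ⟨i | i, rfl⟩
      · exact Submodule.subset_span ⟨Sum.inr i, rfl⟩
      · show T (T (v i)) ∈ S
        rw [hT]
        exact S.add_mem (S.smul_mem _ (Submodule.subset_span ⟨Sum.inl i, rfl⟩))
          (S.smul_mem _ (Submodule.subset_span ⟨Sum.inr i, rfl⟩))
    refine ⟨Fin.cons y v, ?_⟩
    rw [Fintype.linearIndependent_iff]
    intro g hg
    simp only [Fintype.sum_sum_type, Sum.elim_inl, Sum.elim_inr, Fin.sum_univ_succ, Fin.cons_zero,
      Fin.cons_succ] at hg
    set a := g (Sum.inl 0)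
    set b := g (Sum.inr 0)
    set s := ∑ i : Fin k, g (Sum.inl i.succ) • v i + ∑ i : Fin k, g (Sum.inr i.succ) • T (v i) with hs
    have hsS : s ∈ S := S.add_mem (Submodule.sum_mem _ fun i _ => S.smul_mem _ (Submodule.subset_span ⟨Sum.inl i, rfl⟩))
      (Submodule.sum_mem _ fun i _ => S.smul_mem _ (Submodule.subset_span ⟨Sum.inr i, rfl⟩))
    have h1 : a • y + b • T y = -s := by rw [eq_neg_iff_add_eq_zero, ← hg, hs]; abel
    have h2 : (a * a + α * a * b - β * b * b) • y =
        (a + b * α) • (a • y + b • T y) - b • T (a • y + b • T y) := by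
      simp only [map_add, map_smul, hT]
      module
    have hzero : a * a + α * a * b - β * b * b = 0 := by
      by_contra h0
      refine hy ?_
      rw [← inv_smul_smul₀ h0 y, h2, h1]
      exact S.smul_mem _ (S.sub_mem (S.smul_mem _ (S.neg_mem hsS)) (S.smul_mem _ (hinv _ (S.neg_mem hsS))))
    have hb : b = 0 := by
      by_contra hb
      exact hz (-a / b) (by field_simp; linear_combination hzero)
    have ha : a = 0 := by
      rw [hb] at hzero
      simpa using hzero
    rw [ha, hb] at h1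
    simp only [zero_smul, add_zero, zero_eq_neg] at h1
    have hrest := Fintype.linearIndependent_iff.1 hv (Sum.elim (fun i => g (Sum.inl i.succ)) (fun i => g (Sum.inr i.succ)))
      (by simpa [Fintype.sum_sum_type, hs] using h1)
    rintro (i | i) <;> refine Fin.cases ?_ (fun j => ?_) i
    · exact ha
    · exact hrest (Sum.inl j)
    · exact hb
    · exact hrest (Sum.inr j)

variable {ι : Type*} [Fintype ι] [DecidableEq ι]

/-- Block diagonal normal form of a map from adapted planes. -/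
theorem exists_block_form (σ : Fin 2 × ι ≃ Fin n) (T : Matrix (Fin n) (Fin n) F) (v w : ι → Fin n → F)
    (hspan : (⊤ : Submodule F (Fin n → F)) ≤ Submodule.span F (Set.range (Sum.elim v w)))
    (M : ι → Matrix (Fin 2) (Fin 2) F)
    (h1 : ∀ i, T *ᵥ v i = M i 0 0 • v i + M i 1 0 • w i)
    (h2 : ∀ i, T *ᵥ w i = M i 0 1 • v i + M i 1 1 • w i) :
    ∃ V : GL (Fin n) F, T * (V : Matrix (Fin n) (Fin n) F) =
      (V : Matrix (Fin n) (Fin n) F) * Matrix.reindex σ σ (Matrix.blockDiagonal M) := by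
  classical
  let cv : Fin 2 × ι → (Fin n → F) := fun p => ![v p.2, w p.2] p.1
  let V : Matrix (Fin n) (Fin n) F := Matrix.of fun r c => cv (σ.symm c) r
  have hVu : IsUnit V := by
    rw [← Matrix.linearIndependent_cols_iff_isUnit]
    refine linearIndependent_of_top_le_span_of_card_eq_finrank ?_ (by simp)
    refine hspan.trans (Submodule.span_mono ?_)
    rintro _ ⟨i | i, rfl⟩
    · exact ⟨σ (0, i), by funext r; simp [V, cv]⟩
    · exact ⟨σ (1, i), by funext r; simp [V, cv]⟩
  have hxV : T * V = V * Matrix.reindex σ σ (Matrix.blockDiagonal M) := by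
    ext r c
    obtain ⟨⟨k, i⟩, rfl⟩ := σ.surjective c
    have e1 : (T * V) r (σ (k, i)) = (T *ᵥ cv (k, i)) r := by
      simp [Matrix.mul_apply, Matrix.mulVec, dotProduct, V]
    have e2 : (V * Matrix.reindex σ σ (Matrix.blockDiagonal M)) r (σ (k, i)) = v i r * M i 0 k + w i r * M i 1 k := by
      rw [Matrix.mul_apply, ← σ.sum_comp, Fintype.sum_prod_type, Fin.sum_univ_two]
      simp [V, cv, Matrix.blockDiagonal_apply]
    rw [e1, e2]
    fin_cases k
    · simp [cv, h1 i, mul_comm]
    · simp [cv, h2 i, mul_comm]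
  exact ⟨hVu.unit, hxV⟩

theorem mem_normalizer {K : Subalgebra F (Matrix (Fin n) (Fin n) F)} {j : Matrix (Fin n) (Fin n) F} {α : F}
    (hjK : j ∈ K) (hspan : ∀ k ∈ K, ∃ a b : F, k = a • 1 + b • j) (g : GL (Fin n) F)
    (h : (g : Matrix (Fin n) (Fin n) F) * j = j * (g : Matrix (Fin n) (Fin n) F) ∨
      (g : Matrix (Fin n) (Fin n) F) * j = (α • 1 - j) * (g : Matrix (Fin n) (Fin n) F)) :
    g ∈ Cfsg.Geo.subalgebraNormalizer K := by
  have fwd : ∀ u : GL (Fin n) F, ((u : Matrix (Fin n) (Fin n) F) * j = j * (u : Matrix (Fin n) (Fin n) F) ∨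
      (u : Matrix (Fin n) (Fin n) F) * j = (α • 1 - j) * (u : Matrix (Fin n) (Fin n) F)) →
      ∀ k ∈ K, (u : Matrix (Fin n) (Fin n) F) * k * ((u⁻¹ : GL (Fin n) F) : Matrix (Fin n) (Fin n) F) ∈ K := by
    intro u hu k hk
    obtain ⟨a, b, rfl⟩ := hspan k hk
    have huu : (u : Matrix (Fin n) (Fin n) F) * ((u⁻¹ : GL (Fin n) F) : Matrix (Fin n) (Fin n) F) = 1 := by
      rw [← Units.val_mul, mul_inv_cancel, Units.val_one]
    rw [mul_add, Matrix.mul_smul, Matrix.mul_smul, mul_one, add_mul, Matrix.smul_mul, Matrix.smul_mul, huu]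
    refine K.add_mem (K.smul_mem K.one_mem a) (K.smul_mem ?_ b)
    rcases hu with e | e <;> rw [e, mul_assoc, huu, mul_one]
    · exact hjK
    · exact K.sub_mem (K.smul_mem K.one_mem α) hjK
  have hinv : ((g⁻¹ : GL (Fin n) F) : Matrix (Fin n) (Fin n) F) * j = j * ((g⁻¹ : GL (Fin n) F) : Matrix (Fin n) (Fin n) F) ∨
      ((g⁻¹ : GL (Fin n) F) : Matrix (Fin n) (Fin n) F) * j =
        (α • 1 - j) * ((g⁻¹ : GL (Fin n) F) : Matrix (Fin n) (Fin n) F) := by
    have hgg : ((g⁻¹ : GL (Fin n) F) : Matrix (Fin n) (Fin n) F) * (g : Matrix (Fin n) (Fin n) F) = 1 := by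
      rw [← Units.val_mul, inv_mul_cancel, Units.val_one]
    have hgg' : (g : Matrix (Fin n) (Fin n) F) * ((g⁻¹ : GL (Fin n) F) : Matrix (Fin n) (Fin n) F) = 1 := by
      rw [← Units.val_mul, mul_inv_cancel, Units.val_one]
    rcases h with e | e
    · refine Or.inl ?_
      calc _ = ((g⁻¹ : GL (Fin n) F) : Matrix (Fin n) (Fin n) F) * (j * (g : Matrix (Fin n) (Fin n) F)) *
            ((g⁻¹ : GL (Fin n) F) : Matrix (Fin n) (Fin n) F) := by simp only [mul_assoc, hgg', mul_one]
        _ = _ := by rw [← e, ← mul_assoc, hgg, one_mul]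
    · refine Or.inr ?_
      have e' : (g : Matrix (Fin n) (Fin n) F) * (α • 1 - j) = j * (g : Matrix (Fin n) (Fin n) F) := by
        rw [mul_sub, e, sub_mul, Matrix.mul_smul, mul_one, Matrix.smul_mul, one_mul, sub_sub_cancel]
      calc _ = ((g⁻¹ : GL (Fin n) F) : Matrix (Fin n) (Fin n) F) * (j * (g : Matrix (Fin n) (Fin n) F)) *
            ((g⁻¹ : GL (Fin n) F) : Matrix (Fin n) (Fin n) F) := by simp only [mul_assoc, hgg', mul_one]
        _ = _ := by rw [← e', ← mul_assoc, hgg, one_mul]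
  intro k
  refine ⟨fun hk => fwd g h k hk, fun hk => ?_⟩
  have h2 := fwd g⁻¹ hinv _ hk
  rw [inv_inv] at h2
  simpa [mul_assoc, ← Units.val_mul] using h2

theorem relation_of_mem_normalizer {K : Subalgebra F (Matrix (Fin n) (Fin n) F)}
    (hK : Cfsg.Geo.IsFieldSubalgebra 2 K) {j : Matrix (Fin n) (Fin n) F} {α β : F}
    (hjK : j ∈ K) (hjj : j * j = β • 1 + α • j) (g : GL (Fin n) F)
    (hg : g ∈ Cfsg.Geo.subalgebraNormalizer K) :
    (g : Matrix (Fin n) (Fin n) F) * j = j * (g : Matrix (Fin n) (Fin n) F) ∨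
      (g : Matrix (Fin n) (Fin n) F) * j = (α • 1 - j) * (g : Matrix (Fin n) (Fin n) F) := by
  set G := (g : Matrix (Fin n) (Fin n) F)
  set G' := ((g⁻¹ : GL (Fin n) F) : Matrix (Fin n) (Fin n) F)
  have hgg : G' * G = 1 := by rw [← Units.val_mul, inv_mul_cancel, Units.val_one]
  have hgg' : G * G' = 1 := by rw [← Units.val_mul, mul_inv_cancel, Units.val_one]
  have hk : G * j * G' ∈ K := (hg j).1 hjK
  have hkk : G * j * G' * (G * j * G') = β • 1 + α • (G * j * G') := by
    calc _ = G * (j * (G' * G) * j) * G' := by simp only [mul_assoc]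
      _ = G * (β • 1 + α • j) * G' := by rw [hgg, mul_one, hjj]
      _ = _ := by rw [mul_add, Matrix.mul_smul, Matrix.mul_smul, mul_one, add_mul, Matrix.smul_mul,
          Matrix.smul_mul, hgg']
  set k := G * j * G' with hkdef
  have hcomm := hK.comm k hk j hjK
  have h0 : (k - (α • 1 - j)) * (k - j) = 0 := by
    simp only [sub_mul, mul_sub, Matrix.smul_mul, one_mul, hkk, hjj, hcomm]
    abel
  have hback : ∀ m, k = m → G * j = m * G := fun m e => by
    rw [← e, hkdef, mul_assoc _ G' G, hgg, mul_one]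
  by_cases hne : k = j
  · exact Or.inl (hback j hne)
  · obtain ⟨y, -, hy⟩ := hK.inv _ (K.sub_mem hk hjK) (sub_ne_zero.2 hne)
    refine Or.inr (hback _ (sub_eq_zero.1 ?_))
    have h := congrArg (fun A => A * y) h0
    simp only [mul_assoc, hy, mul_one, zero_mul] at h
    exact h

/-- Conjugation into the normaliser from a block normal form. -/
theorem conj_of_form [Nonempty ι] {K : Subalgebra F (Matrix (Fin n) (Fin n) F)} {j : Matrix (Fin n) (Fin n) F}
    {α β : F} (hroot : ∀ t : F, t ^ 2 ≠ β + α * t) (h2 : (2 : F) ≠ 0 → α = 0)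
    (hjK : j ∈ K) (hspan : ∀ k ∈ K, ∃ a b : F, k = a • 1 + b • j)
    (σ : Fin 2 × ι ≃ Fin n) (x : Matrix.SpecialLinearGroup (Fin n) F) (M : ι → Matrix (Fin 2) (Fin 2) F)
    (V W : GL (Fin n) F)
    (hV : (x : Matrix (Fin n) (Fin n) F) * (V : Matrix (Fin n) (Fin n) F) =
      (V : Matrix (Fin n) (Fin n) F) * Matrix.reindex σ σ (Matrix.blockDiagonal M))
    (hW : j * (W : Matrix (Fin n) (Fin n) F) = (W : Matrix (Fin n) (Fin n) F) *
      Matrix.reindex σ σ (Matrix.blockDiagonal fun _ : ι => (!![0, β; 1, α] : Matrix (Fin 2) (Fin 2) F)))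
    (hM : (∀ i, M i * !![0, β; 1, α] = !![0, β; 1, α] * M i) ∨
      (∀ i, M i * !![0, β; 1, α] = (α • 1 - !![0, β; 1, α]) * M i)) :
    ∃ P : Matrix.SpecialLinearGroup (Fin n) F, P⁻¹ * x * P ∈ ((Cfsg.Geo.subalgebraNormalizer K).comap
      (Matrix.SpecialLinearGroup.toGL : Matrix.SpecialLinearGroup (Fin n) F →* GL (Fin n) F)) := by
  classical
  set J0 : Matrix (Fin 2) (Fin 2) F := !![0, β; 1, α]
  let R : (ι → Matrix (Fin 2) (Fin 2) F) → Matrix (Fin n) (Fin n) F := fun N =>
    Matrix.reindex σ σ (Matrix.blockDiagonal N)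
  have hRmul : ∀ N N', R (fun i => N i * N' i) = R N * R N' := fun N N' => by
    simp only [R, Matrix.reindex_apply, Matrix.submatrix_mul_equiv, ← Matrix.blockDiagonal_mul]
  have hRsub : R (fun _ => α • 1 - J0) = α • 1 - R (fun _ => J0) := by
    simp only [R, Matrix.reindex_apply]
    rw [show (fun _ : ι => α • (1 : Matrix (Fin 2) (Fin 2) F) - J0) = α • (1 : ι → Matrix (Fin 2) (Fin 2) F) - (fun _ => J0) from rfl,
      Matrix.blockDiagonal_sub, Matrix.blockDiagonal_smul, Matrix.blockDiagonal_one, Matrix.submatrix_sub]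
    show (α • (1 : Matrix (Fin 2 × ι) (Fin 2 × ι) F).submatrix σ.symm σ.symm) - _ = _
    rw [Matrix.submatrix_one_equiv]
  set Wm := (W : Matrix (Fin n) (Fin n) F)
  set W' := ((W⁻¹ : GL (Fin n) F) : Matrix (Fin n) (Fin n) F)
  set Vm := (V : Matrix (Fin n) (Fin n) F)
  set V' := ((V⁻¹ : GL (Fin n) F) : Matrix (Fin n) (Fin n) F)
  have hWW : W' * Wm = 1 := by rw [← Units.val_mul, inv_mul_cancel, Units.val_one]
  have hWW' : Wm * W' = 1 := by rw [← Units.val_mul, mul_inv_cancel, Units.val_one]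
  -- the determinant is corrected inside the centralizer
  have hd : Vm.det / Wm.det ≠ 0 := div_ne_zero ((Matrix.isUnit_iff_isUnit_det _).1 V.isUnit).ne_zero
    ((Matrix.isUnit_iff_isUnit_det _).1 W.isUnit).ne_zero
  obtain ⟨C0, hC0d, hC0J⟩ : ∃ C0 : Matrix (Fin 2) (Fin 2) F, C0.det = (Vm.det / Wm.det)⁻¹ ∧ C0 * J0 = J0 * C0 := by
    obtain ⟨a, b, hab⟩ : ∃ a b : F, a ^ 2 + α * a * b - β * b ^ 2 = (Vm.det / Wm.det)⁻¹ := by
      by_cases hc : (2 : F) = 0
      · have hc' : ringChar F = 2 := by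
          by_contra hne
          exact Ring.two_ne_zero hne hc
        obtain ⟨a, ha⟩ := FiniteField.isSquare_of_char_two hc' (Vm.det / Wm.det)⁻¹
        exact ⟨a, 0, by rw [ha]; ring⟩
      · obtain ⟨a, b, hab⟩ := SympConj.exists_form_value (z := β) (d := (Vm.det / Wm.det)⁻¹)
          (fun _ e => hroot 0 (by rw [e]; ring))
        exact ⟨a, b, by rw [h2 hc]; linear_combination hab⟩
    refine ⟨!![a, b * β; b, a + b * α], ?_, ?_⟩
    · rw [Matrix.det_fin_two_of]; linear_combination hab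
    · ext k l; fin_cases k <;> fin_cases l <;> simp [J0, Matrix.mul_apply, Fin.sum_univ_two] <;> ring
  let i0 : ι := Classical.arbitrary ι
  let Cb : ι → Matrix (Fin 2) (Fin 2) F := Function.update (fun _ => 1) i0 C0
  have hCd : (R Cb).det = (Vm.det / Wm.det)⁻¹ := by
    show (Matrix.reindex σ σ (Matrix.blockDiagonal Cb)).det = _
    rw [Matrix.det_reindex_self, Matrix.det_blockDiagonal, Finset.prod_eq_single i0
      (fun l _ hl => by simp [Cb, hl]) (by simp)]
    simp [Cb, hC0d]
  have hCJ : R Cb * R (fun _ => J0) = R (fun _ => J0) * R Cb := by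
    rw [← hRmul, ← hRmul]
    congr 1
    funext i
    by_cases h : i = i0
    · subst h; simp [Cb, hC0J]
    · simp [Cb, h]
  let P : Matrix.SpecialLinearGroup (Fin n) F := ⟨Vm * R Cb * W', by
    rw [Matrix.det_mul, Matrix.det_mul, hCd]
    have e : Wm.det * W'.det = 1 := by rw [← Matrix.det_mul, hWW', Matrix.det_one]
    have hW0 : Wm.det ≠ 0 := left_ne_zero_of_mul_eq_one e
    have hV0 : Vm.det ≠ 0 := ((Matrix.isUnit_iff_isUnit_det _).1 V.isUnit).ne_zero
    rw [eq_inv_of_mul_eq_one_right e]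
    field_simp⟩
  refine ⟨P, ?_⟩
  set y := (((P⁻¹ * x * P : Matrix.SpecialLinearGroup (Fin n) F)) : Matrix (Fin n) (Fin n) F)
  have hy : R Cb * W' * y = R M * (R Cb * W') := by
    have h1 : (P : Matrix (Fin n) (Fin n) F) * y = (x : Matrix (Fin n) (Fin n) F) * (P : Matrix (Fin n) (Fin n) F) := by
      rw [← Matrix.SpecialLinearGroup.coe_mul, ← Matrix.SpecialLinearGroup.coe_mul]
      congr 1
      rw [← mul_assoc, ← mul_assoc, mul_inv_cancel, one_mul]
    have hVV : V' * Vm = 1 := by rw [← Units.val_mul, inv_mul_cancel, Units.val_one]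
    have h2 : Vm * (R Cb * W' * y) = Vm * (R M * (R Cb * W')) := by
      rw [← mul_assoc, ← mul_assoc Vm (R Cb) W', ← mul_assoc Vm (R M), ← hV]
      exact h1.trans (by show _ * (Vm * R Cb * W') = _; simp only [mul_assoc])
    have h3 := congrArg (fun A => V' * A) h2
    simp only [← mul_assoc, hVV, one_mul] at h3
    simpa only [mul_assoc] using h3
  -- the relation with `j`
  set U := R Cb * W' with hU
  have hUj : U * j = R (fun _ => J0) * U := by
    have e : W' * j = R (fun _ => J0) * W' := by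
      calc W' * j = W' * (j * Wm) * W' := by simp only [mul_assoc, hWW', mul_one]
        _ = W' * (Wm * R (fun _ => J0)) * W' := by rw [hW]
        _ = _ := by rw [← mul_assoc W', hWW, one_mul]
    rw [hU, mul_assoc, e, ← mul_assoc, hCJ, mul_assoc]
  have hUu : IsUnit U := by
    rw [Matrix.isUnit_iff_isUnit_det, hU, Matrix.det_mul, hCd]
    exact (isUnit_iff_ne_zero.2 (inv_ne_zero hd)).mul ((Matrix.isUnit_iff_isUnit_det _).1 (W⁻¹).isUnit)
  refine mem_normalizer (α := α) hjK hspan _ ?_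
  rw [Matrix.SpecialLinearGroup.coe_GL_coe_matrix]
  rcases hM with hM | hM
  · refine Or.inl (hUu.mul_left_cancel ?_)
    calc U * (y * j) = R M * (U * j) := by rw [← mul_assoc, hy, mul_assoc]
      _ = (R M * R fun _ => J0) * U := by rw [hUj, mul_assoc]
      _ = (R (fun _ => J0) * R M) * U := by rw [← hRmul, ← hRmul]; congr 2; exact funext hM
      _ = U * (j * y) := by rw [mul_assoc, ← hy, ← mul_assoc, ← hUj, mul_assoc]
  · refine Or.inr (hUu.mul_left_cancel ?_)
    calc U * (y * j) = R M * (U * j) := by rw [← mul_assoc, hy, mul_assoc]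
      _ = (R M * R fun _ => J0) * U := by rw [hUj, mul_assoc]
      _ = ((α • 1 - R (fun _ => J0)) * R M) * U := by
        rw [← hRsub, ← hRmul, ← hRmul]; congr 2; exact funext hM
      _ = U * ((α • 1 - j) * y) := by
        rw [mul_assoc, ← hy, sub_mul, Matrix.smul_mul, one_mul, ← mul_assoc, ← hUj, sub_mul, Matrix.smul_mul,
          one_mul, mul_sub, Matrix.mul_smul, mul_assoc U]

end Cfsg.Agent.ClMax99.Ext2
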