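import Cfsg.Agent.ClMax99.InvSL

/-!
Invariant complements and the number of complementary pairs (helper99).
-/

set_option autoImplicit false
set_option linter.unusedSectionVars false

namespace Cfsg.Agent.ClMax99.Inv

open Module

variable {F : Type*} [Field F] {V : Type*} [AddCommGroup V] [Module F V] [FiniteDimensional F V]

theorem exists_invariant_compl {f : Module.End F V} {r : ℕ} {z : F} (hrF : (r : F) ≠ 0) (hz : z ≠ 0)
    (hf : f ^ r = z • 1) {U : Submodule F V} (hU : U.map f ≤ U) :
    ∃ W : Submodule F V, IsCompl U W ∧ W.map f ≤ W := by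
  obtain ⟨π₀, hπ₀⟩ := U.subtype.exists_leftInverse_of_injective U.ker_subtype
  set π : Module.End F V := U.subtype ∘ₗ π₀ with hπ
  have hπU : ∀ u ∈ U, π u = u := fun u hu => by
    have := LinearMap.congr_fun hπ₀ ⟨u, hu⟩
    simpa [hπ] using congrArg Subtype.val this
  have hUpow : ∀ (j : ℕ) (u : V), u ∈ U → (f ^ j) u ∈ U := by
    intro j
    induction j with
    | zero => simp
    | succ j ih => intro u hu; rw [pow_succ', Module.End.mul_apply]; exact hU ⟨_, ih u hu, rfl⟩
  let g : ℕ → Module.End F V := fun j => f ^ j * π * f ^ (r - j)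
  set S := ∑ j ∈ Finset.range r, g j with hS
  have hc : f * S = S * f := by
    have h1 : ∀ j ∈ Finset.range r, f * g j = g (j + 1) * f := fun j hj => by
      rw [Finset.mem_range] at hj
      simp only [g]
      rw [show r - j = r - (j + 1) + 1 by omega, pow_succ _ (r - (j + 1)), pow_succ' f j]
      simp only [mul_assoc]
    have h0 : g r * f = g 0 * f := by
      simp only [g, Nat.sub_self, pow_zero, Nat.sub_zero, one_mul, mul_one, hf,
        smul_mul_assoc, mul_smul_comm]
    have h2 : ∑ j ∈ Finset.range r, g (j + 1) * f = ∑ j ∈ Finset.range r, g j * f := by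
      have e1 := Finset.sum_range_succ' (fun j => g j * f) r
      have e2 := Finset.sum_range_succ (fun j => g j * f) r
      rw [e1, h0] at e2
      exact add_right_cancel e2
    rw [hS, Finset.mul_sum, Finset.sum_congr rfl h1, h2, Finset.sum_mul]
  set P : Module.End F V := ((r : F) * z)⁻¹ • S with hP
  have hrz : (r : F) * z ≠ 0 := mul_ne_zero hrF hz
  have hSU : ∀ u ∈ U, S u = ((r : F) * z) • u := by
    intro u hu
    rw [hS, LinearMap.sum_apply, Finset.sum_congr rfl (fun j hj => show g j u = z • u by
      simp only [g, Module.End.mul_apply]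
      rw [hπU _ (hUpow _ _ hu), ← Module.End.mul_apply, ← pow_add,
        Nat.add_sub_cancel' (Finset.mem_range.mp hj).le, hf, LinearMap.smul_apply, Module.End.one_apply]),
      Finset.sum_const, Finset.card_range, ← Nat.cast_smul_eq_nsmul F, smul_smul]
  have hproj : LinearMap.IsProj U P := by
    refine ⟨fun x => ?_, fun u hu => ?_⟩
    · rw [hP, LinearMap.smul_apply, hS, LinearMap.sum_apply]
      refine U.smul_mem _ (U.sum_mem fun j _ => ?_)
      simp only [g, Module.End.mul_apply]
      exact hUpow _ _ (π₀ _).2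
    · rw [hP, LinearMap.smul_apply, hSU u hu, smul_smul, inv_mul_cancel₀ hrz, one_smul]
  refine ⟨LinearMap.ker P, hproj.isCompl, ?_⟩
  rintro _ ⟨x, hx, rfl⟩
  rw [LinearMap.mem_ker]
  have h : P (f x) = f (P x) := by
    rw [hP, LinearMap.smul_apply, LinearMap.smul_apply, map_smul, ← Module.End.mul_apply, ← hc,
      Module.End.mul_apply]
  rw [h, LinearMap.mem_ker.mp hx, map_zero]

/-- A prime other than the characteristic dividing the number of complementary pairs. -/
theorem exists_dvd_of_dvd_card_compl [Fintype F] [Fintype V] {N : ℕ} (hN : finrank F V = N) (m : ℕ)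
    (hm : m ≤ N) {r p : ℕ} [Fact p.Prime] [CharP F p] (hr : r.Prime) (hrp : r ≠ p)
    (h : r ∣ Nat.card {P : Submodule F V × Submodule F V // IsCompl P.1 P.2 ∧ finrank F P.1 = m}) :
    ∃ k, N - m < k ∧ k ≤ N ∧ r ∣ Fintype.card F ^ k - 1 := by
  classical
  refine exists_dvd_of_dvd_card hN m hm hr ?_
  let T := {U : Submodule F V // finrank F U = m}
  have e : {P : Submodule F V × Submodule F V // IsCompl P.1 P.2 ∧ finrank F P.1 = m} ≃
      Σ U : T, {W : Submodule F V // IsCompl U.1 W} :=
    { toFun := fun P => ⟨⟨P.1.1, P.2.2⟩, P.1.2, P.2.1⟩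
      invFun := fun x => ⟨(x.1.1, x.2.1), x.2.2, x.1.2⟩
      left_inv := fun _ => rfl
      right_inv := fun _ => rfl }
  haveI : Fintype T := Fintype.ofFinite _
  rw [Nat.card_congr e, Nat.card_sigma] at h
  by_contra hcon
  have hex : ∀ U : T, Nat.card {W : Submodule F V // IsCompl U.1 W} = Fintype.card F ^ (m * (N - m)) := by
    rintro ⟨U, hU⟩
    obtain ⟨g₀, hg₀⟩ := U.subtype.exists_leftInverse_of_injective U.ker_subtype
    haveI : Finite (V →ₗ[F] U) := Module.finite_of_finite F
    let res : (V →ₗ[F] U) →ₗ[F] (U →ₗ[F] U) :=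
      { toFun := fun g => g ∘ₗ U.subtype
        map_add' := fun _ _ => rfl
        map_smul' := fun _ _ => rfl }
    have hs : Function.Surjective res := fun φ => ⟨φ ∘ₗ g₀, by
      show (φ ∘ₗ g₀) ∘ₗ U.subtype = φ
      rw [LinearMap.comp_assoc, hg₀, LinearMap.comp_id]⟩
    have hd := LinearMap.finrank_range_add_finrank_ker res
    rw [LinearMap.range_eq_top.mpr hs, finrank_top, Module.finrank_linearMap, Module.finrank_linearMap,
      hU, hN] at hd
    have hk : finrank F (LinearMap.ker res) = m * (N - m) := by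
      rw [Nat.mul_sub, mul_comm m N]; omega
    have hg : ∀ x : U, g₀ x = x := fun x => LinearMap.congr_fun hg₀ x
    rw [← hk, ← Nat.card_eq_fintype_card, ← Module.natCard_eq_pow_finrank (K := F) (V := LinearMap.ker res), Nat.card_congr U.isComplEquivProj]
    exact Nat.card_congr
      { toFun := fun g => ⟨g.1 - g₀, LinearMap.mem_ker.mpr (LinearMap.ext fun x => by
          show g.1 (x : V) - g₀ (x : V) = 0
          rw [g.2 x, hg x, sub_self])⟩
        invFun := fun k => ⟨(k : V →ₗ[F] U) + g₀, fun x => by
          have h : (k : V →ₗ[F] U) (x : V) = 0 := LinearMap.congr_fun (LinearMap.mem_ker.mp k.2) x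
          rw [LinearMap.add_apply, h, zero_add, hg x]⟩
        left_inv := fun g => Subtype.ext (sub_add_cancel _ _)
        right_inv := fun k => Subtype.ext (add_sub_cancel_right _ _) }
  rw [Finset.sum_congr rfl (fun U _ => hex U), Finset.sum_const, Finset.card_univ, smul_eq_mul,
    ← Nat.card_eq_fintype_card] at h
  rcases hr.dvd_mul.mp h with h | h
  · exact hcon h
  · obtain ⟨f, -, hf⟩ := FiniteField.card F p
    rw [hf, ← pow_mul] at h
    exact hrp ((Nat.prime_dvd_prime_iff_eq hr Fact.out).mp (hr.dvd_of_dvd_pow h))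

end Cfsg.Agent.ClMax99.Inv
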