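import Cfsg.Agent.ClMax99.InvElt

/-!
Divisibility of numbers of subspaces, and elements of `SL_n(q)` of prime order modulo scalars (helper99).
-/

set_option autoImplicit false
set_option linter.unusedSectionVars false

namespace Cfsg.Agent.ClMax99.Inv

open Module

variable {F : Type*} [Field F] [Fintype F] {V : Type*} [AddCommGroup V] [Module F V] [Fintype V]

theorem card_subspaces_mul (m : ℕ) (hm : m ≤ finrank F V) :
    Nat.card {W : Submodule F V // finrank F W = m} *
        (∏ j : Fin m, (Fintype.card F ^ m - Fintype.card F ^ (j : ℕ))) =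
      ∏ j : Fin m, (Fintype.card F ^ finrank F V - Fintype.card F ^ (j : ℕ)) := by
  classical
  haveI : Module.Finite F V := Module.Finite.of_finite
  rw [← card_linearIndependent (K := F) (V := V) hm]
  let π : {s : Fin m → V // LinearIndependent F s} → {W : Submodule F V // finrank F W = m} :=
    fun s => ⟨Submodule.span F (Set.range s.1),
      by rw [finrank_span_eq_card s.2, Fintype.card_fin]⟩
  have hfib : ∀ W, Nat.card {s // π s = W} = ∏ j : Fin m, (Fintype.card F ^ m - Fintype.card F ^ (j : ℕ)) := by
    rintro ⟨W, hW⟩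
    haveI : Fintype W := Fintype.ofFinite _
    refine (Nat.card_congr ?_).trans ((card_linearIndependent (K := F) (V := W) hW.ge).trans (by rw [hW]))
    exact
      { toFun := fun s => ⟨fun j => ⟨s.1.1 j, by
            have h : Submodule.span F (Set.range s.1.1) = W := congrArg Subtype.val s.2
            exact le_of_eq h (Submodule.subset_span ⟨j, rfl⟩)⟩,
          LinearIndependent.of_comp W.subtype s.1.2⟩
        invFun := fun t => ⟨⟨fun j => (t.1 j : V), t.2.map' W.subtype W.ker_subtype⟩, by
          apply Subtype.ext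
          show Submodule.span F (Set.range fun j => (t.1 j : V)) = W
          apply Submodule.eq_of_le_of_finrank_eq
          · rw [Submodule.span_le]
            rintro _ ⟨j, rfl⟩
            exact (t.1 j).2
          · have h2 := finrank_span_eq_card (R := F) (t.2.map' W.subtype W.ker_subtype)
            rw [Fintype.card_fin] at h2
            rw [hW]
            exact h2⟩
        left_inv := fun s => rfl
        right_inv := fun t => rfl }
  haveI : Fintype {W : Submodule F V // finrank F W = m} := Fintype.ofFinite _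
  rw [← Nat.card_congr (Equiv.sigmaFiberEquiv π), Nat.card_sigma, Finset.sum_congr rfl (fun W _ => hfib W),
    Finset.sum_const, Finset.card_univ, smul_eq_mul, Nat.card_eq_fintype_card]

theorem subspaces_div {N : ℕ} (hN : finrank F V = N) (m : ℕ) (hm : m ≤ N) :
    Nat.card {W : Submodule F V // finrank F W = m} * (∏ j : Fin m, (Fintype.card F ^ (m - j) - 1)) =
      ∏ j : Fin m, (Fintype.card F ^ (N - j) - 1) := by
  have h := card_subspaces_mul (F := F) (V := V) m (hN ▸ hm)
  have key : ∀ M, m ≤ M → ∏ j : Fin m, (Fintype.card F ^ M - Fintype.card F ^ (j : ℕ)) =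
      (∏ j : Fin m, Fintype.card F ^ (j : ℕ)) * ∏ j : Fin m, (Fintype.card F ^ (M - j) - 1) := by
    intro M hM
    rw [← Finset.prod_mul_distrib]
    refine Finset.prod_congr rfl fun j _ => ?_
    have := j.2
    rw [Nat.mul_sub, mul_one, ← pow_add, Nat.add_sub_cancel' (by omega)]
  rw [hN, key N hm, key m le_rfl, mul_left_comm] at h
  exact Nat.eq_of_mul_eq_mul_left (Finset.prod_pos fun j _ => Nat.pow_pos Fintype.card_pos) h

theorem card_subspaces_congr {V' : Type*} [AddCommGroup V'] [Module F V'] [Fintype V'] {N : ℕ}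
    (hN : finrank F V = N) (hN' : finrank F V' = N) (m : ℕ) (hm : m ≤ N) :
    Nat.card {W : Submodule F V // finrank F W = m} = Nat.card {W : Submodule F V' // finrank F W = m} := by
  apply Nat.eq_of_mul_eq_mul_right (m := ∏ j : Fin m, (Fintype.card F ^ (m - j) - 1))
  · refine Finset.prod_pos fun j _ => ?_
    have h1 : 1 < Fintype.card F ^ (m - (j : ℕ)) :=
      Nat.one_lt_pow (by have := j.2; omega) Fintype.one_lt_card
    omega
  · rw [subspaces_div hN m hm, subspaces_div hN' m hm]

/-- A prime dividing the number of `m`-subspaces divides some `q^k - 1` with `N - m < k ≤ N`. -/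
theorem exists_dvd_of_dvd_card {N : ℕ} (hN : finrank F V = N) (m : ℕ) (hm : m ≤ N) {r : ℕ}
    (hr : r.Prime) (h : r ∣ Nat.card {W : Submodule F V // finrank F W = m}) :
    ∃ k, N - m < k ∧ k ≤ N ∧ r ∣ Fintype.card F ^ k - 1 := by
  have h' : r ∣ ∏ j : Fin m, (Fintype.card F ^ (N - j) - 1) :=
    subspaces_div hN m hm ▸ h.mul_right _
  obtain ⟨j, -, hj⟩ := (Nat.Prime.prime hr).exists_mem_finset_dvd h'
  refine ⟨N - j, ?_, Nat.sub_le _ _, hj⟩
  have := j.2
  omega

theorem card_subspaces_symm {N : ℕ} (hN : finrank F V = N) (m : ℕ) (hm : m ≤ N) :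
    Nat.card {W : Submodule F V // finrank F W = N - m} =
      Nat.card {W : Submodule F V // finrank F W = m} := by
  haveI : Module.Finite F V := Module.Finite.of_finite
  haveI : Finite (Module.Dual F V) := Module.finite_of_finite F
  haveI : Fintype (Module.Dual F V) := Fintype.ofFinite _
  have hN' : finrank F (Module.Dual F V) = N := by rw [Subspace.dual_finrank_eq, hN]
  rw [card_subspaces_congr (V := V) (V' := Module.Dual F V) hN hN' m hm]
  refine Nat.card_congr (Equiv.subtypeEquiv
    ((Subspace.orderIsoFiniteDimensional (K := F) (V := V)).toEquiv.trans OrderDual.ofDual) fun W => ?_)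
  have h := Subspace.finrank_add_finrank_dualAnnihilator_eq W
  show finrank F W = N - m ↔ finrank F W.dualAnnihilator = m
  omega

/-- A prime dividing the number of flags of dimensions `m ≤ N - m`. -/
theorem exists_dvd_of_dvd_card_pairs {N : ℕ} (hN : finrank F V = N) (m : ℕ) (hm : 2 * m ≤ N) {r : ℕ}
    (hr : r.Prime) (h : r ∣ Nat.card {P : Submodule F V × Submodule F V //
      P.1 ≤ P.2 ∧ finrank F P.1 = m ∧ finrank F P.2 = N - m}) :
    ∃ k, N - 2 * m < k ∧ k ≤ N ∧ r ∣ Fintype.card F ^ k - 1 := by
  classical
  haveI : Module.Finite F V := Module.Finite.of_finite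
  let T := {U : Submodule F V // finrank F U = m}
  have e : {P : Submodule F V × Submodule F V //
      P.1 ≤ P.2 ∧ finrank F P.1 = m ∧ finrank F P.2 = N - m} ≃
      Σ U : T, {W : Submodule F (V ⧸ U.1) // finrank F W = N - 2 * m} :=
    { toFun := fun P => ⟨⟨P.1.1, P.2.2.1⟩, ⟨P.1.2.map P.1.1.mkQ, by
        have h1 := LinearMap.finrank_range_add_finrank_ker (P.1.1.mkQ.domRestrict P.1.2)
        rw [LinearMap.range_domRestrict, LinearMap.ker_domRestrict, Submodule.ker_mkQ,
          (Submodule.comapSubtypeEquivOfLe P.2.1).finrank_eq, P.2.2.1, P.2.2.2] at h1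
        show finrank F ↥(P.1.2.map P.1.1.mkQ) = N - 2 * m
        omega⟩⟩
      invFun := fun x => ⟨(x.1.1, x.2.1.comap x.1.1.mkQ), by
        have hle : x.1.1 ≤ x.2.1.comap x.1.1.mkQ := x.1.1.le_comap_mkQ _
        refine ⟨hle, x.1.2, ?_⟩
        have h1 := LinearMap.finrank_range_add_finrank_ker
          (x.1.1.mkQ.domRestrict (x.2.1.comap x.1.1.mkQ))
        rw [LinearMap.range_domRestrict, LinearMap.ker_domRestrict, Submodule.ker_mkQ,
          (Submodule.comapSubtypeEquivOfLe hle).finrank_eq, x.1.2,
          Submodule.map_comap_eq_of_surjective x.1.1.mkQ_surjective, x.2.2] at h1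
        show finrank F ↥(x.2.1.comap x.1.1.mkQ) = N - m
        omega⟩
      left_inv := fun P => by
        apply Subtype.ext
        apply Prod.ext
        · rfl
        · show (P.1.2.map P.1.1.mkQ).comap P.1.1.mkQ = P.1.2
          rw [Submodule.comap_map_eq, Submodule.ker_mkQ]
          exact sup_eq_left.mpr P.2.1
      right_inv := fun x => by
        obtain ⟨U, W⟩ := x
        exact Sigma.ext rfl (heq_of_eq (Subtype.ext
          (Submodule.map_comap_eq_of_surjective U.1.mkQ_surjective _))) }
  by_contra hcon
  push Not at hcon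
  have hfib : ∀ U : T, Nat.card {W : Submodule F (V ⧸ U.1) // finrank F W = N - 2 * m} =
      Nat.card {W : Submodule F (Fin (N - m) → F) // finrank F W = m} := by
    rintro ⟨U, hU⟩
    haveI : Fintype (V ⧸ U) := Fintype.ofFinite _
    have hq : finrank F (V ⧸ U) = N - m := by
      have := U.finrank_quotient_add_finrank
      omega
    show Nat.card {W : Submodule F (V ⧸ U) // finrank F W = N - 2 * m} = _
    rw [show N - 2 * m = (N - m) - m by omega, card_subspaces_symm hq m (by omega)]
    exact card_subspaces_congr hq (Module.finrank_fin_fun F) m (by omega)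
  haveI : Fintype T := Fintype.ofFinite _
  rw [Nat.card_congr e, Nat.card_sigma, Finset.sum_congr rfl (fun U _ => hfib U), Finset.sum_const,
    Finset.card_univ, smul_eq_mul, ← Nat.card_eq_fintype_card] at h
  rcases hr.dvd_mul.mp h with h | h
  · obtain ⟨k, h1, h2, h3⟩ := exists_dvd_of_dvd_card hN m (by omega) hr h
    exact hcon k (by omega) h2 h3
  · obtain ⟨k, h1, h2, h3⟩ := exists_dvd_of_dvd_card (Module.finrank_fin_fun F) m (by omega) hr h
    exact hcon k (by omega) (by omega) h3

end Cfsg.Agent.ClMax99.Inv
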