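import Cfsg.Agent.ClMax99.InvSub

/-!
Elements of prime order modulo scalars in `SL_n(q)`: their invariant subspaces and their existence (helper99).
-/

set_option autoImplicit false
set_option linter.unusedSectionVars false

namespace Cfsg.Agent.ClMax99.Inv

open Polynomial Module

variable {F : Type*} [Field F] {V : Type*} [AddCommGroup V] [Module F V] [FiniteDimensional F V]
  {r : ℕ} [hr : Fact r.Prime]

theorem irreducible_of_nonpower {z : F} (hz : ∀ w : F, w ^ r ≠ z) : Irreducible (X ^ r - C z) :=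
  X_pow_sub_C_irreducible_of_prime hr.out hz

theorem aeval_nonpower {f : Module.End F V} {z : F} (hf : f ^ r = z • 1) (v : V) :
    aeval f ([X ^ r - C z] : List F[X]).prod v = 0 := by
  simp [hf, Module.algebraMap_end_eq_smul_id]

theorem dvd_finrank_of_nonpower {f : Module.End F V} {z : F} (hz : ∀ w : F, w ^ r ≠ z)
    (hf : f ^ r = z • 1) {W : Submodule F V} (hW : W.map f ≤ W) : r ∣ finrank F W := by
  obtain ⟨k, hk⟩ := dvd_sub_finrank (f := f) [X ^ r - C z] (by simpa using irreducible_of_nonpower hz)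
    (d := r) (by simp) (W := (⊥ : Submodule F V)) (by simp) hW bot_le
    (fun v _ => (aeval_nonpower hf v).symm ▸ zero_mem _)
  rw [hk, finrank_bot, zero_add]
  exact dvd_mul_left _ _

theorem exists_invariant_nonpower {f : Module.End F V} {z : F} (hz : ∀ w : F, w ^ r ≠ z)
    (hf : f ^ r = z • 1) {a b : ℕ} (ha : r ∣ a) (hb : r ∣ b) (hab : a ≤ b) (hbn : b ≤ finrank F V) :
    ∃ U W : Submodule F V, U ≤ W ∧ U.map f ≤ U ∧ W.map f ≤ W ∧ finrank F U = a ∧ finrank F W = b := by
  obtain ⟨k, rfl⟩ := ha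
  obtain ⟨l, rfl⟩ := hb
  have hL : ∀ g ∈ ([X ^ r - C z] : List F[X]), Irreducible g := by
    simpa using irreducible_of_nonpower hz
  obtain ⟨U, -, -, hU, hUd⟩ := exists_chain (f := f) [X ^ r - C z] hL (d := r) (by simp)
    (W := (⊥ : Submodule F V)) (R := (⊤ : Submodule F V))
    (by simp) (by simp) bot_le (fun v _ => (aeval_nonpower hf v).symm ▸ zero_mem _) k
    (by rw [finrank_bot, finrank_top, mul_comm]; omega)
  rw [finrank_bot, zero_add, mul_comm] at hUd
  obtain ⟨W, hUW, -, hW, hWd⟩ := exists_chain (f := f) [X ^ r - C z] hL (d := r) (by simp) (W := U)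
    (R := (⊤ : Submodule F V))
    hU (by simp) le_top (fun v _ => (aeval_nonpower hf v).symm ▸ zero_mem _) (l - k)
    (by rw [hUd, finrank_top, mul_comm (l - k) r, Nat.mul_sub]; omega)
  refine ⟨U, W, hUW, hU, hW, hUd, ?_⟩
  rw [hWd, hUd, mul_comm (l - k) r, ← Nat.mul_add, Nat.add_sub_cancel' (Nat.le_of_mul_le_mul_left hab hr.out.pos)]

theorem eq_pow_of_roots {h P : F[X]} (hh : Irreducible h) (hhm : h.Monic) (hP : P.Monic)
    (hroots : ∀ μ : AlgebraicClosure F, aeval μ P = 0 → aeval μ h = 0) :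
    ∃ k, P = h ^ k := by
  induction hd : P.natDegree using Nat.strongRecOn generalizing P with
  | _ N ih =>
    by_cases h0 : P.natDegree = 0
    · exact ⟨0, by rw [pow_zero]; exact hP.natDegree_eq_zero.mp h0⟩
    · obtain ⟨μ, hμ⟩ := IsAlgClosed.exists_aeval_eq_zero (AlgebraicClosure F) P
        (by intro e; exact h0 (natDegree_eq_zero_iff_degree_le_zero.mpr e.le))
      have hmin : minpoly F μ = h :=
        (minpoly.eq_of_irreducible_of_monic hh (hroots μ hμ) hhm).symm
      obtain ⟨Q, hQ⟩ := hmin ▸ minpoly.dvd F μ hμ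
      have hQm : Q.Monic := hhm.of_mul_monic_left (hQ ▸ hP)
      have hdeg : P.natDegree = h.natDegree + Q.natDegree := by
        rw [hQ, natDegree_mul hh.ne_zero hQm.ne_zero]
      obtain ⟨k, hk⟩ := ih Q.natDegree (by have := hh.natDegree_pos; omega) hQm
        (fun ν hν => hroots ν (by rw [hQ, map_mul, hν, mul_zero])) rfl
      exact ⟨k + 1, by rw [hQ, hk, pow_succ']⟩

theorem det_of_nonpower {n : ℕ} {A : Matrix (Fin n) (Fin n) F} {z : F} (hz : ∀ w : F, w ^ r ≠ z)
    (hA : A ^ r = z • 1) : ∃ k, n = r * k ∧ A.det = ((-1) ^ (r + 1) * z) ^ k := by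
  have hroots : ∀ μ : AlgebraicClosure F, aeval μ A.charpoly = 0 → aeval μ (X ^ r - C z) = 0 := by
    intro μ hμ
    set φ := algebraMap F (AlgebraicClosure F) with hφ
    have hroot : (A.map φ).charpoly.IsRoot μ := by
      rw [Matrix.charpoly_map, IsRoot.def, eval_map, ← aeval_def]
      exact hμ
    rw [← Matrix.mem_spectrum_iff_isRoot_charpoly] at hroot
    have hp := spectrum.pow_mem_pow (A.map φ) r hroot
    have e : (A.map φ) ^ r = algebraMap (AlgebraicClosure F) _ (φ z) := by
      rw [← RingHom.mapMatrix_apply, ← map_pow, hA, RingHom.mapMatrix_apply,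
        Algebra.algebraMap_eq_smul_one]
      ext i j
      by_cases hij : i = j <;> simp [Matrix.one_apply, hij]
    rcases Nat.eq_zero_or_pos n with rfl | hn
    · exfalso
      rw [Matrix.charpoly_isEmpty] at hμ
      simp at hμ
    haveI : Nonempty (Fin n) := ⟨⟨0, hn⟩⟩
    rw [e, spectrum.scalar_eq, Set.mem_singleton_iff] at hp
    simp [hp, hφ]
  obtain ⟨k, hk⟩ := eq_pow_of_roots (irreducible_of_nonpower hz) (monic_X_pow_sub_C z hr.out.ne_zero)
    A.charpoly_monic hroots
  have hn : n = r * k := by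
    have := congrArg natDegree hk
    rw [Matrix.charpoly_natDegree_eq_dim, natDegree_pow, natDegree_X_pow_sub_C, Fintype.card_fin] at this
    rw [this, mul_comm]
  refine ⟨k, hn, ?_⟩
  rw [Matrix.det_eq_sign_charpoly_coeff, hk, coeff_zero_eq_eval_zero, eval_pow, eval_sub, eval_C,
    eval_pow, eval_X, zero_pow hr.out.ne_zero, zero_sub, Fintype.card_fin, hn, pow_mul, ← mul_pow]
  congr 1
  ring

theorem exists_matrix (n : ℕ) (hn : finrank F V = n) (f : Module.End F V) :
    ∃ (A : Matrix (Fin n) (Fin n) F) (e : V ≃ₗ[F] (Fin n → F)), Matrix.toLin' A = e.conj f ∧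
      ∀ (k : ℕ) (z : F), f ^ k = z • 1 → A ^ k = z • 1 := by
  let e : V ≃ₗ[F] (Fin n → F) := (Module.finBasisOfFinrankEq F V hn).equivFun
  refine ⟨LinearMap.toMatrix' (e.conj f), e, Matrix.toLin'_toMatrix' _, fun k z h => ?_⟩
  let E : Module.End F V ≃ₐ[F] Matrix (Fin n) (Fin n) F := (e.conjAlgEquiv F).trans LinearMap.toMatrixAlgEquiv'
  rw [show LinearMap.toMatrix' (e.conj f) = E f from rfl]
  rw [← map_pow, h, map_smul, map_one]

theorem exists_elt_nonpower {n k : ℕ} (hn : n = r * k) {z : F} (hz : ∀ w : F, w ^ r ≠ z)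
    (hdet : ((-1) ^ (r + 1) * z) ^ k = 1) :
    ∃ A : Matrix (Fin n) (Fin n) F, A.det = 1 ∧ A ^ r = z • 1 := by
  haveI := Fact.mk (irreducible_of_nonpower hz)
  have hne : (X ^ r - C z : F[X]) ≠ 0 := X_pow_sub_C_ne_zero hr.out.pos z
  haveI : Module.Finite F (AdjoinRoot (X ^ r - C z)) := (AdjoinRoot.powerBasis hne).finite
  set α := AdjoinRoot.root (X ^ r - C z) with hα
  let f : Module.End F (Fin k → AdjoinRoot (X ^ r - C z)) :=
    Algebra.lsmul F F (Fin k → AdjoinRoot (X ^ r - C z)) α
  have hd : finrank F (Fin k → AdjoinRoot (X ^ r - C z)) = n := by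
    rw [Module.finrank_pi_fintype, Finset.sum_const, Finset.card_univ, Fintype.card_fin, smul_eq_mul,
      (AdjoinRoot.powerBasis hne).finrank, AdjoinRoot.powerBasis_dim, natDegree_X_pow_sub_C, hn, mul_comm]
  obtain ⟨A, e, -, hA⟩ := exists_matrix n hd f
  have hαr : α ^ r = algebraMap F _ z := by
    have h := AdjoinRoot.mk_self (f := X ^ r - C z)
    rwa [map_sub, map_pow, AdjoinRoot.mk_X, AdjoinRoot.mk_C, sub_eq_zero,
      ← AdjoinRoot.algebraMap_eq] at h
  have hfr : f ^ r = z • 1 := by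
    show (Algebra.lsmul F F _ α) ^ r = _
    rw [← map_pow, hαr, AlgHom.commutes, Algebra.algebraMap_eq_smul_one]
  refine ⟨A, ?_, hA r z hfr⟩
  obtain ⟨k', hk', hdA⟩ := det_of_nonpower hz (hA r z hfr)
  rw [hdA, show k' = k from Nat.eq_of_mul_eq_mul_left hr.out.pos (hk'.symm.trans hn), hdet]

variable [Fintype F]

theorem exists_elt_order (hrF : (r : F) ≠ 0) (hr1 : ¬ r ∣ Fintype.card F - 1) {n s : ℕ}
    (hs : s * orderOf (Fintype.card F : ZMod r) ≤ n) :
    ∃ A : Matrix (Fin n) (Fin n) F, A.det = 1 ∧ A ^ r = 1 ∧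
      finrank F (LinearMap.ker (Matrix.toLin' A - 1)) = n - s * orderOf (Fintype.card F : ZMod r) := by
  have hP : (∑ j ∈ Finset.range r, (X : F[X]) ^ j) ≠ 0 := by
    intro e
    have := congrArg (eval 1) e
    simp [eval_finsetSum] at this
    exact hrF this
  have hPu : ¬ IsUnit (∑ j ∈ Finset.range r, (X : F[X]) ^ j) := by
    intro hu
    have hd := natDegree_eq_zero_of_isUnit hu
    have h2 := hr.out.two_le
    have hc : (∑ j ∈ Finset.range r, (X : F[X]) ^ j).coeff 1 = 1 := by
      rw [finsetSum_coeff, Finset.sum_eq_single 1]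
      · simp
      · intro b _ hb; simp [coeff_X_pow, Ne.symm hb]
      · intro h; exact absurd (Finset.mem_range.mpr (by omega)) h
    rw [coeff_eq_zero_of_natDegree_lt (by omega)] at hc
    exact zero_ne_one hc
  obtain ⟨g, hg, hgd⟩ := WfDvdMonoid.exists_irreducible_factor hPu hP
  have hdeg := natDegree_eq_orderOf hrF hg hgd
  haveI := Fact.mk hg
  haveI : Module.Finite F (AdjoinRoot g) := (AdjoinRoot.powerBasis hg.ne_zero).finite
  set α := AdjoinRoot.root g with hα
  have hsum : (∑ j ∈ Finset.range r, α ^ j) = 0 := by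
    obtain ⟨c, hc⟩ := hgd
    have h0 := congrArg (AdjoinRoot.mk g) hc
    rw [map_mul, AdjoinRoot.mk_self, zero_mul, map_sum] at h0
    simpa only [map_pow, AdjoinRoot.mk_X] using h0
  have hα1 : α ≠ 1 := by
    intro e
    simp only [e, one_pow, Finset.sum_const, Finset.card_range, nsmul_eq_mul, mul_one] at hsum
    exact hrF ((algebraMap F (AdjoinRoot g)).injective (by rw [map_natCast, hsum, map_zero]))
  have hαr : α ^ r = 1 := by rw [← sub_eq_zero, ← geom_sum_mul, hsum, zero_mul]
  let f : Module.End F ((Fin (n - s * orderOf (Fintype.card F : ZMod r)) → F) × (Fin s → AdjoinRoot g)) :=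
    LinearMap.prodMap 1 (Algebra.lsmul F F _ α)
  have hd : finrank F ((Fin (n - s * orderOf (Fintype.card F : ZMod r)) → F) × (Fin s → AdjoinRoot g)) = n := by
    rw [Module.finrank_prod, Module.finrank_fin_fun, Module.finrank_pi_fintype, Finset.sum_const,
      Finset.card_univ, Fintype.card_fin, smul_eq_mul, (AdjoinRoot.powerBasis hg.ne_zero).finrank,
      AdjoinRoot.powerBasis_dim, hdeg]
    omega
  obtain ⟨A, e, hAe, hA⟩ := exists_matrix n hd f
  have hfr : f ^ r = 1 := by
    apply LinearMap.ext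
    intro v
    show (f ^ r) v = v
    have : ∀ j : ℕ, (f ^ j) v = (v.1, α ^ j • v.2) := by
      intro j
      induction j with
      | zero => simp
      | succ j ih =>
        rw [pow_succ', Module.End.mul_apply, ih, pow_succ', mul_smul]
        rfl
    rw [this, hαr, one_smul]
  have hAr : A ^ r = 1 := by simpa using hA r 1 (by rw [hfr, one_smul])
  have hdet : A.det = 1 := by
    have h1 : A.det ^ r = 1 := by rw [← Matrix.det_pow, hAr, Matrix.det_one]
    have h0 : A.det ≠ 0 := fun e0 => by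
      rw [e0, zero_pow hr.out.ne_zero] at h1; exact zero_ne_one h1
    have hcop : Nat.gcd r (Fintype.card F - 1) = 1 := (hr.out.coprime_iff_not_dvd).mpr hr1
    have h2 := pow_gcd_eq_one.mpr ⟨h1, FiniteField.pow_card_sub_one_eq_one _ h0⟩
    rwa [hcop, pow_one] at h2
  refine ⟨A, hdet, hAr, ?_⟩
  have hker : LinearMap.ker (Matrix.toLin' A - 1) = (LinearMap.ker (f - 1)).map (e : _ →ₗ[F] _) := by
    ext v
    rw [hAe, Submodule.mem_map_equiv, LinearMap.mem_ker, LinearMap.mem_ker, LinearMap.sub_apply,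
      LinearMap.sub_apply, LinearEquiv.conj_apply_apply, Module.End.one_apply, Module.End.one_apply,
      sub_eq_zero, sub_eq_zero, ← e.eq_symm_apply]
  have hkf : LinearMap.ker (f - 1) = LinearMap.range
      (LinearMap.inl F (Fin (n - s * orderOf (Fintype.card F : ZMod r)) → F) (Fin s → AdjoinRoot g)) := by
    ext ⟨x, y⟩
    rw [LinearMap.mem_ker, LinearMap.sub_apply, Module.End.one_apply, sub_eq_zero, LinearMap.mem_range]
    show (x, α • y) = (x, y) ↔ _
    constructor
    · intro h
      have h' : α • y = y := congrArg Prod.snd h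
      have : y = 0 := by
        funext j
        have hj : α * y j = y j := congrFun h' j
        have : (α - 1) * y j = 0 := by rw [sub_mul, one_mul, hj, sub_self]
        exact (mul_eq_zero.mp this).resolve_left (sub_ne_zero.mpr hα1)
      exact ⟨x, by rw [this]; rfl⟩
    · rintro ⟨x', h⟩
      have hy : y = 0 := (congrArg Prod.snd h).symm
      rw [hy, smul_zero]
  rw [hker, LinearEquiv.finrank_map_eq, hkf,
    LinearMap.finrank_range_of_inj LinearMap.inl_injective, Module.finrank_fin_fun]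

end Cfsg.Agent.ClMax99.Inv
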