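import Mathlib

/-!
Invariant subspaces of a linear map killed by a product of irreducible polynomials, elements of
prime order modulo scalars over a finite field, and counts of subspaces (helper99).
-/

set_option autoImplicit false
set_option linter.unusedSectionVars false

namespace Cfsg.Agent.ClMax99.Inv

open Polynomial Module

section Chain

variable {F V : Type*} [Field F] [AddCommGroup V] [Module F V]

theorem aeval_mem {f : Module.End F V} {W : Submodule F V} (hW : W.map f ≤ W) (P : F[X]) {v : V}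
    (hv : v ∈ W) : aeval f P v ∈ W := by
  induction P using Polynomial.induction_on' generalizing v with
  | add P Q hP hQ => rw [map_add, LinearMap.add_apply]; exact W.add_mem (hP hv) (hQ hv)
  | monomial k a =>
    rw [aeval_monomial, Module.algebraMap_end_eq_smul_id]
    induction k with
    | zero => simpa using W.smul_mem a hv
    | succ k ih =>
      rw [pow_succ', Module.End.mul_apply]
      simp only [LinearMap.smul_apply, LinearMap.id_coe, id_eq, Module.End.mul_apply] at ih ⊢
      rw [← map_smul]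
      exact hW ⟨_, ih, rfl⟩

theorem exists_factor_vec {f : Module.End F V} {W R : Submodule F V} (hR : R.map f ≤ R)
    (L : List F[X]) (v : V) (hvR : v ∈ R) (hvW : v ∉ W) (h : aeval f L.prod v ∈ W) :
    ∃ g ∈ L, ∃ u ∈ R, u ∉ W ∧ aeval f g u ∈ W := by
  induction L with
  | nil => simp at h; exact absurd h hvW
  | cons g L ih =>
    by_cases h' : aeval f L.prod v ∈ W
    · obtain ⟨g', hg', hu⟩ := ih h'
      exact ⟨g', List.mem_cons_of_mem _ hg', hu⟩
    · rw [List.prod_cons, map_mul, Module.End.mul_apply] at h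
      exact ⟨g, by simp, _, aeval_mem hR _ hvR, h', h⟩

variable [FiniteDimensional F V]

/-- One step up in the lattice of invariant subspaces. -/
theorem exists_step {f : Module.End F V} (L : List F[X]) (hL : ∀ g ∈ L, Irreducible g)
    {W R : Submodule F V} (hW : W.map f ≤ W) (hR : R.map f ≤ R) (hWR : W < R)
    (h : ∀ v ∈ R, aeval f L.prod v ∈ W) :
    ∃ g ∈ L, ∃ W' : Submodule F V, W ≤ W' ∧ W' ≤ R ∧ W'.map f ≤ W' ∧
      finrank F W' = finrank F W + g.natDegree := by
  obtain ⟨v, hvR, hvW⟩ := SetLike.exists_of_lt hWR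
  obtain ⟨g, hg, u, huR, huW, hu⟩ := exists_factor_vec hR L v hvR hvW (h v hvR)
  let φ : F[X] →ₗ[F] V ⧸ W := W.mkQ ∘ₗ (LinearMap.applyₗ u) ∘ₗ (aeval f).toLinearMap
  have hφ : ∀ P, φ P = Submodule.Quotient.mk (aeval f P u) := fun P => rfl
  let I : Ideal F[X] :=
    { carrier := {P | aeval f P u ∈ W}
      zero_mem' := by simp
      add_mem' := fun {a b} ha hb => by
        simp only [Set.mem_setOf_eq, map_add, LinearMap.add_apply] at ha hb ⊢
        exact W.add_mem ha hb
      smul_mem' := fun c x hx => by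
        simp only [Set.mem_setOf_eq, smul_eq_mul, map_mul, Module.End.mul_apply] at hx ⊢
        exact aeval_mem hW c hx }
  have hI : Ideal.span {g} = I := by
    refine (PrincipalIdealRing.isMaximal_of_irreducible (hL g hg)).eq_of_le ?_
      ((Ideal.span_singleton_le_iff_mem _).mpr hu)
    intro e
    have : (1 : F[X]) ∈ I := e ▸ Submodule.mem_top
    exact huW (by simpa [I] using this)
  have hker : LinearMap.ker φ = (Ideal.span {g}).restrictScalars F := by
    ext P
    rw [LinearMap.mem_ker, hφ, Submodule.Quotient.mk_eq_zero, Submodule.restrictScalars_mem, hI]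
    rfl
  set W' := (LinearMap.range φ).comap W.mkQ with hW'
  have hWW' : W ≤ W' := fun w hw => by
    rw [hW', Submodule.mem_comap, Submodule.mkQ_apply, (Submodule.Quotient.mk_eq_zero W).mpr hw]
    exact zero_mem _
  have hmem : ∀ w, w ∈ W' ↔ ∃ P, w - aeval f P u ∈ W := fun w => by
    simp only [hW', Submodule.mem_comap, LinearMap.mem_range, hφ, Submodule.mkQ_apply,
      Submodule.Quotient.eq]
    exact exists_congr fun P => by rw [← neg_sub, Submodule.neg_mem_iff]
  refine ⟨g, hg, W', hWW', ?_, ?_, ?_⟩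
  · intro w hw
    obtain ⟨P, hP⟩ := (hmem w).mp hw
    have := R.add_mem (hWR.le hP) (aeval_mem hR P huR)
    rwa [sub_add_cancel] at this
  · rintro _ ⟨w, hw, rfl⟩
    obtain ⟨P, hP⟩ := (hmem w).mp hw
    refine (hmem _).mpr ⟨X * P, ?_⟩
    rw [map_mul, aeval_X, Module.End.mul_apply, ← map_sub]
    exact hW ⟨_, hP, rfl⟩
  · have h1 : finrank F (LinearMap.range φ) = g.natDegree := by
      rw [← (LinearMap.quotKerEquivRange φ).finrank_eq,
        (Submodule.quotEquivOfEq _ _ hker).finrank_eq,
        (Submodule.Quotient.restrictScalarsEquiv F _).finrank_eq, finrank_quotient_span_eq_natDegree]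
    let π : W' →ₗ[F] LinearMap.range φ := W.mkQ.restrict fun w hw => hw
    have hπs : Function.Surjective π := by
      rintro ⟨y, hy⟩
      obtain ⟨w, rfl⟩ := W.mkQ_surjective y
      exact ⟨⟨w, hy⟩, Subtype.ext rfl⟩
    have hπk : LinearMap.ker π = W.comap W'.subtype := by
      ext w
      rw [LinearMap.mem_ker, Submodule.mem_comap, ← Submodule.Quotient.mk_eq_zero W, Subtype.ext_iff]
      rfl
    have h2 := LinearMap.finrank_range_add_finrank_ker π
    rw [LinearMap.range_eq_top.mpr hπs, finrank_top, h1, hπk,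
      (Submodule.comapSubtypeEquivOfLe hWW').finrank_eq] at h2
    omega

theorem exists_chain {f : Module.End F V} (L : List F[X]) (hL : ∀ g ∈ L, Irreducible g) {d : ℕ}
    (hd : ∀ g ∈ L, g.natDegree = d) {W R : Submodule F V} (hW : W.map f ≤ W) (hR : R.map f ≤ R)
    (hWR : W ≤ R) (h : ∀ v ∈ R, aeval f L.prod v ∈ W) (k : ℕ)
    (hk : finrank F W + k * d ≤ finrank F R) :
    ∃ W' : Submodule F V, W ≤ W' ∧ W' ≤ R ∧ W'.map f ≤ W' ∧
      finrank F W' = finrank F W + k * d := by
  induction k with
  | zero => exact ⟨W, le_rfl, hWR, hW, by simp⟩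
  | succ k ih =>
    rw [Nat.succ_mul] at hk
    obtain ⟨W₁, h1, h2, h3, h4⟩ := ih (by omega)
    rcases eq_or_lt_of_le h2 with e | hlt
    · subst e
      refine ⟨W₁, h1, le_rfl, h3, ?_⟩
      rw [Nat.succ_mul]
      omega
    · obtain ⟨g, hg, W', h5, h6, h7, h8⟩ :=
        exists_step L hL h3 hR hlt (fun v hv => h1 (h v hv))
      refine ⟨W', h1.trans h5, h6, h7, ?_⟩
      rw [Nat.succ_mul, h8, hd g hg, h4]
      ring

theorem dvd_sub_finrank {f : Module.End F V} (L : List F[X]) (hL : ∀ g ∈ L, Irreducible g) {d : ℕ}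
    (hd : ∀ g ∈ L, g.natDegree = d) {W R : Submodule F V} (hW : W.map f ≤ W) (hR : R.map f ≤ R)
    (hWR : W ≤ R) (h : ∀ v ∈ R, aeval f L.prod v ∈ W) :
    ∃ k, finrank F R = finrank F W + k * d := by
  suffices H : ∀ N (W : Submodule F V), finrank F R - finrank F W = N → W.map f ≤ W → W ≤ R →
      (∀ v ∈ R, aeval f L.prod v ∈ W) → ∃ k, finrank F R = finrank F W + k * d from
    H _ W rfl hW hWR h
  intro N
  induction N using Nat.strongRecOn with
  | _ N ih =>
    intro W hN hW hWR h
    rcases eq_or_lt_of_le hWR with e | hlt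
    · exact ⟨0, by subst e; simp⟩
    · obtain ⟨g, hg, W', h5, h6, h7, h8⟩ := exists_step L hL hW hR hlt h
      have hpos : 0 < g.natDegree := (hL g hg).natDegree_pos
      have hle := Submodule.finrank_mono h6
      obtain ⟨k, hk⟩ := ih _ (by omega) W' rfl h7 h6 (fun v hv => h5 (h v hv))
      exact ⟨k + 1, by rw [hk, h8, hd g hg]; ring⟩

theorem exists_factor_list {P : F[X]} (hP : P ≠ 0) (f : Module.End F V) :
    ∃ L : List F[X], (∀ g ∈ L, Irreducible g ∧ g ∣ P) ∧
      ∀ v : V, aeval f P v = 0 → aeval f L.prod v = 0 := by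
  refine ⟨(UniqueFactorizationMonoid.factors P).toList, fun g hg => ?_, fun v hv => ?_⟩
  · rw [Multiset.mem_toList] at hg
    exact ⟨UniqueFactorizationMonoid.irreducible_of_factor g hg,
      UniqueFactorizationMonoid.dvd_of_mem_factors hg⟩
  · obtain ⟨u, hu⟩ := (UniqueFactorizationMonoid.factors_prod hP).symm
    rw [Multiset.prod_toList, ← hu, mul_comm, map_mul, Module.End.mul_apply, hv, map_zero]

end Chain

section Finite

variable {F : Type*} [Field F] [Fintype F]

/-- A root of unity of order dividing `q^i - 1` has degree at most `i`. -/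
theorem natDegree_le {g : F[X]} (hg : Irreducible g) {r i : ℕ} (hi : 0 < i)
    (hri : r ∣ Fintype.card F ^ i - 1) (hdvd : g ∣ X ^ r - 1) : g.natDegree ≤ i := by
  haveI := Fact.mk hg
  have hfin : Module.Finite F (AdjoinRoot g) := (AdjoinRoot.powerBasis hg.ne_zero).finite
  haveI : Finite (AdjoinRoot g) := Module.finite_of_finite F
  haveI : Fintype (AdjoinRoot g) := Fintype.ofFinite _
  have hroot : AdjoinRoot.root g ^ r = 1 := by
    obtain ⟨c, hc⟩ := hdvd
    have h0 := congrArg (AdjoinRoot.mk g) hc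
    rw [map_mul, AdjoinRoot.mk_self, zero_mul, map_sub, map_pow, AdjoinRoot.mk_X, map_one,
      sub_eq_zero] at h0
    exact h0
  have hq : 1 ≤ Fintype.card F ^ i := Nat.one_le_pow _ _ Fintype.card_pos
  have hfix : AdjoinRoot.root g ^ (Fintype.card F ^ i) = AdjoinRoot.root g := by
    obtain ⟨c, hc⟩ := hri
    rw [show Fintype.card F ^ i = r * c + 1 by omega, pow_succ, pow_mul, hroot, one_pow, one_mul]
  have hall : ∀ x : AdjoinRoot g, x ^ (Fintype.card F ^ i) = x := by
    intro x
    have hφ : (FiniteField.frobeniusAlgHom F (AdjoinRoot g)) ^ i = AlgHom.id F _ := by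
      apply AdjoinRoot.algHom_ext
      rw [AlgHom.coe_pow, FiniteField.coe_frobeniusAlgHom, pow_iterate]
      simpa using hfix
    have := congrArg (fun φ : AdjoinRoot g →ₐ[F] AdjoinRoot g => φ x) hφ
    rw [AlgHom.coe_pow, FiniteField.coe_frobeniusAlgHom, pow_iterate] at this
    simpa using this
  obtain ⟨u, hu⟩ := IsCyclic.exists_generator (α := (AdjoinRoot g)ˣ)
  have ho : orderOf u = Fintype.card F ^ g.natDegree - 1 := by
    rw [orderOf_eq_card_of_forall_mem_zpowers hu, Nat.card_units, Module.natCard_eq_pow_finrank (K := F),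
      Nat.card_eq_fintype_card, (AdjoinRoot.powerBasis hg.ne_zero).finrank, AdjoinRoot.powerBasis_dim]
  have hd : orderOf u ∣ Fintype.card F ^ i - 1 := by
    rw [orderOf_dvd_iff_pow_eq_one]
    have h2 : u ^ (Fintype.card F ^ i - 1) * u = 1 * u := by
      rw [← pow_succ, Nat.sub_add_cancel hq, one_mul]
      exact Units.ext (by rw [Units.val_pow_eq_pow_val]; exact hall _)
    exact mul_right_cancel h2
  have h1 : 1 < Fintype.card F ^ i := Nat.one_lt_pow hi.ne' Fintype.one_lt_card
  have h3 := Nat.le_of_dvd (by omega) hd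
  rw [ho] at h3
  by_contra hlt
  have h4 := Nat.pow_lt_pow_right (Fintype.one_lt_card (α := F)) (show i < g.natDegree by omega)
  omega

variable {r : ℕ} [hr : Fact r.Prime]

/-- The irreducible factors of `1 + X + ... + X^(r-1)` have degree the order of `q` mod `r`. -/
theorem natDegree_eq_orderOf (hrF : (r : F) ≠ 0) {g : F[X]} (hg : Irreducible g)
    (hdvd : g ∣ ∑ j ∈ Finset.range r, (X : F[X]) ^ j) :
    g.natDegree = orderOf (Fintype.card F : ZMod r) := by
  have hd1 : g ∣ X ^ r - 1 := by
    rw [← geom_sum_mul]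
    exact dvd_mul_of_dvd_left hdvd _
  haveI := Fact.mk hg
  have hfin : Module.Finite F (AdjoinRoot g) := (AdjoinRoot.powerBasis hg.ne_zero).finite
  haveI : Finite (AdjoinRoot g) := Module.finite_of_finite F
  obtain ⟨c, hc⟩ := hdvd
  have h0 := congrArg (AdjoinRoot.mk g) hc
  rw [map_mul, AdjoinRoot.mk_self, zero_mul, map_sum] at h0
  simp only [map_pow, AdjoinRoot.mk_X] at h0
  have hr1 : AdjoinRoot.root g ≠ 1 := by
    intro e
    rw [e] at h0
    simp only [one_pow, Finset.sum_const, Finset.card_range, nsmul_eq_mul, mul_one] at h0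
    exact hrF ((algebraMap F (AdjoinRoot g)).injective (by rw [map_natCast, h0, map_zero]))
  have hpow : AdjoinRoot.root g ^ r = 1 := by
    rw [← sub_eq_zero, ← geom_sum_mul, h0, zero_mul]
  have ho : orderOf (AdjoinRoot.root g) = r := orderOf_eq_prime hpow hr1
  set d := g.natDegree with hd
  have hu : IsUnit (AdjoinRoot.root g) := IsUnit.of_pow_eq_one hpow hr.out.ne_zero
  have hdvd' : r ∣ Fintype.card F ^ d - 1 := by
    rw [← ho, ← hu.unit_spec, orderOf_units, hd]
    have := orderOf_dvd_natCard hu.unit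
    rwa [Nat.card_units, Module.natCard_eq_pow_finrank (K := F), Nat.card_eq_fintype_card,
      (AdjoinRoot.powerBasis hg.ne_zero).finrank, AdjoinRoot.powerBasis_dim] at this
  have hq1 : 1 ≤ Fintype.card F ^ d := Nat.one_le_pow _ _ Fintype.card_pos
  have hord : orderOf (Fintype.card F : ZMod r) ∣ d := by
    rw [orderOf_dvd_iff_pow_eq_one, ← Nat.cast_pow, ← sub_eq_zero, ← Nat.cast_one, ← Nat.cast_sub hq1]
    exact (ZMod.natCast_eq_zero_iff _ _ |>.mpr hdvd' :)
  have hpos : 0 < orderOf (Fintype.card F : ZMod r) :=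
    Nat.pos_of_ne_zero fun e => by
      rw [e, Nat.zero_dvd] at hord
      exact hg.natDegree_pos.ne' hord
  refine le_antisymm (natDegree_le hg hpos ?_ hd1) (Nat.le_of_dvd hg.natDegree_pos hord)
  have h := pow_orderOf_eq_one (Fintype.card F : ZMod r)
  rw [← Nat.cast_pow, ← sub_eq_zero, ← Nat.cast_one,
    ← Nat.cast_sub (Nat.one_le_pow _ _ Fintype.card_pos)] at h
  exact (ZMod.natCast_eq_zero_iff _ _).mp h

variable {V : Type*} [AddCommGroup V] [Module F V] [FiniteDimensional F V] {f : Module.End F V}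

theorem map_range_sub_le : (LinearMap.range (f - 1)).map f ≤ LinearMap.range (f - 1) := by
  rintro _ ⟨_, ⟨v, rfl⟩, rfl⟩
  exact ⟨f v, by simp⟩

theorem geom_apply_sub (hf : f ^ r = 1) (v : V) :
    aeval f (∑ j ∈ Finset.range r, (X : F[X]) ^ j) ((f - 1) v) = 0 := by
  have : aeval f ((∑ j ∈ Finset.range r, (X : F[X]) ^ j) * (X - 1)) = 0 := by
    rw [geom_sum_mul]; simp [hf]
  rw [map_mul, map_sub, map_one, aeval_X] at this
  have := LinearMap.congr_fun this v
  simpa using this

theorem disjoint_ker_range (hrF : (r : F) ≠ 0) (hf : f ^ r = 1) :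
    Disjoint (LinearMap.ker (f - 1)) (LinearMap.range (f - 1)) := by
  rw [Submodule.disjoint_def]
  intro v hv hv'
  rw [LinearMap.mem_ker, LinearMap.sub_apply, Module.End.one_apply, sub_eq_zero] at hv
  obtain ⟨w, rfl⟩ := hv'
  have h0 := geom_apply_sub hf w
  rw [map_sum, LinearMap.sum_apply] at h0
  have hfix : ∀ j : ℕ, (f ^ j) ((f - 1) w) = (f - 1) w := by
    intro j
    induction j with
    | zero => simp
    | succ j ih => rw [pow_succ, Module.End.mul_apply, hv, ih]
  simp only [map_pow, aeval_X, hfix, Finset.sum_const, Finset.card_range] at h0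
  rw [← Nat.cast_smul_eq_nsmul F] at h0
  exact (smul_eq_zero.mp h0).resolve_left hrF

variable (hrF : (r : F) ≠ 0) (hf : f ^ r = 1)

include hrF hf

/-- Invariant subspaces of the part without fixed vectors, between two given ones. -/
theorem exists_between {W : Submodule F V} (hW : W.map f ≤ W) (hWR : W ≤ LinearMap.range (f - 1))
    (k : ℕ) (hk : finrank F W + k * orderOf (Fintype.card F : ZMod r) ≤
      finrank F (LinearMap.range (f - 1))) :
    ∃ W' : Submodule F V, W ≤ W' ∧ W' ≤ LinearMap.range (f - 1) ∧ W'.map f ≤ W' ∧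
      finrank F W' = finrank F W + k * orderOf (Fintype.card F : ZMod r) := by
  obtain ⟨L, hL, hL0⟩ := exists_factor_list (P := ∑ j ∈ Finset.range r, (X : F[X]) ^ j)
    (by
      intro e
      have := congrArg (eval 1) e
      simp [eval_finset_sum] at this
      exact hrF this) f
  refine exists_chain L (fun g hg => (hL g hg).1)
    (fun g hg => natDegree_eq_orderOf hrF (hL g hg).1 (hL g hg).2) hW map_range_sub_le hWR ?_ k hk
  rintro _ ⟨v, rfl⟩
  rw [hL0 _ (geom_apply_sub hf v)]
  exact zero_mem _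

theorem dvd_finrank_moved {W : Submodule F V} (hW : W.map f ≤ W) :
    orderOf (Fintype.card F : ZMod r) ∣ finrank F (W.map (f - 1)) := by
  obtain ⟨L, hL, hL0⟩ := exists_factor_list (P := ∑ j ∈ Finset.range r, (X : F[X]) ^ j)
    (by
      intro e
      have := congrArg (eval 1) e
      simp [eval_finset_sum] at this
      exact hrF this) f
  have hinv : (W.map (f - 1)).map f ≤ W.map (f - 1) := by
    rintro _ ⟨_, ⟨w, hw, rfl⟩, rfl⟩
    exact ⟨f w, hW ⟨w, hw, rfl⟩, by simp⟩
  obtain ⟨k, hk⟩ := dvd_sub_finrank L (fun g hg => (hL g hg).1)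
    (fun g hg => natDegree_eq_orderOf hrF (hL g hg).1 (hL g hg).2) (W := ⊥) (by simp) hinv bot_le (by
      rintro _ ⟨v, -, rfl⟩
      rw [hL0 _ (geom_apply_sub hf v)]
      exact zero_mem _)
  rw [hk, finrank_bot, zero_add]
  exact dvd_mul_left _ _

/-- The dimension of an invariant subspace modulo the order of `q`. -/
theorem finrank_mod {W : Submodule F V} (hW : W.map f ≤ W) :
    finrank F W % orderOf (Fintype.card F : ZMod r) =
      finrank F ↥(W ⊓ LinearMap.ker (f - 1)) % orderOf (Fintype.card F : ZMod r) := by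
  obtain ⟨k, hk⟩ := dvd_finrank_moved hrF hf hW
  have h := LinearMap.finrank_range_add_finrank_ker ((f - 1).domRestrict W)
  rw [LinearMap.range_domRestrict, hk, LinearMap.ker_domRestrict] at h
  have h2 : finrank F ↥(Submodule.comap W.subtype (LinearMap.ker (f - 1))) =
      finrank F ↥(W ⊓ LinearMap.ker (f - 1)) :=
    (Submodule.equivMapOfInjective W.subtype W.injective_subtype _).finrank_eq.trans
      (by rw [Submodule.map_comap_subtype])
  rw [← h, h2, add_comm, Nat.add_mul_mod_self_left]

/-- Invariant subspaces of all admissible dimensions. -/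
theorem exists_invariant_sum (d k : ℕ) (hd : d ≤ finrank F (LinearMap.ker (f - 1)))
    (hk : k * orderOf (Fintype.card F : ZMod r) ≤ finrank F (LinearMap.range (f - 1)))
    {d' k' : ℕ} (hdd : d ≤ d') (hd' : d' ≤ finrank F (LinearMap.ker (f - 1))) (hkk : k ≤ k')
    (hk' : k' * orderOf (Fintype.card F : ZMod r) ≤ finrank F (LinearMap.range (f - 1))) :
    ∃ U W : Submodule F V, U ≤ W ∧ U.map f ≤ U ∧ W.map f ≤ W ∧
      finrank F U = d + k * orderOf (Fintype.card F : ZMod r) ∧
      finrank F W = d' + k' * orderOf (Fintype.card F : ZMod r) := by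
  set C := LinearMap.ker (f - 1)
  set i := orderOf (Fintype.card F : ZMod r)
  have hsub : ∀ D : Submodule F V, D ≤ C → D.map f ≤ D := by
    rintro D hD _ ⟨v, hv, rfl⟩
    have := hD hv
    rw [LinearMap.mem_ker, LinearMap.sub_apply, Module.End.one_apply, sub_eq_zero] at this
    rw [this]; exact hv
  let b := Module.finBasis F C
  let D : ∀ j, j ≤ finrank F C → Submodule F V := fun j hj =>
    (Submodule.span F (Set.range (b ∘ Fin.castLE hj))).map C.subtype
  have hDd : ∀ j hj, finrank F (D j hj) = j := fun j hj => by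
    rw [Submodule.finrank_map_subtype_eq, finrank_span_eq_card, Fintype.card_fin]
    exact b.linearIndependent.comp _ (Fin.castLE_injective hj)
  have hDC : ∀ j hj, D j hj ≤ C := fun j hj => Submodule.map_subtype_le _ _
  have hDle : D d hd ≤ D d' hd' := by
    refine Submodule.map_mono (Submodule.span_mono ?_)
    rintro _ ⟨x, rfl⟩
    exact ⟨Fin.castLE hdd x, rfl⟩
  obtain ⟨P, -, hP, hPf, hPd⟩ := exists_between hrF hf (W := ⊥) (by simp) bot_le k (by simpa using hk)
  rw [finrank_bot, zero_add] at hPd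
  obtain ⟨P', hPP, hP', hPf', hPd'⟩ := exists_between hrF hf hPf hP (k' - k) (by
    rw [hPd, ← Nat.add_mul]; rwa [Nat.add_sub_cancel' hkk])
  rw [hPd, ← Nat.add_mul, Nat.add_sub_cancel' hkk] at hPd'
  have hdim : ∀ A B : Submodule F V, A ≤ C → B ≤ LinearMap.range (f - 1) →
      finrank F ↥(A ⊔ B) = finrank F A + finrank F B := fun A B hA hB => by
    have h := Submodule.finrank_sup_add_finrank_inf_eq A B
    rw [((disjoint_ker_range hrF hf).mono hA hB).eq_bot, finrank_bot, add_zero] at h
    exact h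
  refine ⟨D d hd ⊔ P, D d' hd' ⊔ P', sup_le_sup hDle hPP, ?_, ?_, ?_, ?_⟩
  · rw [Submodule.map_sup]; exact sup_le_sup (hsub _ (hDC _ _)) hPf
  · rw [Submodule.map_sup]; exact sup_le_sup (hsub _ (hDC _ _)) hPf'
  · rw [hdim _ _ (hDC _ _) hP, hDd, hPd]
  · rw [hdim _ _ (hDC _ _) hP', hDd, hPd']

end Finite

end Cfsg.Agent.ClMax99.Inv
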