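import Cfsg.Agent.KnownSimple58.CyclicDecomp

/-!
A Jordan basis of a nilpotent matrix, with determinants of commuting matrices.
-/

set_option autoImplicit false

namespace Cfsg.Agent.ClMax99.JBasis

open Polynomial Module Matrix

variable {F : Type*} [Field F]

/-- A nilpotent matrix is similar to a matrix with entries `0, 1`; for each block size `e`, the matrices
commuting with the latter take all determinants `d ^ e`. -/
theorem exists_jordan {n p : ℕ} (N : Matrix (Fin n) (Fin n) F) (hN : N ^ p = 0) :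
    ∃ (P : GL (Fin n) F) (S : Matrix (Fin n) (Fin n) F) (μ : Multiset ℕ),
      (∀ a b, S a b = 0 ∨ S a b = 1) ∧ N * (P : Matrix (Fin n) (Fin n) F) = (P : Matrix (Fin n) (Fin n) F) * S ∧
      (∀ e ∈ μ, 0 < e ∧ e ≤ p) ∧ μ.sum = n ∧
      ∀ e ∈ μ, ∀ d : F, d ≠ 0 → ∃ C : GL (Fin n) F,
        (C : Matrix (Fin n) (Fin n) F) * S = S * (C : Matrix (Fin n) (Fin n) F) ∧
          (C : Matrix (Fin n) (Fin n) F).det = d ^ e := by
  classical
  obtain ⟨ι, hι, q, e', g, ψ, hg, hψ⟩ := Cfsg.Agent.KS58.exists_cyclic_decomp N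
  have hψp : ∀ (k : ℕ) v i, ψ ((N ^ k) *ᵥ v) i = AdjoinRoot.root (g i) ^ k * ψ v i := by
    intro k v i
    induction k with
    | zero => simp
    | succ k ih => rw [pow_succ', ← Matrix.mulVec_mulVec, hψ, ih, pow_succ', mul_assoc]
  have hX : ∀ i, ∃ k, k ≤ p ∧ g i = X ^ k := by
    intro i
    have h0 := hψp p (ψ.symm (Pi.single i 1)) i
    rw [hN, Matrix.zero_mulVec, map_zero, LinearEquiv.apply_symm_apply, Pi.single_eq_same, mul_one,
      Pi.zero_apply, ← AdjoinRoot.mk_X, ← map_pow, eq_comm, AdjoinRoot.mk_eq_zero] at h0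
    obtain ⟨k, hk, hk'⟩ := (dvd_prime_pow prime_X p).mp h0
    exact ⟨k, hk, eq_of_monic_of_associated (hg i).2.2 (monic_X_pow k) hk'⟩
  choose k hk hgk using hX
  have hdeg : ∀ i, (g i).natDegree = k i := fun i => by rw [hgk, natDegree_X_pow]
  let pb : ∀ i, Basis (Fin (k i)) F (AdjoinRoot (g i)) := fun i =>
    (AdjoinRoot.powerBasis (hg i).2.2.ne_zero).basis.reindex
      (finCongr (by rw [AdjoinRoot.powerBasis_dim, hdeg]))
  have hpb : ∀ i (j : Fin (k i)), pb i j = AdjoinRoot.root (g i) ^ (j : ℕ) := fun i j => by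
    simp [pb, PowerBasis.basis_eq_pow, AdjoinRoot.powerBasis_gen]
  let b : Basis (Σ i, Fin (k i)) F (Fin n → F) := (Pi.basis pb).map ψ.symm
  have hsum : ∑ i, k i = n := by
    have h := Module.finrank_eq_card_basis b
    rw [Module.finrank_fin_fun, Fintype.card_sigma] at h
    simpa using h.symm
  let σ : (Σ i, Fin (k i)) ≃ Fin n := Fintype.equivFinOfCardEq (by simp [hsum])
  have hshift : ∀ i (j : Fin (k i)), Matrix.toLin' N (b ⟨i, j⟩) =
      if h : (j : ℕ) + 1 < k i then b ⟨i, ⟨j + 1, h⟩⟩ else 0 := by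
    intro i j
    apply ψ.injective
    funext l
    rw [Matrix.toLin'_apply, hψ]
    simp only [b, Basis.map_apply, LinearEquiv.apply_symm_apply, Pi.basis_apply]
    by_cases hl : l = i
    · subst hl
      rw [Pi.single_eq_same, hpb, ← pow_succ']
      split_ifs with h
      · simp [Pi.basis_apply, hpb]
      · rw [map_zero, Pi.zero_apply]
        have hkl : (j : ℕ) + 1 = k l := by omega
        rw [hkl, ← AdjoinRoot.mk_X, ← map_pow, AdjoinRoot.mk_eq_zero, hgk]
    · rw [Pi.single_eq_of_ne hl, mul_zero]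
      split_ifs with h
      · simp [Pi.basis_apply, Pi.single_eq_of_ne hl]
      · simp
  let B := b.reindex σ
  let S := LinearMap.toMatrix B B (Matrix.toLin' N)
  have hS : ∀ a c, (S a c = 0 ∨ S a c = 1) ∧ (S a c ≠ 0 → (σ.symm a).1 = (σ.symm c).1) := by
    intro a c
    simp only [S, LinearMap.toMatrix_apply, B, Basis.reindex_apply, Basis.repr_reindex_apply]
    rw [show σ.symm c = ⟨(σ.symm c).1, (σ.symm c).2⟩ from rfl, hshift]
    split_ifs with h
    · rw [Basis.repr_self, Finsupp.single_apply]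
      split_ifs with h'
      · exact ⟨Or.inr rfl, fun _ => (congrArg Sigma.fst h').symm⟩
      · exact ⟨Or.inl rfl, fun h'' => absurd rfl h''⟩
    · simp
  haveI : Invertible ((Pi.basisFun F (Fin n)).toMatrix B) := (Pi.basisFun F (Fin n)).invertibleToMatrix B
  refine ⟨unitOfInvertible ((Pi.basisFun F (Fin n)).toMatrix B), S,
    ((Finset.univ.filter fun i => 0 < k i).val.map k), fun a c => (hS a c).1, ?_, ?_, ?_, ?_⟩
  · rw [val_unitOfInvertible, basis_toMatrix_mul_linearMap_toMatrix]
    ext a c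
    rw [LinearMap.toMatrix_apply, Matrix.toLin'_apply, Pi.basisFun_repr]
    simp [Matrix.mul_apply, Matrix.mulVec, dotProduct, Basis.toMatrix_apply, Pi.basisFun_repr]
  · intro e he
    simp only [Multiset.mem_map, Finset.mem_val, Finset.mem_filter] at he
    obtain ⟨i, ⟨-, hi⟩, rfl⟩ := he
    exact ⟨hi, hk i⟩
  · show ∑ i ∈ Finset.univ.filter (fun i => 0 < k i), k i = n
    rw [Finset.sum_filter_of_ne (fun i _ hi => Nat.pos_of_ne_zero hi), hsum]
  · intro e he d hd
    simp only [Multiset.mem_map, Finset.mem_val, Finset.mem_filter] at he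
    obtain ⟨i, -, rfl⟩ := he
    let D : Fin n → F := fun a => if (σ.symm a).1 = i then d else 1
    have hdet : (Matrix.diagonal D).det = d ^ k i := by
      rw [Matrix.det_diagonal, ← σ.prod_comp, Fintype.prod_sigma, Finset.prod_eq_single i]
      · simp [D]
      · intro l _ hl
        simp [D, hl]
      · simp
    refine ⟨GeneralLinearGroup.mkOfDetNeZero (Matrix.diagonal D) (by rw [hdet]; exact pow_ne_zero _ hd), ?_, hdet⟩
    ext a c
    show (Matrix.diagonal D * S) a c = (S * Matrix.diagonal D) a c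
    rw [Matrix.diagonal_mul, Matrix.mul_diagonal]
    by_cases h : S a c = 0
    · simp [h]
    · rw [show D a = D c by simp only [D, (hS a c).2 h]]; ring

end Cfsg.Agent.ClMax99.JBasis
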