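import Cfsg.Agent.ClMax99.JordanType

/-!
Elements of order `p` in `SL_n(q)` modulo scalars and invariant decompositions (helper99).
-/

set_option autoImplicit false
set_option linter.unusedSectionVars false

namespace Cfsg.Agent.ClMax99.JType

open Module

variable {F : Type*} [Field F] [Fintype F] {p : ℕ} [hp : Fact p.Prime] [CharP F p]

theorem toLin_sub_one {n : ℕ} (A : Matrix (Fin n) (Fin n) F) :
    Matrix.toLin' (A - 1) = Matrix.toLin' A - 1 := by
  rw [map_sub, Matrix.toLin'_one]; rfl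

theorem map_sub_le {V : Type*} [AddCommGroup V] [Module F V] {f : Module.End F V} {U : Submodule F V}
    (h : U.map f ≤ U) (c : F) : U.map (f - c • 1) ≤ U := by
  rintro _ ⟨v, hv, rfl⟩
  rw [LinearMap.sub_apply, LinearMap.smul_apply, Module.End.one_apply]
  exact U.sub_mem (h ⟨v, hv, rfl⟩) (U.smul_mem _ hv)

theorem map_add_le {V : Type*} [AddCommGroup V] [Module F V] {N : Module.End F V} {U : Submodule F V}
    (h : U.map N ≤ U) (c : F) : U.map (N + c • 1) ≤ U := by
  rintro _ ⟨v, hv, rfl⟩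
  rw [LinearMap.add_apply, LinearMap.smul_apply, Module.End.one_apply]
  exact U.add_mem (h ⟨v, hv, rfl⟩) (U.smul_mem _ hv)

theorem exists_root_char (z : F) : ∃ w : F, w ^ p = z := by
  obtain ⟨n, -, hn⟩ := FiniteField.card F p
  refine ⟨z ^ (p ^ ((n : ℕ) - 1)), ?_⟩
  rw [← pow_mul, ← pow_succ, Nat.sub_add_cancel n.pos, ← hn, FiniteField.pow_card]

/-- Every element of order `p` modulo scalars fixes a decomposition iff all partitions split. -/
theorem elusive_char (n m : ℕ) (hn : 0 < n) (hm : m ≤ n) :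
    (∀ x : Matrix.SpecialLinearGroup (Fin n) F,
      (∃ c : F, ((x ^ p : Matrix.SpecialLinearGroup (Fin n) F) : Matrix (Fin n) (Fin n) F) = c • (1 : Matrix (Fin n) (Fin n) F)) →
      (∀ c : F, (x : Matrix (Fin n) (Fin n) F) ≠ c • (1 : Matrix (Fin n) (Fin n) F)) →
      ∃ U W : Submodule F (Fin n → F), IsCompl U W ∧ Module.finrank F ↥U = m ∧
        U.map (Matrix.toLin' (x : Matrix (Fin n) (Fin n) F)) ≤ U ∧
        W.map (Matrix.toLin' (x : Matrix (Fin n) (Fin n) F)) ≤ W) ↔
    (∀ μ : Multiset ℕ, (∀ a ∈ μ, 0 < a ∧ a ≤ p) → μ.sum = n → ∃ ν : Multiset ℕ, ν ≤ μ ∧ ν.sum = m) := by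
  constructor
  · intro hall μ hμ hsum
    obtain ⟨M, hM, hMk⟩ := exists_nilpotent (F := F) μ (fun a ha => (hμ a ha).2) hsum
    haveI : Nonempty (Fin n) := ⟨⟨0, hn⟩⟩
    have hA : (1 + M) ^ p = 1 := by
      rw [add_pow_char_of_commute p (Commute.one_left M), one_pow, hM, add_zero]
    have hdet : (1 + M).det = 1 := by
      have h1 : (1 + M).det ^ p = 1 := by rw [← Matrix.det_pow, hA, Matrix.det_one]
      refine sub_eq_zero.mp (pow_eq_zero_iff hp.out.ne_zero |>.mp ?_)
      rw [sub_pow_char, h1, one_pow, sub_self]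
    have hN0 : (Matrix.toLin' M) ^ p = 0 := by
      rw [← Matrix.toLin'_pow, hM, map_zero]
    by_cases hsc : ∃ c : F, 1 + M = c • 1
    · obtain ⟨c, hc⟩ := hsc
      -- `M` is scalar and nilpotent, hence zero
      have hc1 : c = 1 := by
        have h := hA
        rw [hc, smul_pow, one_pow] at h
        have h2 : c ^ p = 1 := by
          simpa using congrArg (fun B : Matrix (Fin n) (Fin n) F => B ⟨0, hn⟩ ⟨0, hn⟩) h
        refine sub_eq_zero.mp (pow_eq_zero_iff hp.out.ne_zero |>.mp ?_)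
        rw [sub_pow_char, h2, one_pow, sub_self]
      rw [hc1, one_smul, add_eq_left] at hc
      subst hc
      obtain ⟨U, hU⟩ : ∃ U : Submodule F (Fin n → F), finrank F U = m := by
        refine ⟨Submodule.span F (Set.range (Pi.basisFun F (Fin n) ∘ Fin.castLE hm)), ?_⟩
        rw [finrank_span_eq_card ((Pi.basisFun F (Fin n)).linearIndependent.comp _
          (Fin.castLE_injective hm)), Fintype.card_fin]
      obtain ⟨W, hW⟩ := Submodule.exists_isCompl U
      obtain ⟨ν, hν, hνs⟩ := type_of_isCompl (Matrix.toLin' (0 : Matrix (Fin n) (Fin n) F)) hN0 hW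
        (by simp) (by simp) (fun a ha => (hμ a ha).1) hMk
      exact ⟨ν, hν, hνs.trans hU⟩
    · push Not at hsc
      obtain ⟨U, W, hc, hU, hUi, hWi⟩ := hall ⟨1 + M, hdet⟩
        ⟨1, (Matrix.SpecialLinearGroup.coe_pow _ _).trans (hA.trans (one_smul F _).symm)⟩ hsc
      have hinv : ∀ X : Submodule F (Fin n → F),
          X.map (Matrix.toLin' (1 + M)) ≤ X → X.map (Matrix.toLin' M) ≤ X := fun X hX => by
        have := map_sub_le hX 1
        rwa [one_smul, map_add, Matrix.toLin'_one,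
          show LinearMap.id + Matrix.toLin' M - 1 = Matrix.toLin' M from add_sub_cancel_left _ _] at this
      obtain ⟨ν, hν, hνs⟩ := type_of_isCompl (Matrix.toLin' M) hN0 hc (hinv U hUi) (hinv W hWi)
        (fun a ha => (hμ a ha).1) hMk
      exact ⟨ν, hν, hνs.trans hU⟩
  · intro hpart x ⟨z, hz⟩ _
    rw [Matrix.SpecialLinearGroup.coe_pow] at hz
    obtain ⟨w, hw⟩ := exists_root_char (p := p) z
    set f : Module.End F (Fin n → F) := Matrix.toLin' (x : Matrix (Fin n) (Fin n) F) with hf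
    have hN : (f - w • 1) ^ p = 0 := by
      rw [hf, show Matrix.toLin' (x : Matrix (Fin n) (Fin n) F) - w • 1 =
          Matrix.toLin' ((x : Matrix (Fin n) (Fin n) F) - w • 1) by
        rw [map_sub, map_smul, Matrix.toLin'_one]; rfl, ← Matrix.toLin'_pow]
      haveI : Nonempty (Fin n) := ⟨⟨0, hn⟩⟩
      rw [sub_pow_char_of_commute p ((Commute.one_right _).smul_right w), hz, smul_pow, one_pow, hw,
        sub_self, map_zero]
    obtain ⟨μ, hμ, hs, -, hsplit⟩ := exists_type (f - w • 1) hN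
    rw [Module.finrank_fin_fun] at hs
    obtain ⟨ν, hν, hνs⟩ := hpart μ hμ hs
    obtain ⟨U, W, hc, hU, hW, hd⟩ := hsplit ν hν
    refine ⟨U, W, hc, hd.trans hνs, ?_, ?_⟩
    · simpa using map_add_le hU w
    · simpa using map_add_le hW w

/-- Partitions into ones and twos. -/
theorem two_partitions (n m : ℕ) (hm : m ≤ n) :
    (∀ μ : Multiset ℕ, (∀ a ∈ μ, 0 < a ∧ a ≤ 2) → μ.sum = n → ∃ ν : Multiset ℕ, ν ≤ μ ∧ ν.sum = m) ↔
      (Odd n ∨ Even m) := by
  constructor
  · intro h
    by_contra hcon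
    push Not at hcon
    obtain ⟨hn, hmo⟩ := hcon
    obtain ⟨k, hk⟩ := Nat.not_odd_iff_even.mp hn
    obtain ⟨ν, hν, hνs⟩ := h (Multiset.replicate k 2)
      (fun a ha => by rw [Multiset.eq_of_mem_replicate ha]; omega) (by simp; omega)
    rw [Multiset.le_replicate_iff] at hν
    obtain ⟨j, -, rfl⟩ := hν
    rw [Multiset.sum_replicate, smul_eq_mul] at hνs
    exact hmo ⟨j, by omega⟩
  · intro h μ hμ hs
    have hrep : μ = Multiset.replicate (μ.count 1) 1 + Multiset.replicate (μ.count 2) 2 := by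
      ext e
      rw [Multiset.count_add, Multiset.count_replicate, Multiset.count_replicate]
      rcases e with _ | _ | _ | e
      · simpa using fun h0 : 0 ∈ μ => absurd (hμ 0 h0).1 (lt_irrefl 0)
      · simp
      · simp
      · simpa using fun h0 : e + 3 ∈ μ => absurd (hμ _ h0).2 (by omega)
    have hsum : μ.count 1 + 2 * μ.count 2 = n := by
      rw [← hs]
      conv_rhs => rw [hrep]
      simp [mul_comm]
    obtain ⟨i, j, hi, hj, hij⟩ : ∃ i j, i ≤ μ.count 1 ∧ j ≤ μ.count 2 ∧ i + 2 * j = m := by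
      refine ⟨m - 2 * min (μ.count 2) (m / 2), min (μ.count 2) (m / 2), ?_, by omega, by omega⟩
      rcases h with ⟨k, hk⟩ | ⟨k, hk⟩ <;> omega
    refine ⟨Multiset.replicate i 1 + Multiset.replicate j 2, ?_, by simp; omega⟩
    rw [hrep]
    exact add_le_add ((Multiset.replicate_le_replicate 1).mpr hi) ((Multiset.replicate_le_replicate 2).mpr hj)

end Cfsg.Agent.ClMax99.JType
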