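import Cfsg.Agent.KnownSimple58.CyclicDecomp
import Cfsg.Agent.ClMax99.InvSL

/-!
Jordan types of nilpotent maps: kernels of powers, sums of blocks, uniqueness (helper99).
-/

set_option autoImplicit false
set_option linter.unusedSectionVars false

namespace Cfsg.Agent.ClMax99.JType

open Polynomial Module

/-- The dimension of the kernel of the `j`th power for a nilpotent map of type `μ`. -/
def nul (μ : Multiset ℕ) (j : ℕ) : ℕ := (μ.map fun e => min e j).sum

theorem nul_add (μ ν : Multiset ℕ) (j : ℕ) : nul (μ + ν) j = nul μ j + nul ν j := by simp [nul]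

theorem count_eq (μ : Multiset ℕ) (j : ℕ) :
    nul μ j + nul μ (j + 2) + μ.count (j + 1) = 2 * nul μ (j + 1) := by
  induction μ using Multiset.induction_on with
  | empty => simp [nul]
  | cons a μ ih =>
    simp only [nul, Multiset.map_cons, Multiset.sum_cons, Multiset.count_cons] at ih ⊢
    split_ifs with h <;> omega

theorem eq_of_nul {μ ν : Multiset ℕ} (hμ : ∀ a ∈ μ, 0 < a) (hν : ∀ a ∈ ν, 0 < a)
    (h : ∀ j, nul μ j = nul ν j) : μ = ν := by
  ext e
  rcases e with _ | j
  · rw [Multiset.count_eq_zero.mpr fun h0 => (hμ 0 h0).false,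
      Multiset.count_eq_zero.mpr fun h0 => (hν 0 h0).false]
  · have h1 := count_eq μ j
    have h2 := count_eq ν j
    rw [h, h, h] at h1
    omega

variable {F : Type*} [Field F]

theorem finrank_xpow (e : ℕ) : finrank F (AdjoinRoot (X ^ e : F[X])) = e := by
  rw [(AdjoinRoot.powerBasis (pow_ne_zero e X_ne_zero)).finrank, AdjoinRoot.powerBasis_dim, natDegree_X_pow]

theorem finite_xpow (e : ℕ) : Module.Finite F (AdjoinRoot (X ^ e : F[X])) :=
  (AdjoinRoot.powerBasis (pow_ne_zero e X_ne_zero)).finite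

theorem finrank_ker_root (e j : ℕ) :
    finrank F (LinearMap.ker (LinearMap.mulLeft F ((AdjoinRoot.root (X ^ e : F[X])) ^ j))) = min e j := by
  haveI := finite_xpow (F := F) e
  haveI := finite_xpow (F := F) (e - j)
  set π := AdjoinRoot.algHomOfDvd F (X ^ e : F[X]) (X ^ (e - j))
    (pow_dvd_pow (X : F[X]) (show e - j ≤ e by omega)) with hπ
  have hmk : ∀ P, π (AdjoinRoot.mk _ P) = AdjoinRoot.mk (X ^ (e - j)) P := fun P => by
    rw [← AdjoinRoot.aeval_eq, ← Polynomial.aeval_algHom_apply, hπ,
      AdjoinRoot.algHomOfDvd_root, AdjoinRoot.aeval_eq]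
  have hs : Function.Surjective π.toLinearMap := by
    intro y
    obtain ⟨P, rfl⟩ := AdjoinRoot.mk_surjective y
    exact ⟨AdjoinRoot.mk _ P, hmk P⟩
  have hk : LinearMap.ker (LinearMap.mulLeft F ((AdjoinRoot.root (X ^ e : F[X])) ^ j)) =
      LinearMap.ker π.toLinearMap := by
    ext x
    obtain ⟨P, rfl⟩ := AdjoinRoot.mk_surjective x
    rw [LinearMap.mem_ker, LinearMap.mem_ker, LinearMap.mulLeft_apply, AlgHom.toLinearMap_apply, hmk,
      ← AdjoinRoot.mk_X, ← map_pow, ← map_mul, AdjoinRoot.mk_eq_zero, AdjoinRoot.mk_eq_zero]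
    rcases le_total j e with hje | hje
    · conv_lhs => rw [show e = j + (e - j) by omega, pow_add]
      exact mul_dvd_mul_iff_left (pow_ne_zero j X_ne_zero)
    · rw [show e - j = 0 by omega]
      exact iff_of_true (dvd_mul_of_dvd_left (pow_dvd_pow _ hje) _) (by simp)
  have h := LinearMap.finrank_range_add_finrank_ker π.toLinearMap
  rw [LinearMap.range_eq_top.mpr hs, finrank_top, finrank_xpow, finrank_xpow, ← hk] at h
  omega

variable {ι : Type*} [Fintype ι]

/-- The model space of type `e`. -/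
abbrev Model (F : Type*) [Field F] (e : ι → ℕ) : Type _ := Π i, AdjoinRoot (X ^ e i : F[X])

/-- The model nilpotent map. -/
noncomputable def shift (e : ι → ℕ) : Module.End F (Model F e) :=
  LinearMap.pi fun i => LinearMap.mulLeft F (AdjoinRoot.root (X ^ e i : F[X])) ∘ₗ LinearMap.proj i

theorem shift_pow_apply (e : ι → ℕ) (j : ℕ) (v : Model F e) (i : ι) :
    (shift e ^ j) v i = AdjoinRoot.root (X ^ e i : F[X]) ^ j * v i := by
  induction j with
  | zero => simp
  | succ j ih =>
    rw [pow_succ', Module.End.mul_apply, pow_succ', mul_assoc, ← ih]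
    rfl

theorem finrank_model (e : ι → ℕ) : finrank F (Model F e) = ∑ i, e i := by
  haveI := fun i => finite_xpow (F := F) (e i)
  rw [Module.finrank_pi_fintype]
  exact Finset.sum_congr rfl fun i _ => finrank_xpow _

theorem finrank_ker_shift (e : ι → ℕ) (j : ℕ) :
    finrank F (LinearMap.ker (shift (F := F) e ^ j)) = ∑ i, min (e i) j := by
  haveI := fun i => finite_xpow (F := F) (e i)
  let E : LinearMap.ker (shift (F := F) e ^ j) ≃ₗ[F]
      Π i, LinearMap.ker (LinearMap.mulLeft F ((AdjoinRoot.root (X ^ e i : F[X])) ^ j)) :=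
    { toFun := fun v i => ⟨(v : Model F e) i, by
        rw [LinearMap.mem_ker, LinearMap.mulLeft_apply, ← shift_pow_apply,
          LinearMap.mem_ker.mp v.2]; rfl⟩
      map_add' := fun _ _ => rfl
      map_smul' := fun _ _ => rfl
      invFun := fun w => ⟨fun i => (w i : AdjoinRoot (X ^ e i : F[X])), by
        rw [LinearMap.mem_ker]; funext i
        rw [shift_pow_apply]
        exact LinearMap.mem_ker.mp (w i).2⟩
      left_inv := fun _ => rfl
      right_inv := fun _ => rfl }
  rw [E.finrank_eq, Module.finrank_pi_fintype]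
  exact Finset.sum_congr rfl fun i _ => finrank_ker_root _ _

variable {V : Type*} [AddCommGroup V] [Module F V] [FiniteDimensional F V]

/-- Existence of a type, with invariant splittings along sub-multisets. -/
theorem exists_type (N : Module.End F V) {p : ℕ} (hN : N ^ p = 0) :
    ∃ μ : Multiset ℕ, (∀ a ∈ μ, 0 < a ∧ a ≤ p) ∧ μ.sum = finrank F V ∧
      (∀ j, finrank F (LinearMap.ker (N ^ j)) = nul μ j) ∧
      ∀ ν ≤ μ, ∃ U W : Submodule F V, IsCompl U W ∧ U.map N ≤ U ∧ W.map N ≤ W ∧ finrank F U = ν.sum := by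
  classical
  let E₀ : V ≃ₗ[F] (Fin (finrank F V) → F) := (Module.finBasis F V).equivFun
  let M : Matrix (Fin (finrank F V)) (Fin (finrank F V)) F := LinearMap.toMatrix' (E₀.conj N)
  obtain ⟨ι, hι, q, e', g, ψ, hg, hψ⟩ := Cfsg.Agent.KS58.exists_cyclic_decomp M
  let Φ : V ≃ₗ[F] Π i, AdjoinRoot (g i) := E₀.trans ψ
  have hΦ : ∀ v i, Φ (N v) i = AdjoinRoot.root (g i) * Φ v i := fun v i => by
    show _ = AdjoinRoot.root (g i) * ψ (E₀ v) i
    rw [← hψ]
    show ψ (E₀ (N v)) i = ψ (M.mulVec (E₀ v)) i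
    congr 2
    rw [← Matrix.toLin'_apply, Matrix.toLin'_toMatrix', LinearEquiv.conj_apply_apply,
      LinearEquiv.symm_apply_apply]
  have hΦp : ∀ (k : ℕ) v i, Φ ((N ^ k) v) i = AdjoinRoot.root (g i) ^ k * Φ v i := by
    intro k v i
    induction k with
    | zero => simp
    | succ k ih => rw [pow_succ', Module.End.mul_apply, hΦ, ih, pow_succ', mul_assoc]
  have hX : ∀ i, ∃ k, k ≤ p ∧ g i = X ^ k := by
    intro i
    have h0 := hΦp p (Φ.symm (Pi.single i 1)) i
    rw [hN, LinearMap.zero_apply, map_zero, LinearEquiv.apply_symm_apply, Pi.single_eq_same, mul_one,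
      Pi.zero_apply, ← AdjoinRoot.mk_X, ← map_pow, eq_comm, AdjoinRoot.mk_eq_zero] at h0
    obtain ⟨k, hk, hk'⟩ := (dvd_prime_pow prime_X p).mp h0
    exact ⟨k, hk, eq_of_monic_of_associated (hg i).2.2 (monic_X_pow k) hk'⟩
  choose e he hge using hX
  let C : (Π i, AdjoinRoot (g i)) ≃ₗ[F] Model F e :=
    LinearEquiv.piCongrRight fun i => (AdjoinRoot.algEquivOfEq F _ _ (hge i)).toLinearEquiv
  let Ψ : V ≃ₗ[F] Model F e := Φ.trans C
  have hΨ : ∀ v, Ψ (N v) = shift e (Ψ v) := fun v => by
    funext i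
    show AdjoinRoot.algEquivOfEq F _ _ (hge i) (Φ (N v) i) = _
    rw [hΦ, map_mul, AdjoinRoot.algEquivOfEq_root]
    rfl
  have hΨp : ∀ k v, Ψ ((N ^ k) v) = (shift e ^ k) (Ψ v) := by
    intro k v
    induction k with
    | zero => simp
    | succ k ih => rw [pow_succ', Module.End.mul_apply, hΨ, ih, pow_succ', Module.End.mul_apply]
  set full : Multiset ℕ := Finset.univ.val.map e with hfull
  have hdropsum : ∀ s : Multiset ℕ, (s.filter (0 < ·)).sum = s.sum ∧
      ∀ j, nul (s.filter (0 < ·)) j = nul s j := by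
    intro s
    induction s using Multiset.induction_on with
    | empty => simp [nul]
    | cons a s ih =>
      rcases Nat.eq_zero_or_pos a with rfl | ha
      · simpa [nul] using ih
      · simp [nul, ha] at ih ⊢
        exact ih
  refine ⟨full.filter (0 < ·), ?_, ?_, ?_, ?_⟩
  · intro a ha
    rw [Multiset.mem_filter, hfull, Multiset.mem_map] at ha
    obtain ⟨⟨i, -, rfl⟩, hpos⟩ := ha
    exact ⟨hpos, he i⟩
  · rw [(hdropsum _).1, Ψ.finrank_eq, finrank_model]
    rfl
  · intro j
    rw [(hdropsum _).2]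
    have hk : LinearMap.ker (N ^ j) = (LinearMap.ker (shift (F := F) e ^ j)).comap Ψ.toLinearMap := by
      ext v
      rw [LinearMap.mem_ker, Submodule.mem_comap, LinearMap.mem_ker, LinearEquiv.coe_coe, ← hΨp,
        LinearEquiv.map_eq_zero_iff]
    rw [hk, Submodule.comap_equiv_eq_map_symm, LinearEquiv.finrank_map_eq, finrank_ker_shift, nul,
      hfull, Multiset.map_map]
    rfl
  · intro ν hν
    obtain ⟨S, hS⟩ : ∃ S : Finset ι, S.val.map e = ν := by
      have hν' : ν ≤ full := hν.trans (Multiset.filter_le _ _)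
      rw [hfull] at hν'
      have : ∀ (s : Multiset ι) (ν : Multiset ℕ), ν ≤ s.map e → ∃ t ≤ s, t.map e = ν := by
        intro s
        induction s using Multiset.induction_on with
        | empty => intro ν h; exact ⟨0, le_rfl, by simpa [eq_comm] using h⟩
        | cons a s ih =>
          intro ν h
          rw [Multiset.map_cons] at h
          by_cases hmem : e a ∈ ν
          · obtain ⟨ν', rfl⟩ := Multiset.exists_cons_of_mem hmem
            obtain ⟨t, ht, rfl⟩ := ih ν' ((Multiset.cons_le_cons_iff _).mp h)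
            exact ⟨a ::ₘ t, Multiset.cons_le_cons _ ht, Multiset.map_cons _ _ _⟩
          · obtain ⟨t, ht, rfl⟩ := ih ν ((Multiset.le_cons_of_notMem hmem).mp h)
            exact ⟨t, ht.trans (Multiset.le_cons_self _ _), rfl⟩
      obtain ⟨t, ht, rfl⟩ := this _ _ hν'
      exact ⟨⟨t, Multiset.nodup_of_le ht Finset.univ.nodup⟩, rfl⟩
    let sup : Finset ι → Submodule F (Model F e) := fun T => ⨅ i ∈ (Tᶜ : Finset ι), LinearMap.ker (LinearMap.proj i)
    have hsup : ∀ T v, v ∈ sup T ↔ ∀ i, i ∉ T → v i = 0 := fun T v => by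
      simp [sup, Submodule.mem_iInf]
    have hinv : ∀ T, (sup T).map (shift e) ≤ sup T := by
      rintro T _ ⟨v, hv, rfl⟩
      rw [hsup]
      intro i hi
      show AdjoinRoot.root _ * v i = 0
      rw [(hsup T v).mp hv i hi, mul_zero]
    have hcompl : IsCompl (sup S) (sup Sᶜ) := by
      constructor
      · rw [Submodule.disjoint_def]
        intro v h1 h2
        funext i
        by_cases hi : i ∈ S
        · exact (hsup _ v).mp h2 i (by simpa using hi)
        · exact (hsup _ v).mp h1 i hi
      · rw [codisjoint_iff, eq_top_iff]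
        intro v _
        refine Submodule.mem_sup.mpr ⟨fun i => if i ∈ S then v i else 0, (hsup _ _).mpr
          (fun i hi => if_neg hi), fun i => if i ∈ S then 0 else v i, (hsup _ _).mpr
          (fun i hi => if_pos (by simpa using hi)), ?_⟩
        funext i
        by_cases hi : i ∈ S <;> simp [hi]
    have hdimS : finrank F (sup S) = ν.sum := by
      haveI := fun i => finite_xpow (F := F) (e i)
      let E : sup S ≃ₗ[F] Π i : S, AdjoinRoot (X ^ e i.1 : F[X]) :=
        { toFun := fun v i => (v : Model F e) i.1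
          map_add' := fun _ _ => rfl
          map_smul' := fun _ _ => rfl
          invFun := fun w => ⟨fun i => if h : i ∈ S then w ⟨i, h⟩ else 0,
            (hsup S _).mpr fun i hi => dif_neg hi⟩
          left_inv := fun v => by
            apply Subtype.ext
            funext i
            by_cases hi : i ∈ S
            · simp [hi]
            · simp [hi, (hsup S _).mp v.2 i hi]
          right_inv := fun w => by funext i; simp }
      rw [E.finrank_eq, Module.finrank_pi_fintype, ← hS, Finset.sum_map_val,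
        ← Finset.sum_coe_sort S (fun i => e i)]
      exact Finset.sum_congr rfl fun i _ => finrank_xpow (e i.1)
    have hmap : ∀ T, ((sup T).comap Ψ.toLinearMap).map N ≤ (sup T).comap Ψ.toLinearMap := by
      rintro T _ ⟨v, hv, rfl⟩
      rw [Submodule.mem_comap, LinearEquiv.coe_coe, hΨ]
      exact hinv T ⟨_, hv, rfl⟩
    refine ⟨(sup S).comap Ψ.toLinearMap, (sup Sᶜ).comap Ψ.toLinearMap, ?_, hmap S, hmap Sᶜ, ?_⟩
    · exact (Submodule.orderIsoMapComap Ψ).symm.isCompl_iff.mp hcompl
    · rw [Submodule.comap_equiv_eq_map_symm, LinearEquiv.finrank_map_eq, hdimS]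

theorem finrank_prod_submodule {A B : Type*} [AddCommGroup A] [Module F A] [AddCommGroup B] [Module F B]
    [FiniteDimensional F A] [FiniteDimensional F B] (P : Submodule F A) (Q : Submodule F B) :
    finrank F (P.prod Q) = finrank F P + finrank F Q := by
  let E : P.prod Q ≃ₗ[F] P × Q :=
    { toFun := fun x => (⟨(x : A × B).1, x.2.1⟩, ⟨(x : A × B).2, x.2.2⟩)
      map_add' := fun _ _ => rfl
      map_smul' := fun _ _ => rfl
      invFun := fun y => ⟨((y.1 : A), (y.2 : B)), y.1.2, y.2.2⟩
      left_inv := fun _ => rfl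
      right_inv := fun _ => rfl }
  rw [E.finrank_eq, Module.finrank_prod]

/-- The type of a direct sum. -/
theorem type_of_isCompl (N : Module.End F V) {p : ℕ} (hN : N ^ p = 0) {U W : Submodule F V}
    (hc : IsCompl U W) (hU : U.map N ≤ U) (hW : W.map N ≤ W) {μ : Multiset ℕ} (hμ : ∀ a ∈ μ, 0 < a)
    (hμn : ∀ j, finrank F (LinearMap.ker (N ^ j)) = nul μ j) :
    ∃ ν, ν ≤ μ ∧ ν.sum = finrank F U := by
  have hu : ∀ x ∈ U, N x ∈ U := fun x hx => hU ⟨x, hx, rfl⟩
  have hw : ∀ x ∈ W, N x ∈ W := fun x hx => hW ⟨x, hx, rfl⟩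
  set NU : Module.End F U := N.restrict hu
  set NW : Module.End F W := N.restrict hw
  have hpu : ∀ (j : ℕ) (x : U), ((NU ^ j) x : V) = (N ^ j) x := by
    intro j x
    induction j with
    | zero => simp
    | succ j ih => rw [pow_succ', Module.End.mul_apply, pow_succ', Module.End.mul_apply, ← ih]; rfl
  have hpw : ∀ (j : ℕ) (x : W), ((NW ^ j) x : V) = (N ^ j) x := by
    intro j x
    induction j with
    | zero => simp
    | succ j ih => rw [pow_succ', Module.End.mul_apply, pow_succ', Module.End.mul_apply, ← ih]; rfl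
  obtain ⟨α, hα, hαs, hαk, -⟩ := exists_type NU (p := p)
    (LinearMap.ext fun x => Subtype.ext (by rw [hpu, hN]; simp))
  obtain ⟨β, hβ, -, hβk, -⟩ := exists_type NW (p := p)
    (LinearMap.ext fun x => Subtype.ext (by rw [hpw, hN]; simp))
  refine ⟨α, ?_, hαs⟩
  have key : α + β = μ := by
    refine eq_of_nul (fun a ha => ?_) hμ fun j => ?_
    · rcases Multiset.mem_add.mp ha with h | h
      exacts [(hα a h).1, (hβ a h).1]
    · rw [nul_add, ← hαk, ← hβk, ← hμn]
      let E := Submodule.prodEquivOfIsCompl U W hc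
      have hE : LinearMap.ker (N ^ j) =
          ((LinearMap.ker (NU ^ j)).prod (LinearMap.ker (NW ^ j))).map E.toLinearMap := by
        ext x
        obtain ⟨⟨a, b⟩, rfl⟩ := E.surjective x
        rw [LinearMap.mem_ker, Submodule.mem_map_equiv, LinearEquiv.symm_apply_apply, Submodule.mem_prod,
          LinearMap.mem_ker, LinearMap.mem_ker, Submodule.coe_prodEquivOfIsCompl', map_add, ← hpu, ← hpw]
        constructor
        · intro h
          have h0 := (Submodule.disjoint_def.mp hc.disjoint) _ ((NU ^ j) a).2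
            (by rw [eq_neg_of_add_eq_zero_left h]; exact W.neg_mem ((NW ^ j) b).2)
          rw [h0, zero_add] at h
          exact ⟨Subtype.ext h0, Subtype.ext h⟩
        · rintro ⟨h1, h2⟩
          rw [h1, h2]; simp
      rw [hE, LinearEquiv.finrank_map_eq, finrank_prod_submodule]
  exact key ▸ Multiset.le_add_right _ _

/-- A nilpotent map of prescribed type. -/
theorem exists_nilpotent {n p : ℕ} (μ : Multiset ℕ) (hμ : ∀ a ∈ μ, a ≤ p) (hs : μ.sum = n) :
    ∃ M : Matrix (Fin n) (Fin n) F, M ^ p = 0 ∧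
      ∀ j, finrank F (LinearMap.ker ((Matrix.toLin' M) ^ j)) = nul μ j := by
  obtain ⟨l, rfl⟩ : ∃ l : List ℕ, (l : Multiset ℕ) = μ := Quot.exists_rep μ
  let e : Fin l.length → ℕ := fun i => l[i.1]
  have hl : (Finset.univ.val.map e : Multiset ℕ) = (l : Multiset ℕ) := by
    simp [Fin.univ_def, e]
  haveI := fun i => finite_xpow (F := F) (e i)
  have hd : finrank F (Model F e) = n := by
    rw [finrank_model, ← hs, ← hl]; rfl
  obtain ⟨M, E, hM, hMp⟩ := Inv.exists_matrix n hd (shift (F := F) e)
  refine ⟨M, ?_, fun j => ?_⟩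
  · have h0 : shift (F := F) e ^ p = (0 : F) • 1 := by
      rw [zero_smul]
      refine LinearMap.ext fun v => funext fun i => ?_
      have hi : e i ≤ p := hμ _ (by simp [e])
      rw [shift_pow_apply, ← AdjoinRoot.mk_X, ← map_pow, AdjoinRoot.mk_eq_zero.mpr (pow_dvd_pow _ hi),
        zero_mul]
      rfl
    simpa using hMp p 0 h0
  · have hj : (Matrix.toLin' M) ^ j = E.conj (shift (F := F) e ^ j) := by
      rw [hM]; exact (map_pow (E.conjAlgEquiv F) _ j).symm
    have hk : LinearMap.ker ((Matrix.toLin' M) ^ j) =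
        (LinearMap.ker (shift (F := F) e ^ j)).map E.toLinearMap := by
      ext v
      rw [hj, Submodule.mem_map_equiv, LinearMap.mem_ker, LinearMap.mem_ker,
        LinearEquiv.conj_apply_apply, LinearEquiv.map_eq_zero_iff]
    rw [hk, LinearEquiv.finrank_map_eq, finrank_ker_shift, nul, ← hl, Multiset.map_map]
    rfl

end Cfsg.Agent.ClMax99.JType
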