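import Cfsg.Agent.ClMax99.PSLMax

/-!
Subfield subgroups of `PSL₂(q)`: existence and the arithmetic of their orders (helper99).
-/

set_option autoImplicit false
set_option linter.unusedSectionVars false

namespace Cfsg.Agent.ClMax99

open Cfsg.Agent.Dickson
open scoped MatrixGroups

theorem nonempty_ringHom {F K : Type*} [Field F] [Fintype F] [Field K] [Fintype K] (p : ℕ)
    [Fact p.Prime] [CharP F p] [CharP K p] {r : ℕ}
    (h : Fintype.card F = Fintype.card K ^ r) : Nonempty (K →+* F) := by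
  obtain ⟨n, -, hn⟩ := FiniteField.card K p
  obtain ⟨m, -, hm⟩ := FiniteField.card F p
  letI := ZMod.algebra F p
  letI := ZMod.algebra K p
  have hK : Module.finrank (ZMod p) K = n := by
    apply Nat.pow_right_injective (Fact.out : p.Prime).two_le
    show p ^ _ = p ^ _
    have := Module.card_eq_pow_finrank (K := ZMod p) (V := K)
    rw [ZMod.card, hn] at this
    exact this.symm
  have hF : Module.finrank (ZMod p) F = n * r := by
    apply Nat.pow_right_injective (Fact.out : p.Prime).two_le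
    show p ^ _ = p ^ _
    have := Module.card_eq_pow_finrank (K := ZMod p) (V := F)
    rw [ZMod.card, h, hn, ← pow_mul] at this
    exact this.symm
  exact ⟨(FiniteField.nonempty_algHom_of_finrank_dvd (F := ZMod p) (by rw [hK, hF]; exact dvd_mul_right _ _)).some.toRingHom⟩

theorem charP_of_card {F K : Type*} [Field F] [Fintype F] [Field K] [Fintype K] {r : ℕ}
    (h : Fintype.card F = Fintype.card K ^ r) (p : ℕ) [Fact p.Prime] [CharP K p] : CharP F p := by
  obtain ⟨n, -, hn⟩ := FiniteField.card K p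
  refine (CharP.charP_iff_prime_eq_zero Fact.out).mpr ?_
  have h0 : ((p : F)) ^ ((n : ℕ) * r) = 0 := by
    rw [← Nat.cast_pow, pow_mul, ← hn, ← h, FiniteField.cast_card_eq_zero]
  exact eq_zero_of_pow_eq_zero h0

/-- The subgroup image of an injective homomorphism. -/
theorem exists_range {G H : Type*} [Group G] [Group H] (f : G →* H) (hf : Function.Injective f) :
    ∃ S : Subgroup H, Nonempty (S ≃* G) :=
  ⟨f.range, ⟨(MonoidHom.ofInjective hf).symm⟩⟩

/-- An element of a finite field with an even-degree extension is a square there. -/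
theorem isSquare_map {F K : Type*} [Field F] [Fintype F] [Field K] [Fintype K]
    (h : Fintype.card F = Fintype.card K ^ 2) (hq : Odd (Fintype.card K)) (f : K →+* F) (x : K) :
    IsSquare (f x) := by
  rcases eq_or_ne x 0 with rfl | hx
  · exact ⟨0, by simp⟩
  have h2 : ringChar F ≠ 2 := by
    intro e
    have := FiniteField.even_card_of_char_two e
    rw [h] at this
    have := hq.pow (n := 2)
    grind
  rw [FiniteField.isSquare_iff h2 (by simpa using hx), ← map_pow]
  have hd : Fintype.card K - 1 ∣ Fintype.card F / 2 := by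
    obtain ⟨k, hk⟩ := hq
    rw [h, hk]
    refine ⟨k + 1, ?_⟩
    have : (2 * k + 1) ^ 2 = 2 * (2 * k * (k + 1)) + 1 := by ring
    rw [this, Nat.add_sub_cancel, Nat.mul_add_div two_pos]
    simp
  obtain ⟨k, hk⟩ := hd
  rw [hk, pow_mul, FiniteField.pow_card_sub_one_eq_one x hx, one_pow, map_one]

theorem map_pgl_hom_injective {F K : Type*} [Field F] [Field K] (f : K →+* F) :
    Function.Injective (Matrix.ProjGenLinGroup.map (n := Fin 2) f) := by
  rw [injective_iff_map_eq_one]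
  intro g hg
  obtain ⟨M, rfl⟩ := Matrix.ProjGenLinGroup.mk_surjective g
  rw [Matrix.ProjGenLinGroup.map_mk, Matrix.ProjGenLinGroup.mk_eq_one,
    Matrix.GeneralLinearGroup.center_eq_range_scalar] at hg
  obtain ⟨u, hu⟩ := hg
  have hm : ∀ i j, f ((M : Matrix (Fin 2) (Fin 2) K) i j)
      = Matrix.diagonal (fun _ => (u : F)) i j := fun i j => by
    have h := congrArg (fun z : GL (Fin 2) F => (z : Matrix (Fin 2) (Fin 2) F) i j) hu
    simpa [Matrix.GeneralLinearGroup.coe_scalar] using h.symm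
  have h01 : M 0 1 = 0 := f.injective (by simpa using hm 0 1)
  have h10 : M 1 0 = 0 := f.injective (by simpa using hm 1 0)
  have h11 : M 1 1 = M 0 0 := f.injective ((hm 1 1).trans (by simpa using (hm 0 0).symm))
  have h00 : M 0 0 ≠ 0 := fun e => by
    have h := ((Matrix.isUnit_iff_isUnit_det _).mp M.isUnit).ne_zero
    rw [Matrix.det_fin_two] at h
    simp [e, h01] at h
  rw [Matrix.ProjGenLinGroup.mk_eq_one, Matrix.GeneralLinearGroup.center_eq_range_scalar]
  refine ⟨Units.mk0 _ h00, Units.ext (Matrix.ext fun i j => ?_)⟩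
  fin_cases i <;> fin_cases j <;> simp [Matrix.GeneralLinearGroup.coe_scalar, h01, h10, h11]

theorem exists_PGL_le {F K : Type*} [Field F] [Fintype F] [Field K] [Fintype K]
    (h : Fintype.card F = Fintype.card K ^ 2) (hq : Odd (Fintype.card K)) (f : K →+* F) :
    ∃ S : Subgroup (PSL2 F), Nonempty (S ≃* Matrix.ProjGenLinGroup (Fin 2) K) := by
  set J : PSL2 F →* Matrix.ProjGenLinGroup (Fin 2) F :=
    Matrix.ProjectiveSpecialLinearGroup.toPGL with hJ
  set ρ := Matrix.ProjGenLinGroup.map (n := Fin 2) f with hρ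
  have hle : ρ.range ≤ J.range := by
    rintro _ ⟨g, rfl⟩
    obtain ⟨M, rfl⟩ := Matrix.ProjGenLinGroup.mk_surjective g
    have hd : (M : Matrix (Fin 2) (Fin 2) K).det ≠ 0 :=
      ((Matrix.isUnit_iff_isUnit_det _).mp M.isUnit).ne_zero
    obtain ⟨s, hs⟩ := isSquare_map h hq f (M : Matrix (Fin 2) (Fin 2) K).det
    have hs0 : s ≠ 0 := by
      rintro rfl
      rw [mul_zero, map_eq_zero] at hs
      exact hd hs
    set N : Matrix (Fin 2) (Fin 2) F := s⁻¹ • (M : Matrix (Fin 2) (Fin 2) K).map f with hN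
    have hNd : N.det = 1 := by
      rw [hN, Matrix.det_smul, Fintype.card_fin, ← RingHom.mapMatrix_apply, ← RingHom.map_det, hs]
      field_simp
    refine ⟨QuotientGroup.mk ⟨N, hNd⟩, ?_⟩
    show Matrix.ProjGenLinGroup.mk _ = _
    rw [hρ, Matrix.ProjGenLinGroup.map_mk, eq_comm, Matrix.ProjGenLinGroup.mk_eq_mk_iff]
    refine ⟨Units.mk0 s⁻¹ (inv_ne_zero hs0), Units.ext ?_⟩
    ext i j
    simp [hN, Matrix.GeneralLinearGroup.coe_scalar, Matrix.SpecialLinearGroup.toGL,
      Matrix.mul_apply, Fin.sum_univ_two, Matrix.diagonal]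
    fin_cases i <;> simp [mul_comm]
  let e : Matrix.ProjGenLinGroup (Fin 2) K →* PSL2 F :=
    (MonoidHom.ofInjective Matrix.ProjectiveSpecialLinearGroup.toPGL_injective).symm.toMonoidHom.comp
      ((Subgroup.inclusion hle).comp ρ.rangeRestrict)
  refine exists_range e ?_
  exact (MonoidHom.ofInjective (f := J) Matrix.ProjectiveSpecialLinearGroup.toPGL_injective).symm.injective.comp
    ((Subgroup.inclusion_injective hle).comp (by
      intro x y hxy
      exact map_pgl_hom_injective f (congrArg Subtype.val hxy)))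

theorem coprime_sub_one {p n : ℕ} (hp : 0 < p) (hn : 0 < n) : p.Coprime (p ^ n - 1) := by
  apply Nat.coprime_of_dvd'
  intro k _ hk hk'
  have h1 : k ∣ p ^ n := hk.trans (dvd_pow_self p hn.ne')
  have := Nat.dvd_sub h1 hk'
  rwa [Nat.sub_sub_self (Nat.one_le_pow _ _ hp)] at this

/-- If the order of a subfield group over `p^b` divides one over `p^a`, then `b ∣ a`. -/
theorem dvd_of_order_dvd {p a b X : ℕ} (hp : p.Prime) (ha : 0 < a) (hb : 0 < b) (hpb : 3 ≤ p ^ b)
    (hX : (p ^ b * ((p ^ b) ^ 2 - 1)) ∣ 2 * X) (hX' : X ∣ p ^ a * ((p ^ a) ^ 2 - 1)) :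
    b ∣ a := by
  rw [← pow_mul] at hX hX'
  have h1 : p ^ b * (p ^ (b * 2) - 1) ∣ p ^ a * (2 * (p ^ (a * 2) - 1)) := by
    rw [show p ^ a * (2 * (p ^ (a * 2) - 1)) = 2 * (p ^ a * (p ^ (a * 2) - 1)) by ring]
    exact hX.trans (Nat.mul_dvd_mul_left 2 hX')
  have hc : (p ^ (b * 2) - 1).Coprime (p ^ a) :=
    ((coprime_sub_one (p := p) (n := b * 2) hp.pos (by omega)).pow_left a).symm
  have h2 : p ^ (b * 2) - 1 ∣ 2 * (p ^ (a * 2) - 1) :=
    hc.dvd_of_dvd_mul_left ((dvd_mul_left _ _).trans h1)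
  have h3 : p ^ (b * 2) - 1 ∣ 2 * Nat.gcd (p ^ (b * 2) - 1) (p ^ (a * 2) - 1) := by
    have := Nat.dvd_gcd (dvd_mul_left (p ^ (b * 2) - 1) 2) h2
    rwa [Nat.gcd_mul_left] at this
  rw [Nat.pow_sub_one_gcd_pow_sub_one, Nat.gcd_mul_right] at h3
  have hg : Nat.gcd b a ∣ b := Nat.gcd_dvd_left _ _
  by_contra hba
  have hne : Nat.gcd b a ≠ b := fun e => hba (e ▸ Nat.gcd_dvd_right b a)
  have hle : Nat.gcd b a * 2 ≤ b := by
    obtain ⟨c, hc⟩ := hg
    have hg0 : 0 < Nat.gcd b a := Nat.gcd_pos_of_pos_left _ hb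
    rcases c with _ | _ | c
    · omega
    · omega
    · calc Nat.gcd b a * 2 ≤ Nat.gcd b a * (c + 1 + 1) := Nat.mul_le_mul_left _ (by omega)
        _ = b := hc.symm
  have hpos : 0 < p ^ (Nat.gcd b a * 2) - 1 := by
    have : 1 < p ^ (Nat.gcd b a * 2) := Nat.one_lt_pow
      (by have := Nat.gcd_pos_of_pos_left a hb; omega) hp.one_lt
    omega
  have h4 := Nat.le_of_dvd (by omega) h3
  have h5 : p ^ (Nat.gcd b a * 2) ≤ p ^ b := Nat.pow_le_pow_right hp.pos hle
  have h6 : p ^ (b * 2) = p ^ b * p ^ b := by rw [← pow_add]; congr 1; omega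
  nlinarith [Nat.sub_add_cancel (Nat.one_le_pow (b * 2) p hp.pos),
    Nat.sub_add_cancel (Nat.one_le_pow (Nat.gcd b a * 2) p hp.pos)]

/-- The only subfield group between `q` and `q^r`, `r` prime, is the one over `q`. -/
theorem eq_of_order_dvd {p b t m r X : ℕ} (hp : p.Prime) (hb : 0 < b) (hpb : 3 ≤ p ^ b)
    (hr : r.Prime) (ht : t ^ m = (p ^ b) ^ r) (hm : 2 ≤ m)
    (hX : (p ^ b * ((p ^ b) ^ 2 - 1)) ∣ 2 * X) (hX' : X ∣ t * (t ^ 2 - 1)) :
    t = p ^ b := by
  have htd : t ∣ p ^ (b * r) := by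
    rw [pow_mul, ← ht]
    exact dvd_pow_self t (by omega)
  obtain ⟨a, -, rfl⟩ := (Nat.dvd_prime_pow hp).mp htd
  rw [← pow_mul, ← pow_mul] at ht
  have hexp := Nat.pow_right_injective hp.two_le ht
  have ha : 0 < a := by
    rcases Nat.eq_zero_or_pos a with rfl | h
    · simp [hb.ne', hr.ne_zero] at hexp
    · exact h
  obtain ⟨c, rfl⟩ := dvd_of_order_dvd hp ha hb hpb hX hX'
  have hc : c * m = r := Nat.eq_of_mul_eq_mul_left hb (by rw [← mul_assoc]; exact hexp)
  rcases (Nat.dvd_prime hr).mp ⟨m, hc.symm⟩ with rfl | rfl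
  · rw [mul_one]
  · have : m = 1 := Nat.eq_of_mul_eq_mul_left hr.pos (by rw [mul_one]; exact hc)
    omega

theorem odd_geom (q k : ℕ) (hq : Odd q) :
    ∃ s, q ^ (2 * (2 * k + 1)) - 1 = (q ^ 2 - 1) * (2 * s + 1) := by
  obtain ⟨k', hk'⟩ : ∃ s, ∑ i ∈ Finset.range (2 * k + 1), (q ^ 2) ^ i = 2 * s + 1 := by
    apply Odd.exists_bit1
    rw [Finset.odd_sum_iff_odd_card_odd, Finset.filter_true_of_mem fun i _ => (hq.pow).pow,
      Finset.card_range]
    exact odd_two_mul_add_one k
  refine ⟨k', ?_⟩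
  have h2 : 2 ≤ q ^ 2 ∨ q = 1 := by
    rcases Nat.lt_or_ge q 2 with h | h
    · right; have := hq.pos; omega
    · left; nlinarith
  rcases h2 with h2 | rfl
  · rw [← hk', pow_mul]
    exact (geom_sum_mul_of_one_le (by omega) _).symm.trans (mul_comm _ _)
  · simp

end Cfsg.Agent.ClMax99
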