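import Cfsg.Agent.OrthFix.Std
import Mathlib.Algebra.QuadraticAlgebra.Basic

/-!
Self-adjoint square roots of a non-square for a quadratic form: the form over the quadratic extension.
-/

set_option autoImplicit false
set_option linter.unusedSectionVars false

namespace Cfsg.Agent.ClMax99.SelfAdj

open QuadraticMap Cfsg.Agent.OrthFix
open Cfsg.Agent.UnitaryOrthogonal (PolarND orth hypSum zeroForm sqForm binForm)
open scoped QuadraticAlgebra

universe u v

variable {F : Type u} [Field F] {V : Type v} [AddCommGroup V] [Module F V]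

/-- A self-adjoint square root of a non-square. -/
structure SA (Q : QuadraticForm F V) (j : Module.End F V) (δ : F) : Prop where
  sq : ∀ v, j (j v) = δ • v
  sa : ∀ u v, polar Q (j u) v = polar Q u (j v)
  nsq : ∀ t : F, t * t ≠ δ
  two : (2 : F) ≠ 0

variable {Q : QuadraticForm F V} {j : Module.End F V} {δ : F}

theorem SA.ne_zero (h : SA Q j δ) : δ ≠ 0 := fun e => h.nsq 0 (by rw [e, mul_zero])

theorem SA.no_eigen (h : SA Q j δ) {v : V} {t : F} (hv : j v = t • v) : v = 0 := by
  have := h.sq v
  rw [hv, map_smul, hv, smul_smul] at this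
  by_contra hne
  exact h.nsq t (smul_left_injective F hne this)

/-- The quadratic extension. -/
abbrev Ext (δ : F) := QuadraticAlgebra F δ 0

theorem SA.fact (h : SA Q j δ) : Fact (∀ r : F, r ^ 2 ≠ δ + 0 * r) :=
  ⟨fun r hr => h.nsq r (by linear_combination hr)⟩

/-- The space, as a module over the extension. -/
@[nolint unusedArguments]
def Mod (_ : SA Q j δ) := V

variable {h : SA Q j δ}

instance : AddCommGroup (Mod h) := inferInstanceAs (AddCommGroup V)
instance : Module F (Mod h) := inferInstanceAs (Module F V)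

/-- The action of the extension. -/
noncomputable def SA.action (h : SA Q j δ) : Ext δ →ₐ[F] Module.End F V :=
  QuadraticAlgebra.lift ⟨(j : Module.End F V), LinearMap.ext fun v => by
    show j (j v) = _
    rw [h.sq, zero_smul, add_zero]
    rfl⟩

noncomputable instance : Module (Ext δ) (Mod h) :=
  show Module (Ext δ) V from Module.compHom V h.action.toRingHom

/-- The identification with the space. -/
def toV : Mod h ≃ₗ[F] V := LinearEquiv.refl F V

theorem toV_smul (a : Ext δ) (v : Mod h) : toV (a • v) = a.re • toV v + a.im • j (toV v) := rfl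

instance : IsScalarTower F (Ext δ) (Mod h) := ⟨fun t a v => toV.injective (by
  rw [map_smul toV t (a • v), toV_smul, toV_smul, QuadraticAlgebra.re_smul, QuadraticAlgebra.im_smul, smul_eq_mul, smul_eq_mul,
    smul_add, smul_smul, smul_smul])⟩

instance [Finite V] : Finite (Mod h) := inferInstanceAs (Finite V)
instance [FiniteDimensional F V] : Module.Finite F (Mod h) := inferInstanceAs (Module.Finite F V)
instance [FiniteDimensional F V] : Module.Finite (Ext δ) (Mod h) :=
  Module.Finite.of_restrictScalars_finite F (Ext δ) (Mod h)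

/-- The bilinear form over the extension. -/
noncomputable def SA.hform (h : SA Q j δ) : LinearMap.BilinForm (Ext δ) (Mod h) :=
  LinearMap.mk₂ (Ext δ) (fun u v => (⟨polar Q (toV u) (j (toV v)), polar Q (toV u) (toV v)⟩ : Ext δ))
    (fun u u' v => QuadraticAlgebra.ext (by simp [polar_add_left]) (by simp [polar_add_left]))
    (fun a u v => by
      refine QuadraticAlgebra.ext ?_ ?_ <;>
        simp only [toV_smul, polar_add_left, polar_smul_left, h.sa, h.sq, polar_smul_right, smul_eq_mul,
          QuadraticAlgebra.re_mul, QuadraticAlgebra.im_mul]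
      · ring
      · ring)
    (fun u v v' => QuadraticAlgebra.ext (by simp [polar_add_right]) (by simp [polar_add_right]))
    (fun a u v => by
      refine QuadraticAlgebra.ext ?_ ?_ <;>
        simp only [toV_smul, map_add, map_smul, polar_add_right, h.sq, polar_smul_right, smul_eq_mul,
          QuadraticAlgebra.re_mul, QuadraticAlgebra.im_mul]
      · ring
      · ring)

/-- The quadratic form over the extension. -/
noncomputable def SA.qh (h : SA Q j δ) : QuadraticForm (Ext δ) (Mod h) := h.hform.toQuadraticMap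

theorem qh_apply (v : Mod h) :
    h.qh v = ⟨polar Q (toV v) (j (toV v)), polar Q (toV v) (toV v)⟩ := rfl

theorem qh_im (v : Mod h) : (h.qh v).im = 2 * Q (toV v) := by
  rw [qh_apply, polar_self, nsmul_eq_mul, Nat.cast_ofNat]

theorem polar_qh (u v : Mod h) :
    polar h.qh u v = (⟨2 * polar Q (toV u) (j (toV v)), 2 * polar Q (toV u) (toV v)⟩ : Ext δ) := by
  have e1 : polar Q (toV v) (j (toV u)) = polar Q (toV u) (j (toV v)) := by rw [polar_comm, h.sa]
  show h.hform (u + v) (u + v) - h.hform u u - h.hform v v = _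
  simp only [map_add, LinearMap.add_apply]
  refine QuadraticAlgebra.ext ?_ ?_ <;>
    simp only [SA.hform, LinearMap.mk₂_apply, QuadraticAlgebra.re_sub, QuadraticAlgebra.im_sub,
      QuadraticAlgebra.re_add, QuadraticAlgebra.im_add, e1, polar_comm Q (toV v) (toV u)] <;> ring

theorem qh_polarND [Fact (∀ r : F, r ^ 2 ≠ δ + 0 * r)] (hQ : PolarND Q) : PolarND h.qh := fun u hu => toV.injective (by
  rw [map_zero]
  refine hQ _ fun x => ?_
  obtain ⟨x', rfl⟩ := (toV (h := h)).surjective x
  have := congrArg QuadraticAlgebra.im (hu x')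
  rw [polar_qh] at this
  exact (mul_eq_zero.1 this).resolve_left h.two)

theorem finrank_mod [FiniteDimensional F V] {d : ℕ} (hd : Module.finrank F V = 2 * d) :
    Module.finrank (Ext δ) (Mod h) = d := by
  haveI := h.fact
  have e : Module.finrank F (Mod h) = 2 * d := hd
  rw [← Module.finrank_mul_finrank F (Ext δ) (Mod h), QuadraticAlgebra.finrank_eq_two] at e
  omega

/-- An isometry over the extension as an isometry of `Q`. -/
theorem exists_orth {j' : Module.End F V} {h' : SA Q j' δ} (e : Mod h ≃ₗ[Ext δ] Mod h')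
    (he : ∀ v, h'.qh (e v) = h.qh v) : ∃ g : orth Q, ∀ v, g.1 v = toV (e (toV.symm v)) :=
  ⟨⟨(toV.symm.trans (e.restrictScalars F)).trans toV, fun v => by
    have := congrArg QuadraticAlgebra.im (he (toV.symm v))
    rw [qh_im, qh_im, LinearEquiv.apply_symm_apply] at this
    exact mul_left_cancel₀ h.two this⟩, fun v => rfl⟩

theorem omega_smul (v : Mod h) : toV ((ω : Ext δ) • v) = j (toV v) := by
  rw [toV_smul, QuadraticAlgebra.omega_re, QuadraticAlgebra.omega_im, zero_smul, one_smul, zero_add]

section Finite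

variable [Fintype F] [FiniteDimensional F V] [Finite V]

noncomputable instance extFintype : Fintype (Ext δ) := Fintype.ofEquiv _ (QuadraticAlgebra.equivProd δ 0).symm

theorem card_ext (δ : F) : Fintype.card (Ext δ) = Fintype.card F ^ 2 := by
  rw [Fintype.ofEquiv_card, Fintype.card_prod, pow_two]

/-- The sign over the extension is the sign over the ground field. -/
theorem qh_sig [Fact (∀ r : F, r ^ 2 ≠ δ + 0 * r)] (h : SA Q j δ) (hQ : PolarND Q) {d : ℕ}
    (hd : Module.finrank F V = 2 * d) {ε : ℤ} (hs : Sig Q ε) : Sig h.qh ε := by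
  classical
  obtain ⟨εh, hh⟩ := exists_sig (qh_polarND (h := h) hQ)
  set C : F → Ext δ := fun a => algebraMap F (Ext δ) a with hC
  have him : ∀ a, (C a).im = 0 := fun a => by simp [hC]
  have hlev : UnitaryOrthogonal.level Q 0 = ∑ a : F, UnitaryOrthogonal.level h.qh (C a) := by
    have e : {v : V // Q v = 0} ≃ Σ a : F, {w : Mod h // h.qh w = C a} :=
      { toFun := fun v => ⟨(h.qh (toV.symm v.1)).re, toV.symm v.1, QuadraticAlgebra.ext (by simp [hC]) (by
          rw [him, qh_im, LinearEquiv.apply_symm_apply, v.2, mul_zero])⟩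
        invFun := fun p => ⟨toV p.2.1, by
          have := congrArg QuadraticAlgebra.im p.2.2
          rw [him, qh_im] at this
          exact (mul_eq_zero.1 this).resolve_left h.two⟩
        left_inv := fun v => Subtype.ext (LinearEquiv.apply_symm_apply _ _)
        right_inv := fun ⟨a, w, hw⟩ => by
          have : (h.qh w).re = a := by rw [hw]; simp [hC]
          subst this
          rfl }
    rw [UnitaryOrthogonal.level, Nat.card_congr e, Nat.card_sigma]
    rfl
  set q := (Fintype.card F : ℤ)
  have hE : (Fintype.card (Ext δ) : ℤ) = q ^ 2 := by rw [card_ext, Nat.cast_pow]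
  have h1 := hs.count 0
  rw [hd, kern_even (even_two_mul d), nu, if_pos rfl, show 2 * d / 2 = d by omega] at h1
  have h2 : q ^ 2 * (UnitaryOrthogonal.level Q 0 : ℤ) = q * (q ^ 2) ^ d + εh * ∑ a : F, kern d (C a) := by
    rw [hlev, Nat.cast_sum, Finset.mul_sum, Finset.mul_sum]
    have := fun a => hh.count (C a)
    simp only [finrank_mod hd, hE] at this
    simp only [this, Finset.sum_add_distrib, Finset.sum_const, Finset.card_univ, nsmul_eq_mul]
    rfl
  have hC0 : ∀ a, C a = 0 ↔ a = 0 := fun a => map_eq_zero (algebraMap F (Ext δ))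
  have hK : ∑ a : F, kern d (C a) = (q - 1) * q * q ^ d := by
    rw [← Finset.sum_erase_add _ _ (Finset.mem_univ (0 : F))]
    rcases Nat.even_or_odd d with hev | ho
    · obtain ⟨k, hk⟩ := hev
      rw [Finset.sum_congr rfl (g := fun _ => -((q ^ 2) ^ (d / 2))) fun a ha => by
        rw [kern_even ⟨k, hk⟩, nu, if_neg ((hC0 a).not.2 (Finset.ne_of_mem_erase ha)), hE, neg_one_mul]]
      rw [kern_even ⟨k, hk⟩, nu, if_pos ((hC0 0).2 rfl), hE, Finset.sum_const,
        Finset.card_erase_of_mem (Finset.mem_univ _), Finset.card_univ, nsmul_eq_mul,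
        Nat.cast_sub Fintype.card_pos, ← pow_mul, show 2 * (d / 2) = d by omega, Nat.cast_one]
      ring
    · rw [Finset.sum_congr rfl (g := fun _ => (q ^ 2) ^ (d / 2 + 1)) fun a ha => by
        have ha0 := Finset.ne_of_mem_erase ha
        have hsq : IsSquare (C a) := by
          by_cases hsa : IsSquare a
          · exact hsa.map (algebraMap F (Ext δ))
          · have hdn : ¬ IsSquare δ := fun ⟨t, ht⟩ => h.nsq t ht.symm
            obtain ⟨t, ht⟩ : IsSquare (a * δ⁻¹) := by
              rw [← quadraticChar_one_iff_isSquare (mul_ne_zero ha0 (inv_ne_zero h.ne_zero)), map_mul,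
                quadraticChar_neg_one_iff_not_isSquare.2 hsa,
                quadraticChar_neg_one_iff_not_isSquare.2 (fun e => hdn (by simpa using e.inv)), neg_one_mul, neg_neg]
            refine ⟨C t * ω, ?_⟩
            rw [mul_mul_mul_comm, QuadraticAlgebra.omega_mul_omega_eq_algebraMap, map_zero, zero_mul, add_zero]
            simp only [hC, ← map_mul]
            congr 1
            rw [← ht, mul_assoc, inv_mul_cancel₀ h.ne_zero, mul_one]
        rw [kern_odd ho, hE, show chi (C a) = 1 by
          unfold chi; convert (quadraticChar_one_iff_isSquare ((hC0 a).not.2 ha0)).2 hsq, one_mul]]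
      rw [kern_odd ho, show chi (C 0) = 0 by rw [(hC0 0).2 rfl, chi_zero], Finset.sum_const,
        Finset.card_erase_of_mem (Finset.mem_univ _), Finset.card_univ, nsmul_eq_mul,
        Nat.cast_sub Fintype.card_pos, ← pow_mul, show 2 * (d / 2 + 1) = d + 1 by
          obtain ⟨k, hk⟩ := ho; omega, Nat.cast_one]
      ring
  rw [hK] at h2
  have hq1 : (1 : ℤ) < q := Nat.one_lt_cast.2 Fintype.one_lt_card
  have hmul : q * q ^ d * (q - 1) * (ε - εh) = 0 := by
    rw [← pow_mul] at h2
    linear_combination h2 - q * h1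
  have hne : q * q ^ d * (q - 1) ≠ 0 :=
    mul_ne_zero (mul_ne_zero (by omega) (pow_ne_zero _ (by omega))) (by omega)
  rwa [sub_eq_zero.1 ((mul_eq_zero.1 hmul).resolve_left hne)]

/-- Two self-adjoint roots of the same non-square are conjugate in the orthogonal group. -/
theorem exists_intertwine {j' : Module.End F V} (hQ : PolarND Q) {d : ℕ} (hd : Module.finrank F V = 2 * d)
    (h : SA Q j δ) (h' : SA Q j' δ) : ∃ g : orth Q, ∀ v, g.1 (j v) = j' (g.1 v) := by
  letI := h.fact
  obtain ⟨ε, hs⟩ := exists_sig hQ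
  obtain ⟨e⟩ := Sig.isometric (qh_polarND (h := h) hQ) (qh_polarND (h := h') hQ) (qh_sig h hQ hd hs) (qh_sig h' hQ hd hs)
    (by rw [finrank_mod hd, finrank_mod hd])
  obtain ⟨g, hg⟩ := exists_orth e.toLinearEquiv e.map_app
  refine ⟨g, fun v => ?_⟩
  rw [hg, hg, ← omega_smul (h := h'), ← map_smul]
  congr 2
  refine toV.injective ?_
  rw [LinearEquiv.apply_symm_apply, omega_smul, LinearEquiv.apply_symm_apply]

/-- Scaling the one-dimensional part. -/
def hypSumSmul {K : Type*} [Field K] (k : ℕ) {c : K} (hc : c ≠ 0) :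
    (c • hypSum k (sqForm K)).IsometryEquiv (hypSum k (c • sqForm K)) where
  toLinearEquiv := ((LinearEquiv.smulOfNeZero K (Fin k → K) c hc).prodCongr (LinearEquiv.refl K (Fin k → K))).prodCongr
    (LinearEquiv.refl K K)
  map_app' v := by
    show hypSum k (c • sqForm K) ((c • v.1.1, v.1.2), v.2) = (c • hypSum k (sqForm K)) v
    simp [Finset.mul_sum, mul_add, mul_assoc]

/-- The order of the group of a form over the extension. -/
theorem card_orth_sig {K : Type u} [Field K] [Fintype K] {W : Type v} [AddCommGroup W] [Module K W]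
    [FiniteDimensional K W] [Finite W] {R : QuadraticForm K W} (hR : PolarND R) {ε : ℤ} (hs : Sig R ε) :
    (∃ m, Module.finrank K W = 2 * m + 1 ∧ Nat.card (orth R) =
      2 * Fintype.card K ^ (m ^ 2) * ∏ i ∈ Finset.range m, (Fintype.card K ^ (2 * (i + 1)) - 1)) ∨
    (∃ m, Module.finrank K W = 2 * (m + 1) ∧ ε = 1 ∧ Nat.card (orth R) =
      2 * Fintype.card K ^ ((m + 1) * m) * (Fintype.card K ^ (m + 1) - 1) *
        ∏ i ∈ Finset.range m, (Fintype.card K ^ (2 * (i + 1)) - 1)) ∨
    (∃ m, Module.finrank K W = 2 * (m + 1) ∧ ε = -1 ∧ Nat.card (orth R) =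
      2 * Fintype.card K ^ ((m + 1) * m) * (Fintype.card K ^ (m + 1) + 1) *
        ∏ i ∈ Finset.range m, (Fintype.card K ^ (2 * (i + 1)) - 1)) ∨
    (Module.finrank K W = 0) := by
  simp only [← Nat.card_eq_fintype_card]
  rcases exists_model hR with ⟨k, hk, ⟨e⟩⟩ | ⟨k, hk, c, hc, ⟨e⟩⟩ | ⟨k, hk, ζ, hζ, ⟨e⟩⟩
  · rcases k with _ | m
    · exact Or.inr (Or.inr (Or.inr hk))
    · exact Or.inr (Or.inl ⟨m, hk, hs.unique ((sig_zeroForm.hypSum (m + 1)).congr e.symm),
        by rw [UnitaryOrthogonal.card_orth_congr e, UnitaryOrthogonal.card_orth_plus]⟩)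
  · refine Or.inl ⟨k, hk, ?_⟩
    rw [UnitaryOrthogonal.card_orth_congr e, ← UnitaryOrthogonal.card_orth_congr (hypSumSmul k hc),
      ← UnitaryOrthogonal.card_orth_odd (two_ne_zero_of_odd hR ⟨k, hk⟩)]
    refine congrArg (fun G : Subgroup _ => Nat.card G) (Subgroup.ext fun g => ?_)
    exact ⟨fun H x => mul_left_cancel₀ hc (by simpa using H x), fun H x => by simp [H x]⟩
  · refine Or.inr (Or.inr (Or.inl ⟨k, by omega, hs.unique ((sig_binForm (binAniso_of hζ)).hypSum k |>.congr e.symm), ?_⟩))
    rw [UnitaryOrthogonal.card_orth_congr e, UnitaryOrthogonal.card_orth_minus (binAniso_of hζ)]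

/-- The centraliser of `j` contains a group of known order. -/
theorem exists_centraliser (h : SA Q j δ) (hQ : PolarND Q) {d : ℕ} (hd : Module.finrank F V = 2 * d) (hd0 : 0 < d)
    {ε : ℤ} (hs : Sig Q ε) :
    ∃ G : Subgroup (orth Q), (∀ g ∈ G, ∀ v, g.1 (j v) = j (g.1 v)) ∧
    ((∃ m, d = 2 * m + 1 ∧ Nat.card G =
      2 * (Fintype.card F ^ 2) ^ (m ^ 2) * ∏ i ∈ Finset.range m, ((Fintype.card F ^ 2) ^ (2 * (i + 1)) - 1)) ∨
    (∃ m, d = 2 * (m + 1) ∧ ε = 1 ∧ Nat.card G =
      2 * (Fintype.card F ^ 2) ^ ((m + 1) * m) * ((Fintype.card F ^ 2) ^ (m + 1) - 1) *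
        ∏ i ∈ Finset.range m, ((Fintype.card F ^ 2) ^ (2 * (i + 1)) - 1)) ∨
    (∃ m, d = 2 * (m + 1) ∧ ε = -1 ∧ Nat.card G =
      2 * (Fintype.card F ^ 2) ^ ((m + 1) * m) * ((Fintype.card F ^ 2) ^ (m + 1) + 1) *
        ∏ i ∈ Finset.range m, ((Fintype.card F ^ 2) ^ (2 * (i + 1)) - 1))) := by
  letI := h.fact
  let ψ : orth h.qh →* orth Q :=
    { toFun := fun g => ⟨(toV.symm.trans (g.1.restrictScalars F)).trans toV, fun v => by
        have := congrArg QuadraticAlgebra.im (g.2 (toV.symm v))
        rw [qh_im, qh_im, LinearEquiv.apply_symm_apply] at this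
        exact mul_left_cancel₀ h.two this⟩
      map_one' := rfl
      map_mul' := fun g g' => rfl }
  have hψ : Function.Injective ψ := fun g g' e => UnitaryOrthogonal.orth_ext fun w =>
    toV.injective (congrArg (fun a : orth Q => a.1 (toV w)) e)
  refine ⟨ψ.range, ?_, ?_⟩
  · rintro _ ⟨g, rfl⟩ v
    show toV (g.1 (toV.symm (j v))) = j (toV (g.1 (toV.symm v)))
    rw [← omega_smul, ← map_smul]
    congr 2
    refine toV.injective ?_
    rw [LinearEquiv.apply_symm_apply, omega_smul, LinearEquiv.apply_symm_apply]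
  · rw [← Nat.card_congr (MonoidHom.ofInjective hψ).toEquiv]
    simp only [← card_ext δ]
    rcases card_orth_sig (qh_polarND (h := h) hQ) (qh_sig h hQ hd hs) with
      ⟨m, h1, h2⟩ | ⟨m, h1, h2⟩ | ⟨m, h1, h2⟩ | h1 <;> rw [finrank_mod hd] at h1
    · exact Or.inl ⟨m, h1, h2⟩
    · exact Or.inr (Or.inl ⟨m, h1, h2⟩)
    · exact Or.inr (Or.inr ⟨m, h1, h2⟩)
    · omega

/-- No fixed-point-free isometry of odd order commuting with `j` on a space of dimension `2 mod 4`. -/
theorem no_free (h : SA Q j δ) {r : ℕ} (hr : r.Prime) (hr2 : 2 < r) (hrF : (r : F) ≠ 0) {T : orth Q}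
    (hT : T ^ r = 1) (hTj : ∀ v, T.1 (j v) = j (T.1 v)) {W : Submodule F V} (hW : NDOn Q W)
    (hTW : ∀ x ∈ W, T.1 x ∈ W) (hjW : ∀ x ∈ W, j x ∈ W) (hfix : ∀ x ∈ W, T.1 x = x → x = 0)
    {f : ℕ} (hWd : Module.finrank F W = 2 * f) : Even f := by
  letI := h.fact
  let S : Submodule (Ext δ) (Mod h) :=
    { carrier := {w | toV w ∈ W}
      add_mem' := fun {a b} ha hb => by show toV (a + b) ∈ W; rw [map_add]; exact W.add_mem ha hb
      zero_mem' := by show toV (0 : Mod h) ∈ W; rw [map_zero]; exact W.zero_mem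
      smul_mem' := fun a w hw => by
        show toV (a • w) ∈ W
        rw [toV_smul]
        exact W.add_mem (W.smul_mem _ hw) (W.smul_mem _ (hjW _ hw)) }
  have hfr : Module.finrank (Ext δ) S = f := by
    have e : Module.finrank F S = 2 * f := by
      rw [← hWd]
      exact LinearEquiv.finrank_eq
        { toFun := fun w => ⟨toV w.1, w.2⟩
          invFun := fun w => ⟨(toV (h := h)).symm w.1, by
            show toV ((toV (h := h)).symm w.1) ∈ W
            rw [LinearEquiv.apply_symm_apply]; exact w.2⟩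
          map_add' := fun _ _ => rfl
          map_smul' := fun _ _ => rfl
          left_inv := fun _ => rfl
          right_inv := fun _ => rfl }
    rw [← Module.finrank_mul_finrank F (Ext δ) S, QuadraticAlgebra.finrank_eq_two] at e
    omega
  let e : Mod h ≃ₗ[Ext δ] Mod h :=
    { ((toV.trans T.1).trans toV.symm).toAddEquiv with
      map_smul' := fun a w => by
        show toV.symm (T.1 (toV (a • w))) = a • toV.symm (T.1 (toV w))
        refine toV.injective ?_
        rw [LinearEquiv.apply_symm_apply, toV_smul, toV_smul, map_add, map_smul, map_smul, hTj,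
          LinearEquiv.apply_symm_apply] }
  have hev : ∀ w, toV (e w) = T.1 (toV w) := fun w => rfl
  let T' : orth h.qh := ⟨e, fun w => by
    rw [qh_apply, qh_apply, hev, ← hTj, UnitaryOrthogonal.map_polar, UnitaryOrthogonal.map_polar]⟩
  have hT' : T' ^ r = 1 := by
    have hpow : ∀ (n : ℕ) w, toV ((T' ^ n).1 w) = (T ^ n).1 (toV w) := by
      intro n
      induction n with
      | zero => intro w; rfl
      | succ n ih =>
        intro w
        rw [pow_succ', pow_succ', UnitaryOrthogonal.coe_mul_apply, UnitaryOrthogonal.coe_mul_apply, ← ih]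
        rfl
    refine UnitaryOrthogonal.orth_ext fun w => toV.injective ?_
    rw [hpow, hT]
    rfl
  have hS : NDOn h.qh S := ndOn_iff.2 fun u hu h0 => toV.injective (by
    rw [map_zero]
    refine ndOn_iff.1 hW _ hu fun x hx => ?_
    have := congrArg QuadraticAlgebra.im (h0 ((toV (h := h)).symm x) (by show toV ((toV (h := h)).symm x) ∈ W; rw [LinearEquiv.apply_symm_apply]; exact hx))
    rw [polar_qh, LinearEquiv.apply_symm_apply] at this
    exact (mul_eq_zero.1 this).resolve_left h.two)
  have hrE : (r : Ext δ) ≠ 0 := fun e => hrF (by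
    have := congrArg QuadraticAlgebra.re e
    rwa [QuadraticAlgebra.re_natCast, QuadraticAlgebra.re_zero] at this)
  have St : Setup (Ext δ) r (orderOf (Fintype.card (Ext δ) : ZMod r))
      (if Even (orderOf (Fintype.card (Ext δ) : ZMod r)) then orderOf (Fintype.card (Ext δ) : ZMod r)
        else 2 * orderOf (Fintype.card (Ext δ) : ZMod r))
      (if Even (orderOf (Fintype.card (Ext δ) : ZMod r)) then -1 else 1) := ⟨hr, hr2, hrE, rfl, rfl, rfl⟩
  obtain ⟨s, hs, -⟩ := fpf_sign_on St hS hT' (fun w hw => hTW _ hw) (fun w hw e => toV.injective (by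
    rw [map_zero]; exact hfix _ hw (congrArg toV e)))
  rw [hfr] at hs
  rw [hs]
  exact St.c_even.mul_left s

end Finite

end Cfsg.Agent.ClMax99.SelfAdj
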