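import Cfsg.Agent.ClMax99.SelfAdjInvol

/-!
Moving the conjugating isometry into Omega.
-/

set_option autoImplicit false
set_option linter.unusedSectionVars false

namespace Cfsg.Agent.ClMax99.SelfAdjInvol

open QuadraticMap Cfsg.Agent.OrthFix Cfsg.Agent.Reflections Cfsg.Agent.Forms59
open Cfsg.Agent.UnitaryOrthogonal (PolarND orth)

universe u

variable {F : Type u} [Field F] [Fintype F] {ι : Type} [Fintype ι] [DecidableEq ι]
variable {Q : QuadraticForm F (ι → F)} {δ z : F} {T : Module.End F (ι → F)}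

/-- The linear map of an isometry. -/
noncomputable def lin (h : ↥(Cfsg.isometryGroup F ⇑Q)) : Module.End F (ι → F) := Matrix.toLin' (mat h)

theorem lin_apply (h : ↥(Cfsg.isometryGroup F ⇑Q)) (v : ι → F) : lin h v = act h v := Matrix.toLin'_apply _ _

theorem Frame.plane (h2 : (2 : F) ≠ 0) {κ : Type} {e : κ ⊕ κ → ι → F} (hf : Frame Q T z κ e) (k : κ) :
    (∀ v ∈ Submodule.span F {e (Sum.inl k), e (Sum.inr k)}, T v ∈ Submodule.span F {e (Sum.inl k), e (Sum.inr k)}) ∧
    (z = 1 → ∃ s : F, ∀ v ∈ Submodule.span F {e (Sum.inl k), e (Sum.inr k)}, T v = s • v) ∧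
    Module.finrank F ↥(Submodule.span F {e (Sum.inl k), e (Sum.inr k)}) ≤ 2 := by
  have ha : e (Sum.inl k) ∈ Submodule.span F {e (Sum.inl k), e (Sum.inr k)} := Submodule.subset_span (Or.inl rfl)
  have hb : e (Sum.inr k) ∈ Submodule.span F {e (Sum.inl k), e (Sum.inr k)} := Submodule.subset_span (Or.inr rfl)
  refine ⟨fun v hv => ?_, fun hz => ?_, ?_⟩
  · obtain ⟨x, y, rfl⟩ := Submodule.mem_span_pair.1 hv
    rw [map_add, map_smul, map_smul]
    rcases hf.rel k with ⟨-, s, h1, h1'⟩ | ⟨-, h1, h1'⟩ <;> rw [h1, h1']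
    · exact Submodule.add_mem _ (Submodule.smul_mem _ _ (Submodule.smul_mem _ _ ha))
        (Submodule.smul_mem _ _ (Submodule.smul_mem _ _ hb))
    · exact Submodule.add_mem _ (Submodule.smul_mem _ _ hb) (Submodule.smul_mem _ _ (Submodule.neg_mem _ ha))
  · rcases hf.rel k with ⟨-, s, h1, h1'⟩ | ⟨hz', h1, h1'⟩
    · refine ⟨s, fun v hv => ?_⟩
      obtain ⟨x, y, rfl⟩ := Submodule.mem_span_pair.1 hv
      rw [map_add, map_smul, map_smul, h1, h1', smul_add, smul_comm s x, smul_comm s y]
    · refine ⟨1, fun v hv => absurd ?_ h2⟩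
      rw [hz] at hz'
      linear_combination hz'
  · classical
    have := finrank_span_finset_le_card (R := F) ({e (Sum.inl k), e (Sum.inr k)} : Finset (ι → F))
    rw [Finset.coe_pair] at this
    exact this.trans Finset.card_le_two

/-- A plane contains every nonzero value. -/
theorem exists_value {κ : Type} {e : κ ⊕ κ → ι → F} (hf : Frame Q T z κ e) (k : κ) (c : F) :
    ∃ v ∈ Submodule.span F {e (Sum.inl k), e (Sum.inr k)}, Q v = c := by
  obtain ⟨x, y, hxy⟩ := SympConj.exists_form_value (z := -(Q (e (Sum.inr k)) / Q (e (Sum.inl k))))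
    (d := c / Q (e (Sum.inl k))) (fun _ => neg_ne_zero.2 (div_ne_zero (hf.ne _) (hf.ne _)))
  refine ⟨x • e (Sum.inl k) + y • e (Sum.inr k), Submodule.mem_span_pair.2 ⟨x, y, rfl⟩, ?_⟩
  rw [QuadraticMap.map_add ⇑Q, QuadraticMap.map_smul, QuadraticMap.map_smul, polar_smul_left, polar_smul_right,
    hf.orth _ _ (by simp), smul_eq_mul, smul_eq_mul, smul_eq_mul, smul_eq_mul, mul_zero, mul_zero, add_zero]
  have hne := hf.ne (Sum.inl k)
  field_simp at hxy
  linear_combination hxy

/-- Conjugating a good root by a reflection in its plane. -/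
theorem Good.reflect {P : Submodule F (ι → F)} {j : Module.End F (ι → F)} (hg : Good Q T δ z P j)
    (hT : ∀ v, Q (T v) = Q v) (hT2 : ∀ v, T (T v) = z • v) (hz : z = 1 ∨ z = -1)
    (hP : ∀ v ∈ P, T v ∈ P) (hPs : z = 1 → ∃ s : F, ∀ v ∈ P, T v = s • v) (hP2 : Module.finrank F P ≤ 2)
    {v : ι → F} (hv : v ∈ P) (hQv : Q v ≠ 0) :
    Good Q T δ z P (lin (refl Q v) ∘ₗ j ∘ₗ lin (refl Q v)) := by
  have h2 := hg.sa.two
  have hpol : ∀ x y, polar Q (T x) (T y) = polar Q x y := fun x y => by simp only [polar, ← map_add, hT]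
  set r := lin (refl Q v)
  have hr : ∀ x, r x = x - ((Q v)⁻¹ * polar Q v x) • v := fun x => by rw [lin_apply, act_refl hQv]
  have hrr : ∀ x, r (r x) = x := fun x => by
    rw [lin_apply, lin_apply, ← act_mul, refl_mul_self hQv, act_one]
  have hrp : ∀ x y, polar Q (r x) (r y) = polar Q x y := fun x y => by rw [lin_apply, lin_apply, act_polar]
  have hrP : ∀ x ∈ P, r x ∈ P := fun x hx => by rw [hr]; exact P.sub_mem hx (P.smul_mem _ hv)
  refine ⟨⟨fun x => ?_, fun x y => ?_, hg.sa.nsq, h2⟩, fun x => ?_, fun x hx => hrP _ (hg.inv _ (hrP x hx))⟩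
  · simp only [LinearMap.comp_apply, hrr, hg.sa.sq, map_smul]
  · simp only [LinearMap.comp_apply]
    conv_lhs => rw [← hrr y]
    rw [hrp, hg.sa.sa, ← hrp, hrr]
  · set w := T v
    have hQw : Q w ≠ 0 := by rw [hT]; exact hQv
    set r' := lin (refl Q w)
    have hr' : ∀ y, r' y = y - ((Q w)⁻¹ * polar Q w y) • w := fun y => by rw [lin_apply, act_refl hQw]
    have hTr : ∀ y, T (r y) = r' (T y) := fun y => by
      rw [hr, hr', map_sub, map_smul, hpol, hT]
    have key : ∀ y, r' (j (r' y)) = r (j (r y)) := by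
      intro y
      by_cases hz1 : z = 1
      · obtain ⟨s, hs⟩ := hPs hz1
        have hw : w = s • v := hs v hv
        have hs0 : s ≠ 0 := fun e => hQw (by rw [hw, e, zero_smul, QuadraticMap.map_zero])
        have e : r' = r := LinearMap.ext fun y => by
          rw [hr, hr', hw, QuadraticMap.map_smul, polar_smul_left, smul_smul, smul_eq_mul, smul_eq_mul]
          congr 2
          field_simp
        rw [e]
      · have hvw : polar Q v w = 0 := by
          have := hpol v w
          rw [hT2, hz.resolve_left hz1, neg_one_smul, polar_neg_right, polar_comm] at this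
          have h3 : (2 : F) * polar Q v w = 0 := by linear_combination -this
          exact (mul_eq_zero.1 h3).resolve_left h2
        have hvw' : polar Q w v = 0 := by rw [polar_comm, hvw]
        have hli : LinearIndependent F ![v, w] := by
          refine LinearIndependent.pair_iff.2 fun a b hab => ?_
          have h1 := congrArg (fun u => polar Q v u) hab
          have h3 := congrArg (fun u => polar Q w u) hab
          simp only [polar_add_right, polar_smul_right, polar_self_two, hvw, hvw', smul_eq_mul, mul_zero,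
            add_zero, zero_add, polar_zero_right] at h1 h3
          exact ⟨(mul_eq_zero.1 h1).resolve_right (mul_ne_zero h2 hQv), (mul_eq_zero.1 h3).resolve_right (mul_ne_zero h2 hQw)⟩
        have hspan : Submodule.span F {v, w} = P := by
          refine Submodule.eq_of_le_of_finrank_le (Submodule.span_le.2 ?_) ?_
          · rintro _ (rfl | rfl)
            exacts [hv, hP v hv]
          · have := finrank_span_eq_card hli
            rw [Matrix.range_cons, Matrix.range_cons, Matrix.range_empty, Set.union_empty, Set.singleton_union,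
              Fintype.card_fin] at this
            omega
        set σ : Module.End F (ι → F) := r ∘ₗ r' with hσ
        have hσv : ∀ y, σ y = y - ((Q v)⁻¹ * polar Q v y) • v - ((Q w)⁻¹ * polar Q w y) • w := fun y => by
          rw [hσ, LinearMap.comp_apply, hr, hr', polar_sub_right, polar_smul_right, hvw, smul_eq_mul, mul_zero, sub_zero]
          abel
        have hσn : ∀ y ∈ P, σ y = -y := fun y hy => by
          rw [← hspan] at hy
          obtain ⟨a, b, rfl⟩ := Submodule.mem_span_pair.1 hy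
          rw [hσv, polar_add_right, polar_add_right, polar_smul_right, polar_smul_right, polar_smul_right,
            polar_smul_right, polar_self_two, polar_self_two, hvw, hvw']
          simp only [smul_eq_mul, mul_zero, add_zero, zero_add]
          rw [show (Q v)⁻¹ * (a * (2 * Q v)) = 2 * a by field_simp, show (Q w)⁻¹ * (b * (2 * Q w)) = 2 * b by field_simp]
          module
        have hσo : ∀ y, (∀ p ∈ P, polar Q p y = 0) → σ y = y := fun y hy => by
          rw [hσv, hy v hv, hy w (hP v hv)]; simp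
        have hcomm : ∀ y, σ (j y) = j (σ y) := fun y => by
          set π := ((Q v)⁻¹ * polar Q v y / 2) • v + ((Q w)⁻¹ * polar Q w y / 2) • w with hπ
          have hπP : π ∈ P := P.add_mem (P.smul_mem _ hv) (P.smul_mem _ (hP v hv))
          have ho : ∀ p ∈ P, polar Q p (y - π) = 0 := fun p hp => by
            rw [← hspan] at hp
            obtain ⟨a, b, rfl⟩ := Submodule.mem_span_pair.1 hp
            simp only [hπ, polar_add_left, polar_smul_left, polar_sub_right, polar_add_right, polar_smul_right,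
              polar_self_two, hvw, hvw', smul_eq_mul]
            field_simp
            ring
          have ho' : ∀ p ∈ P, polar Q p (j (y - π)) = 0 := fun p hp => by
            rw [← hg.sa.sa]; exact ho _ (hg.inv p hp)
          have hd : y = π + (y - π) := by abel
          conv_lhs => rw [hd, map_add, map_add, hσn _ (hg.inv _ hπP), hσo _ ho']
          conv_rhs => rw [hd, map_add, hσn _ hπP, hσo _ ho, map_add, map_neg]
        have hr'r' : ∀ y, r' (r' y) = y := fun y => by
          rw [lin_apply, lin_apply, ← act_mul, refl_mul_self hQw, act_one]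
        have := hcomm (r' y)
        simp only [hσ, LinearMap.comp_apply, hr'r'] at this
        rw [← this, hrr]
    simp only [LinearMap.comp_apply]
    rw [hTr, hg.rel, hTr, map_smul, key]

theorem act_reflProd_cons {v : ι → F} (vs : List (ι → F)) (x : ι → F) :
    act (reflProd Q (v :: vs)) x = act (refl Q v) (act (reflProd Q vs) x) := by
  rw [reflProd_cons, act_mul]

/-- A conjugating element in Omega. -/
theorem exists_omega_conj (hQ : PolarND Q) (h2 : (2 : F) ≠ 0) (hn : 2 ≤ Fintype.card ι)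
    (hT : ∀ v, Q (T v) = Q v) (hT2 : ∀ v, T (T v) = z • v) (hz : z = 1 ∨ z = -1) {κ : Type} [Fintype κ]
    [DecidableEq κ] {e : κ ⊕ κ → ι → F} (hf : Frame Q T z κ e) (k₀ : κ) {J : Module.End F (ι → F)}
    (hJ : SelfAdj.SA Q J δ) {d : ℕ} (hd : Fintype.card ι = 2 * d) :
    ∃ c : ↥(Cfsg.isometryGroup F ⇑Q), c ∈ Cfsg.Omega F ⇑Q ∧ ∃ j : Module.End F (ι → F),
      (∀ v, T (j v) = z • j (T v)) ∧ ∀ v, act c (J v) = j (act c v) := by
  obtain ⟨hP, hPs, hP2⟩ := hf.plane h2 k₀
  set P := Submodule.span F {e (Sum.inl k₀), e (Sum.inr k₀)}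
  obtain ⟨j₀, hj₀⟩ := exists_good hJ.nsq h2 hT hf k₀
  obtain ⟨g, hg⟩ := SelfAdj.exists_intertwine hQ (d := d) (by rw [Module.finrank_fintype_fun_eq_card, hd]) hJ hj₀.sa
  obtain ⟨g', hg'⟩ := Forms59.exists_of_linearEquiv (Q := Q) g.1 g.2
  have hg'' : ∀ x, act g' x = g.1 x := hg'
  obtain ⟨vs, hvs, hvs'⟩ := exists_reflProd (nondegenerate_of_polarND hQ)
    (Or.inl fun h => h2 (by
      have h0 := Nat.cast_card_eq_zero F
      rw [h] at h0
      exact_mod_cast h0)) g'
  subst hvs'
  have start : ∃ j, Good Q T δ z P j ∧ ∀ v, act (reflProd Q vs) (J v) = j (act (reflProd Q vs) v) :=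
    ⟨j₀, hj₀, fun v => by rw [hg'', hg'', hg]⟩
  have step : ∀ (us : List (ι → F)) (v : ι → F), v ∈ P → Q v ≠ 0 →
      (∃ j, Good Q T δ z P j ∧ ∀ x, act (reflProd Q us) (J x) = j (act (reflProd Q us) x)) →
      ∃ j, Good Q T δ z P j ∧ ∀ x, act (reflProd Q (v :: us)) (J x) = j (act (reflProd Q (v :: us)) x) := by
    rintro us v hv hQv ⟨j, hj, hjc⟩
    refine ⟨_, hj.reflect hT hT2 hz hP hPs hP2 hv hQv, fun x => ?_⟩
    rw [act_reflProd_cons, act_reflProd_cons, hjc]
    simp only [LinearMap.comp_apply, lin_apply]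
    congr 2
    rw [← act_mul, refl_mul_self hQv, act_one]
  set π := (vs.map fun v => Q v).prod
  have hπ0 : π ≠ 0 := List.prod_ne_zero fun h0 => by
    obtain ⟨v, hv, hv0⟩ := List.mem_map.1 h0
    exact hvs v hv hv0
  have hcard2 : Fintype.card F ≠ 2 := fun h => h2 (by
    have h0 := Nat.cast_card_eq_zero F
    rw [h] at h0
    exact_mod_cast h0)
  have fin : ∀ us : List (ι → F), (∀ v ∈ us, Q v ≠ 0) → Even us.length → IsSquare (us.map fun v => Q v).prod →
      (∃ j, Good Q T δ z P j ∧ ∀ x, act (reflProd Q us) (J x) = j (act (reflProd Q us) x)) →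
      ∃ c : ↥(Cfsg.isometryGroup F ⇑Q), c ∈ Cfsg.Omega F ⇑Q ∧ ∃ j : Module.End F (ι → F),
        (∀ v, T (j v) = z • j (T v)) ∧ ∀ v, act c (J v) = j (act c v) := by
    rintro us hus hev hsq ⟨j, hj, hjc⟩
    exact ⟨_, mem_omega_of_even_square (nondegenerate_of_polarND hQ) (Or.inl hcard2) hn us hus hev hsq, j, hj.rel, hjc⟩
  rcases Nat.even_or_odd vs.length with hev | ho
  · by_cases hsq : IsSquare π
    · exact fin vs hvs hev hsq start
    · obtain ⟨v₁, hv₁, hQ₁⟩ := exists_value hf k₀ 1
      obtain ⟨v₂, hv₂, hQ₂⟩ := exists_value hf k₀ π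
      have hne₁ : Q v₁ ≠ 0 := by rw [hQ₁]; exact one_ne_zero
      have hne₂ : Q v₂ ≠ 0 := by rw [hQ₂]; exact hπ0
      refine fin (v₁ :: v₂ :: vs) ?_ ?_ ⟨π, ?_⟩ (step _ _ hv₁ hne₁ (step _ _ hv₂ hne₂ start))
      · simp only [List.mem_cons]; rintro v (rfl | rfl | hv) <;> [exact hne₁; exact hne₂; exact hvs v hv]
      · simp only [List.length_cons]; obtain ⟨l, hl⟩ := hev; exact ⟨l + 1, by omega⟩
      · simp only [List.map_cons, List.prod_cons, hQ₁, hQ₂, one_mul]; rfl
  · obtain ⟨v₁, hv₁, hQ₁⟩ := exists_value hf k₀ π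
    have hne₁ : Q v₁ ≠ 0 := by rw [hQ₁]; exact hπ0
    refine fin (v₁ :: vs) ?_ ?_ ⟨π, ?_⟩ (step _ _ hv₁ hne₁ start)
    · simp only [List.mem_cons]; rintro v (rfl | hv) <;> [exact hne₁; exact hvs v hv]
    · simp only [List.length_cons]; exact ho.add_one
    · simp only [List.map_cons, List.prod_cons, hQ₁]; rfl

end Cfsg.Agent.ClMax99.SelfAdjInvol
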