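import Cfsg.Agent.ClMax99.SelfAdjCorrect
import Cfsg.Agent.OrthFix.Translate
import Cfsg.Agent.OrthFix.UnipotentExists
import Cfsg.Agent.OrthFix.Std
import Cfsg.Agent.Aschbacher.OrthogonalBasics
import Cfsg.Prelude.Def_GeometricClasses

/-!
The orthogonal groups and the normaliser of a self-adjoint quadratic extension.
-/

set_option autoImplicit false
set_option linter.unusedSectionVars false

namespace Cfsg.Agent.ClMax99.SelfAdjCrit

open QuadraticMap Cfsg.Agent.OrthFix
open Cfsg.Agent.UnitaryOrthogonal (PolarND orth)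
open scoped Matrix

universe u

variable {F : Type u} [Field F] [Fintype F] {ι : Type} [Fintype ι] [DecidableEq ι]
variable {Q : QuadraticForm F (ι → F)}

theorem mem_normalizer {K : Subalgebra F (Matrix ι ι F)} {J : Matrix ι ι F} (hJK : J ∈ K)
    (hspan : ∀ k ∈ K, ∃ a b : F, k = a • 1 + b • J) {g : GL ι F} {s : F} (hs : s * s = 1)
    (h : (g : Matrix ι ι F) * J = s • (J * (g : Matrix ι ι F))) :
    g ∈ Cfsg.Geo.subalgebraNormalizer K := by
  set G := (g : Matrix ι ι F)
  set G' := ((g⁻¹ : GL ι F) : Matrix ι ι F)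
  have hgg : G' * G = 1 := by rw [← Units.val_mul, inv_mul_cancel, Units.val_one]
  have hgg' : G * G' = 1 := by rw [← Units.val_mul, mul_inv_cancel, Units.val_one]
  have h' : G' * J = s • (J * G') := by
    have e := congrArg (fun A => s • (G' * A * G')) h
    simp only [Matrix.mul_smul, Matrix.smul_mul, smul_smul, hs, one_smul] at e
    rw [← mul_assoc, hgg, one_mul, mul_assoc, mul_assoc, hgg', mul_one] at e
    exact e.symm
  have key : ∀ (G G' : Matrix ι ι F), G * G' = 1 → G * J = s • (J * G) →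
      ∀ k ∈ K, G * k * G' ∈ K := by
    intro G G' hgg' h k hk
    obtain ⟨a, b, rfl⟩ := hspan k hk
    rw [mul_add, Matrix.mul_smul, Matrix.mul_smul, mul_one, add_mul, Matrix.smul_mul, Matrix.smul_mul, hgg', h,
      Matrix.smul_mul, mul_assoc, hgg', mul_one]
    exact K.add_mem (K.smul_mem K.one_mem a) (K.smul_mem (K.smul_mem hJK s) b)
  intro k
  refine ⟨fun hk => key G G' hgg' h k hk, fun hk => ?_⟩
  have := key G' G hgg h' _ hk
  have e : G' * (G * k * G') * G = k := by
    rw [← mul_assoc, ← mul_assoc, hgg, one_mul, mul_assoc, hgg, mul_one]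
  exact e ▸ this

theorem relation_of_normalizer [Nonempty ι] (h2 : (2 : F) ≠ 0) {K : Subalgebra F (Matrix ι ι F)} {J : Matrix ι ι F}
    {δ : F} (hJK : J ∈ K) (hspan : ∀ k ∈ K, ∃ a b : F, k = a • 1 + b • J) (hJJ : J * J = δ • 1)
    (hj : SelfAdj.SA Q (Matrix.toLin' J) δ) {g : GL ι F} (hg : g ∈ Cfsg.Geo.subalgebraNormalizer K) :
    ∃ b : F, b * b = 1 ∧ (g : Matrix ι ι F) * J = b • (J * (g : Matrix ι ι F)) := by
  set G := (g : Matrix ι ι F)
  set G' := ((g⁻¹ : GL ι F) : Matrix ι ι F)
  have hgg : G' * G = 1 := by rw [← Units.val_mul, inv_mul_cancel, Units.val_one]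
  have hgg' : G * G' = 1 := by rw [← Units.val_mul, mul_inv_cancel, Units.val_one]
  obtain ⟨a, b, hab⟩ := hspan _ ((hg J).1 hJK)
  change G * J * G' = a • 1 + b • J at hab
  have hsq : (a • (1 : Matrix ι ι F) + b • J) * (a • 1 + b • J) = δ • 1 := by
    rw [← hab, mul_assoc, ← mul_assoc G', ← mul_assoc G', hgg, one_mul, ← mul_assoc, mul_assoc G, hJJ,
      Matrix.mul_smul, mul_one, Matrix.smul_mul, hgg']
  simp only [add_mul, mul_add, Matrix.smul_mul, Matrix.mul_smul, one_mul, mul_one, hJJ, smul_smul] at hsq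
  obtain ⟨i⟩ := ‹Nonempty ι›
  have h1 : (a * a + b * b * δ - δ) • (Pi.single i 1 : ι → F) + (a * b + a * b) • Matrix.toLin' J (Pi.single i 1) = 0 := by
    have e := congrArg (fun A => Matrix.toLin' A (Pi.single i 1)) hsq
    simp only [map_add, map_smul, Matrix.toLin'_one, LinearMap.add_apply, LinearMap.smul_apply, LinearMap.id_coe, id_eq] at e
    linear_combination (norm := module) e
  have hab0 : a * b = 0 := by
    by_contra hne
    have hne' : a * b + a * b ≠ 0 := by rw [← two_mul]; exact mul_ne_zero h2 hne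
    have := hj.no_eigen (v := Pi.single i 1) (t := -((a * a + b * b * δ - δ) / (a * b + a * b))) (by
      rw [← inv_smul_smul₀ hne' (Matrix.toLin' J (Pi.single i 1)), eq_neg_of_add_eq_zero_right h1, smul_neg,
        smul_smul, neg_smul, div_eq_inv_mul])
    simp at this
  rw [← two_mul, hab0, mul_zero, zero_smul, add_zero, smul_eq_zero] at h1
  have h0 : a * a + b * b * δ = δ := sub_eq_zero.1 (h1.resolve_right (by simp))
  have ha : a = 0 := by
    refine (mul_eq_zero.1 hab0).resolve_right fun hb => hj.nsq a ?_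
    rw [hb] at h0; linear_combination h0
  refine ⟨b, mul_right_cancel₀ hj.ne_zero (by rw [ha] at h0; linear_combination h0), ?_⟩
  rw [ha, zero_smul, zero_add] at hab
  rw [← Matrix.smul_mul, ← hab, mul_assoc (G * J), hgg, mul_one]

/-- A self-adjoint square root of a non-square generating the extension. -/
theorem exists_root (h2 : (2 : F) ≠ 0) [Nonempty ι] {K : Subalgebra F (Matrix ι ι F)}
    (hK : Cfsg.Geo.IsFieldSubalgebra 2 K) (hKf : Cfsg.Geo.IsSelfAdjointFor (QuadraticMap.polar ⇑Q) K) :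
    ∃ (J : Matrix ι ι F) (δ : F), J ∈ K ∧ (∀ k ∈ K, ∃ a b : F, k = a • 1 + b • J) ∧ J * J = δ • 1 ∧
      SelfAdj.SA Q (Matrix.toLin' J) δ := by
  classical
  obtain ⟨J₀, hJ₀, hns⟩ : ∃ J₀ ∈ K, ∀ c : F, J₀ ≠ c • 1 := by
    by_contra hc
    push Not at hc
    have hle : Subalgebra.toSubmodule K ≤ Submodule.span F {(1 : Matrix ι ι F)} := fun y hy => by
      obtain ⟨c, rfl⟩ := hc y hy
      exact Submodule.smul_mem _ _ (Submodule.mem_span_singleton_self _)
    have := Submodule.finrank_mono hle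
    rw [finrank_span_singleton one_ne_zero, Subalgebra.finrank_toSubmodule, hK.finrank_eq] at this
    omega
  have span_of : ∀ J ∈ K, (∀ c : F, J ≠ c • 1) → ∀ y ∈ K, ∃ a b : F, y = a • 1 + b • J := by
    intro J hJK hJns
    have hli : LinearIndependent F ![(1 : Matrix ι ι F), J] :=
      (LinearIndependent.pair_iff' one_ne_zero).mpr fun c h => hJns c h.symm
    have heq : Submodule.span F (Set.range ![(1 : Matrix ι ι F), J]) = Subalgebra.toSubmodule K := by
      refine Submodule.eq_of_le_of_finrank_eq (Submodule.span_le.mpr ?_) ?_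
      · rintro _ ⟨i, rfl⟩
        fin_cases i
        · exact one_mem K
        · exact hJK
      · rw [finrank_span_eq_card hli, Subalgebra.finrank_toSubmodule, hK.finrank_eq]
        simp
    intro y hy
    have hy' : y ∈ Subalgebra.toSubmodule K := hy
    rw [← heq, Submodule.mem_span_range_iff_exists_fun] at hy'
    obtain ⟨c, rfl⟩ := hy'
    exact ⟨c 0, c 1, by simp [Fin.sum_univ_two]⟩
  obtain ⟨a, b, hab⟩ := span_of J₀ hJ₀ hns _ (mul_mem hJ₀ hJ₀)
  set J := J₀ - (b / 2) • (1 : Matrix ι ι F) with hJ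
  have hJK : J ∈ K := K.sub_mem hJ₀ (K.smul_mem K.one_mem _)
  have hJns : ∀ c : F, J ≠ c • 1 := fun c h => hns (c + b / 2) (by
    rw [add_smul, ← h, hJ, sub_add_cancel])
  have hJJ : J * J = (a + b / 2 * (b / 2)) • 1 := by
    rw [hJ]
    simp only [sub_mul, mul_sub, Matrix.smul_mul, Matrix.mul_smul, one_mul, mul_one, hab, smul_smul]
    match_scalars <;> field_simp <;> ring
  set δ := a + b / 2 * (b / 2)
  refine ⟨J, δ, hJK, span_of J hJK hJns, hJJ, fun v => ?_, fun u v => ?_, fun t ht => ?_, h2⟩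
  · rw [← Matrix.toLin'_mul_apply, hJJ, map_smul, Matrix.toLin'_one]; rfl
  · simp only [Matrix.toLin'_apply]; exact hKf J hJK u v
  · obtain ⟨y, -, hy⟩ := hK.inv (J - t • 1) (K.sub_mem hJK (K.smul_mem K.one_mem t)) (sub_ne_zero.2 (hJns t))
    have h0 : (J + t • 1) * (J - t • (1 : Matrix ι ι F)) = 0 := by
      simp only [add_mul, mul_sub, Matrix.smul_mul, Matrix.mul_smul, one_mul, mul_one, hJJ, smul_smul, ← ht]
      abel
    have h1 : J + t • (1 : Matrix ι ι F) = 0 := by
      have := congrArg (· * y) h0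
      simp only [mul_assoc, hy, mul_one, zero_mul] at this
      exact this
    exact hJns (-t) (by rw [neg_smul]; exact eq_neg_of_add_eq_zero_left h1)

/-- An Eichler map commutes with no root. -/
theorem bad_eichler {r : ℕ} (hrF : (r : F) = 0) (h2 : (2 : F) ≠ 0) (hQ : PolarND Q)
    {u z : ι → F} (hu0 : u ≠ 0) (hu : Q u = 0) (hz : polar Q u z = 0) (hQz : Q z ≠ 0) :
    ∃ T : orth Q, T ^ r = 1 ∧ T ≠ 1 ∧ ∀ j δ, SelfAdj.SA Q j δ → ¬ ∀ v, T.1 (j v) = j (T.1 v) := by
  obtain ⟨w, hw⟩ : ∃ w, polar Q u w ≠ 0 := by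
    by_contra hn; push Not at hn; exact hu0 (hQ u hn)
  set T := UnitaryOrthogonal.eich Q u z
  let N : Module.End F (ι → F) := T.1.toLinearMap - LinearMap.id
  have hN : ∀ x, N x = polar Q u x • z - polar Q z x • u - (Q z * polar Q u x) • u := fun x => by
    show T.1 x - x = _
    rw [UnitaryOrthogonal.eich_apply hu hz]; abel
  have huu : polar Q u u = 0 := by rw [QuadraticMap.polar_self, hu, smul_zero]
  have hzz : polar Q z z = 2 * Q z := by rw [QuadraticMap.polar_self, two_nsmul]; ring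
  have hzu : polar Q z u = 0 := by rw [polar_comm, hz]
  have hNu : N u = 0 := by rw [hN, huu, hzu]; simp
  have hNz : N z = -(2 * Q z) • u := by rw [hN, hz, hzz]; simp
  have hNN : ∀ x, N (N x) = (-(2 * Q z) * polar Q u x) • u := fun x => by
    rw [hN x, map_sub, map_sub, map_smul, map_smul, map_smul, hNu, hNz, smul_zero, smul_zero, sub_zero, sub_zero,
      smul_smul]
    congr 1; ring
  have hc0 : -(2 * Q z) * polar Q u w ≠ 0 := mul_ne_zero (neg_ne_zero.2 (mul_ne_zero h2 hQz)) hw
  refine ⟨T, by rw [eich_pow hu hz, hrF, zero_smul, UnitaryOrthogonal.eich_zero], fun h => ?_, fun j δ hj hc => ?_⟩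
  · have h0 : ∀ x, N x = 0 := fun x => by
      show T.1 x - x = 0
      rw [h]; exact sub_self x
    have := hNN w
    rw [h0] at this
    exact smul_ne_zero hc0 hu0 this.symm
  · have hcN : ∀ v, N (j v) = j (N v) := fun v => by
      show T.1 (j v) - j v = j (T.1 v - v)
      rw [map_sub, hc]
    have h1 : N (N (j w)) = j (N (N w)) := by rw [hcN, hcN]
    rw [hNN, hNN, map_smul] at h1
    exact hu0 (hj.no_eigen (t := (-(2 * Q z) * polar Q u w)⁻¹ * (-(2 * Q z) * polar Q u (j w))) (by
      rw [← smul_smul, h1, inv_smul_smul₀ hc0]))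

/-- An element with one block of size `c` commutes with no root. -/
theorem bad_block {r i c : ℕ} {b ε : ℤ} (S : Setup F r i c b) (hQ : PolarND Q) (hs : Sig Q ε) {d f : ℕ}
    (hd : Fintype.card ι = 2 * d) (hf : Odd f) (hcf : c = 2 * f) (hfd : f ≤ d) (heq : f = d → ε = b) :
    ∃ T : orth Q, T ^ r = 1 ∧ T ≠ 1 ∧ ∀ j δ, SelfAdj.SA Q j δ → ¬ ∀ v, T.1 (j v) = j (T.1 v) := by
  have htop : Module.finrank F (⊤ : Submodule F (ι → F)) = 2 * d := by
    rw [finrank_top, Module.finrank_fintype_fun_eq_card, hd]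
  obtain ⟨g, M, hg, -, hM, hMd, hinv, hfix, hperp⟩ := exists_elem S 1 (ndOn_top hQ) (sigOn_top hs)
    (by omega) (fun h => by rw [pow_one]; exact heq (by omega))
  have hmv := mvS_eq hM hinv hfix hperp
  refine ⟨g, hg, fun h => ?_, fun j δ hj hc => ?_⟩
  · have hM0 : M = ⊥ := (Submodule.eq_bot_iff M).2 fun x hx => hfix x hx (by rw [h]; rfl)
    rw [hM0, finrank_bot] at hMd
    have := S.c_pos
    omega
  · have hjM : ∀ x ∈ M, j x ∈ M := by
      rw [← hmv]
      rintro _ ⟨v, rfl⟩
      refine ⟨j v, ?_⟩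
      show g.1 (j v) - j v = j (g.1 v - v)
      rw [map_sub, hc]
    exact Nat.not_even_iff_odd.2 hf
      (SelfAdj.no_free hj S.prime S.odd S.ne hg hc hM hinv hjM hfix (by omega))

/-- Splitting the product by parity. -/
theorem prod_split {M : Type*} [CommMonoid M] (g : ℕ → M) (m : ℕ) :
    ∏ i ∈ Finset.range (2 * m), g i = (∏ k ∈ Finset.range m, g (2 * k)) * ∏ k ∈ Finset.range m, g (2 * k + 1) := by
  induction m with
  | zero => simp
  | succ m ih =>
    rw [show 2 * (m + 1) = 2 * m + 1 + 1 by omega, Finset.prod_range_succ, Finset.prod_range_succ, ih,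
      Finset.prod_range_succ, Finset.prod_range_succ]
    ac_rfl

/-- The subgroup index divides. -/
theorem card_mul_relIndex_dvd {G : Type*} [Group G] [Finite G] (N O : Subgroup G) [O.Normal] :
    Nat.card N * N.relIndex O ∣ Nat.card G := by
  have key : ∀ A B : Subgroup G, Nat.card (A ⊓ B : Subgroup G) * A.relIndex B = Nat.card B := fun A B => by
    rw [← Subgroup.inf_relIndex_right, ← Subgroup.card_mul_index ((A ⊓ B).subgroupOf B), Subgroup.relIndex,
      Nat.card_congr (Subgroup.subgroupOfEquivOfLe (inf_le_right : A ⊓ B ≤ B)).toEquiv]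
  rw [← Subgroup.card_mul_index O, ← key O N, ← key N O, inf_comm O N, mul_right_comm]
  exact mul_dvd_mul_left _ (Subgroup.relIndex_dvd_index_of_normal O N)

/-- The criterion. -/
theorem crit {f : (ι → F) → F} (hf : ⇑Q = f) {p : ℕ} [Fact p.Prime] [CharP F p] {q : ℕ} (hq : Fintype.card F = q)
    (hodd : Odd q) (hQ : PolarND Q) {d : ℕ} (hd : Fintype.card ι = 2 * d) (hd4 : 4 ≤ d) {ε : ℤ} (hs : Sig Q ε)
    (hu : ∃ u z, u ≠ 0 ∧ Q u = 0 ∧ polar Q u z = 0 ∧ Q z ≠ 0)
    (K : Subalgebra F (Matrix ι ι F)) (hK : Cfsg.Geo.IsFieldSubalgebra 2 K)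
    (hKf : Cfsg.Geo.IsSelfAdjointFor (QuadraticMap.polar f) K) (r : ℕ) [hr : Fact r.Prime]
    (hΩ : r ∣ (Cfsg.Geo.subalgebraNormalizer K).relIndex (Cfsg.Geo.omegaGL f)) :
    (∀ x ∈ Cfsg.Geo.omegaGL f, (∃ z : F, ((x ^ r : GL ι F) : Matrix ι ι F) = z • (1 : Matrix ι ι F)) →
      (∀ z : F, (x : Matrix ι ι F) ≠ z • (1 : Matrix ι ι F)) →
      ∃ g ∈ Cfsg.Geo.omegaGL f, g⁻¹ * x * g ∈ Cfsg.Geo.subalgebraNormalizer K) ↔ r = 2 := by
  classical
  subst hf
  subst hq
  haveI : Nonempty ι := Fintype.card_pos_iff.1 (by omega)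
  have h2 : (2 : F) ≠ 0 := Cfsg.Agent.UnitaryOrthogonal.two_ne_zero_of_card_odd hodd
  obtain ⟨J, δ, hJK, hspan, hJJ, hj⟩ := exists_root h2 hK hKf
  have hn : Fintype.card ι ≠ 4 := by omega
  set E := UnitaryOrthogonal.isometryGroupEquiv Q (fun _ => rfl) with hEdef
  have hE : ∀ (h : Cfsg.isometryGroup F ⇑Q) x, Matrix.toLin' ((h : GL ι F) : Matrix ι ι F) x = (E h).1 x :=
    fun h x => rfl
  constructor
  · intro H
    by_contra hr2
    obtain ⟨T, hT, hT1, hbad⟩ :
        ∃ T : orth Q, T ^ r = 1 ∧ T ≠ 1 ∧ ∀ j δ, SelfAdj.SA Q j δ → ¬ ∀ v, T.1 (j v) = j (T.1 v) := by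
      by_cases hrF : (r : F) = 0
      · obtain ⟨u, z, hu0, hu, hz, hQz⟩ := hu
        exact bad_eichler hrF h2 hQ hu0 hu hz hQz
      have hrp : r ≠ p := fun h => hrF (by rw [h]; exact CharP.cast_eq_zero F p)
      have S := setup_of (F := F) (p := p) (q := Fintype.card F) rfl hr.out
        (lt_of_le_of_ne hr.out.two_le (Ne.symm hr2)) hrp (i := orderOf (Fintype.card F : ZMod r)) rfl
        (c := if Even (orderOf (Fintype.card F : ZMod r)) then orderOf (Fintype.card F : ZMod r)
          else 2 * orderOf (Fintype.card F : ZMod r)) rfl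
      set q := Fintype.card F with hq
      set i := orderOf (q : ZMod r) with hi
      have hq1 : 1 < q := Fintype.one_lt_card
      have hrq : ¬ r ∣ q := S.not_dvd_card
      obtain ⟨G, hGc, hGcard⟩ := SelfAdj.exists_centraliser hj hQ (d := d)
        (by rw [Module.finrank_fintype_fun_eq_card, hd]) (by omega) hs
      haveI : Finite (Cfsg.isometryGroup F ⇑Q) := inferInstance
      set N' := (Cfsg.Geo.subalgebraNormalizer K).comap (Cfsg.isometryGroup F ⇑Q).subtype with hN'
      have hGN : Nat.card G ∣ Nat.card N' := by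
        rw [Nat.card_congr (Subgroup.equivMapOfInjective G E.symm.toMonoidHom E.symm.injective).toEquiv]
        refine Subgroup.card_dvd_of_le ?_
        rintro _ ⟨g, hg, rfl⟩
        refine mem_normalizer hJK hspan (s := 1) (one_mul 1) (Matrix.toLin'.injective (LinearMap.ext fun v => ?_))
        show Matrix.toLin' ((((E.symm g : Cfsg.isometryGroup F ⇑Q) : GL ι F) : Matrix ι ι F) * J) v = _
        rw [one_smul, Matrix.toLin'_mul_apply, Matrix.toLin'_mul_apply, hE, MulEquiv.apply_symm_apply]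
        simp only [MulEquiv.coe_toMonoidHom, Subgroup.coe_subtype, hE, MulEquiv.apply_symm_apply]
        exact hGc g hg v
      have hrel : r ∣ N'.relIndex (Cfsg.Omega F ⇑Q) := by
        rw [hN', Subgroup.relIndex_comap]; exact hΩ
      have hdvd : Nat.card G * r ∣ Nat.card (orth Q) := by
        rw [← Nat.card_congr E.toEquiv]
        exact (mul_dvd_mul hGN hrel).trans (card_mul_relIndex_dvd N' (Cfsg.Omega F ⇑Q))
      obtain ⟨m, hm, hcard⟩ : ∃ m, d = m + 1 ∧ Nat.card (orth Q) = 2 * q ^ ((m + 1) * m) *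
          (if ε = 1 then q ^ (m + 1) - 1 else q ^ (m + 1) + 1) *
            ∏ k ∈ Finset.range m, (q ^ (2 * (k + 1)) - 1) := by
        rcases SelfAdj.card_orth_sig hQ hs with ⟨m, hm, hc⟩ | ⟨m, hm, he, hc⟩ | ⟨m, hm, he, hc⟩ | hm <;>
          rw [Module.finrank_fintype_fun_eq_card, hd] at hm
        · omega
        · exact ⟨m, by omega, by rw [hc, if_pos he]⟩
        · exact ⟨m, by omega, by rw [hc, if_neg (by rw [he]; decide)]⟩
        · omega
      have hpos : ∀ k, 0 < q ^ (k + 1) - 1 := fun k => Nat.sub_pos_of_lt (Nat.one_lt_pow (by omega) hq1)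
      have hcancel : ∀ a z w : ℕ, 0 < z → a * z * r ∣ w * z → r ∣ w := fun a z w hz h => by
        have : a * r * z ∣ w * z := by rwa [mul_right_comm]
        exact dvd_trans (Dvd.intro_left a rfl) (Nat.dvd_of_mul_dvd_mul_right hz this)
      have hBpos : ∀ n, 0 < ∏ k ∈ Finset.range n, (q ^ (2 * (2 * k + 1 + 1)) - 1) := fun n =>
        Finset.prod_pos fun k _ => by
          rw [show 2 * (2 * k + 1 + 1) = 4 * k + 3 + 1 by ring]
          exact hpos _
      have hB : ∀ n, ∏ k ∈ Finset.range n, ((q ^ 2) ^ (2 * (k + 1)) - 1) =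
          ∏ k ∈ Finset.range n, (q ^ (2 * (2 * k + 1 + 1)) - 1) := fun n =>
        Finset.prod_congr rfl fun k _ => by rw [← pow_mul]; congr 2
      have hr2' : ¬ r ∣ 2 := fun h => hr2 ((Nat.prime_dvd_prime_iff_eq hr.out Nat.prime_two).1 h)
      have hpw : ∀ k, ¬ r ∣ q ^ k := fun k h => hrq (hr.out.dvd_of_dvd_pow h)
      have hcases : (Odd d ∧ r ∣ if ε = 1 then q ^ d - 1 else q ^ d + 1) ∨
          ∃ o, Odd o ∧ o < d ∧ r ∣ q ^ (2 * o) - 1 := by
        rw [hcard] at hdvd
        have fin : ∀ n, 2 * n < d → r ∣ ∏ k ∈ Finset.range n, (q ^ (2 * (2 * k + 1)) - 1) →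
            ∃ o, Odd o ∧ o < d ∧ r ∣ q ^ (2 * o) - 1 := fun n hn h => by
          obtain ⟨k, hk, hkd⟩ := (Prime.dvd_finsetProd_iff hr.out.prime _).1 h
          rw [Finset.mem_range] at hk
          exact ⟨2 * k + 1, odd_two_mul_add_one k, by omega, hkd⟩
        rcases hGcard with ⟨n, hn, hG⟩ | ⟨n, hn, he, hG⟩ | ⟨n, hn, he, hG⟩
        · obtain rfl : m = 2 * n := by omega
          rw [hG, hB, prod_split (fun k => q ^ (2 * (k + 1)) - 1), ← mul_assoc] at hdvd
          have h1 := hcancel _ _ _ (hBpos n) hdvd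
          rcases hr.out.dvd_mul.1 h1 with h | h
          · rcases hr.out.dvd_mul.1 h with h | h
            · rcases hr.out.dvd_mul.1 h with h | h
              · exact absurd h hr2'
              · exact absurd h (hpw _)
            · exact Or.inl ⟨⟨n, hn⟩, by rw [hm]; exact h⟩
          · exact Or.inr (fin n (by omega) h)
        all_goals
          obtain rfl : m = 2 * n + 1 := by omega
          rw [hG, hB, Finset.prod_range_succ, prod_split (fun k => q ^ (2 * (k + 1)) - 1)] at hdvd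
          first
            | rw [if_pos he] at hdvd
            | rw [if_neg (by rw [he]; decide)] at hdvd
          rw [show q ^ (2 * n + 1 + 1) = (q ^ 2) ^ (n + 1) by rw [← pow_mul]; ring_nf] at hdvd
          set X := (q ^ 2) ^ (n + 1)
          set B := ∏ k ∈ Finset.range n, (q ^ (2 * (2 * k + 1 + 1)) - 1)
          set A := ∏ k ∈ Finset.range n, (q ^ (2 * (2 * k + 1)) - 1)
          have hX : 1 < X := Nat.one_lt_pow (by omega) (Nat.one_lt_pow two_ne_zero hq1)
          have hz := hBpos n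
          rw [mul_assoc (2 * (q ^ 2) ^ ((n + 1) * n))] at hdvd
          have hd' : r ∣ 2 * q ^ ((2 * n + 1 + 1) * (2 * n + 1)) * (A * (q ^ (2 * (2 * n + 1)) - 1)) :=
            hcancel _ _ _ (Nat.mul_pos (by omega) hz) (hdvd.trans (dvd_of_eq (by ring)))
          rcases hr.out.dvd_mul.1 hd' with h | h
          · rcases hr.out.dvd_mul.1 h with h | h
            · exact absurd h hr2'
            · exact absurd h (hpw _)
          · rcases hr.out.dvd_mul.1 h with h | h
            · exact Or.inr (fin n (by omega) h)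
            · exact Or.inr ⟨2 * n + 1, odd_two_mul_add_one n, by omega, h⟩
      have hipos : 0 < i := S.i_pos
      obtain ⟨f, hf, hcf, hfd, hfe⟩ : ∃ f, Odd f ∧ (if Even i then i else 2 * i) = 2 * f ∧ f ≤ d ∧
          (f = d → ε = if Even i then -1 else 1) := by
        rcases hcases with ⟨hdo, hX⟩ | ⟨o, ho, hod, hX⟩
        · have h0 := (ZMod.natCast_eq_zero_iff _ r).2 hX
          split_ifs at h0 with he
          · rw [Nat.cast_sub (Nat.one_le_pow _ _ (by omega)), sub_eq_zero, Nat.cast_pow, Nat.cast_one] at h0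
            have hdv : i ∣ d := orderOf_dvd_of_pow_eq_one h0
            have hio : Odd i := hdo.of_dvd_nat hdv
            rw [if_neg (Nat.not_even_iff_odd.2 hio), if_neg (Nat.not_even_iff_odd.2 hio)]
            exact ⟨i, hio, rfl, Nat.le_of_dvd (by omega) hdv, fun _ => he⟩
          · rw [Nat.cast_add, Nat.cast_pow, Nat.cast_one] at h0
            have hm1 : (q : ZMod r) ^ d = -1 := eq_neg_of_add_eq_zero_left h0
            have hdv : i ∣ 2 * d := orderOf_dvd_of_pow_eq_one (by rw [mul_comm, pow_mul, hm1, neg_one_sq])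
            have hie : Even i := by
              by_contra hio
              have hdv' : i ∣ d := (Nat.coprime_two_right.2 (Nat.not_even_iff_odd.1 hio)).dvd_of_dvd_mul_left hdv
              rw [orderOf_dvd_iff_pow_eq_one.1 hdv'] at hm1
              have h20 : ((2 : ℕ) : ZMod r) = 0 := by push_cast; linear_combination hm1
              exact hr2' ((ZMod.natCast_eq_zero_iff _ _).1 h20)
            rw [if_pos hie, if_pos hie]
            obtain ⟨f, hf⟩ := hie
            rw [← two_mul] at hf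
            rw [hf] at hdv
            have hfd := (Nat.mul_dvd_mul_iff_left two_pos).1 hdv
            exact ⟨f, hdo.of_dvd_nat hfd, hf, Nat.le_of_dvd (by omega) hfd, fun _ => hs.unit.resolve_left he⟩
        · have h0 := (ZMod.natCast_eq_zero_iff _ r).2 hX
          rw [Nat.cast_sub (Nat.one_le_pow _ _ (by omega)), sub_eq_zero, Nat.cast_pow, Nat.cast_one] at h0
          have hdv : i ∣ 2 * o := orderOf_dvd_of_pow_eq_one h0
          by_cases hie : Even i
          · rw [if_pos hie, if_pos hie]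
            obtain ⟨f, hf⟩ := hie
            rw [← two_mul] at hf
            rw [hf] at hdv
            have hfd := (Nat.mul_dvd_mul_iff_left two_pos).1 hdv
            have := Nat.le_of_dvd ho.pos hfd
            exact ⟨f, ho.of_dvd_nat hfd, hf, by omega, fun h => absurd h (by omega)⟩
          · rw [if_neg hie, if_neg hie]
            have hfd := (Nat.coprime_two_right.2 (Nat.not_even_iff_odd.1 hie)).dvd_of_dvd_mul_left hdv
            have := Nat.le_of_dvd ho.pos hfd
            exact ⟨i, ho.of_dvd_nat hfd, rfl, by omega, fun h => absurd h (by omega)⟩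
      exact bad_block S hQ hs hd hf hcf hfd hfe
    obtain ⟨h, hh, hhT, hhr⟩ := exists_omega_of_pow (f := ⇑Q) rfl hQ hn (hr.out.odd_of_ne_two hr2) hT
    have hhT' : ∀ x, Matrix.toLin' ((h : GL ι F) : Matrix ι ι F) x = T.1 x := fun x => by rw [← hhT]; rfl
    have hXr : (h : GL ι F) ^ r = 1 := by rw [← Subgroup.coe_pow, hhr, OneMemClass.coe_one]
    obtain ⟨g, hg, hgX⟩ := H (h : GL ι F) ⟨h, hh, rfl⟩ ⟨1, by rw [hXr, one_smul, Units.val_one]⟩ fun z hz => hT1 (by
      have hsc : ∀ x, T.1 x = z • x := fun x => by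
        rw [← hhT', hz, map_smul, Matrix.toLin'_one]; rfl
      obtain ⟨i⟩ := ‹Nonempty ι›
      obtain ⟨v, hv⟩ := exists_form_ne_zero hQ (x := (Pi.single i 1 : ι → F)) (by simp)
      have hz1 : z * z = 1 := by
        have := T.2 v
        rw [hsc, QuadraticMap.map_smul, smul_eq_mul] at this
        exact (mul_eq_right₀ hv).1 this
      have hzr : z ^ r = 1 := by
        have e : (((h : GL ι F) ^ r : GL ι F) : Matrix ι ι F) = z ^ r • (1 : Matrix ι ι F) := by
          rw [Units.val_pow_eq_pow_val, hz, smul_pow, one_pow]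
        rw [hXr] at e
        simpa using (congrFun (congrFun e i) i).symm
      obtain ⟨k, hk⟩ := hr.out.odd_of_ne_two hr2
      rw [hk, pow_succ, pow_mul, pow_two, hz1, one_pow, one_mul] at hzr
      refine UnitaryOrthogonal.orth_ext fun x => ?_
      rw [hsc, hzr, one_smul]; rfl)
    obtain ⟨b, hb, hrel⟩ := relation_of_normalizer h2 hJK hspan hJJ hj hgX
    have hb1 : b = 1 := by
      have hYr : (g⁻¹ * (h : GL ι F) * g) ^ r = 1 := by
        have := conj_pow (i := r) (a := g⁻¹) (b := (h : GL ι F))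
        rw [inv_inv] at this
        rw [this, hXr, mul_one, inv_mul_cancel]
      set Y := ((g⁻¹ * (h : GL ι F) * g : GL ι F) : Matrix ι ι F) with hY
      have hpow : ∀ k : ℕ, Y ^ k * J = b ^ k • (J * Y ^ k) := by
        intro k
        induction k with
        | zero => simp
        | succ k ih =>
          rw [pow_succ, mul_assoc, hrel, Matrix.mul_smul, ← mul_assoc, ih, Matrix.smul_mul, smul_smul, mul_assoc,
            pow_succ, mul_comm]
      have h1 := hpow r
      rw [hY, ← Units.val_pow_eq_pow_val, hYr, Units.val_one, one_mul, mul_one] at h1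
      obtain ⟨i⟩ := ‹Nonempty ι›
      have h3 : (b ^ r - 1) • Matrix.toLin' J (Pi.single i 1) = 0 := by
        rw [sub_smul, one_smul, ← LinearMap.smul_apply, ← map_smul, ← h1, sub_self]
      have hbr : b ^ r = 1 := sub_eq_zero.1 ((smul_eq_zero.1 h3).resolve_right fun e => by
        have := hj.no_eigen (t := 0) (v := (Pi.single i 1 : ι → F)) (by rw [e, zero_smul])
        simp at this)
      obtain ⟨l, hl⟩ := hr.out.odd_of_ne_two hr2
      rwa [hl, pow_succ, pow_mul, pow_two, hb, one_pow, one_mul] at hbr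
    rw [hb1, one_smul] at hrel
    obtain ⟨g₀, -, rfl⟩ := hg
    set G := Matrix.toLin' (((g₀ : Cfsg.isometryGroup F ⇑Q) : GL ι F) : Matrix ι ι F) with hG
    set G' := Matrix.toLin' (((g₀⁻¹ : Cfsg.isometryGroup F ⇑Q) : GL ι F) : Matrix ι ι F) with hG'
    have hGG : ∀ v, G (G' v) = v := fun v => by
      rw [hG, hG', Subgroup.coe_inv, ← Matrix.toLin'_mul_apply, ← Units.val_mul, mul_inv_cancel, Units.val_one, Matrix.toLin'_one]; rfl
    have hGG' : ∀ v, G' (G v) = v := fun v => by
      rw [hG, hG', Subgroup.coe_inv, ← Matrix.toLin'_mul_apply, ← Units.val_mul, inv_mul_cancel, Units.val_one, Matrix.toLin'_one]; rfl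
    have hGp : ∀ u v, polar Q (G u) (G v) = polar Q u v := fun u v => by
      simp only [polar, ← map_add, hG, hE, (E g₀).2 _]
    refine hbad (G ∘ₗ Matrix.toLin' J ∘ₗ G') δ ⟨fun v => ?_, fun u v => ?_, hj.nsq, h2⟩ fun v => ?_
    · simp only [LinearMap.comp_apply, hGG', hj.sq, map_smul, hGG]
    · obtain ⟨u', rfl⟩ : ∃ u', G u' = u := ⟨G' u, hGG u⟩
      obtain ⟨v', rfl⟩ : ∃ v', G v' = v := ⟨G' v, hGG v⟩
      simp only [LinearMap.comp_apply, hGG', hGp, hj.sa]
    · have hrel' := congrArg (fun A => G (Matrix.toLin' A (G' v))) hrel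
      simp only [Units.val_mul, Matrix.toLin'_mul_apply, Subgroup.coe_subtype, ← Subgroup.coe_inv, ← hG, ← hG',
        hhT', hGG] at hrel'
      exact hrel'
  · rintro rfl x hx ⟨z, hz⟩ -
    obtain ⟨i⟩ := ‹Nonempty ι›
    have hxS := Cfsg.Agent.Aschbacher.omegaGL_le_specialLinear _ hx
    obtain ⟨h, -, rfl⟩ := hx
    set T := Matrix.toLin' ((h : GL ι F) : Matrix ι ι F) with hT
    have hTQ : ∀ v, Q (T v) = Q v := fun v => by rw [hT, hE]; exact (E h).2 v
    have hTT : ∀ v, T (T v) = z • v := fun v => by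
      have hz' : (((h : GL ι F) ^ 2 : GL ι F) : Matrix ι ι F) = z • 1 := hz
      rw [hT, ← Matrix.toLin'_mul_apply, ← Units.val_mul, ← pow_two, hz', map_smul, Matrix.toLin'_one]; rfl
    have hzz : z * z = 1 := by
      obtain ⟨v, hv⟩ := exists_form_ne_zero hQ (x := (Pi.single i 1 : ι → F)) (by simp)
      have := hTQ (T v)
      rw [hTT, QuadraticMap.map_smul, smul_eq_mul, hTQ] at this
      exact (mul_eq_right₀ hv).1 this
    obtain ⟨κ, _, _, e, hfr⟩ : ∃ (κ : Type) (_ : Fintype κ) (_ : DecidableEq κ) (e : κ ⊕ κ → ι → F),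
        SelfAdjInvol.Frame Q T z κ e := by
      rcases mul_self_eq_one_iff.1 hzz with rfl | rfl
      · refine SelfAdjInvol.exists_frame_one h2 hQ hTQ (fun v => by rw [hTT, one_smul]) ?_ ⟨d, by omega⟩
        rw [hT, LinearMap.det_toLin']
        exact congrArg Units.val hxS
      · obtain ⟨k, e, -, h1, h3, h4, h5⟩ := SelfAdjInvol.exists_frame_neg h2 hTQ (fun v => by rw [hTT, neg_one_smul]) _ ⊤
          le_rfl (fun v _ => Submodule.mem_top) (ndOn_top hQ)
        exact ⟨Fin k, inferInstance, inferInstance, e, h1, h3, h4, fun l => Or.inr ⟨rfl, h5 l⟩⟩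
    obtain ⟨k₀⟩ : Nonempty κ := by
      by_contra hne
      rw [not_nonempty_iff] at hne
      have h0 : (⊤ : Submodule F (ι → F)) ≤ ⊥ := hfr.span.trans (by rw [Set.range_eq_empty, Submodule.span_empty])
      have := (Submodule.mem_bot F).1 (h0 (Submodule.mem_top (x := (Pi.single i 1 : ι → F))))
      simp at this
    obtain ⟨c, hc, j, hjT, hjc⟩ := SelfAdjInvol.exists_omega_conj hQ h2 (by omega) hTQ hTT (mul_self_eq_one_iff.1 hzz)
      hfr k₀ hj hd
    refine ⟨(c : GL ι F), ⟨c, hc, rfl⟩, mem_normalizer hJK hspan hzz (Matrix.toLin'.injective (LinearMap.ext fun v => ?_))⟩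
    set C := Matrix.toLin' ((c : GL ι F) : Matrix ι ι F) with hC
    set C' := Matrix.toLin' ((((c : GL ι F))⁻¹ : GL ι F) : Matrix ι ι F) with hC'
    have hCC : ∀ v, C (C' v) = v := fun v => by
      rw [hC, hC', ← Matrix.toLin'_mul_apply, ← Units.val_mul, mul_inv_cancel, Units.val_one, Matrix.toLin'_one]; rfl
    have hC'C : ∀ v, C' (C v) = v := fun v => by
      rw [hC, hC', ← Matrix.toLin'_mul_apply, ← Units.val_mul, inv_mul_cancel, Units.val_one, Matrix.toLin'_one]; rfl
    have hjc' : ∀ v, C (Matrix.toLin' J v) = j (C v) := fun v => by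
      rw [hC, Matrix.toLin'_apply, Matrix.toLin'_apply]; exact hjc v
    simp only [Units.val_mul, map_smul, LinearMap.smul_apply, Matrix.toLin'_mul_apply, Subgroup.coe_subtype, ← hC, ← hC', ← hT]
    rw [hjc', hjT, map_smul]
    congr 1
    calc C' (j (T (C v))) = C' (j (C (C' (T (C v))))) := by rw [hCC]
      _ = Matrix.toLin' J (C' (T (C v))) := by rw [← hjc', hC'C]

end Cfsg.Agent.ClMax99.SelfAdjCrit
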