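import Cfsg.Agent.Lib.Forms.Symp
import Cfsg.Prelude.Def_GeometricClasses

/-!
Elements of `SL_n(q)` which are sums of invariant planes with equal determinants are conjugate in
`SL_n(q)` to similitudes of a given symplectic form.
-/

set_option autoImplicit false

namespace Cfsg.Agent.ClMax99.SympConj

open Module Matrix

variable {F : Type*} [Field F] [Fintype F]

theorem exists_form_value {z d : F} (h2 : ringChar F ≠ 2 → z ≠ 0) :
    ∃ a b : F, a ^ 2 - z * b ^ 2 = d := by
  by_cases hc : ringChar F = 2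
  · obtain ⟨a, ha⟩ := FiniteField.isSquare_of_char_two hc d
    exact ⟨a, 0, by rw [ha]; ring⟩
  · obtain ⟨a, b, hab⟩ := FiniteField.exists_root_sum_quadratic
      (f := (Polynomial.X ^ 2 - Polynomial.C d : Polynomial F))
      (g := (Polynomial.C (-z) * Polynomial.X ^ 2 : Polynomial F))
      (Polynomial.degree_X_pow_sub_C (by norm_num) d)
      (Polynomial.degree_C_mul_X_pow 2 (neg_ne_zero.2 (h2 hc)))
      (FiniteField.odd_card_of_char_ne_two hc)
    simp only [Polynomial.eval_sub, Polynomial.eval_pow, Polynomial.eval_X, Polynomial.eval_C,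
      Polynomial.eval_mul] at hab
    exact ⟨a, b, by linear_combination hab⟩

variable {n : ℕ}

/-- Conjugation into the similarity group from invariant planes. -/
theorem conj_of_planes (f : (Fin n → F) → (Fin n → F) → F) (hf : Cfsg.Geo.IsSymplecticForm f)
    (x : Matrix.SpecialLinearGroup (Fin n) F) {ι : Type*} [Fintype ι] [DecidableEq ι] [Nonempty ι]
    (hn : n = 2 * Fintype.card ι) (v w : ι → Fin n → F)
    (hspan : (⊤ : Submodule F (Fin n → F)) ≤ Submodule.span F (Set.range (Sum.elim v w)))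
    (μ z : F) (hμ : μ ≠ 0)
    (hblk : ∀ i, (∃ a, a ^ 2 = μ ∧ (x : Matrix (Fin n) (Fin n) F) *ᵥ v i = a • v i ∧
        (x : Matrix (Fin n) (Fin n) F) *ᵥ w i = a • w i) ∨
      ((x : Matrix (Fin n) (Fin n) F) *ᵥ v i = w i ∧ (x : Matrix (Fin n) (Fin n) F) *ᵥ w i = z • v i ∧
        μ = -z)) :
    ∃ P : Matrix.SpecialLinearGroup (Fin n) F, P⁻¹ * x * P ∈ ((Cfsg.Geo.similarityGroup f).comap
      (Matrix.SpecialLinearGroup.toGL : Matrix.SpecialLinearGroup (Fin n) F →* GL (Fin n) F)) := by
  classical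
  choose M hM using fun i => show ∃ M : Matrix (Fin 2) (Fin 2) F, M.det = μ ∧
      ((x : Matrix (Fin n) (Fin n) F) *ᵥ v i = M 0 0 • v i + M 1 0 • w i) ∧
      ((x : Matrix (Fin n) (Fin n) F) *ᵥ w i = M 0 1 • v i + M 1 1 • w i) ∧
      (∀ d : F, d ≠ 0 → ∃ C : Matrix (Fin 2) (Fin 2) F, C.det = d ∧ C * M = M * C) by
    rcases hblk i with ⟨a, ha, h1, h2⟩ | ⟨h1, h2, h3⟩
    · refine ⟨!![a, 0; 0, a], ?_, by simp [h1], by simp [h2], fun d _ => ⟨!![d, 0; 0, 1], ?_, ?_⟩⟩
      · rw [Matrix.det_fin_two_of]; linear_combination ha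
      · rw [Matrix.det_fin_two_of]; ring
      · ext k l; fin_cases k <;> fin_cases l <;> simp [Matrix.mul_apply, Fin.sum_univ_two, mul_comm]
    · refine ⟨!![0, z; 1, 0], ?_, by simp [h1], by simp [h2], fun d _ => ?_⟩
      · rw [Matrix.det_fin_two_of, h3]; ring
      obtain ⟨a, b, hab⟩ := exists_form_value (z := z) (d := d)
        (fun _ e => hμ (by rw [h3, e, neg_zero]))
      refine ⟨!![a, z * b; b, a], ?_, ?_⟩
      · rw [Matrix.det_fin_two_of]; linear_combination hab
      · ext k l; fin_cases k <;> fin_cases l <;> simp [Matrix.mul_apply, Fin.sum_univ_two] <;> ring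
  let B : LinearMap.BilinForm F (Fin n → F) := LinearMap.mk₂ F f hf.bilinear.add_left
    hf.bilinear.smul_left (fun m a b => hf.bilinear.add_right m a b) fun k m a => hf.bilinear.smul_right k m a
  have hA : B.IsAlt := fun u => hf.alternating u
  obtain ⟨m, e, e', he, he', hee', hee, he'e', hspan'⟩ := Forms.exists_symplectic_family B hA ⊤
    fun u _ h => by
      by_contra hne
      obtain ⟨y, hy⟩ := (hf.nondegenerate u hne).2
      exact hy (h y Submodule.mem_top)
  have hdim := Forms.finrank_eq_of_symplectic_family B hA ⊤ e e' he he' hee' hee he'e' hspan'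
  rw [finrank_top, Module.finrank_fin_fun] at hdim
  let τ : ι ≃ Fin m := Fintype.equivFinOfCardEq (by omega)
  let σ : Fin 2 × ι ≃ Fin n := Fintype.equivFinOfCardEq (by
    rw [Fintype.card_prod, Fintype.card_fin, hn])
  let cv : Fin 2 × ι → (Fin n → F) := fun p => ![v p.2, w p.2] p.1
  let ce : Fin 2 × ι → (Fin n → F) := fun p => ![e (τ p.2), e' (τ p.2)] p.1
  let V : Matrix (Fin n) (Fin n) F := Matrix.of fun r c => cv (σ.symm c) r
  let E : Matrix (Fin n) (Fin n) F := Matrix.of fun r c => ce (σ.symm c) r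
  have hcols : ∀ (cf : Fin 2 × ι → (Fin n → F)) (T : Submodule F (Fin n → F)), T ≤ Submodule.span F (Set.range cf) →
      T = ⊤ → IsUnit (Matrix.of fun r c => cf (σ.symm c) r : Matrix (Fin n) (Fin n) F) := by
    intro cf T hT hTop
    rw [← Matrix.linearIndependent_cols_iff_isUnit]
    refine linearIndependent_of_top_le_span_of_card_eq_finrank ?_ (by simp)
    rw [← hTop]
    refine hT.trans (Submodule.span_mono ?_)
    rintro _ ⟨p, rfl⟩
    exact ⟨σ p, by funext r; simp⟩
  have hVu : IsUnit V := hcols cv ⊤ (hspan.trans (Submodule.span_mono (by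
    rintro _ ⟨i | i, rfl⟩
    · exact ⟨(0, i), rfl⟩
    · exact ⟨(1, i), rfl⟩))) rfl
  have hEu : IsUnit E := hcols ce ⊤ (hspan'.trans (Submodule.span_mono (by
    rintro _ ⟨i | i, rfl⟩
    · exact ⟨(0, τ.symm i), by simp [ce]⟩
    · exact ⟨(1, τ.symm i), by simp [ce]⟩))) rfl
  let X : Matrix (Fin n) (Fin n) F := Matrix.reindex σ σ (Matrix.blockDiagonal M)
  let J : Matrix (Fin n) (Fin n) F :=
    Matrix.reindex σ σ (Matrix.blockDiagonal fun _ : ι => (!![0, 1; -1, 0] : Matrix (Fin 2) (Fin 2) F))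
  have hxV : (x : Matrix (Fin n) (Fin n) F) * V = V * X := by
    ext r c
    obtain ⟨⟨k, i⟩, rfl⟩ := σ.surjective c
    have h1 : ((x : Matrix (Fin n) (Fin n) F) * V) r (σ (k, i)) = ((x : Matrix (Fin n) (Fin n) F) *ᵥ cv (k, i)) r := by
      simp [Matrix.mul_apply, Matrix.mulVec, dotProduct, V]
    have h2 : (V * X) r (σ (k, i)) = v i r * M i 0 k + w i r * M i 1 k := by
      rw [Matrix.mul_apply, ← σ.sum_comp, Fintype.sum_prod_type, Fin.sum_univ_two]
      simp [V, X, cv, Matrix.blockDiagonal_apply]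
    rw [h1, h2]
    fin_cases k
    · simp [cv, (hM i).2.1, mul_comm]
    · simp [cv, (hM i).2.2.1, mul_comm]
  have hfE : ∀ a b : Fin n → F, f (E *ᵥ a) (E *ᵥ b) = a ⬝ᵥ (J *ᵥ b) := by
    intro a b
    have hexp : ∀ a : Fin n → F, E *ᵥ a = ∑ c, a c • ce (σ.symm c) := fun a => by
      funext r
      simp [Matrix.mulVec, dotProduct, E, Finset.sum_apply, mul_comm]
    have hcc : ∀ p p', B (ce p) (ce p') = Matrix.blockDiagonal (fun _ : ι => (!![0, 1; -1, 0] : Matrix (Fin 2) (Fin 2) F)) p p' := by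
      rintro ⟨k, i⟩ ⟨k', i'⟩
      rw [Matrix.blockDiagonal_apply]
      fin_cases k <;> fin_cases k'
      · simp [ce, hee]
      · simp [ce, hee', τ.injective.eq_iff]
      · have := hee' (τ i') (τ i)
        simp only [ce, Fin.mk_one, Fin.zero_eta, Matrix.cons_val_one, Matrix.cons_val_zero]
        rw [← LinearMap.IsAlt.neg hA (e (τ i')) (e' (τ i)), this]
        by_cases hii : i = i'
        · subst hii; simp
        · simp [hii, Ne.symm hii, τ.injective.eq_iff]
      · simp [ce, he'e']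
    show B (E *ᵥ a) (E *ᵥ b) = _
    simp only [hexp, map_sum, map_smul, LinearMap.sum_apply, LinearMap.smul_apply, smul_eq_mul, hcc,
      Matrix.mulVec, dotProduct, Finset.mul_sum, J, Matrix.reindex_apply, Matrix.submatrix_apply]
    rw [Finset.sum_comm]
    exact Finset.sum_congr rfl fun c _ => Finset.sum_congr rfl fun c' _ => by ring
  have hXJ : Xᵀ * J * X = μ • J := by
    simp only [X, J, Matrix.reindex_apply, Matrix.transpose_submatrix, Matrix.submatrix_mul_equiv]
    show _ = (μ • Matrix.blockDiagonal fun _ : ι => (!![0, 1; -1, 0] : Matrix (Fin 2) (Fin 2) F)).submatrix σ.symm σ.symm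
    congr 1
    rw [Matrix.blockDiagonal_transpose, ← Matrix.blockDiagonal_mul, ← Matrix.blockDiagonal_mul,
      ← Matrix.blockDiagonal_smul]
    congr 1
    funext i
    have hd := (hM i).1
    rw [Matrix.det_fin_two] at hd
    ext k l
    fin_cases k <;> fin_cases l <;> simp [Matrix.mul_apply, Fin.sum_univ_two] <;>
      first | ring1 | linear_combination hd | linear_combination -hd
  obtain ⟨Vu, hV⟩ := hVu
  obtain ⟨Eu, hE⟩ := hEu
  have hEd : E.det ≠ 0 := by rw [← hE]; exact ((Matrix.isUnit_iff_isUnit_det _).1 Eu.isUnit).ne_zero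
  have hVd : V.det ≠ 0 := by rw [← hV]; exact ((Matrix.isUnit_iff_isUnit_det _).1 Vu.isUnit).ne_zero
  let i0 : ι := Classical.arbitrary ι
  obtain ⟨C, hC, hCM⟩ := (hM i0).2.2.2 (E.det / V.det) (div_ne_zero hEd hVd)
  let D : Matrix (Fin n) (Fin n) F :=
    Matrix.reindex σ σ (Matrix.blockDiagonal (Function.update (fun _ => 1) i0 C))
  have hDd : D.det = E.det / V.det := by
    rw [Matrix.det_reindex_self, Matrix.det_blockDiagonal, Finset.prod_eq_single i0
      (fun j _ hj => by simp [hj]) (by simp), Function.update_self, hC]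
  have hDX : D * X = X * D := by
    simp only [D, X, Matrix.reindex_apply, Matrix.submatrix_mul_equiv, ← Matrix.blockDiagonal_mul]
    congr 2
    funext i
    by_cases h : i = i0
    · subst h; simp [hCM]
    · simp [h]
  let P : Matrix.SpecialLinearGroup (Fin n) F := ⟨V * D * ((Eu⁻¹ : (Matrix (Fin n) (Fin n) F)ˣ) : Matrix (Fin n) (Fin n) F), by
    rw [Matrix.det_mul, Matrix.det_mul, hDd, mul_div_cancel₀ _ hVd, ← Matrix.det_mul, ← hE, Units.mul_inv,
      Matrix.det_one]⟩
  refine ⟨P, ?_⟩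
  have hy : ((P⁻¹ * x * P : Matrix.SpecialLinearGroup (Fin n) F) : Matrix (Fin n) (Fin n) F) * E = E * X := by
    have hPE : (P : Matrix (Fin n) (Fin n) F) * E = V * D := by
      show V * D * _ * E = V * D
      rw [mul_assoc, ← hE, Units.inv_mul, mul_one]
    rw [Matrix.SpecialLinearGroup.coe_mul, Matrix.SpecialLinearGroup.coe_mul, mul_assoc, hPE, mul_assoc,
      ← mul_assoc (x : Matrix (Fin n) (Fin n) F), hxV, mul_assoc V, ← hDX, ← mul_assoc V, ← hPE,
      mul_assoc, ← mul_assoc _ (P : Matrix (Fin n) (Fin n) F), ← Matrix.SpecialLinearGroup.coe_mul,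
      inv_mul_cancel, Matrix.SpecialLinearGroup.coe_one, one_mul]
  refine ⟨Units.mk0 μ hμ, fun u u' => ?_⟩
  rw [Matrix.SpecialLinearGroup.coe_GL_coe_matrix, Units.val_mk0]
  obtain ⟨a, rfl⟩ : ∃ a, E *ᵥ a = u :=
    ⟨((Eu⁻¹ : (Matrix (Fin n) (Fin n) F)ˣ) : Matrix (Fin n) (Fin n) F) *ᵥ u, by
      rw [Matrix.mulVec_mulVec, ← hE, Units.mul_inv, Matrix.one_mulVec]⟩
  obtain ⟨b, rfl⟩ : ∃ b, E *ᵥ b = u' :=
    ⟨((Eu⁻¹ : (Matrix (Fin n) (Fin n) F)ˣ) : Matrix (Fin n) (Fin n) F) *ᵥ u', by
      rw [Matrix.mulVec_mulVec, ← hE, Units.mul_inv, Matrix.one_mulVec]⟩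
  simp only [Matrix.mulVec_mulVec, hy]
  rw [← Matrix.mulVec_mulVec, ← Matrix.mulVec_mulVec, hfE, hfE, Matrix.mulVec_mulVec, Matrix.dotProduct_mulVec,
    Matrix.vecMul_mulVec, ← mul_assoc, hXJ, Matrix.vecMul_smul, smul_dotProduct, smul_eq_mul,
    ← Matrix.dotProduct_mulVec]

/-- An even-dimensional subspace is spanned by two families of equal size. -/
theorem exists_two_families {V : Type*} [AddCommGroup V] [Module F V] [FiniteDimensional F V]
    (S : Submodule F V) {l : ℕ} (hl : finrank F S = l + l) :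
    ∃ v w : Fin l → V, (∀ i, v i ∈ S) ∧ (∀ i, w i ∈ S) ∧ S ≤ Submodule.span F (Set.range (Sum.elim v w)) := by
  let b := finBasisOfFinrankEq F S hl
  refine ⟨fun i => b (Fin.castAdd l i), fun i => b (Fin.natAdd l i), fun i => (b _).2, fun i => (b _).2, ?_⟩
  intro y hy
  have h := congrArg Subtype.val (b.sum_repr ⟨y, hy⟩).symm
  rw [Submodule.coe_sum] at h
  rw [show y = _ from h]
  refine Submodule.sum_mem _ fun k _ => Submodule.smul_mem _ _ (Submodule.subset_span ?_)
  exact Fin.addCases (motive := fun k => ((b k : S) : V) ∈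
      Set.range (Sum.elim (fun i => (b (Fin.castAdd l i) : V)) fun i => (b (Fin.natAdd l i) : V)))
    (fun i => ⟨Sum.inl i, rfl⟩) (fun i => ⟨Sum.inr i, rfl⟩) k

/-- Cyclic planes of a map whose square is a non-square scalar. -/
theorem exists_cyclic_planes {V : Type*} [AddCommGroup V] [Module F V] [FiniteDimensional F V]
    (T : Module.End F V) {z : F} (hz : ∀ a : F, a ^ 2 ≠ z) (hT : ∀ y, T (T y) = z • y) :
    ∀ k : ℕ, 2 * k ≤ finrank F V + 1 →
      ∃ v : Fin k → V, LinearIndependent F (Sum.elim v (fun i => T (v i))) := by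
  intro k
  induction k with
  | zero => exact fun _ => ⟨Fin.elim0, linearIndependent_empty_type⟩
  | succ k ih =>
    intro hk
    obtain ⟨v, hv⟩ := ih (by omega)
    set S := Submodule.span F (Set.range (Sum.elim v (fun i => T (v i)))) with hS
    have hSdim : finrank F S = k + k := by
      rw [hS, finrank_span_eq_card hv, Fintype.card_sum, Fintype.card_fin]
    obtain ⟨y, -, hy⟩ := SetLike.exists_of_lt (show S < ⊤ from lt_top_iff_ne_top.2 fun h => by
      rw [h, finrank_top] at hSdim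
      omega)
    have hinv : ∀ s ∈ S, T s ∈ S := by
      intro s hs
      refine (Submodule.span_le.2 ?_ : S ≤ S.comap T) hs
      rintro _ ⟨i | i, rfl⟩
      · exact Submodule.subset_span ⟨Sum.inr i, rfl⟩
      · show T (T (v i)) ∈ S
        rw [hT]
        exact S.smul_mem _ (Submodule.subset_span ⟨Sum.inl i, rfl⟩)
    refine ⟨Fin.cons y v, ?_⟩
    rw [Fintype.linearIndependent_iff]
    intro g hg
    simp only [Fintype.sum_sum_type, Sum.elim_inl, Sum.elim_inr, Fin.sum_univ_succ, Fin.cons_zero,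
      Fin.cons_succ] at hg
    set a := g (Sum.inl 0)
    set b := g (Sum.inr 0)
    set s := ∑ i : Fin k, g (Sum.inl i.succ) • v i + ∑ i : Fin k, g (Sum.inr i.succ) • T (v i) with hs
    have hsS : s ∈ S := S.add_mem (Submodule.sum_mem _ fun i _ => S.smul_mem _ (Submodule.subset_span ⟨Sum.inl i, rfl⟩))
      (Submodule.sum_mem _ fun i _ => S.smul_mem _ (Submodule.subset_span ⟨Sum.inr i, rfl⟩))
    have h1 : a • y + b • T y = -s := by rw [eq_neg_iff_add_eq_zero, ← hg, hs]; abel
    have h2 : (a * a - b * b * z) • y = a • (a • y + b • T y) - b • T (a • y + b • T y) := by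
      simp only [map_add, map_smul, hT, smul_add, smul_smul, sub_smul]
      module
    have hzero : a * a - b * b * z = 0 := by
      by_contra h0
      refine hy ?_
      rw [← inv_smul_smul₀ h0 y, h2, h1]
      exact S.smul_mem _ (S.sub_mem (S.smul_mem _ (S.neg_mem hsS)) (S.smul_mem _ (hinv _ (S.neg_mem hsS))))
    have hb : b = 0 := by
      by_contra hb
      exact hz (a / b) (by field_simp; linear_combination hzero)
    have ha : a = 0 := by
      rw [hb] at hzero
      simpa using hzero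
    rw [ha, hb] at h1
    simp only [zero_smul, add_zero, zero_eq_neg] at h1
    have hrest := Fintype.linearIndependent_iff.1 hv (Sum.elim (fun i => g (Sum.inl i.succ)) (fun i => g (Sum.inr i.succ)))
      (by simpa [Fintype.sum_sum_type, hs] using h1)
    rintro (i | i) <;> refine Fin.cases ?_ (fun j => ?_) i
    · exact ha
    · exact hrest (Sum.inl j)
    · exact hb
    · exact hrest (Sum.inr j)

end Cfsg.Agent.ClMax99.SympConj
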