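import Cfsg.Agent.ClMax99.SelfAdj
import Cfsg.Agent.Forms59.OmegaTools
import Cfsg.Agent.ClMax99.SympConj
import Cfsg.Agent.Aschbacher.OrthogonalBasics

/-!
Involutions of orthogonal groups normalise self-adjoint quadratic extensions.
-/

set_option autoImplicit false
set_option linter.unusedSectionVars false

namespace Cfsg.Agent.ClMax99.SelfAdjInvol

open QuadraticMap Cfsg.Agent.OrthFix Cfsg.Agent.Reflections Cfsg.Agent.Forms59
open Cfsg.Agent.UnitaryOrthogonal (PolarND orth)

universe u

variable {F : Type u} [Field F] [Fintype F] {ι : Type} [Fintype ι] [DecidableEq ι]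
variable {Q : QuadraticForm F (ι → F)} {δ z : F}

/-- An orthogonal decomposition into planes adapted to `T`. -/
structure Frame (Q : QuadraticForm F (ι → F)) (T : Module.End F (ι → F)) (z : F) (κ : Type)
    (e : κ ⊕ κ → ι → F) : Prop where
  orth : ∀ s t, s ≠ t → polar Q (e s) (e t) = 0
  ne : ∀ s, Q (e s) ≠ 0
  span : ⊤ ≤ Submodule.span F (Set.range e)
  rel : ∀ k, (z = 1 ∧ ∃ s : F, T (e (Sum.inl k)) = s • e (Sum.inl k) ∧ T (e (Sum.inr k)) = s • e (Sum.inr k)) ∨
    (z = -1 ∧ T (e (Sum.inl k)) = e (Sum.inr k) ∧ T (e (Sum.inr k)) = -e (Sum.inl k))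

variable {T : Module.End F (ι → F)}

theorem polar_self_two (v : ι → F) : polar Q v v = 2 * Q v := by
  rw [polar_self, nsmul_eq_mul, Nat.cast_ofNat]

theorem Frame.li (h2 : (2 : F) ≠ 0) {κ : Type} [Fintype κ] [DecidableEq κ] {e : κ ⊕ κ → ι → F}
    (hf : Frame Q T z κ e) : LinearIndependent F e := by
  rw [Fintype.linearIndependent_iff]
  intro g hg i
  have := congrArg (fun w => polarBilin Q (e i) w) hg
  simp only [map_sum, map_smul, map_zero, smul_eq_mul] at this
  rw [Finset.sum_eq_single i] at this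
  · change g i * polar Q (e i) (e i) = 0 at this
    rw [polar_self_two] at this
    exact (mul_eq_zero.1 this).resolve_right (mul_ne_zero h2 (hf.ne i))
  · intro j _ hj
    show g j * polar Q (e i) (e j) = 0
    rw [hf.orth i j (Ne.symm hj), mul_zero]
  · simp

/-- Orthogonal vectors spanning an eigenspace. -/
theorem exists_eigen_basis (h2 : (2 : F) ≠ 0) {A : Submodule F (ι → F)} (hA : NDOn Q A) :
    ∃ (n : ℕ) (e : Fin n → ι → F), (∀ i, e i ∈ A) ∧ (∀ i j, i ≠ j → polar Q (e i) (e j) = 0) ∧
      (∀ i, Q (e i) ≠ 0) ∧ A ≤ Submodule.span F (Set.range e) := by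
  letI : Invertible (2 : F) := invertibleOfNonzero h2
  obtain ⟨e, he⟩ := LinearMap.BilinForm.exists_orthogonal_basis (B := polarBilin (Q.comp A.subtype))
    ⟨fun x y => polar_comm _ x y⟩
  refine ⟨_, fun i => (e i : ι → F), fun i => (e i).2, fun i j hij => he hij, fun i hi => ?_, fun x hx => ?_⟩
  · refine e.ne_zero i (hA _ fun y => ?_)
    have hall : polarBilin (Q.comp A.subtype) (e i) = 0 := e.ext fun j => by
      by_cases h : i = j
      · subst h
        show polar Q (e i : ι → F) (e i : ι → F) = 0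
        rw [polar_self_two, hi, mul_zero]
      · exact he h
    exact LinearMap.congr_fun hall y
  · have h := congrArg Subtype.val (e.sum_repr ⟨x, hx⟩).symm
    rw [Submodule.coe_sum] at h
    rw [show x = _ from h]
    exact Submodule.sum_mem _ fun k _ => Submodule.smul_mem _ _ (Submodule.subset_span ⟨k, rfl⟩)

/-- Planes for an isometry of square one and determinant one. -/
theorem exists_frame_one (h2 : (2 : F) ≠ 0) (hQ : PolarND Q) (hT : ∀ v, Q (T v) = Q v)
    (hT2 : ∀ v, T (T v) = v) (hdet : LinearMap.det T = 1) (hn : Even (Fintype.card ι)) :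
    ∃ (κ : Type) (_ : Fintype κ) (_ : DecidableEq κ) (e : κ ⊕ κ → ι → F), Frame Q T 1 κ e := by
  classical
  have hpol : ∀ x y, polar Q (T x) (T y) = polar Q x y := fun x y => by simp only [polar, ← map_add, hT]
  set A := LinearMap.ker (T - 1)
  set B := LinearMap.ker (T + 1)
  have hA : ∀ v ∈ A, T v = v := fun v hv => sub_eq_zero.1 hv
  have hB : ∀ v ∈ B, T v = -v := fun v hv => eq_neg_of_add_eq_zero_left hv
  have hAB : ∀ a ∈ A, ∀ b ∈ B, polar Q a b = 0 := fun a ha b hb => by
    have := hpol a b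
    rw [hA a ha, hB b hb, polar_neg_right] at this
    have h3 : (2 : F) * polar Q a b = 0 := by linear_combination -this
    exact (mul_eq_zero.1 h3).resolve_left h2
  have hdec : ∀ v, ∃ a ∈ A, ∃ b ∈ B, v = a + b := fun v => by
    refine ⟨(2 : F)⁻¹ • (v + T v), ?_, (2 : F)⁻¹ • (v - T v), ?_, ?_⟩
    · show T _ - _ = 0
      rw [map_smul, map_add, hT2]; simp [add_comm]
    · show T _ + _ = 0
      rw [map_smul, map_sub, hT2, Module.End.one_apply]; module
    · rw [← smul_add, show v + T v + (v - T v) = (2 : F) • v by module, smul_smul, inv_mul_cancel₀ h2, one_smul]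
  have hAn : NDOn Q A := ndOn_iff.2 fun u hu h0 => hQ u fun x => by
    obtain ⟨a, ha, b, hb, rfl⟩ := hdec x
    rw [polar_add_right, h0 a ha, hAB u hu b hb, add_zero]
  have hBn : NDOn Q B := ndOn_iff.2 fun u hu h0 => hQ u fun x => by
    obtain ⟨a, ha, b, hb, rfl⟩ := hdec x
    rw [polar_add_right, h0 b hb, polar_comm, hAB a ha u hu, add_zero]
  obtain ⟨nA, ea, haA, hao, han, has⟩ := exists_eigen_basis h2 hAn
  obtain ⟨nB, eb, hbB, hbo, hbn, hbs⟩ := exists_eigen_basis h2 hBn
  set e : Fin nA ⊕ Fin nB → ι → F := Sum.elim ea eb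
  have horth : ∀ s t, s ≠ t → polar Q (e s) (e t) = 0 := by
    rintro (s | s) (t | t) hst
    · exact hao s t (fun h => hst (by rw [h]))
    · exact hAB _ (haA s) _ (hbB t)
    · show polar Q (eb s) (ea t) = 0
      rw [polar_comm]; exact hAB _ (haA t) _ (hbB s)
    · exact hbo s t (fun h => hst (by rw [h]))
  have hne : ∀ s, Q (e s) ≠ 0 := by rintro (s | s) <;> [exact han s; exact hbn s]
  have hspan : ⊤ ≤ Submodule.span F (Set.range e) := fun v _ => by
    obtain ⟨a, ha, b, hb, rfl⟩ := hdec v
    refine Submodule.add_mem _ (Submodule.span_mono ?_ (has ha)) (Submodule.span_mono ?_ (hbs hb))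
    · rintro _ ⟨k, rfl⟩; exact ⟨Sum.inl k, rfl⟩
    · rintro _ ⟨k, rfl⟩; exact ⟨Sum.inr k, rfl⟩
  have hli : LinearIndependent F e := by
    rw [Fintype.linearIndependent_iff]
    intro g hg i
    have := congrArg (fun w => polarBilin Q (e i) w) hg
    simp only [map_sum, map_smul, map_zero, smul_eq_mul] at this
    rw [Finset.sum_eq_single i] at this
    · change g i * polar Q (e i) (e i) = 0 at this
      rw [polar_self_two] at this
      exact (mul_eq_zero.1 this).resolve_right (mul_ne_zero h2 (hne i))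
    · intro j _ hj
      show g j * polar Q (e i) (e j) = 0
      rw [horth i j (Ne.symm hj), mul_zero]
    · simp
  let bs := Module.Basis.mk hli hspan
  have hcard : Fintype.card ι = nA + nB := by
    have := Module.finrank_eq_card_basis bs
    rwa [Module.finrank_fintype_fun_eq_card, Fintype.card_sum, Fintype.card_fin, Fintype.card_fin] at this
  have hmat : LinearMap.toMatrix bs bs T =
      Matrix.diagonal (Sum.elim (fun _ => (1 : F)) fun _ => (-1 : F)) := by
    ext s t
    have ht : T (bs t) = (Sum.elim (fun _ => (1 : F)) (fun _ => (-1 : F)) t) • bs t := by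
      rcases t with t | t <;> simp only [bs, Module.Basis.coe_mk, Sum.elim_inl, Sum.elim_inr, e]
      · rw [one_smul, hA _ (haA t)]
      · rw [neg_one_smul, hB _ (hbB t)]
    rw [LinearMap.toMatrix_apply, ht, map_smul, Module.Basis.repr_self, Finsupp.smul_apply, smul_eq_mul,
      Finsupp.single_apply, Matrix.diagonal_apply]
    by_cases hst : s = t
    · subst hst; simp
    · simp [hst, Ne.symm hst]
  have hBev : Even nB := by
    rw [← LinearMap.det_toMatrix bs, hmat, Matrix.det_diagonal, Fintype.prod_sum_type] at hdet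
    simp only [Sum.elim_inl, Sum.elim_inr, Finset.prod_const, one_pow, one_mul, Finset.card_univ,
      Fintype.card_fin] at hdet
    rcases Nat.even_or_odd nB with hev | ho
    · exact hev
    · rw [ho.neg_one_pow] at hdet
      exact absurd (by linear_combination -hdet) h2
  obtain ⟨mB, rfl⟩ := hBev
  obtain ⟨mA, rfl⟩ : Even nA := by
    rw [hcard] at hn
    exact (Nat.even_add.1 hn).2 ⟨mB, rfl⟩
  let φ : (Fin mA ⊕ Fin mB) ⊕ (Fin mA ⊕ Fin mB) ≃ Fin (mA + mA) ⊕ Fin (mB + mB) :=
    (Equiv.sumSumSumComm (Fin mA) (Fin mB) (Fin mA) (Fin mB)).trans (finSumFinEquiv.sumCongr finSumFinEquiv)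
  refine ⟨Fin mA ⊕ Fin mB, inferInstance, inferInstance, e ∘ φ, fun s t hst => horth _ _ (φ.injective.ne hst),
    fun s => hne _, by rwa [φ.surjective.range_comp], fun k => Or.inl ⟨rfl, ?_⟩⟩
  rcases k with k | k
  · refine ⟨1, ?_, ?_⟩ <;> simp [φ, e, hA _ (haA _)]
  · refine ⟨-1, ?_, ?_⟩ <;> simp [φ, e, hB _ (hbB _)]

/-- Planes for an isometry of square minus one. -/
theorem exists_frame_neg (h2 : (2 : F) ≠ 0) (hT : ∀ v, Q (T v) = Q v) (hT2 : ∀ v, T (T v) = -v) :
    ∀ (N : ℕ) (S : Submodule F (ι → F)), Module.finrank F S ≤ N → (∀ v ∈ S, T v ∈ S) → NDOn Q S →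
      ∃ (k : ℕ) (e : Fin k ⊕ Fin k → ι → F), (∀ s, e s ∈ S) ∧ (∀ s t, s ≠ t → polar Q (e s) (e t) = 0) ∧
        (∀ s, Q (e s) ≠ 0) ∧ S ≤ Submodule.span F (Set.range e) ∧
        ∀ i, T (e (Sum.inl i)) = e (Sum.inr i) ∧ T (e (Sum.inr i)) = -e (Sum.inl i) := by
  have hpol : ∀ x y, polar Q (T x) (T y) = polar Q x y := fun x y => by simp only [polar, ← map_add, hT]
  have hskew : ∀ x, polar Q x (T x) = 0 := fun x => by
    have := hpol x (T x)
    rw [hT2, polar_neg_right, polar_comm] at this
    have h3 : (2 : F) * polar Q x (T x) = 0 := by linear_combination -this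
    exact (mul_eq_zero.1 h3).resolve_left h2
  intro N
  induction N with
  | zero =>
    intro S hN _ _
    refine ⟨0, Sum.elim Fin.elim0 Fin.elim0, fun s => ?_, fun s => ?_, fun s => ?_, ?_, fun i => i.elim0⟩
    · rcases s with s | s <;> exact s.elim0
    · rcases s with s | s <;> exact s.elim0
    · rcases s with s | s <;> exact s.elim0
    · rw [Submodule.finrank_eq_zero.1 (Nat.le_zero.1 hN)]; exact bot_le
  | succ N ih =>
    intro S hN hinv hS
    by_cases hbot : S = ⊥
    · refine ⟨0, Sum.elim Fin.elim0 Fin.elim0, fun s => ?_, fun s => ?_, fun s => ?_, ?_, fun i => i.elim0⟩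
      · rcases s with s | s <;> exact s.elim0
      · rcases s with s | s <;> exact s.elim0
      · rcases s with s | s <;> exact s.elim0
      · rw [hbot]; exact bot_le
    obtain ⟨a, ha, hQa⟩ : ∃ a ∈ S, Q a ≠ 0 := by
      by_contra hc
      push Not at hc
      obtain ⟨a, ha, ha0⟩ := S.exists_mem_ne_zero_of_ne_bot hbot
      exact ha0 (ndOn_iff.1 hS a ha fun v hv => by simp [polar, hc a ha, hc v hv, hc _ (S.add_mem ha hv)])
    let S' : Submodule F (ι → F) := S ⊓ LinearMap.ker (polarBilin Q a) ⊓ LinearMap.ker (polarBilin Q (T a))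
    have hmem : ∀ w, w ∈ S' ↔ (w ∈ S ∧ polar Q a w = 0) ∧ polar Q (T a) w = 0 := fun w => Iff.rfl
    have hTaa : polar Q (T a) a = 0 := by rw [polar_comm]; exact hskew a
    have hc : (2 * Q a : F) ≠ 0 := mul_ne_zero h2 hQa
    have hdec : ∀ w ∈ S, w - (polar Q a w / (2 * Q a)) • a - (polar Q (T a) w / (2 * Q a)) • T a ∈ S' := fun w hw => by
      refine (hmem _).2 ⟨⟨S.sub_mem (S.sub_mem hw (S.smul_mem _ ha)) (S.smul_mem _ (hinv a ha)), ?_⟩, ?_⟩
      · simp only [polar_sub_right, polar_smul_right, polar_self_two, hskew, smul_eq_mul, mul_zero, sub_zero]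
        rw [div_mul_cancel₀ _ hc, sub_self]
      · simp only [polar_sub_right, polar_smul_right, polar_self_two, hTaa, smul_eq_mul, mul_zero, sub_zero, hT]
        rw [div_mul_cancel₀ _ hc, sub_self]
    have hinv' : ∀ v ∈ S', T v ∈ S' := fun v hv => by
      obtain ⟨⟨hvS, h1⟩, h3⟩ := (hmem v).1 hv
      refine (hmem _).2 ⟨⟨hinv v hvS, ?_⟩, by rw [hpol, h1]⟩
      rw [← neg_neg a, ← hT2 a, polar_neg_left, hpol, h3, neg_zero]
    have hS' : NDOn Q S' := ndOn_iff.2 fun u hu hu0 => by
      obtain ⟨⟨huS, h1⟩, h3⟩ := (hmem u).1 hu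
      refine ndOn_iff.1 hS u huS fun v hv => ?_
      have := hu0 _ (hdec v hv)
      simpa [polar_sub_right, polar_smul_right, polar_comm Q u a, polar_comm Q u (T a), h1, h3] using this
    have hlt : S' < S := lt_of_le_of_ne (inf_le_left.trans inf_le_left) fun e' => by
      have := ((hmem a).1 (e' ▸ ha)).1.2
      rw [polar_self_two] at this
      exact hc this
    obtain ⟨k, e, heS, heo, hen, hes, her⟩ :=
      ih S' (by have := Submodule.finrank_lt_finrank_of_lt hlt; omega) hinv' hS'
    let e₁ : Fin (k + 1) ⊕ Fin (k + 1) → ι → F :=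
      Sum.elim (Fin.cons a fun i => e (Sum.inl i)) (Fin.cons (T a) fun i => e (Sum.inr i))
    have ha' : ∀ s, polar Q a (e s) = 0 ∧ polar Q (T a) (e s) = 0 := fun s =>
      ⟨((hmem _).1 (heS s)).1.2, ((hmem _).1 (heS s)).2⟩
    refine ⟨k + 1, e₁, ?_, ?_, ?_, ?_, ?_⟩
    · rintro (s | s) <;> refine Fin.cases ?_ (fun i => ?_) s <;>
        simp [e₁, ha, hinv a ha, ((hmem _).1 (heS _)).1.1]
    · rintro (s | s) (t | t) hst <;> revert hst <;> refine Fin.cases ?_ (fun i => ?_) s <;>
        refine Fin.cases ?_ (fun i' => ?_) t <;> intro hst <;>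
        simp only [e₁, Sum.elim_inl, Sum.elim_inr, Fin.cons_zero, Fin.cons_succ] <;>
        first
          | exact (ha' _).1
          | exact (ha' _).2
          | (rw [polar_comm]; exact (ha' _).1)
          | (rw [polar_comm]; exact (ha' _).2)
          | exact hskew a
          | exact hTaa
          | exact absurd rfl hst
          | exact heo _ _ fun h => hst (by simpa using h)
    · rintro (s | s) <;> refine Fin.cases ?_ (fun i => ?_) s <;> simp [e₁, hQa, hT, hen]
    · intro w hw
      have h1 : a ∈ Submodule.span F (Set.range e₁) := Submodule.subset_span ⟨Sum.inl 0, by simp [e₁]⟩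
      have h3 : T a ∈ Submodule.span F (Set.range e₁) := Submodule.subset_span ⟨Sum.inr 0, by simp [e₁]⟩
      have h4 : w - (polar Q a w / (2 * Q a)) • a - (polar Q (T a) w / (2 * Q a)) • T a ∈
          Submodule.span F (Set.range e₁) := by
        refine Submodule.span_mono ?_ (hes (hdec w hw))
        rintro _ ⟨s | s, rfl⟩
        · exact ⟨Sum.inl s.succ, by simp [e₁]⟩
        · exact ⟨Sum.inr s.succ, by simp [e₁]⟩
      have := Submodule.add_mem _ (Submodule.add_mem _ h4 (Submodule.smul_mem _ (polar Q (T a) w / (2 * Q a)) h3))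
        (Submodule.smul_mem _ (polar Q a w / (2 * Q a)) h1)
      convert this using 1
      module
    · refine Fin.cases ⟨?_, ?_⟩ (fun i => ⟨?_, ?_⟩) <;> simp [e₁, her, hT2]

/-- A root compatible with `T`, preserving the plane `P` of `a`, `b`. -/
structure Good (Q : QuadraticForm F (ι → F)) (T : Module.End F (ι → F)) (δ z : F) (P : Submodule F (ι → F))
    (j : Module.End F (ι → F)) : Prop where
  sa : SelfAdj.SA Q j δ
  rel : ∀ v, T (j v) = z • j (T v)
  inv : ∀ v ∈ P, j v ∈ P

/-- The root attached to a frame. -/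
theorem exists_good (hns : ∀ t : F, t * t ≠ δ) (h2 : (2 : F) ≠ 0) (hT : ∀ v, Q (T v) = Q v) {κ : Type} [Fintype κ] [DecidableEq κ]
    {e : κ ⊕ κ → ι → F} (hf : Frame Q T z κ e) (k₀ : κ) :
    ∃ j, Good Q T δ z (Submodule.span F {e (Sum.inl k₀), e (Sum.inr k₀)}) j := by
  classical
  have hp : ∀ k, ∃ p t u : F, t * Q (e (Sum.inr k)) = u * Q (e (Sum.inl k)) ∧ p * p + t * u = δ := fun k => by
    obtain ⟨p, t, hpt⟩ := SympConj.exists_form_value (z := -(Q (e (Sum.inr k)) / Q (e (Sum.inl k)))) (d := δ)
      (fun _ => neg_ne_zero.2 (div_ne_zero (hf.ne _) (hf.ne _)))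
    refine ⟨p, t, t * Q (e (Sum.inr k)) / Q (e (Sum.inl k)), ?_, ?_⟩
    · rw [div_mul_cancel₀ _ (hf.ne _)]
    · linear_combination hpt
  choose p t u htu hpt using hp
  let b := Module.Basis.mk (hf.li h2) hf.span
  let j : Module.End F (ι → F) := b.constr F (Sum.elim (fun k => p k • e (Sum.inl k) + t k • e (Sum.inr k))
    fun k => u k • e (Sum.inl k) - p k • e (Sum.inr k))
  have hb : ∀ s, b s = e s := fun s => Module.Basis.mk_apply _ _ s
  have hjl : ∀ k, j (e (Sum.inl k)) = p k • e (Sum.inl k) + t k • e (Sum.inr k) := fun k =>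
    (congrArg j (hb _)).symm.trans (b.constr_basis F _ _)
  have hjr : ∀ k, j (e (Sum.inr k)) = u k • e (Sum.inl k) - p k • e (Sum.inr k) := fun k =>
    (congrArg j (hb _)).symm.trans (b.constr_basis F _ _)
  refine ⟨j, ⟨?_, ?_, hns, h2⟩, ?_, ?_⟩
  · have : j ∘ₗ j = δ • LinearMap.id := b.ext fun s => by
      rcases s with k | k
      · simp only [LinearMap.comp_apply, LinearMap.smul_apply, LinearMap.id_coe, id_eq, hb, hjl, map_add, map_smul, hjr]
        rw [← hpt k]; module
      · simp only [LinearMap.comp_apply, LinearMap.smul_apply, LinearMap.id_coe, id_eq, hb, hjl, map_sub, map_smul, hjr]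
        rw [← hpt k]; module
    exact fun w => LinearMap.congr_fun this w
  · have : LinearMap.compl₁₂ (polarBilin Q) j LinearMap.id = LinearMap.compl₁₂ (polarBilin Q) LinearMap.id j := by
      refine LinearMap.ext_basis b b fun s s' => ?_
      have hP : ∀ x y, polarBilin Q (e x) (e y) = if x = y then 2 * Q (e x) else 0 := fun x y => by
        split_ifs with h
        · subst h; exact polar_self_two _
        · exact hf.orth x y h
      rcases s with k | k <;> rcases s' with k' | k' <;>
        simp only [LinearMap.compl₁₂_apply, LinearMap.id_coe, id_eq, hb, hjl, hjr, map_add, map_sub, map_smul,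
          LinearMap.add_apply, LinearMap.sub_apply, LinearMap.smul_apply, smul_eq_mul, hP, Sum.inl.injEq,
          Sum.inr.injEq, reduceCtorEq, if_false] <;>
        by_cases hk : k = k' <;> simp only [hk, if_true, if_false, mul_zero, add_zero, zero_add, sub_zero, zero_sub] <;>
        first
          | ring1
          | linear_combination (2 : F) * htu k'
          | linear_combination -(2 : F) * htu k'
    exact fun x y => LinearMap.congr_fun₂ this x y
  · have : T ∘ₗ j = z • (j ∘ₗ T) := b.ext fun s => by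
      rcases hf.rel (Sum.elim id id s) with ⟨rfl, c, h1, h1'⟩ | ⟨rfl, h1, h1'⟩
      · rcases s with k | k <;>
          simp only [Sum.elim_inl, Sum.elim_inr, id_eq] at h1 h1' <;>
          simp only [LinearMap.comp_apply, LinearMap.smul_apply, hb, hjl, hjr, map_add, map_sub, map_smul, h1, h1'] <;>
          module
      · have huk : ∀ k, T (e (Sum.inl k)) = e (Sum.inr k) → t k = u k := fun k hk => by
          have hT' := htu k
          rw [← hk, hT] at hT'
          exact mul_right_cancel₀ (hf.ne _) hT'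
        rcases s with k | k <;>
          simp only [Sum.elim_inl, Sum.elim_inr, id_eq] at h1 h1' <;>
          simp only [LinearMap.comp_apply, LinearMap.smul_apply, hb, hjl, hjr, map_add, map_sub, map_smul, h1, h1',
            map_neg, huk k h1] <;>
          module
    exact fun w => LinearMap.congr_fun this w
  · intro v hv
    obtain ⟨x, y, rfl⟩ := Submodule.mem_span_pair.1 hv
    rw [map_add, map_smul, map_smul, hjl, hjr, smul_add, smul_sub, smul_smul, smul_smul, smul_smul, smul_smul]
    exact Submodule.mem_span_pair.2 ⟨x * p k₀ + y * u k₀, x * t k₀ - y * p k₀, by module⟩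

end Cfsg.Agent.ClMax99.SelfAdjInvol
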