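import Cfsg.Agent.ClMax99.InvElt
import Cfsg.Agent.ClMax99.InvSL
import Cfsg.Prelude.Def_GeometricClasses

/-!
Matrices which are similitudes of a hermitian or symmetric matrix of prescribed determinant.
-/

set_option autoImplicit false
set_option linter.unusedSectionVars false

namespace Cfsg.Agent.ClMax99.SimForm

open Polynomial
open scoped Matrix

variable {F : Type*} [Field F] {ι κ : Type} [Fintype ι] [DecidableEq ι] [Fintype κ] [DecidableEq κ]

/-- `x` is a similitude of the matrix `A`. -/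
def Sim (σ : F →+* F) (A x : Matrix ι ι F) : Prop := ∃ c : F, c ≠ 0 ∧ xᵀ * A * x.map σ = c • A

/-- `x` is a similitude of some hermitian matrix of determinant `d`. -/
def Good (σ : F →+* F) (d : F) (x : Matrix ι ι F) : Prop :=
  ∃ A : Matrix ι ι F, A.det = d ∧ Aᵀ = A.map σ ∧ Sim σ A x

variable {σ : F →+* F}

theorem Sim.transfer {A x y R : Matrix ι ι F} (hR : R * x = y * R) (h : Sim σ A y) :
    Sim σ (Rᵀ * A * R.map σ) x := by
  obtain ⟨c, hc, hy⟩ := h
  refine ⟨c, hc, ?_⟩
  calc xᵀ * (Rᵀ * A * R.map σ) * x.map σ = (R * x)ᵀ * A * (R * x).map σ := by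
        simp only [Matrix.transpose_mul, Matrix.map_mul, mul_assoc]
    _ = Rᵀ * (yᵀ * A * y.map σ) * R.map σ := by
        rw [hR]; simp only [Matrix.transpose_mul, Matrix.map_mul, mul_assoc]
    _ = c • (Rᵀ * A * R.map σ) := by rw [hy, Matrix.mul_smul, Matrix.smul_mul]

theorem herm_congr (hσ2 : ∀ a, σ (σ a) = a) {A R : Matrix ι ι F} (hA : Aᵀ = A.map σ) :
    (Rᵀ * A * R.map σ)ᵀ = (Rᵀ * A * R.map σ).map σ := by
  have hRR : (R.map σ).map σ = R := Matrix.ext fun i j => hσ2 _
  rw [Matrix.transpose_mul, Matrix.transpose_mul, Matrix.transpose_transpose, Matrix.map_mul, Matrix.map_mul,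
    hRR, hA, ← Matrix.transpose_map, mul_assoc]

theorem det_congr (A R : Matrix ι ι F) :
    (Rᵀ * A * R.map σ).det = R.det * σ R.det * A.det := by
  rw [Matrix.det_mul, Matrix.det_mul, Matrix.det_transpose, ← RingHom.mapMatrix_apply, ← RingHom.map_det]
  ring

theorem Sim.reindex (e : κ ≃ ι) {A x : Matrix κ κ F} (h : Sim σ A x) :
    Sim σ (Matrix.reindex e e A) (Matrix.reindex e e x) := by
  obtain ⟨c, hc, hx⟩ := h
  refine ⟨c, hc, ?_⟩
  simp only [Matrix.reindex_apply, Matrix.transpose_submatrix, ← Matrix.submatrix_map, Matrix.submatrix_mul_equiv]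
  rw [hx]; rfl

/-- Transporting goodness to a conjugate. -/
theorem good_of_conj (hσ2 : ∀ a, σ (σ a) = a) (e : κ ≃ ι) {x P : Matrix ι ι F} {y : Matrix κ κ F}
    (hP : P.det ≠ 0) (hxP : x * P = P * Matrix.reindex e e y)
    (hy : ∀ d : F, σ d = d → d ≠ 0 → Good σ d y) {d₀ : F} (hd : σ d₀ = d₀) (hd0 : d₀ ≠ 0) : Good σ d₀ x := by
  obtain ⟨A, hA, hAh, hAs⟩ := hy (d₀ * (P.det * σ P.det)) (by rw [map_mul, map_mul, hd, hσ2, mul_comm (σ P.det)])
    (mul_ne_zero hd0 (mul_ne_zero hP ((map_ne_zero σ).2 hP)))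
  refine ⟨(P⁻¹)ᵀ * Matrix.reindex e e A * (P⁻¹).map σ, ?_, herm_congr hσ2 ?_, (hAs.reindex e).transfer ?_⟩
  · rw [det_congr, Matrix.det_reindex_self, hA, Matrix.det_nonsing_inv, Ring.inverse_eq_inv', map_inv₀]
    have := (map_ne_zero σ).2 hP
    field_simp
  · rw [Matrix.reindex_apply, Matrix.transpose_submatrix, hAh, Matrix.submatrix_map]
  · have hu : IsUnit P.det := isUnit_iff_ne_zero.2 hP
    calc P⁻¹ * x = P⁻¹ * (x * P) * P⁻¹ := by
          rw [mul_assoc P⁻¹, mul_assoc x, Matrix.mul_nonsing_inv _ hu, mul_one]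
      _ = Matrix.reindex e e y * P⁻¹ := by rw [hxP, ← mul_assoc P⁻¹, Matrix.nonsing_inv_mul _ hu, one_mul]

/-- Conjugacy in the special linear group into a similitude group. -/
theorem conj_iff {n : ℕ} (hn : 0 < n) (hσ2 : ∀ a, σ (σ a) = a) {A₀ : Matrix (Fin n) (Fin n) F}
    (hA₀ : A₀ᵀ = A₀.map σ) (hd : A₀.det ≠ 0) (δ : Fin n → F)
    (hN : ∀ A : Matrix (Fin n) (Fin n) F, Aᵀ = A.map σ → A.det = A₀.det →
      ∃ P : Matrix (Fin n) (Fin n) F, Pᵀ * A * P.map σ = Matrix.diagonal δ)
    (hδ : ∀ i, δ i ≠ 0) (x : GL (Fin n) F) :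
    (∃ g ∈ Cfsg.Geo.specialLinear (Fin n) F, Sim σ A₀ ((g⁻¹ * x * g : GL (Fin n) F) : Matrix (Fin n) (Fin n) F)) ↔
      Good σ A₀.det (x : Matrix (Fin n) (Fin n) F) := by
  classical
  constructor
  · rintro ⟨g, hg, hs⟩
    have hg1 : (g : Matrix (Fin n) (Fin n) F).det = 1 := congrArg Units.val hg
    set h := ((g⁻¹ : GL (Fin n) F) : Matrix (Fin n) (Fin n) F) with hh
    have hh1 : h.det = 1 := by
      have := congrArg Matrix.det (show h * (g : Matrix (Fin n) (Fin n) F) = 1 by
        rw [hh, ← Units.val_mul, inv_mul_cancel, Units.val_one])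
      rwa [Matrix.det_mul, hg1, mul_one, Matrix.det_one] at this
    refine ⟨hᵀ * A₀ * h.map σ, by rw [det_congr, hh1, map_one, one_mul, one_mul], herm_congr hσ2 hA₀, hs.transfer ?_⟩
    rw [hh, ← Units.val_mul, ← Units.val_mul, mul_inv_cancel_right]
  · rintro ⟨A, hAd, hAh, hs⟩
    obtain ⟨P', hP'⟩ := hN A hAh hAd
    obtain ⟨P, hP⟩ := hN A₀ hA₀ rfl
    have hD : (Matrix.diagonal δ).det ≠ 0 := by
      rw [Matrix.det_diagonal]; exact Finset.prod_ne_zero_iff.2 fun i _ => hδ i
    have e1 := congrArg Matrix.det hP'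
    have e2 := congrArg Matrix.det hP
    rw [det_congr] at e1 e2
    rw [hAd] at e1
    have hP0 : P.det ≠ 0 := fun e => hD (by rw [← e2, e, zero_mul, zero_mul])
    have hP'0 : P'.det ≠ 0 := fun e => hD (by rw [← e1, e, zero_mul, zero_mul])
    have hu : P.det / P'.det * σ (P.det / P'.det) = 1 := by
      have := (map_ne_zero σ).2 hP'0
      have := (map_ne_zero σ).2 hP0
      rw [map_div₀]
      field_simp
      exact mul_right_cancel₀ hd (by linear_combination e2 - e1)
    set U := Matrix.diagonal (Function.update (fun _ : Fin n => (1 : F)) ⟨0, hn⟩ (P.det / P'.det)) with hU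
    have hUd : U.det = P.det / P'.det := by
      rw [hU, Matrix.det_diagonal, Finset.prod_update_of_mem (Finset.mem_univ _)]; simp
    have hUD : Uᵀ * Matrix.diagonal δ * U.map σ = Matrix.diagonal δ := by
      rw [hU, Matrix.diagonal_transpose, Matrix.diagonal_map (map_zero σ), Matrix.diagonal_mul_diagonal,
        Matrix.diagonal_mul_diagonal]
      congr 1
      funext i
      by_cases h : i = ⟨0, hn⟩
      · subst h
        simp only [Function.update_self]
        linear_combination δ _ * hu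
      · simp [Function.update_of_ne h]
    have hPu : IsUnit P.det := isUnit_iff_ne_zero.2 hP0
    have hgd : (P' * U * P⁻¹).det = 1 := by
      rw [Matrix.det_mul, Matrix.det_mul, hUd, Matrix.det_nonsing_inv, Ring.inverse_eq_inv']
      field_simp
    have hgA : (P' * U * P⁻¹)ᵀ * A * (P' * U * P⁻¹).map σ = A₀ := by
      calc _ = (P⁻¹)ᵀ * (Uᵀ * (P'ᵀ * A * P'.map σ) * U.map σ) * (P⁻¹).map σ := by
            simp only [Matrix.transpose_mul, Matrix.map_mul, mul_assoc]
        _ = (P⁻¹)ᵀ * (Pᵀ * A₀ * P.map σ) * (P⁻¹).map σ := by rw [hP', hUD, hP]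
        _ = (P * P⁻¹)ᵀ * A₀ * (P * P⁻¹).map σ := by simp only [Matrix.transpose_mul, Matrix.map_mul, mul_assoc]
        _ = A₀ := by rw [Matrix.mul_nonsing_inv _ hPu, Matrix.transpose_one, Matrix.map_one _ (map_zero σ) (map_one σ), one_mul, mul_one]
    obtain ⟨G, hG⟩ : ∃ G : GL (Fin n) F, (G : Matrix (Fin n) (Fin n) F) = P' * U * P⁻¹ :=
      ⟨Matrix.GeneralLinearGroup.mk'' _ (by rw [hgd]; exact isUnit_one), rfl⟩
    refine ⟨G, Units.ext (by show (G : Matrix (Fin n) (Fin n) F).det = 1; rw [hG, hgd]), ?_⟩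
    rw [← hgA, ← hG]
    refine hs.transfer ?_
    rw [← Units.val_mul, ← Units.val_mul]
    congr 1
    group

theorem Sim.pow {A x : Matrix ι ι F} {c : F} (h : xᵀ * A * x.map σ = c • A) (k : ℕ) :
    (x ^ k)ᵀ * A * (x ^ k).map σ = c ^ k • A := by
  induction k with
  | zero => simp
  | succ k ih =>
    calc (x ^ (k + 1))ᵀ * A * (x ^ (k + 1)).map σ = xᵀ * ((x ^ k)ᵀ * A * (x ^ k).map σ) * x.map σ := by
          rw [pow_succ, Matrix.transpose_mul, Matrix.map_mul]; simp only [mul_assoc]
      _ = _ := by rw [ih, Matrix.mul_smul, Matrix.smul_mul, h, smul_smul, pow_succ]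

theorem scalar_sim {A : Matrix ι ι F} (hA : A ≠ 0) {z c : F} {x : Matrix ι ι F} {r : ℕ}
    (hx : x ^ r = z • 1) (h : xᵀ * A * x.map σ = c • A) : c ^ r = z * σ z := by
  have h1 := Sim.pow h r
  rw [hx, Matrix.transpose_smul, Matrix.transpose_one, Matrix.map_smul' _ _ _ (map_mul σ),
    Matrix.map_one _ (map_zero σ) (map_one σ), Matrix.smul_mul, one_mul, Matrix.mul_smul, mul_one, smul_smul] at h1
  rw [mul_comm z]
  exact (smul_left_injective F hA h1.symm)

/-- Rows supported on fewer columns are dependent. -/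
theorem det_eq_zero_of_support {A : Matrix ι ι F} (S T : Finset ι) (hST : T.card < S.card)
    (h : ∀ k ∈ S, ∀ l, l ∉ T → A k l = 0) : A.det = 0 := by
  classical
  let L : (↥S → F) →ₗ[F] (↥T → F) :=
    { toFun := fun v l => ∑ k : ↥S, v k * A k.1 l.1
      map_add' := fun v w => by funext l; simp [add_mul, Finset.sum_add_distrib]
      map_smul' := fun t v => by funext l; simp [mul_assoc, Finset.mul_sum] }
  have hker : LinearMap.ker L ≠ ⊥ := LinearMap.ker_ne_bot_of_finrank_lt (by
    rw [Module.finrank_fintype_fun_eq_card, Module.finrank_fintype_fun_eq_card, Fintype.card_coe, Fintype.card_coe]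
    exact hST)
  obtain ⟨v, hv, hv0⟩ := Submodule.exists_mem_ne_zero_of_ne_bot hker
  refine Matrix.exists_vecMul_eq_zero_iff.1 ⟨fun k => if hk : k ∈ S then v ⟨k, hk⟩ else 0, fun e => hv0 ?_, ?_⟩
  · funext k
    have := congrFun e k.1
    simpa [k.2] using this
  · funext l
    show ∑ k, _ * A k l = 0
    rw [← Finset.sum_subset (Finset.subset_univ S) (fun k _ hk => by simp [hk]), ← Finset.sum_coe_sort]
    by_cases hl : l ∈ T
    · have := congrFun (LinearMap.mem_ker.1 hv) ⟨l, hl⟩
      simpa [L] using this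
    · exact Finset.sum_eq_zero fun k _ => by rw [h k.1 k.2 l hl, mul_zero]

/-- A diagonal matrix with two values of dominant multiplicity is no similitude. -/
theorem not_sim_diag [DecidableEq F] {A : Matrix ι ι F} (hA : A.det ≠ 0) {w : ι → F} {u₁ u₂ : F}
    (hw : ∀ k, w k ≠ 0) (h₂ : ∃ k, w k = u₂)
    (hm₁ : ∀ v, v ≠ u₁ → (Finset.univ.filter fun k => w k = v).card < (Finset.univ.filter fun k => w k = u₁).card)
    (hm₂ : ∀ v, v ≠ u₁ → v ≠ u₂ → (Finset.univ.filter fun k => w k = v).card < (Finset.univ.filter fun k => w k = u₂).card)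
    (hne : u₁ * σ u₁ ≠ u₂ * σ u₂) : ¬ Sim σ A (Matrix.diagonal w) := by
  rintro ⟨c, hc, h⟩
  have hrel : ∀ k l, A k l ≠ 0 → w k * σ (w l) = c := fun k l hne' => by
    have := congrFun (congrFun h k) l
    rw [Matrix.diagonal_transpose, Matrix.diagonal_map (map_zero σ), Matrix.mul_diagonal, Matrix.diagonal_mul,
      Matrix.smul_apply, smul_eq_mul] at this
    exact mul_right_cancel₀ hne' (by linear_combination this)
  have key : ∀ u, (∃ k, w k = u) → ∃ v, u * σ v = c ∧
      (Finset.univ.filter fun k => w k = u).card ≤ (Finset.univ.filter fun k => w k = v).card := by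
    rintro u ⟨k₀, rfl⟩
    obtain ⟨l₀, hl₀⟩ : ∃ l, A k₀ l ≠ 0 := by
      by_contra hn
      push Not at hn
      exact hA (Matrix.det_eq_zero_of_row_eq_zero k₀ hn)
    refine ⟨w l₀, hrel _ _ hl₀, not_lt.1 fun hlt => hA (det_eq_zero_of_support _ _ hlt fun k hk l hl => ?_)⟩
    rw [Finset.mem_filter] at hk hl
    by_contra hne'
    have e := (hrel _ _ hne').trans (hrel _ _ hl₀).symm
    rw [hk.2] at e
    exact hl ⟨Finset.mem_univ _, σ.injective (mul_left_cancel₀ (hw k₀) e)⟩
  have h₁ : ∃ k, w k = u₁ := by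
    obtain ⟨k, hk⟩ := h₂
    have hne' : u₂ ≠ u₁ := fun e => hne (by rw [e])
    obtain ⟨k', hk'⟩ := Finset.card_pos.1 (lt_of_le_of_lt (Nat.zero_le _) (hm₁ u₂ hne'))
    exact ⟨k', (Finset.mem_filter.1 hk').2⟩
  obtain ⟨v₁, hv₁, hle₁⟩ := key u₁ h₁
  have e₁ : v₁ = u₁ := by
    by_contra e
    exact absurd (hm₁ v₁ e) (by omega)
  obtain ⟨v₂, hv₂, hle₂⟩ := key u₂ h₂
  rw [e₁] at hv₁
  by_cases e₂ : v₂ = u₁
  · rw [e₂] at hv₂
    have hu1 : σ u₁ ≠ 0 := fun e => hc (by rw [← hv₁, e, mul_zero])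
    exact hne (by rw [mul_right_cancel₀ hu1 (hv₁.trans hv₂.symm)])
  · have e3 : v₂ = u₂ := by
      by_contra e
      exact absurd (hm₂ v₂ e₂ e) (by omega)
    rw [e3] at hv₂
    exact hne (hv₁.trans hv₂.symm)

section Block

variable [Fintype F] {r : ℕ} [hr : Fact r.Prime]

/-- An element of order `r` with one irreducible block. -/
theorem exists_block (hrF : (r : F) ≠ 0) (hr1 : ¬ r ∣ Fintype.card F - 1) {n : ℕ}
    (hn : orderOf (Fintype.card F : ZMod r) ≤ n) :
    ∃ (x : Matrix (Fin n) (Fin n) F) (g : F[X]) (hg : Irreducible g), x.det = 1 ∧ x ^ r = 1 ∧ (∀ z : F, x ≠ z • 1) ∧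
      g.natDegree = orderOf (Fintype.card F : ZMod r) ∧ (AdjoinRoot.root g) ^ r = 1 ∧ AdjoinRoot.root g ≠ 1 ∧
      aeval x ((X - 1) * g) = 0 ∧ ∀ P : F[X], aeval x P = 0 → aeval (AdjoinRoot.root g) P = 0 := by
  classical
  have hP : (∑ j ∈ Finset.range r, (X : F[X]) ^ j) ≠ 0 := by
    intro e
    have := congrArg (eval 1) e
    simp [eval_finsetSum] at this
    exact hrF this
  have hPu : ¬ IsUnit (∑ j ∈ Finset.range r, (X : F[X]) ^ j) := by
    intro hu
    have hd := natDegree_eq_zero_of_isUnit hu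
    have h2 := hr.out.two_le
    have hc : (∑ j ∈ Finset.range r, (X : F[X]) ^ j).coeff 1 = 1 := by
      rw [finsetSum_coeff, Finset.sum_eq_single 1]
      · simp
      · intro b _ hb; simp [coeff_X_pow, Ne.symm hb]
      · intro h; exact absurd (Finset.mem_range.mpr (by omega)) h
    rw [coeff_eq_zero_of_natDegree_lt (by omega)] at hc
    exact zero_ne_one hc
  obtain ⟨g, hg, hgd⟩ := WfDvdMonoid.exists_irreducible_factor hPu hP
  have hdeg := Inv.natDegree_eq_orderOf hrF hg hgd
  have := Fact.mk hg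
  have : Module.Finite F (AdjoinRoot g) := (AdjoinRoot.powerBasis hg.ne_zero).finite
  set α := AdjoinRoot.root g with hα
  have hsum : (∑ j ∈ Finset.range r, α ^ j) = 0 := by
    obtain ⟨c, hc⟩ := hgd
    have h0 := congrArg (AdjoinRoot.mk g) hc
    rw [map_mul, AdjoinRoot.mk_self, zero_mul, map_sum] at h0
    simpa only [map_pow, AdjoinRoot.mk_X] using h0
  have hα1 : α ≠ 1 := by
    intro e
    simp only [e, one_pow, Finset.sum_const, Finset.card_range, nsmul_eq_mul, mul_one] at hsum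
    exact hrF ((algebraMap F (AdjoinRoot g)).injective (by rw [map_natCast, hsum, map_zero]))
  have hαr : α ^ r = 1 := by rw [← sub_eq_zero, ← geom_sum_mul, hsum, zero_mul]
  set m := n - orderOf (Fintype.card F : ZMod r)
  let f : Module.End F ((Fin m → F) × AdjoinRoot g) := LinearMap.prodMap 1 (Algebra.lsmul F F _ α)
  have hd : Module.finrank F ((Fin m → F) × AdjoinRoot g) = n := by
    rw [Module.finrank_prod, Module.finrank_fin_fun, (AdjoinRoot.powerBasis hg.ne_zero).finrank,
      AdjoinRoot.powerBasis_dim, hdeg]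
    omega
  let e : ((Fin m → F) × AdjoinRoot g) ≃ₗ[F] (Fin n → F) := (Module.finBasisOfFinrankEq F _ hd).equivFun
  let E : Module.End F ((Fin m → F) × AdjoinRoot g) ≃ₐ[F] Matrix (Fin n) (Fin n) F :=
    (e.conjAlgEquiv F).trans LinearMap.toMatrixAlgEquiv'
  have hE : ∀ P : F[X], aeval (E f) P = E (aeval f P) := fun P => aeval_algHom_apply E.toAlgHom f P
  have hf : ∀ (P : F[X]) v, aeval f P v = (aeval (1 : Module.End F (Fin m → F)) P v.1, aeval α P * v.2) := by
    intro P
    induction P using Polynomial.induction_on' with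
    | add P Q hP hQ => intro v; simp [map_add, LinearMap.add_apply, hP, hQ, add_mul]
    | monomial k a =>
      intro v
      have hk : ∀ j : ℕ, (f ^ j) v = (v.1, α ^ j * v.2) := by
        intro j
        induction j with
        | zero => simp
        | succ j ih => rw [pow_succ', Module.End.mul_apply, ih, pow_succ', mul_assoc]; rfl
      rw [aeval_monomial, aeval_monomial, aeval_monomial, Module.algebraMap_end_eq_smul_id,
        Module.algebraMap_end_eq_smul_id]
      simp [hk, Algebra.smul_def, mul_assoc]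
  have hfr : (E f) ^ r = 1 := by
    have h1 : f ^ r = 1 := LinearMap.ext fun v => by
      have := hf (X ^ r) v
      simp only [map_pow, aeval_X, one_pow, hαr, one_mul, Module.End.one_apply] at this
      exact this
    rw [← map_pow, h1, map_one]
  refine ⟨E f, g, hg, ?_, hfr, fun z hz => ?_, hdeg, hαr, hα1, ?_, fun P hP => ?_⟩
  · have h1 : (E f).det ^ r = 1 := by rw [← Matrix.det_pow, hfr, Matrix.det_one]
    have h0 : (E f).det ≠ 0 := fun e0 => by
      rw [e0, zero_pow hr.out.ne_zero] at h1; exact zero_ne_one h1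
    have h2 := pow_gcd_eq_one.mpr ⟨h1, FiniteField.pow_card_sub_one_eq_one _ h0⟩
    rwa [show Nat.gcd r (Fintype.card F - 1) = 1 from (hr.out.coprime_iff_not_dvd).mpr hr1, pow_one] at h2
  · have hfz : f = z • 1 := E.injective (by rw [hz, map_smul, map_one])
    have h1 : α = algebraMap F _ z := by
      have := congrArg Prod.snd (LinearMap.congr_fun hfz (0, 1))
      rw [Algebra.algebraMap_eq_smul_one]
      simpa [f] using this
    have hz1 : z ^ r = 1 := (algebraMap F (AdjoinRoot g)).injective (by rw [map_pow, ← h1, hαr, map_one])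
    have hz0 : z ≠ 0 := fun e0 => by rw [e0, zero_pow hr.out.ne_zero] at hz1; exact zero_ne_one hz1
    have h2 := pow_gcd_eq_one.mpr ⟨hz1, FiniteField.pow_card_sub_one_eq_one _ hz0⟩
    rw [show Nat.gcd r (Fintype.card F - 1) = 1 from (hr.out.coprime_iff_not_dvd).mpr hr1, pow_one] at h2
    exact hα1 (by rw [h1, h2, map_one])
  · rw [hE, show aeval f ((X - 1) * g) = 0 from LinearMap.ext fun v => ?_, map_zero]
    rw [hf, map_mul, map_mul, map_sub, map_sub, aeval_X, aeval_X, map_one, map_one, sub_self, zero_mul,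
      show aeval α g = 0 from (AdjoinRoot.aeval_eq g).trans AdjoinRoot.mk_self, mul_zero, zero_mul]
    rfl
  · rw [hE] at hP
    have h0 := LinearMap.congr_fun (E.injective (hP.trans (map_zero E).symm)) (0, 1)
    rw [hf] at h0
    have h1 := congrArg Prod.snd h0
    simpa only [mul_one, LinearMap.zero_apply, Prod.snd_zero] using h1

/-- Such an element preserves no hermitian form unless some `q^k q₀` is `-1` modulo `r`. -/
theorem exists_not_good {p : ℕ} [Fact p.Prime] [CharP F p] (hrF : (r : F) ≠ 0) (hr1 : ¬ r ∣ Fintype.card F - 1)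
    {n : ℕ} (hn : orderOf (Fintype.card F : ZMod r) ≤ n) {k₀ : ℕ} (hσ : ∀ a, σ a = a ^ p ^ k₀)
    (hno : ∀ k : ℕ, (Fintype.card F : ZMod r) ^ k * (p : ZMod r) ^ k₀ ≠ -1) :
    ∃ x : Matrix (Fin n) (Fin n) F, x.det = 1 ∧ x ^ r = 1 ∧ (∀ z : F, x ≠ z • 1) ∧
      ∀ A : Matrix (Fin n) (Fin n) F, A.det ≠ 0 → ¬ Sim σ A x := by
  classical
  obtain ⟨x, g, hg, hxd, hxr, hxs, hgi, hαr, hα1, hx0, hxα⟩ := exists_block hrF hr1 hn
  refine ⟨x, hxd, hxr, hxs, fun A hA hS => ?_⟩
  obtain ⟨c, hc0, hc⟩ := hS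
  have hn0 : Nonempty (Fin n) := by
    by_contra hne
    rw [not_nonempty_iff] at hne
    exact hxs 0 (Subsingleton.elim _ _)
  have hA0 : A ≠ 0 := fun e => hA (by rw [e, Matrix.det_zero])
  have hc1 : c = 1 := by
    have h1 : c ^ r = 1 := by rw [scalar_sim hA0 (z := 1) (by rw [hxr, one_smul]) hc, map_one, one_mul]
    have h2 := pow_gcd_eq_one.mpr ⟨h1, FiniteField.pow_card_sub_one_eq_one _ hc0⟩
    rwa [show Nat.gcd r (Fintype.card F - 1) = 1 from (hr.out.coprime_iff_not_dvd).mpr hr1, pow_one] at h2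
  rw [hc1, one_smul] at hc
  set y := (x ^ (r - 1))ᵀ with hy
  have hyx : y * xᵀ = 1 := by
    rw [hy, ← Matrix.transpose_mul, ← pow_succ', Nat.sub_add_cancel hr.out.one_le, hxr, Matrix.transpose_one]
  have hint : A * x.map σ = y * A := by
    conv_rhs => rw [← hc]
    rw [← mul_assoc, ← mul_assoc, hyx, one_mul]
  have hpoly : ∀ P : F[X], A * aeval (x.map σ) P = aeval y P * A := by
    intro P
    induction P using Polynomial.induction_on' with
    | add P Q hP hQ => simp only [map_add, mul_add, add_mul, hP, hQ]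
    | monomial k a =>
      have hk : ∀ j : ℕ, A * x.map σ ^ j = y ^ j * A := fun j => by
        induction j with
        | zero => simp
        | succ j ih => rw [pow_succ, ← mul_assoc, ih, mul_assoc, hint, ← mul_assoc, ← pow_succ]
      rw [aeval_monomial, aeval_monomial, ← Algebra.smul_def, ← Algebra.smul_def, Matrix.mul_smul, hk, Matrix.smul_mul]
  set P₁ := (X - 1) * g
  have h0 : aeval (x.map σ) (P₁.map σ) = 0 := by
    have h1 : ∀ P : F[X], aeval (x.map σ) (P.map σ) = (aeval x P).map σ := by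
      intro P
      induction P using Polynomial.induction_on' with
      | add P Q hP hQ => simp only [Polynomial.map_add, map_add, hP, hQ, Matrix.map_add _ (map_add σ)]
      | monomial k a =>
        rw [Polynomial.map_monomial, aeval_monomial, aeval_monomial, ← Algebra.smul_def, ← Algebra.smul_def,
          Matrix.map_smul' _ _ _ (map_mul σ)]
        congr 1
        exact (map_pow σ.mapMatrix x k).symm
    rw [h1, hx0, Matrix.map_zero _ (map_zero σ)]
  have h2 : aeval y (P₁.map σ) = 0 := by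
    have := hpoly (P₁.map σ)
    rw [h0, mul_zero] at this
    have hu : IsUnit A.det := isUnit_iff_ne_zero.2 hA
    have h3 := congrArg (· * A⁻¹) this.symm
    rwa [zero_mul, mul_assoc, Matrix.mul_nonsing_inv _ hu, mul_one] at h3
  have h3 : aeval x ((P₁.map σ).comp (X ^ (r - 1))) = 0 := by
    rw [aeval_comp, map_pow, aeval_X]
    have h4 : ∀ P : F[X], aeval y P = (aeval (x ^ (r - 1)) P)ᵀ := fun P => by
      induction P using Polynomial.induction_on' with
      | add P Q hP hQ => simp only [map_add, Matrix.transpose_add, hP, hQ]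
      | monomial k a =>
        rw [aeval_monomial, aeval_monomial, ← Algebra.smul_def, ← Algebra.smul_def, Matrix.transpose_smul, hy]
        simp only [Matrix.transpose_pow]
    rw [h4] at h2
    simpa using congrArg Matrix.transpose h2
  have h4 := hxα _ h3
  rw [aeval_comp, map_pow, aeval_X] at h4
  haveI := Fact.mk hg
  set α := AdjoinRoot.root g with hα
  haveI : CharP (AdjoinRoot g) p := charP_of_injective_algebraMap (algebraMap F (AdjoinRoot g)).injective p
  have hord : orderOf α = r := orderOf_eq_prime hαr hα1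
  have hfo : IsOfFinOrder α := isOfFinOrder_iff_pow_eq_one.2 ⟨r, hr.out.pos, hαr⟩
  have hq0 : (p : ZMod r) ≠ 0 := fun e => by
    rw [ZMod.natCast_eq_zero_iff, Nat.prime_dvd_prime_iff_eq hr.out (Fact.out : p.Prime)] at e
    exact hrF (by rw [e]; exact CharP.cast_eq_zero F p)
  set e : ℕ := (-((p : ZMod r) ^ k₀)⁻¹).val
  have he : ((e * p ^ k₀ : ℕ) : ZMod r) = -1 := by
    rw [Nat.cast_mul, ZMod.natCast_zmod_val, Nat.cast_pow, neg_mul, inv_mul_cancel₀ (pow_ne_zero _ hq0)]
  have hpow : (α ^ e) ^ p ^ k₀ = α ^ (r - 1) := by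
    rw [← pow_mul]
    refine hfo.pow_eq_pow_iff_modEq.2 ?_
    rw [hord, ← ZMod.natCast_eq_natCast_iff, he, Nat.cast_sub hr.out.one_le, ZMod.natCast_self, Nat.cast_one,
      zero_sub]
  set φ : AdjoinRoot g →+* AdjoinRoot g := iterateFrobenius (AdjoinRoot g) p k₀
  have hφ : ∀ a, φ a = a ^ p ^ k₀ := fun a => iterateFrobenius_def p k₀ a
  have h5 : aeval (α ^ e) P₁ = 0 := by
    refine φ.injective ?_
    rw [map_zero, ← h4, ← hpow, ← hφ, aeval_def, aeval_def, hom_eval₂, eval₂_map]
    congr 1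
    refine RingHom.ext fun a => ?_
    rw [RingHom.comp_apply, RingHom.comp_apply, hσ, map_pow, hφ]
  rw [map_mul, map_sub, aeval_X, map_one] at h5
  have he1 : α ^ e ≠ 1 := fun h => by
    rw [← orderOf_dvd_iff_pow_eq_one, hord, ← ZMod.natCast_eq_zero_iff] at h
    rw [Nat.cast_mul, h, zero_mul] at he
    exact neg_ne_zero.2 one_ne_zero he.symm
  have hroot : aeval (α ^ e) g = 0 := (mul_eq_zero.1 h5).resolve_left (sub_ne_zero.2 he1)
  set q := Fintype.card F with hq
  have hconj : ∀ k : ℕ, aeval (α ^ q ^ k) g = 0 := by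
    intro k
    induction k with
    | zero => rw [pow_zero, pow_one]; exact (AdjoinRoot.aeval_eq g).trans AdjoinRoot.mk_self
    | succ k ih =>
      rw [pow_succ, pow_mul, hq, ← Polynomial.expand_aeval, FiniteField.expand_card, map_pow, ih,
        zero_pow Fintype.card_ne_zero]
  set S := (Finset.range (orderOf (q : ZMod r))).image fun k => α ^ q ^ k
  have hS : S.card = orderOf (q : ZMod r) := by
    rw [Finset.card_image_of_injOn, Finset.card_range]
    intro k hk l hl hkl
    rw [Finset.coe_range, Set.mem_Iio] at hk hl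
    have h := hfo.pow_eq_pow_iff_modEq.1 hkl
    rw [hord, ← ZMod.natCast_eq_natCast_iff, Nat.cast_pow, Nat.cast_pow] at h
    exact pow_injOn_Iio_orderOf hk hl h
  have hmem : α ^ e ∈ S := by
    by_contra hnot
    have hsub : insert (α ^ e) S ⊆ (g.map (algebraMap F (AdjoinRoot g))).roots.toFinset := by
      intro b hb
      rw [Multiset.mem_toFinset, mem_roots (Polynomial.map_ne_zero hg.ne_zero), IsRoot.def, eval_map, ← aeval_def]
      rcases Finset.mem_insert.1 hb with rfl | hb
      · exact hroot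
      · obtain ⟨k, -, rfl⟩ := Finset.mem_image.1 hb; exact hconj k
    have h6 := (Finset.card_le_card hsub).trans ((Multiset.toFinset_card_le _).trans (card_roots' _))
    rw [Finset.card_insert_of_notMem hnot, hS, natDegree_map, hgi] at h6
    omega
  obtain ⟨k, -, hk⟩ := Finset.mem_image.1 hmem
  have h7 := hfo.pow_eq_pow_iff_modEq.1 hk
  rw [hord, ← ZMod.natCast_eq_natCast_iff, Nat.cast_pow] at h7
  refine hno k ?_
  rw [h7, ← Nat.cast_pow, ← Nat.cast_mul, he]

end Block

end Cfsg.Agent.ClMax99.SimForm
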