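import Cfsg.Agent.ClMax99.SimForm
import Cfsg.Agent.S5979
import Mathlib.RingTheory.RootsOfUnity.PrimitiveRoots

/-!
Diagonalisable elements and involutions modulo scalars as similitudes.
-/

set_option autoImplicit false
set_option linter.unusedSectionVars false

namespace Cfsg.Agent.ClMax99.SimForm

open Module
open scoped Matrix

variable {F : Type*} [Field F] [Fintype F] {σ : F →+* F} {n : ℕ}

theorem exists_mat {κ : Type} [Fintype κ] [DecidableEq κ] (x : Matrix (Fin n) (Fin n) F) (y : Matrix κ κ F)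
    (v : κ → Fin n → F) (hcard : Fintype.card κ = n) (hspan : ⊤ ≤ Submodule.span F (Set.range v))
    (hv : ∀ k, x *ᵥ v k = ∑ l, y l k • v l) :
    ∃ (e : κ ≃ Fin n) (P : Matrix (Fin n) (Fin n) F), P.det ≠ 0 ∧ x * P = P * Matrix.reindex e e y := by
  classical
  let e : κ ≃ Fin n := Fintype.equivFinOfCardEq hcard
  refine ⟨e, Matrix.of fun i j => v (e.symm j) i, ?_, ?_⟩
  · refine ((Matrix.isUnit_iff_isUnit_det _).1 (Matrix.mulVec_surjective_iff_isUnit.1 fun w => ?_)).ne_zero
    obtain ⟨c, hc⟩ := (Submodule.mem_span_range_iff_exists_fun F).1 (hspan (Submodule.mem_top : w ∈ ⊤))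
    refine ⟨c ∘ e.symm, funext fun i => ?_⟩
    rw [← hc, Finset.sum_apply, Matrix.mulVec, dotProduct]
    exact Fintype.sum_equiv e.symm _ _ fun j => by simp [mul_comm]
  · ext i j
    obtain ⟨k, rfl⟩ := e.surjective j
    have := congrFun (hv k) i
    simp only [Matrix.mulVec, dotProduct, Finset.sum_apply, Pi.smul_apply, smul_eq_mul] at this
    rw [Matrix.mul_apply, Matrix.mul_apply]
    simp only [Matrix.of_apply, Equiv.symm_apply_apply, this]
    exact Fintype.sum_equiv e _ _ fun l => by simp [mul_comm]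

/-- Eigenbasis for an element of order dividing `r`. -/
theorem exists_eigen {r : ℕ} {ζ : F} (hζ : IsPrimitiveRoot ζ r) (hr : 0 < r) (hrF : (r : F) ≠ 0)
    (x : Matrix (Fin n) (Fin n) F) (hx : x ^ r = 1) :
    ∃ (P : Matrix (Fin n) (Fin n) F) (a : Fin n → ℕ), P.det ≠ 0 ∧
      x * P = P * Matrix.diagonal fun i => ζ ^ a i := by
  classical
  set T := Matrix.toLin' x
  have hTr : T ^ r = 1 := by rw [← Matrix.toLin'_pow, hx, Matrix.toLin'_one]; rfl
  set S : Set (Fin n → F) := {v | ∃ k : ℕ, T v = ζ ^ k • v}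
  have hS : ⊤ ≤ Submodule.span F S := by
    intro v _
    set e : ℕ → Fin n → F := fun k => ∑ j ∈ Finset.range r, ((ζ ^ k) ^ (r - 1)) ^ j • (T ^ j) v
    have he : ∀ k, e k ∈ S := fun k => by
      refine ⟨k, ?_⟩
      set ω := (ζ ^ k) ^ (r - 1) with hω
      have hω1 : ω * ζ ^ k = 1 := by
        rw [hω, ← pow_succ, Nat.sub_add_cancel hr, ← pow_mul, mul_comm, pow_mul, hζ.pow_eq_one, one_pow]
      have h1 : ω ^ r = 1 := by
        rw [hω, ← pow_mul, ← pow_mul, mul_comm k, mul_comm _ r, mul_assoc, pow_mul, hζ.pow_eq_one, one_pow]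
      show T (∑ j ∈ Finset.range r, ω ^ j • (T ^ j) v) = ζ ^ k • ∑ j ∈ Finset.range r, ω ^ j • (T ^ j) v
      have hstep : ∀ j, T (ω ^ j • (T ^ j) v) = ζ ^ k • (ω ^ (j + 1) • (T ^ (j + 1)) v) := fun j => by
        rw [map_smul, ← Module.End.mul_apply, ← pow_succ', smul_smul, pow_succ ω, mul_comm (ζ ^ k), mul_assoc,
          hω1, mul_one]
      rw [map_sum, Finset.sum_congr rfl fun j _ => hstep j, ← Finset.smul_sum]
      congr 1
      obtain ⟨m, rfl⟩ : ∃ m, r = m + 1 := ⟨r - 1, by omega⟩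
      rw [Finset.sum_range_succ, Finset.sum_range_succ' (fun j => ω ^ j • (T ^ j) v), h1, hTr]
      simp
    have hsum : ∑ k ∈ Finset.range r, e k = (r : F) • v := by
      show ∑ k ∈ Finset.range r, ∑ j ∈ Finset.range r, ((ζ ^ k) ^ (r - 1)) ^ j • (T ^ j) v = _
      rw [Finset.sum_comm, Finset.sum_eq_single 0]
      · simp [← Nat.cast_smul_eq_nsmul F]
      · intro j hj hj0
        rw [← Finset.sum_smul]
        have hω : (ζ ^ ((r - 1) * j)) ≠ 1 := fun h => by
          rw [hζ.pow_eq_one_iff_dvd] at h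
          have hcop : r.Coprime (r - 1) := by
            rw [Nat.coprime_self_sub_right hr]; exact Nat.coprime_one_right r
          have := Nat.le_of_dvd (Nat.pos_of_ne_zero hj0) (hcop.dvd_of_dvd_mul_left h)
          have := Finset.mem_range.1 hj
          omega
        have h0 : (∑ k ∈ Finset.range r, (ζ ^ ((r - 1) * j)) ^ k) = 0 := by
          have hh : (ζ ^ ((r - 1) * j)) ^ r = 1 := by rw [← pow_mul, mul_comm, pow_mul, hζ.pow_eq_one, one_pow]
          have := geom_sum_mul (ζ ^ ((r - 1) * j)) r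
          rw [hh, sub_self] at this
          exact (mul_eq_zero.1 this).resolve_right (sub_ne_zero.2 hω)
        rw [show (∑ k ∈ Finset.range r, ((ζ ^ k) ^ (r - 1)) ^ j) = 0 from
          (Finset.sum_congr rfl fun k _ => by rw [← pow_mul, ← pow_mul, ← pow_mul]; ring_nf).trans h0, zero_smul]
      · intro h; simp [hr] at h
    rw [← inv_smul_smul₀ hrF v, ← hsum]
    exact Submodule.smul_mem _ _ (Submodule.sum_mem _ fun k _ => Submodule.subset_span (he k))
  let b := Basis.ofSpan hS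
  haveI := FiniteDimensional.fintypeBasisIndex b
  have hcard : Fintype.card _ = n := (Module.finrank_eq_card_basis b).symm.trans (Module.finrank_fin_fun F)
  have hbS : ∀ i, b i ∈ S := fun i => Basis.ofSpan_subset hS ⟨i, rfl⟩
  choose a ha using hbS
  let e := Fintype.equivFinOfCardEq hcard
  obtain ⟨e', P, hP, hxP⟩ := exists_mat x (Matrix.diagonal fun j : Fin n => ζ ^ a (e.symm j)) (fun j => b (e.symm j))
    (Fintype.card_fin n) (by
      rw [show Set.range (fun j => b (e.symm j)) = Set.range b from e.symm.surjective.range_comp b]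
      exact b.span_eq.ge) (fun j => by
      rw [← Matrix.toLin'_apply, Finset.sum_eq_single j (fun l _ hl => by simp [hl]) (by simp), Matrix.diagonal_apply_eq]
      exact ha _)
  exact ⟨P, fun i => a (e.symm (e'.symm i)), hP, by rw [hxP, Matrix.reindex_apply, Matrix.submatrix_diagonal_equiv]; rfl⟩

/-- A diagonal matrix all of whose values have the same norm. -/
theorem good_diag {w : Fin n → F} (hn : 0 < n) {c : F} (hc : c ≠ 0) (hw : ∀ i, w i * σ (w i) = c) {d : F}
    (hd : σ d = d) : Good σ d (Matrix.diagonal w) := by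
  classical
  refine ⟨Matrix.diagonal (Function.update (fun _ => 1) ⟨0, hn⟩ d), ?_, ?_, c, hc, ?_⟩
  · rw [Matrix.det_diagonal, Finset.prod_update_of_mem (Finset.mem_univ _)]; simp
  · rw [Matrix.diagonal_transpose, Matrix.diagonal_map (map_zero σ)]
    congr 1
    funext i
    by_cases h : i = ⟨0, hn⟩
    · subst h; simp [hd]
    · simp [Function.update_of_ne h]
  · rw [Matrix.diagonal_transpose, Matrix.diagonal_map (map_zero σ), Matrix.diagonal_mul_diagonal,
      Matrix.diagonal_mul_diagonal, ← Matrix.diagonal_smul]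
    congr 1
    funext i
    rw [Pi.smul_apply, smul_eq_mul, ← hw i]; ring

theorem good_smul {d c : F} (hc : c ≠ 0) {x : Matrix (Fin n) (Fin n) F} (h : Good σ d x) : Good σ d (c • x) := by
  obtain ⟨A, hA, hAh, e, he, hx⟩ := h
  refine ⟨A, hA, hAh, c * σ c * e, mul_ne_zero (mul_ne_zero hc ((map_ne_zero σ).2 hc)) he, ?_⟩
  rw [Matrix.transpose_smul, Matrix.map_smul' _ _ _ (map_mul σ), Matrix.smul_mul, Matrix.smul_mul, Matrix.mul_smul,
    hx, smul_smul, smul_smul]

/-- Square a square scalar, odd characteristic. -/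
theorem good_sq (h2 : (2 : F) ≠ 0) (hσ2 : ∀ a, σ (σ a) = a) (hn : 0 < n) {x : Matrix (Fin n) (Fin n) F} {c : F}
    (hc : c ≠ 0) (hx : x ^ 2 = (c * c) • 1) {d : F} (hd : σ d = d) (hd0 : d ≠ 0) : Good σ d x := by
  have hu : (c⁻¹ • x) ^ 2 = 1 := by
    rw [smul_pow, hx, smul_smul]; field_simp; exact one_smul _ _
  obtain ⟨P, a, hP, hPx⟩ := exists_eigen (IsPrimitiveRoot.orderOf (-1 : F) |> fun h => by
    rwa [show orderOf (-1 : F) = 2 from orderOf_eq_prime (by norm_num) (fun e => h2 (by linear_combination -e))] at h)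
    two_pos (by exact_mod_cast h2) _ hu
  rw [← smul_inv_smul₀ hc x]
  refine good_smul hc (good_of_conj hσ2 (Equiv.refl _) hP (y := Matrix.diagonal fun i => (-1 : F) ^ a i)
    (by rw [hPx]; simp) (fun d hd _ => good_diag hn one_ne_zero (fun i => ?_) hd) hd hd0)
  rw [map_pow, map_neg, map_one, ← mul_pow, neg_mul_neg, one_mul, one_pow]

/-- Square a non-square scalar, the symmetric case. -/
theorem good_nonsq (hn : 0 < n) {x : Matrix (Fin n) (Fin n) F} {z : F}
    (hz : ∀ w : F, w * w ≠ z) (hx : x ^ 2 = z • 1) {d : F} (hd0 : d ≠ 0) : Good (RingHom.id F) d x := by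
  classical
  set T := Matrix.toLin' x
  have hTT : ∀ v, T (T v) = z • v := fun v => by
    rw [← Matrix.toLin'_mul_apply, ← pow_two, hx, map_smul, Matrix.toLin'_one]; rfl
  obtain ⟨k, f, hk, hspan⟩ := Cfsg.Agent.S5979.exists_pairs T hz hTT
  obtain ⟨e, P, hP, hxP⟩ := exists_mat x (Matrix.blockDiagonal fun _ : Fin k => (!![0, z; 1, 0] : Matrix (Fin 2) (Fin 2) F))
    _ (by rw [Fintype.card_prod, Fintype.card_fin, Fintype.card_fin]; exact hk) hspan (fun ⟨i, l⟩ => by
      rw [← Matrix.toLin'_apply, Fintype.sum_prod_type]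
      simp only [Matrix.blockDiagonal_apply, ite_smul, zero_smul, Finset.sum_ite_eq', Finset.mem_univ, if_true]
      fin_cases i <;> simp [T, Fin.sum_univ_two, Matrix.toLin'_apply, ← hTT])
  refine good_of_conj (fun _ => rfl) e hP hxP (fun d _ hd0 => ?_) rfl hd0
  have hz0 : z ≠ 0 := fun e => hz 0 (by rw [e, mul_zero])
  have hk0 : 0 < k := by omega
  obtain ⟨β, α, hab⟩ := SympConj.exists_form_value (z := z) (d := -(d * (-1) ^ (k - 1))) (fun _ => hz0)
  let B : Fin k → Matrix (Fin 2) (Fin 2) F := Function.update (fun _ => !![0, 1; 1, z * 0]) ⟨0, hk0⟩ !![α, β; β, z * α]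
  have hB : ∀ l, ∃ a b : F, B l = !![a, b; b, z * a] := fun l => by
    by_cases h : l = ⟨0, hk0⟩
    · exact ⟨α, β, by simp [B, h]⟩
    · exact ⟨0, 1, by simp [B, h]⟩
  refine ⟨Matrix.blockDiagonal B, ?_, ?_, z, hz0, ?_⟩
  · rw [Matrix.det_blockDiagonal, ← Finset.mul_prod_erase _ _ (Finset.mem_univ (⟨0, hk0⟩ : Fin k)),
      Finset.prod_congr rfl (g := fun _ => (-1 : F)) fun l hl => by
        simp [B, (Finset.mem_erase.1 hl).1, Matrix.det_fin_two_of],
      Finset.prod_const, Finset.card_erase_of_mem (Finset.mem_univ _), Finset.card_univ, Fintype.card_fin]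
    simp only [B, Function.update_self, Matrix.det_fin_two_of]
    have h1 : ((-1 : F) ^ (k - 1)) * (-1) ^ (k - 1) = 1 := by rw [← mul_pow]; norm_num
    linear_combination (-(-1 : F) ^ (k - 1)) * hab + d * h1
  · rw [Matrix.blockDiagonal_transpose, Matrix.blockDiagonal_map _ _ (map_zero _)]
    congr 1
    funext l
    obtain ⟨a, b, h⟩ := hB l
    rw [h]
    ext i j
    fin_cases i <;> fin_cases j <;> simp
  · rw [Matrix.blockDiagonal_transpose, Matrix.blockDiagonal_map _ _ (map_zero _), ← Matrix.blockDiagonal_mul,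
      ← Matrix.blockDiagonal_mul, ← Matrix.blockDiagonal_smul]
    congr 1
    funext l
    obtain ⟨a, b, h⟩ := hB l
    rw [Pi.smul_apply, h]
    ext i j
    fin_cases i <;> fin_cases j <;> simp [Matrix.mul_apply, Fin.sum_univ_two] <;> ring

/-- Multiplicities for a two-valued list. -/
theorem card_two [DecidableEq F] {k : ℕ} (hk : k ≤ n) {u v : F} (huv : u ≠ v) (t : F) :
    (Finset.univ.filter fun i : Fin n => (if i.1 < k then v else u) = t).card =
      if t = v then k else if t = u then n - k else 0 := by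
  have h1 : (Finset.univ.filter fun i : Fin n => i.1 < k).card = k := by
    rw [Fin.card_filter_val_lt]; omega
  split_ifs with h h'
  · subst h
    conv_rhs => rw [← h1]
    congr 1
    ext i
    by_cases h : i.1 < k <;> simp [h, huv]
  · subst h'
    have h2 := Finset.card_filter_add_card_filter_not (s := (Finset.univ : Finset (Fin n))) (fun i => i.1 < k)
    rw [h1, Finset.card_univ, Fintype.card_fin] at h2
    rw [show (Finset.univ.filter fun i : Fin n => (if i.1 < k then v else t) = t) = Finset.univ.filter fun i => ¬ i.1 < k by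
      ext i; by_cases h : i.1 < k <;> simp [h, huv.symm]]
    omega
  · rw [Finset.card_eq_zero]
    ext i
    by_cases h'' : i.1 < k <;> simp [h'', Ne.symm h, Ne.symm h']

variable {r : ℕ} [hr : Fact r.Prime]

/-- The counterexamples among diagonal matrices. -/
theorem exists_not_good_diag (hr2 : r ≠ 2) (hq : r ∣ Fintype.card F - 1) (hn : 3 ≤ n) (hgap : ¬ (n = 6 ∧ r = 3))
    (hexc : ¬ ((r = 3 ∨ r = 5) ∧ n = r ∧ ¬ r ^ 2 ∣ Fintype.card F - 1))
    (hσ : ∀ a : F, a ^ r = 1 → σ a = a) :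
    ∃ (w : Fin n → F) (z : F), (∏ i, w i = 1) ∧ (∀ i, w i ^ r = z) ∧ (∀ c : F, Matrix.diagonal w ≠ c • 1) ∧
      ∀ A : Matrix (Fin n) (Fin n) F, A.det ≠ 0 → ¬ Sim σ A (Matrix.diagonal w) := by
  classical
  obtain ⟨ζ₀, hζ₀⟩ := exists_prime_orderOf_dvd_card' (G := Fˣ) r (by rwa [Nat.card_units, Nat.card_eq_fintype_card])
  have hr3 : 3 ≤ r := by have := hr.out.two_le; omega
  have two : ∀ (k : ℕ) (u t : F), 0 < k → k < n → 2 * k ≠ n → u ≠ 0 → t ≠ 1 → t ^ r = 1 → u ^ n * t ^ k = 1 →
      ∃ (w : Fin n → F) (z : F), (∏ i, w i = 1) ∧ (∀ i, w i ^ r = z) ∧ (∀ c : F, Matrix.diagonal w ≠ c • 1) ∧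
        ∀ A : Matrix (Fin n) (Fin n) F, A.det ≠ 0 → ¬ Sim σ A (Matrix.diagonal w) := by
    intro k u t hk hkn hk2 hu ht1 htr hprod
    have ht0 : t ≠ 0 := fun e => by rw [e, zero_pow hr.out.ne_zero] at htr; exact zero_ne_one htr
    have huv : u ≠ u * t := fun e => ht1 ((mul_eq_left₀ hu).1 e.symm)
    refine ⟨fun i => if i.1 < k then u * t else u, u ^ r, ?_, fun i => ?_, fun c hc => ?_, fun A hA => ?_⟩
    · rw [Finset.prod_ite, Finset.prod_const, Finset.prod_const]
      have h1 : (Finset.univ.filter fun i : Fin n => i.1 < k).card = k := by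
        rw [Fin.card_filter_val_lt]; omega
      have h2 := Finset.card_filter_add_card_filter_not (s := (Finset.univ : Finset (Fin n))) (fun i => i.1 < k)
      rw [h1, Finset.card_univ, Fintype.card_fin] at h2
      rw [h1, show (Finset.univ.filter fun i : Fin n => ¬ i.1 < k).card = n - k by omega, mul_pow, mul_right_comm,
        ← pow_add, Nat.add_sub_cancel' hkn.le, hprod]
    · dsimp only; split_ifs <;> simp [mul_pow, htr]
    · have e0 := congrFun (congrFun hc ⟨0, by omega⟩) ⟨0, by omega⟩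
      have e1 := congrFun (congrFun hc ⟨k, hkn⟩) ⟨k, hkn⟩
      simp [hk] at e0 e1
      exact huv (e1.trans e0.symm)
    · have hne : u * σ u ≠ u * t * σ (u * t) := fun e => by
        rw [map_mul, hσ t htr] at e
        have h1 : t ^ 2 = 1 := by
          have := mul_ne_zero hu ((map_ne_zero σ).2 hu)
          exact mul_left_cancel₀ this (by linear_combination -e)
        have h2 : t ^ Nat.gcd r 2 = 1 := pow_gcd_eq_one.mpr ⟨htr, h1⟩
        rw [(Nat.coprime_primes hr.out Nat.prime_two).2 hr2 |>.gcd_eq_one, pow_one] at h2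
        exact ht1 h2
      have hw : ∀ i : Fin n, (if i.1 < k then u * t else u) ≠ 0 := fun i => by
        split_ifs <;> simp [hu, ht0]
      have hc := card_two (n := n) hkn.le huv
      rcases Nat.lt_or_gt_of_ne hk2 with h | h
      · refine not_sim_diag hA hw (u₁ := u) (u₂ := u * t) ⟨⟨0, by omega⟩, by simp [hk]⟩ (fun v hv => ?_) (fun v hv hv' => ?_) hne
        · rw [hc, hc, if_neg huv, if_pos rfl]; split_ifs <;> omega
        · rw [hc, hc, if_neg hv', if_neg hv, if_pos rfl]; omega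
      · refine not_sim_diag hA hw (u₁ := u * t) (u₂ := u) ⟨⟨k, hkn⟩, by simp⟩ (fun v hv => ?_) (fun v hv hv' => ?_) hne.symm
        · rw [hc, hc, if_neg hv, if_pos rfl]; split_ifs <;> omega
        · rw [hc, hc, if_neg hv, if_neg hv', if_neg huv, if_pos rfl]; omega
  set ζ : F := ((ζ₀ : Fˣ) : F) with hζ
  have hζr : ζ ^ r = 1 := by rw [hζ, ← Units.val_pow_eq_pow_val, ← hζ₀, pow_orderOf_eq_one, Units.val_one]
  have hdvd : ∀ k, ζ ^ k = 1 ↔ r ∣ k := fun k => by
    rw [hζ, ← Units.val_pow_eq_pow_val, Units.val_eq_one, ← orderOf_dvd_iff_pow_eq_one, hζ₀]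
  have hζ0 : ζ ≠ 0 := Units.ne_zero _
  have hζ1 : ζ ≠ 1 := fun e => by
    have := (hdvd 1).1 (by rw [pow_one, e])
    have := Nat.le_of_dvd one_pos this
    omega
  by_cases hrn : r ∣ n
  swap
  · have hu : ζ ^ ((r - 1) * n) ≠ 1 := fun e => by
      rcases hr.out.dvd_mul.1 ((hdvd _).1 e) with h | h
      · have := Nat.le_of_dvd (by omega) h; omega
      · exact hrn h
    refine two 1 ζ (ζ ^ ((r - 1) * n)) one_pos (by omega) (by omega) hζ0 hu
      (by rw [← pow_mul, mul_comm, pow_mul, hζr, one_pow]) ?_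
    rw [pow_one, ← pow_add, hdvd, show n + (r - 1) * n = r * n by
      rw [Nat.sub_mul, one_mul, Nat.add_sub_cancel' (Nat.le_mul_of_pos_left n (by omega))]]
    exact dvd_mul_right _ _
  by_cases hk : n ≠ r ∧ n ≠ 2 * r
  · have := Nat.le_of_dvd (by omega) hrn
    exact two r 1 ζ (by omega) (by omega) (by omega) one_ne_zero hζ1 hζr (by rw [one_pow, one_mul, hζr])
  by_cases hsq : n = r ∧ r ^ 2 ∣ Fintype.card F - 1
  · obtain ⟨hnr, hsq⟩ := hsq
    obtain ⟨g, hg⟩ := IsCyclic.exists_generator (α := Fˣ)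
    have ho : orderOf g = Fintype.card F - 1 := by
      rw [orderOf_eq_card_of_forall_mem_zpowers hg, Nat.card_units, Nat.card_eq_fintype_card]
    obtain ⟨M, hM⟩ := hsq
    have hq1 : 1 < Fintype.card F := Fintype.one_lt_card
    have hM0 : 0 < M := Nat.pos_of_ne_zero fun e => by rw [e, mul_zero] at hM; omega
    have hy : orderOf (g ^ M) = r ^ 2 := by
      rw [orderOf_pow' g hM0.ne', ho, hM, Nat.gcd_mul_left_left, Nat.mul_div_cancel _ hM0]
    set y := g ^ M
    have hyr : y ^ r ≠ 1 := fun e => by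
      rw [← orderOf_dvd_iff_pow_eq_one, hy] at e
      have := Nat.le_of_dvd hr.out.pos e
      nlinarith
    have hyrr : (y ^ r) ^ r = 1 := by rw [← pow_mul, ← pow_two, ← hy, pow_orderOf_eq_one]
    refine two 1 (y : F) (((y ^ r)⁻¹ : Fˣ) : F) one_pos (by omega) (by omega) (Units.ne_zero _) ?_ ?_ ?_
    · rw [Ne, Units.val_eq_one, inv_eq_one]; exact hyr
    · rw [← Units.val_pow_eq_pow_val, inv_pow, hyrr, inv_one, Units.val_one]
    · rw [hnr, pow_one, ← Units.val_pow_eq_pow_val, ← Units.val_mul, mul_inv_cancel, Units.val_one]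
  have h6 : 6 ≤ n ∧ 5 ≤ r := by
    by_cases hnr : n = r
    · have h3 : r ≠ 3 := fun e => hexc ⟨Or.inl e, hnr, fun h => hsq ⟨hnr, h⟩⟩
      have h5 : r ≠ 5 := fun e => hexc ⟨Or.inr e, hnr, fun h => hsq ⟨hnr, h⟩⟩
      have h4 : r ≠ 4 := fun e => by rw [e] at hr; exact absurd hr.out (by norm_num)
      omega
    · have h2r : n = 2 * r := by omega
      have h3 : r ≠ 3 := fun e => hgap ⟨by omega, e⟩
      have h4 : r ≠ 4 := fun e => by rw [e] at hr; exact absurd hr.out (by norm_num)
      omega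
  obtain ⟨hn6, hr5⟩ := h6
  set w : Fin n → F := fun i => if i.1 < 2 then ζ else if i.1 = 2 then ζ ^ (r - 2) else 1 with hw
  have hwr : ∀ i, w i ^ r = 1 := fun i => by
    simp only [hw]
    split_ifs
    · exact hζr
    · rw [← pow_mul, mul_comm, pow_mul, hζr, one_pow]
    · exact one_pow r
  have hw0 : ∀ i, w i ≠ 0 := fun i => by
    simp only [hw]; split_ifs <;> simp [hζ0]
  have hne3 : ζ ^ (r - 2) ≠ 1 := fun e => by
    have := Nat.le_of_dvd (by omega) ((hdvd _).1 e); omega
  have hne4 : ζ ^ (r - 2) ≠ ζ := fun e => by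
    have : ζ ^ (r - 3) = 1 := by
      rw [show r - 2 = r - 3 + 1 by omega, pow_succ] at e
      exact (mul_eq_right₀ hζ0).1 e
    have := Nat.le_of_dvd (by omega) ((hdvd _).1 this); omega
  let i0 : Fin n := ⟨0, by omega⟩
  let i1 : Fin n := ⟨1, by omega⟩
  let i2 : Fin n := ⟨2, by omega⟩
  have h01 : i0 ≠ i1 := by simp [i0, i1, Fin.ext_iff]
  have h02 : i0 ≠ i2 := by simp [i0, i2, Fin.ext_iff]
  have h12 : i1 ≠ i2 := by simp [i1, i2, Fin.ext_iff]
  have hone : (Finset.univ.filter fun i => w i = 1) = Finset.univ \ {i0, i1, i2} := by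
    ext i
    simp only [hw, i0, i1, i2, Finset.mem_filter, Finset.mem_univ, true_and, Finset.mem_sdiff, Finset.mem_insert,
      Finset.mem_singleton, Fin.ext_iff]
    split_ifs <;> simp [hζ1, hne3] <;> omega
  have hzeta : (Finset.univ.filter fun i => w i = ζ) = {i0, i1} := by
    ext i
    simp only [hw, i0, i1, Finset.mem_filter, Finset.mem_univ, true_and, Finset.mem_insert,
      Finset.mem_singleton, Fin.ext_iff]
    split_ifs <;> simp [hne4, Ne.symm hζ1] <;> omega
  have hother : ∀ v, v ≠ 1 → v ≠ ζ → (Finset.univ.filter fun i => w i = v).card ≤ 1 := fun v hv hv' => by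
    refine (Finset.card_le_card (t := {i2}) fun i hi => ?_).trans (le_of_eq (Finset.card_singleton _))
    rw [Finset.mem_filter] at hi
    obtain ⟨-, hi⟩ := hi
    rw [Finset.mem_singleton, Fin.ext_iff]
    simp only [hw] at hi
    by_cases h : i.1 < 2
    · rw [if_pos h] at hi; exact absurd hi.symm hv'
    · rw [if_neg h] at hi
      by_cases h' : i.1 = 2
      · exact h'
      · rw [if_neg h'] at hi; exact absurd hi.symm hv
  have hc1 : (Finset.univ.filter fun i => w i = 1).card = n - 3 := by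
    rw [hone, Finset.card_univ_sdiff, Finset.card_eq_three.2 ⟨i0, i1, i2, h01, h02, h12, rfl⟩, Fintype.card_fin]
  have hcz : (Finset.univ.filter fun i => w i = ζ).card = 2 := by rw [hzeta, Finset.card_pair h01]
  refine ⟨w, 1, ?_, hwr, fun c hc => ?_, fun A hA => ?_⟩
  · have e : ∏ i, w i = ∏ i ∈ ({i0, i1, i2} : Finset (Fin n)), w i := by
      refine (Finset.prod_subset (Finset.subset_univ _) fun i _ hi => ?_).symm
      simp only [i0, i1, i2, Finset.mem_insert, Finset.mem_singleton, Fin.ext_iff] at hi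
      simp only [hw]
      rw [if_neg (by omega), if_neg (by omega)]
    rw [e, Finset.prod_insert (by simp [h01, h02]), Finset.prod_insert (by simp [h12]), Finset.prod_singleton]
    simp only [hw, i0, i1, i2]
    norm_num
    rw [← mul_assoc, ← pow_two, ← pow_add, Nat.add_sub_cancel' (by omega), hζr]
  · have e0 := congrFun (congrFun hc i0) i0
    have e2 := congrFun (congrFun hc i2) i2
    simp [hw, i0, i2] at e0 e2
    exact hne4 (e2.trans e0.symm)
  · refine not_sim_diag hA hw0 (u₁ := 1) (u₂ := ζ) ⟨i0, by simp [hw, i0]⟩ (fun v hv => ?_) (fun v hv hv' => ?_) ?_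
    · rw [hc1]
      by_cases h : v = ζ
      · subst h; omega
      · have := hother v hv h; omega
    · have := hother v hv hv'; omega
    · rw [map_one, one_mul, hσ ζ hζr, ← pow_two]
      intro e
      have := Nat.le_of_dvd two_pos ((hdvd 2).1 e.symm)
      omega

/-- An involutive permutation realising a symmetric list of exponents. -/
theorem exists_perm_five : ∀ a : Fin 5 → ZMod 5, ∑ i, a i = 0 →
    ∃ (σ : Equiv.Perm (Fin 5)) (k₀ : Fin 5), (∀ k, σ (σ k) = k) ∧ σ k₀ = k₀ ∧ ∀ k, a k + a (σ k) = 2 * a k₀ := by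
  have h1 : ∀ b c d : ZMod 5, ∃ k p q : Fin 5, k ≠ p ∧ k ≠ q ∧ p ≠ q ∧
      ![0, b, c, d, -(b + c + d)] p + ![0, b, c, d, -(b + c + d)] q = 2 * ![0, b, c, d, -(b + c + d)] k := by
    decide +kernel
  have h2 : ∀ k p q : Fin 5, k ≠ p → k ≠ q → p ≠ q → ∃ s t : Fin 5, s ≠ t ∧ k ≠ s ∧ k ≠ t ∧ p ≠ s ∧ p ≠ t ∧ q ≠ s ∧ q ≠ t := by
    decide +kernel
  have h3 : ∀ k p q s t : Fin 5, k ≠ p → k ≠ q → p ≠ q → s ≠ t → k ≠ s → k ≠ t → p ≠ s → p ≠ t → q ≠ s → q ≠ t →
      ∀ m : Fin 5, m = k ∨ m = p ∨ m = q ∨ m = s ∨ m = t := by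
    decide +kernel
  intro a ha
  have h5 : (5 : ZMod 5) = 0 := rfl
  obtain ⟨k, p, q, hkp, hkq, hpq, he⟩ := h1 (a 1 - a 0) (a 2 - a 0) (a 3 - a 0)
  have hv : ∀ m : Fin 5, ![0, a 1 - a 0, a 2 - a 0, a 3 - a 0, -(a 1 - a 0 + (a 2 - a 0) + (a 3 - a 0))] m = a m - a 0 := by
    rw [Fin.sum_univ_five] at ha
    intro m
    fin_cases m <;> simp
    linear_combination -ha + (a 0) * h5
  rw [hv, hv, hv] at he
  obtain ⟨s, t, hst, hks, hkt, hps, hpt, hqs, hqt⟩ := h2 k p q hkp hkq hpq
  have hall := h3 k p q s t hkp hkq hpq hst hks hkt hps hpt hqs hqt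
  have hsum : a k + a p + a q + a s + a t = 0 := by
    rw [← ha, show (Finset.univ : Finset (Fin 5)) = {k, p, q, s, t} from
      (Finset.eq_univ_iff_forall.2 fun m => by simpa using hall m).symm,
      Finset.sum_insert (by simp [hkp, hkq, hks, hkt]), Finset.sum_insert (by simp [hpq, hps, hpt]),
      Finset.sum_insert (by simp [hqs, hqt]), Finset.sum_insert (by simp [hst]), Finset.sum_singleton]
    ring
  have hst' : a s + a t = 2 * a k := by linear_combination hsum - he - (a k) * h5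
  refine ⟨Equiv.swap p q * Equiv.swap s t, k, fun m => ?_, ?_, fun m => ?_⟩
  all_goals simp only [Equiv.Perm.mul_apply]
  · rcases hall m with rfl | rfl | rfl | rfl | rfl <;>
      simp [Equiv.swap_apply_of_ne_of_ne, hkp, hkq, hks, hkt, hpq, hps, hpt, hqs, hqt, hst,
        hkp.symm, hkq.symm, hks.symm, hkt.symm, hpq.symm, hps.symm, hpt.symm, hqs.symm, hqt.symm, hst.symm]
  · simp [Equiv.swap_apply_of_ne_of_ne, hkp, hkq, hks, hkt]
  · rcases hall m with rfl | rfl | rfl | rfl | rfl <;>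
      simp [Equiv.swap_apply_of_ne_of_ne, hkp, hkq, hks, hkt, hpq, hps, hpt, hqs, hqt, hst,
        hkp.symm, hkq.symm, hks.symm, hkt.symm, hpq.symm, hps.symm, hpt.symm, hqs.symm, hqt.symm, hst.symm, two_mul]
    all_goals first
      | linear_combination he
      | linear_combination hst'

/-- An involutive permutation for exponents summing to zero, lengths three and five. -/
theorem exists_perm (hr35 : r = 3 ∨ r = 5) (a : Fin r → ZMod r) (ha : ∑ i, a i = 0) :
    ∃ (σ : Equiv.Perm (Fin r)) (k₀ : Fin r), (∀ k, σ (σ k) = k) ∧ σ k₀ = k₀ ∧ ∀ k, a k + a (σ k) = 2 * a k₀ := by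
  rcases hr35 with rfl | rfl
  · rw [Fin.sum_univ_three] at ha
    have h3 : (3 : ZMod 3) = 0 := rfl
    refine ⟨Equiv.swap 1 2, 0, fun k => Equiv.swap_apply_self _ _ k, by decide, fun k => ?_⟩
    fin_cases k
    · simp [show (Equiv.swap (1 : Fin 3) 2) 0 = 0 by decide, two_mul]
    · simp [Equiv.swap_apply_left]; linear_combination ha - (a 0) * h3
    · simp [Equiv.swap_apply_right]; linear_combination ha - (a 0) * h3
  · exact exists_perm_five a ha

/-- The exceptional positive case. -/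
theorem good_exceptional (hσ2 : ∀ a, σ (σ a) = a) (hr35 : r = 3 ∨ r = 5) (hnr : n = r) (hrF : (r : F) ≠ 0)
    (hq : r ∣ Fintype.card F - 1) (hsq : ¬ r ^ 2 ∣ Fintype.card F - 1) (hσ : ∀ a : F, a ^ r = 1 → σ a = a)
    {x : Matrix (Fin n) (Fin n) F} (hdet : x.det = 1) {z : F} (hx : x ^ r = z • 1) {d : F} (hd : σ d = d)
    (hd0 : d ≠ 0) : Good σ d x := by
  classical
  subst hnr
  have hodd : Odd n := by rcases hr35 with e | e <;> rw [e] <;> decide
  have hz : z = 1 := by
    by_cases hpow : ∃ y, y ^ n = z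
    · obtain ⟨y, rfl⟩ := hpow
      have h1 := congrArg Matrix.det hx
      rw [Matrix.det_pow, hdet, one_pow, Matrix.det_smul, Fintype.card_fin, Matrix.det_one, mul_one] at h1
      have hy0 : y ≠ 0 := fun e => by rw [e, zero_pow hr.out.ne_zero, zero_pow hr.out.ne_zero] at h1; exact one_ne_zero h1
      have hg : Nat.gcd (n ^ 2) (Fintype.card F - 1) = n := by
        obtain ⟨M, hM⟩ := hq
        have hMn : ¬ n ∣ M := fun h => hsq (by rw [hM, pow_two]; exact mul_dvd_mul_left n h)
        rw [hM, pow_two, Nat.gcd_mul_left, (hr.out.coprime_iff_not_dvd.2 hMn).gcd_eq_one, mul_one]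
      have h2 := pow_gcd_eq_one.mpr
        ⟨show y ^ (n ^ 2) = 1 by rw [pow_two, pow_mul, ← h1], FiniteField.pow_card_sub_one_eq_one y hy0⟩
      rwa [hg] at h2
    · push Not at hpow
      obtain ⟨k, hk, hdk⟩ := Inv.det_of_nonpower hpow hx
      have hk1 : k = 1 := Nat.eq_of_mul_eq_mul_left hr.out.pos (by omega)
      rw [hdet, hk1, pow_one, (hodd.add_one).neg_one_pow, one_mul] at hdk
      exact hdk.symm
  rw [hz, one_smul] at hx
  obtain ⟨ζ₀, hζ₀⟩ := exists_prime_orderOf_dvd_card' (G := Fˣ) n (by rwa [Nat.card_units, Nat.card_eq_fintype_card])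
  have hζ : IsPrimitiveRoot ((ζ₀ : Fˣ) : F) n := by
    rw [← hζ₀]; exact (IsPrimitiveRoot.orderOf ζ₀).map_of_injective (f := Units.coeHom F) Units.val_injective
  set ζ : F := ((ζ₀ : Fˣ) : F)
  obtain ⟨P, a, hP, hPx⟩ := exists_eigen hζ hr.out.pos hrF x hx
  have hsum : ∑ i, (a i : ZMod n) = 0 := by
    have h1 := congrArg Matrix.det hPx
    rw [Matrix.det_mul, Matrix.det_mul, hdet, one_mul, Matrix.det_diagonal, Finset.prod_pow_eq_pow_sum] at h1
    have h2 := (mul_eq_left₀ hP).1 h1.symm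
    rw [hζ.pow_eq_one_iff_dvd, ← ZMod.natCast_eq_zero_iff, Nat.cast_sum] at h2
    exact h2
  obtain ⟨π, k₀, hπ2, hπk, hπ⟩ := exists_perm hr35 (fun i => (a i : ZMod n)) hsum
  refine good_of_conj hσ2 (Equiv.refl _) hP (y := Matrix.diagonal fun i => ζ ^ a i) (by rw [hPx]; simp) ?_ hd hd0
  intro d hd _
  set sg : F := ((Equiv.Perm.sign π : ℤ) : F) with hsg
  have hsg2 : sg * sg = 1 := by
    rcases Int.units_eq_one_or (Equiv.Perm.sign π) with h | h <;> simp [hsg, h]
  have hsgσ : σ sg = sg := map_intCast σ _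
  set α : Fin n → F := Function.update (fun _ => 1) k₀ (d * sg) with hα
  have hαπ : ∀ k, α (π k) = α k := fun k => by
    by_cases h : k = k₀
    · rw [h, hπk]
    · have h' : π k ≠ k₀ := fun e => h (by rw [← hπ2 k, e, hπk])
      simp [hα, h, h']
  have hαf : ∀ k, σ (α k) = α k := fun k => by
    by_cases h : k = k₀
    · subst h; simp [hα, hd, hsgσ]
    · simp [hα, h]
  refine ⟨Matrix.of fun k l => if l = π k then α k else 0, ?_, ?_, ζ ^ (2 * a k₀), pow_ne_zero _ (hζ.ne_zero hr.out.ne_zero), ?_⟩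
  · rw [show (Matrix.of fun k l => if l = π k then α k else 0) = Matrix.diagonal α * π.permMatrix F by
      ext k l; simp [Matrix.diagonal_mul, Equiv.Perm.permMatrix, PEquiv.toMatrix_apply, eq_comm], Matrix.det_mul,
      Matrix.det_diagonal, Matrix.det_permutation, hα, Finset.prod_update_of_mem (Finset.mem_univ _)]
    simp only [Finset.prod_const_one, mul_one]
    rw [mul_assoc, hsg2, mul_one]
  · ext k l
    simp only [Matrix.transpose_apply, Matrix.map_apply, Matrix.of_apply]
    by_cases h : k = π l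
    · rw [if_pos h, if_pos (by rw [h, hπ2]), hαf, h, hαπ]
    · rw [if_neg h, if_neg (fun e => h (by rw [e, hπ2])), map_zero]
  · ext k l
    rw [Matrix.diagonal_transpose, Matrix.diagonal_map (map_zero σ), Matrix.mul_diagonal, Matrix.diagonal_mul,
      Matrix.smul_apply, Matrix.of_apply, smul_eq_mul]
    by_cases h : l = π k
    · rw [if_pos h]
      have he : ζ ^ a k * σ (ζ ^ a l) = ζ ^ (2 * a k₀) := by
        rw [hσ _ (by rw [← pow_mul, mul_comm, pow_mul, hζ.pow_eq_one, one_pow]), ← pow_add, h]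
        refine (hζ.isOfFinOrder hr.out.ne_zero).pow_eq_pow_iff_modEq.2 ?_
        rw [← hζ.eq_orderOf, ← ZMod.natCast_eq_natCast_iff, Nat.cast_add, Nat.cast_mul, Nat.cast_ofNat]
        exact hπ k
      rw [← he]; ring
    · rw [if_neg h, mul_zero, zero_mul, mul_zero]

end Cfsg.Agent.ClMax99.SimForm
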