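import Cfsg.Agent.ClMax99.SimFormSplit

/-!
Involutions in characteristic two are similitudes of hermitian forms of every determinant.
-/

set_option autoImplicit false
set_option linter.unusedSectionVars false

namespace Cfsg.Agent.ClMax99.SimForm

open Module
open scoped Matrix

variable {F : Type*} [Field F] [Fintype F] {σ : F →+* F} {n : ℕ}

/-- A basis adapted to a square-zero operator. -/
theorem exists_jordan_sq (N : Module.End F (Fin n → F)) (hN : ∀ v, N (N v) = 0) :
    ∃ (k l : ℕ) (v : Fin k → Fin n → F) (c : Fin l → Fin n → F), 2 * k + l = n ∧ (∀ i, N (c i) = 0) ∧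
      ⊤ ≤ Submodule.span F (Set.range (Sum.elim (fun p : Fin 2 × Fin k => if p.1 = 0 then v p.2 else N (v p.2)) c)) := by
  classical
  set R := LinearMap.range N
  set K := LinearMap.ker N
  have hRK : R ≤ K := by rintro _ ⟨v, rfl⟩; exact LinearMap.mem_ker.2 (hN v)
  obtain ⟨C', hC'⟩ := Submodule.exists_isCompl R
  set C := K ⊓ C'
  have hsup : R ⊔ C = K := by
    rw [show C = C' ⊓ K from inf_comm _ _, ← sup_inf_assoc_of_le _ hRK, hC'.sup_eq_top, top_inf_eq]
  have hinf : R ⊓ C = ⊥ := eq_bot_iff.2 fun x hx => by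
    rw [← hC'.inf_eq_bot]; exact ⟨hx.1, hx.2.2⟩
  let b := Module.finBasis F R
  let c := Module.finBasis F C
  choose v hv using fun i => (b i).2
  refine ⟨_, _, v, fun i => (c i : Fin n → F), ?_, fun i => LinearMap.mem_ker.1 (c i).2.1, ?_⟩
  · have h1 := Submodule.finrank_sup_add_finrank_inf_eq R C
    rw [hsup, hinf, finrank_bot] at h1
    have h2 := N.finrank_range_add_finrank_ker
    rw [Module.finrank_fin_fun] at h2
    change finrank F K + 0 = _ at h1
    change finrank F R + finrank F K = n at h2
    omega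
  · intro x _
    set S := Submodule.span F (Set.range (Sum.elim (fun p : Fin 2 × Fin (finrank F R) => if p.1 = 0 then v p.2 else N (v p.2))
      fun i => (c i : Fin n → F)))
    have hvS : ∀ i, v i ∈ S := fun i => Submodule.subset_span ⟨Sum.inl (0, i), by simp⟩
    have hwS : ∀ i, (b i : Fin n → F) ∈ S := fun i => Submodule.subset_span ⟨Sum.inl (1, i), by simpa using hv i⟩
    have hR : R ≤ S := fun y hy => by
      have := congrArg (Submodule.subtype R) (b.sum_repr ⟨y, hy⟩)
      rw [map_sum] at this
      rw [show y = Submodule.subtype R ⟨y, hy⟩ from rfl, ← this]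
      exact sum_mem fun i _ => by rw [map_smul]; exact S.smul_mem _ (hwS i)
    have hC : C ≤ S := fun y hy => by
      have := congrArg (Submodule.subtype C) (c.sum_repr ⟨y, hy⟩)
      rw [map_sum] at this
      rw [show y = Submodule.subtype C ⟨y, hy⟩ from rfl, ← this]
      exact sum_mem fun i _ => by rw [map_smul]; exact S.smul_mem _ (Submodule.subset_span ⟨Sum.inr i, rfl⟩)
    set a := b.repr ⟨N x, x, rfl⟩
    have hk : x - ∑ i, a i • v i ∈ K := by
      rw [LinearMap.mem_ker, map_sub, map_sum, sub_eq_zero]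
      have := congrArg (Submodule.subtype R) (b.sum_repr ⟨N x, x, rfl⟩)
      rw [map_sum] at this
      exact this.symm.trans (Finset.sum_congr rfl fun i _ => by rw [map_smul, map_smul, hv]; rfl)
    rw [← sub_add_cancel x (∑ i, a i • v i)]
    exact add_mem (sup_le hR hC (hsup.symm ▸ hk)) (sum_mem fun i _ => S.smul_mem _ (hvS i))

/-- Square a scalar, characteristic two. -/
theorem good_two [CharP F 2] (hσ2 : ∀ a, σ (σ a) = a) (hn : 0 < n) {x : Matrix (Fin n) (Fin n) F} {z : F}
    (hz : z ≠ 0) (hx : x ^ 2 = z • 1) {d : F} (hd : σ d = d) (hd0 : d ≠ 0) : Good σ d x := by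
  classical
  obtain ⟨s, hs⟩ := FiniteField.isSquare_of_char_two (ringChar.eq F 2) z
  have hs0 : s ≠ 0 := fun e => hz (by rw [hs, e, zero_mul])
  have hu : (s⁻¹ • x) ^ 2 = 1 := by
    rw [smul_pow, hx, smul_smul, hs]; field_simp; exact one_smul _ _
  rw [← smul_inv_smul₀ hs0 x]
  refine good_smul hs0 ?_
  set u := s⁻¹ • x
  set N := Matrix.toLin' u - 1 with hNdef
  have hN1 : ∀ v, N v = u *ᵥ v + v := fun v => by
    rw [hNdef, LinearMap.sub_apply, Matrix.toLin'_apply, Module.End.one_apply]
    funext i
    exact CharTwo.sub_eq_add _ _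
  have hNN : ∀ v, N (N v) = 0 := fun v => by
    rw [hN1, hN1, Matrix.mulVec_add, Matrix.mulVec_mulVec, ← pow_two, hu, Matrix.one_mulVec]
    funext i
    show v i + (u *ᵥ v) i + ((u *ᵥ v) i + v i) = 0
    rw [add_comm (v i), ← two_mul, CharTwo.two_eq_zero, zero_mul]
  obtain ⟨k, l, v, c, hkl, hc, hspan⟩ := exists_jordan_sq N hNN
  obtain ⟨e, P, hP, hxP⟩ := exists_mat u
    (Matrix.fromBlocks (Matrix.blockDiagonal fun _ : Fin k => (!![1, 0; 1, 1] : Matrix (Fin 2) (Fin 2) F)) 0 0
      (1 : Matrix (Fin l) (Fin l) F)) _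
    (by rw [Fintype.card_sum, Fintype.card_prod, Fintype.card_fin, Fintype.card_fin, Fintype.card_fin]; exact hkl)
    hspan (fun q => by
      have hT : ∀ w, u *ᵥ w = w + N w := fun w => by
        rw [hN1]; funext i
        show _ = w i + ((u *ᵥ w) i + w i)
        rw [add_comm (w i), add_assoc, ← two_mul, CharTwo.two_eq_zero, zero_mul, add_zero]
      rw [Fintype.sum_sum_type, Fintype.sum_prod_type]
      rcases q with ⟨i, j⟩ | j
      · simp only [Sum.elim_inl, Matrix.fromBlocks_apply₁₁, Matrix.fromBlocks_apply₂₁, Matrix.zero_apply, zero_smul,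
          Finset.sum_const_zero, add_zero, Matrix.blockDiagonal_apply, ite_smul, Finset.sum_ite_eq', Finset.mem_univ,
          if_true]
        fin_cases i <;> simp [hT, Fin.sum_univ_two, hNN]
      · simp only [Sum.elim_inr, Matrix.fromBlocks_apply₁₂, Matrix.fromBlocks_apply₂₂, Matrix.zero_apply, zero_smul,
          Finset.sum_const_zero, zero_add, Matrix.one_apply, ite_smul, one_smul, Finset.sum_ite_eq', Finset.mem_univ,
          if_true]
        rw [hT, hc, add_zero])
  refine good_of_conj hσ2 e hP hxP (fun d hd hd0 => ?_) hd hd0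
  obtain ⟨β, hβ⟩ := FiniteField.isSquare_of_char_two (ringChar.eq F 2) d
  have hσβ : σ β = β := by
    have h : σ β * σ β = β * β := by rw [← map_mul, ← hβ, hd]
    rcases mul_self_eq_mul_self_iff.1 h with h | h
    · exact h
    · rwa [CharTwo.neg_eq] at h
  let B : Fin k → F := if hk : 0 < k then Function.update (fun _ => 1) ⟨0, hk⟩ β else fun _ => 1
  let D : Fin l → F := if hk : 0 < k then fun _ => 1 else Function.update (fun _ => 1) ⟨0, by omega⟩ d
  have hB : ∀ j, σ (B j) = B j := fun j => by
    dsimp only [B]; split_ifs with hk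
    · by_cases h : j = ⟨0, hk⟩
      · subst h; simp [hσβ]
      · simp [Function.update_of_ne h]
    · simp
  have hD : ∀ j, σ (D j) = D j := fun j => by
    dsimp only [D]; split_ifs with hk
    · simp
    · by_cases h : j = ⟨0, by omega⟩
      · subst h; simp [hd]
      · simp [Function.update_of_ne h]
  refine ⟨Matrix.fromBlocks (Matrix.blockDiagonal fun j => !![0, B j; B j, 0]) 0 0 (Matrix.diagonal D),
    ?_, ?_, 1, one_ne_zero, ?_⟩
  · rw [Matrix.det_fromBlocks_zero₂₁, Matrix.det_blockDiagonal, Matrix.det_diagonal]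
    simp only [Matrix.det_fin_two_of, zero_mul, zero_sub, CharTwo.neg_eq]
    dsimp only [B, D]
    split_ifs with hk
    · rw [Finset.prod_const_one, mul_one, Finset.prod_mul_distrib, Finset.prod_update_of_mem (Finset.mem_univ _),
        Finset.prod_const_one, mul_one, hβ]
    · rw [Finset.prod_update_of_mem (Finset.mem_univ _)]; simp
  · rw [Matrix.fromBlocks_transpose, Matrix.fromBlocks_map, Matrix.transpose_zero, Matrix.transpose_zero,
      Matrix.map_zero _ (map_zero σ), Matrix.blockDiagonal_transpose, Matrix.blockDiagonal_map _ _ (map_zero σ),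
      Matrix.diagonal_transpose, Matrix.diagonal_map (map_zero σ)]
    congr 1
    · congr 1
      funext j
      ext a b
      fin_cases a <;> fin_cases b <;> simp [hB j]
    · ext a b; simp
    · congr 1
      funext j
      exact (hD j).symm
  · rw [Matrix.fromBlocks_transpose, Matrix.fromBlocks_map, Matrix.fromBlocks_multiply, Matrix.fromBlocks_multiply, one_smul]
    simp only [Matrix.transpose_zero, Matrix.map_zero _ (map_zero σ), zero_mul, mul_zero, add_zero, zero_add,
      Matrix.transpose_one, Matrix.map_one _ (map_zero σ) (map_one σ), one_mul, mul_one, Matrix.zero_mul, Matrix.mul_zero,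
      Matrix.one_mul, Matrix.mul_one]
    rw [Matrix.blockDiagonal_transpose, Matrix.blockDiagonal_map _ _ (map_zero σ), ← Matrix.blockDiagonal_mul,
      ← Matrix.blockDiagonal_mul]
    congr 2
    funext j
    ext a b
    fin_cases a <;> fin_cases b <;> simp [Matrix.mul_apply, Fin.sum_univ_two, CharTwo.add_self_eq_zero]

end Cfsg.Agent.ClMax99.SimForm
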