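import Cfsg.Agent.ClMax99.SimFormSplit
import Cfsg.Agent.Lib.LinearGroup.Card

/-!
Index arithmetic for subgroups of the special linear group.
-/

set_option autoImplicit false
set_option linter.unusedSectionVars false

namespace Cfsg.Agent.ClMax99.SimForm

open Module

variable {F : Type*} [Field F] [Fintype F] {n : ℕ}

theorem mem_special {g : GL (Fin n) F} :
    g ∈ Cfsg.Geo.specialLinear (Fin n) F ↔ (g : Matrix (Fin n) (Fin n) F).det = 1 := by
  show Matrix.GeneralLinearGroup.det g = 1 ↔ _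
  rw [← Units.val_eq_one, Matrix.GeneralLinearGroup.val_det_apply]

theorem card_special_mul (hn : 0 < n) :
    (Fintype.card F - 1) * Nat.card (Cfsg.Geo.specialLinear (Fin n) F) = Nat.card (GL (Fin n) F) := by
  haveI : Nonempty (Fin n) := ⟨⟨0, hn⟩⟩
  show (Fintype.card F - 1) * Nat.card (Matrix.GeneralLinearGroup.det : GL (Fin n) F →* Fˣ).ker = _
  rw [← (Matrix.GeneralLinearGroup.det : GL (Fin n) F →* Fˣ).ker.card_mul_index, Subgroup.index_ker,
    MonoidHom.range_eq_top.2 LinearGroup.glDet_surjective, Subgroup.card_top, Nat.card_units,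
    Nat.card_eq_fintype_card (α := F), mul_comm]

/-- A subgroup inside the stabiliser gives a divisibility. -/
theorem card_mul_dvd {r : ℕ} (L M : Subgroup (GL (Fin n) F)) (hLM : L ≤ M) (hL : L ≤ Cfsg.Geo.specialLinear (Fin n) F)
    (hr : r ∣ M.relIndex (Cfsg.Geo.specialLinear (Fin n) F)) :
    Nat.card L * r ∣ Nat.card (Cfsg.Geo.specialLinear (Fin n) F) := by
  set S := Cfsg.Geo.specialLinear (Fin n) F
  rw [← Subgroup.card_mul_index ((M ⊓ S).subgroupOf S),
    Nat.card_congr (Subgroup.subgroupOfEquivOfLe (inf_le_right : M ⊓ S ≤ S)).toEquiv]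
  refine mul_dvd_mul (Subgroup.card_dvd_of_le (le_inf hLM hL)) ?_
  show r ∣ (M ⊓ S).relIndex S
  rwa [Subgroup.inf_relIndex_right]

/-- The order of `q` modulo a prime divisor of `|SL_n(q)|` is at most `n`. -/
theorem order_le {r : ℕ} [hr : Fact r.Prime] (hrF : (r : F) ≠ 0)
    (hS : r ∣ Nat.card (Cfsg.Geo.specialLinear (Fin n) F)) : orderOf (Fintype.card F : ZMod r) ≤ n := by
  obtain ⟨g, hg⟩ := exists_prime_orderOf_dvd_card' r hS
  set f := Matrix.toLin' (((g : GL (Fin n) F)) : Matrix (Fin n) (Fin n) F) with hf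
  have hgr : (g : GL (Fin n) F) ^ r = 1 := by rw [← Subgroup.coe_pow, ← hg, pow_orderOf_eq_one, OneMemClass.coe_one]
  have hfr : f ^ r = 1 := by
    rw [hf, ← Matrix.toLin'_pow, ← Units.val_pow_eq_pow_val, hgr, Units.val_one, Matrix.toLin'_one]; rfl
  obtain ⟨k, hk⟩ := Inv.dvd_finrank_moved hrF hfr (W := ⊤) (by simp)
  rw [Submodule.map_top] at hk
  have hle := Submodule.finrank_le (LinearMap.range (f - 1))
  rw [Module.finrank_fin_fun, hk] at hle
  rcases Nat.eq_zero_or_pos k with rfl | hk0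
  · exfalso
    rw [mul_zero, Submodule.finrank_eq_zero, LinearMap.range_eq_bot, sub_eq_zero, hf] at hk
    have : g = 1 := Subtype.ext (Units.ext (Matrix.toLin'.injective (by rw [hk, OneMemClass.coe_one, Units.val_one, Matrix.toLin'_one]; rfl)))
    rw [this, orderOf_one] at hg
    exact hr.out.one_lt.ne hg
  · exact (Nat.le_mul_of_pos_right _ hk0).trans hle

end Cfsg.Agent.ClMax99.SimForm
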