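import Cfsg.Agent.ClMax99.SympInv
import Cfsg.Agent.ClMax99.InvSL
import Cfsg.Agent.KnownSimple58.SpElements
import Cfsg.Agent.Lib.Symplectic.Card
import Cfsg.Prelude.Def_GeometricClasses

/-!
Symplectic elements of odd prime order with prescribed moved space, and orthogonal decompositions.
-/

set_option autoImplicit false

namespace Cfsg.Agent.ClMax99.SympInv

open Cfsg.Agent.Symplectic Module Submodule

variable {F : Type*} [Field F] [Fintype F] {d : ℕ}

/-- The linear map of a symplectic matrix. -/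
noncomputable def lin (x : Sp d F) : Module.End F (Vec d F) :=
  Matrix.toLin' (x : Matrix (Fin d ⊕ Fin d) (Fin d ⊕ Fin d) F)

theorem lin_apply (x : Sp d F) (v : Vec d F) : lin x v = x • v := Matrix.toLin'_apply _ _

theorem lin_form (x : Sp d F) (u v : Vec d F) :
    Forms.sympBilin d F (lin x u) (lin x v) = Forms.sympBilin d F u v := by
  simp [lin_apply, Forms.sympBilin_apply]

theorem lin_pow_eq_one {x : Sp d F} {r : ℕ} (h : x ^ r = 1) : lin x ^ r = 1 := by
  rw [lin, ← Matrix.toLin'_pow, ← SubmonoidClass.coe_pow, h, OneMemClass.coe_one, Matrix.toLin'_one]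
  rfl

theorem nd_top : Nd (Forms.sympBilin d F) ⊤ :=
  fun u _ h => Forms.sympBilin_nondegenerate.1 u fun v => h v Submodule.mem_top

variable {r : ℕ} [hr : Fact r.Prime] (hrF : (r : F) ≠ 0) {i c : ℕ}
variable (hi : i = orderOf (Fintype.card F : ZMod r)) (hc : c = if Even i then i else 2 * i)

include hc in
theorem c_facts : ∃ e, c = 2 * e ∧ i ∣ c := by
  rw [hc]
  split_ifs with h
  · exact ⟨i / 2, by obtain ⟨k, hk⟩ := h; omega, dvd_rfl⟩
  · exact ⟨i, rfl, dvd_mul_left _ _⟩

include hrF hi hc in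
/-- An element of order `r` without fixed vectors in `Sp_c(q)`. -/
theorem exists_base {e : ℕ} (he : c = 2 * e) (he0 : 1 ≤ e) :
    ∃ y : Sp e F, y ^ r = 1 ∧ LinearMap.ker (lin y - 1) = ⊥ := by
  obtain ⟨-, -, hic⟩ := c_facts hc
  have hdvd : r ∣ Fintype.card F ^ c - 1 := (Inv.orderOf_dvd_iff_dvd_pow c).1 (hi ▸ hic)
  rw [he, mul_comm, pow_mul, show (Fintype.card F ^ e) ^ 2 - 1 = (Fintype.card F ^ e + 1) * (Fintype.card F ^ e - 1) by
    simpa using Nat.sq_sub_sq (Fintype.card F ^ e) 1] at hdvd
  obtain ⟨⟨z₁, hz₁⟩, z₂, hz₂⟩ := KS58.SpEl.exists_sp_torus (F := F) he0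
  obtain ⟨y, hy⟩ : ∃ y : Sp e F, orderOf y = r := by
    have key : ∀ (z : Sp e F) (N : ℕ), orderOf z = N → N ≠ 0 → r ∣ N → ∃ y : Sp e F, orderOf y = r := by
      rintro z N hz hN ⟨k, rfl⟩
      refine ⟨z ^ k, ?_⟩
      rw [orderOf_pow' z (by rintro rfl; simp at hN), hz, Nat.gcd_mul_left_left,
        Nat.mul_div_cancel _ (Nat.pos_of_ne_zero (by rintro rfl; simp at hN))]
    have h1 : 1 < Fintype.card F ^ e := Nat.one_lt_pow (by omega) Fintype.one_lt_card
    rcases hr.out.dvd_mul.1 hdvd with h | h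
    · exact key z₂ _ hz₂ (by omega) h
    · exact key z₁ _ hz₁ (by omega) h
  have hyr : y ^ r = 1 := hy ▸ pow_orderOf_eq_one y
  refine ⟨y, hyr, ?_⟩
  have hne : LinearMap.range (lin y - 1) ≠ ⊥ := by
    intro h
    rw [LinearMap.range_eq_bot, sub_eq_zero] at h
    have : y = 1 := eq_of_smul_eq fun v => by rw [← lin_apply, h, one_smul, Module.End.one_apply]
    rw [this, orderOf_one] at hy
    exact hr.out.one_lt.ne hy
  have hd := dvd_moved Forms.sympBilin_isAlt (lin_form y) hrF (lin_pow_eq_one hyr) hi hc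
    (W := ⊤) (by simp) nd_top
  rw [Submodule.map_top] at hd
  have hpos : 0 < finrank F (LinearMap.range (lin y - 1)) :=
    Nat.pos_of_ne_zero fun h => hne (Submodule.finrank_eq_zero.1 h)
  have := Nat.le_of_dvd hpos hd
  have h2 := LinearMap.finrank_range_add_finrank_ker (lin y - 1)
  rw [finrank_pi, Fintype.card_sum, Fintype.card_fin] at h2
  exact Submodule.finrank_eq_zero.1 (by omega)

include hrF hi hc in
/-- Elements of order dividing `r` moving exactly `s * c` dimensions. -/
theorem exists_elt (hipos : 0 < i) : ∀ (s : ℕ) {d : ℕ}, s * c ≤ 2 * d →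
    ∃ x : Sp d F, x ^ r = 1 ∧ finrank F (LinearMap.ker (lin x - 1)) = 2 * d - s * c := by
  obtain ⟨e, he, hic⟩ := c_facts hc
  have he0 : 1 ≤ e := by
    have : c ≠ 0 := by rw [hc]; split_ifs <;> omega
    omega
  intro s
  induction s with
  | zero =>
    intro d _
    refine ⟨1, one_pow r, ?_⟩
    rw [show lin (1 : Sp d F) - 1 = 0 by rw [lin, OneMemClass.coe_one, Matrix.toLin'_one]; exact sub_self _,
      LinearMap.ker_zero, finrank_top, finrank_pi, Fintype.card_sum, Fintype.card_fin]
    omega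
  | succ s ih =>
    intro d hd
    rw [Nat.add_one_mul] at hd ⊢
    obtain ⟨b, rfl⟩ : ∃ b, d = e + b := ⟨d - e, by omega⟩
    obtain ⟨x, hx, hxk⟩ := ih (d := b) (by omega)
    obtain ⟨y, hy, hyk⟩ := exists_base hrF hi hc he he0
    refine ⟨KS58.SpEl.blockSum (y, x), by rw [← map_pow, Prod.pow_mk, hy, hx]; exact map_one _, ?_⟩
    set π := KS58.SpEl.splitVec e b F with hπ
    set g := KS58.SpEl.blockSum (y, x) with hg
    have hker : LinearMap.ker (lin g - 1) =
        (LinearMap.ker (lin x - 1)).map (π.symm.toLinearMap ∘ₗ LinearMap.inr F (Vec e F) (Vec b F)) := by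
      ext v
      have hv : v ∈ LinearMap.ker (lin g - 1) ↔ y • (π v).1 = (π v).1 ∧ x • (π v).2 = (π v).2 := by
        rw [LinearMap.mem_ker, LinearMap.sub_apply, Module.End.one_apply, sub_eq_zero, lin_apply,
          ← π.injective.eq_iff, hπ, hg, KS58.SpEl.split_blockSum, Prod.ext_iff]
      rw [hv, Submodule.mem_map]
      constructor
      · rintro ⟨h1, h2⟩
        refine ⟨(π v).2, by rw [LinearMap.mem_ker, LinearMap.sub_apply, Module.End.one_apply, sub_eq_zero, lin_apply, h2], π.injective ?_⟩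
        have : (π v).1 = 0 := by
          rw [← mem_bot F, ← hyk, LinearMap.mem_ker, LinearMap.sub_apply, Module.End.one_apply, sub_eq_zero, lin_apply, h1]
        rw [LinearMap.comp_apply, LinearEquiv.coe_coe, LinearEquiv.apply_symm_apply]
        exact Prod.ext this.symm rfl
      · rintro ⟨w, hw, rfl⟩
        rw [LinearMap.mem_ker, LinearMap.sub_apply, Module.End.one_apply, sub_eq_zero, lin_apply] at hw
        rw [LinearMap.comp_apply, LinearEquiv.coe_coe, LinearEquiv.apply_symm_apply]
        exact ⟨smul_zero y, hw⟩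
    have hinj : Function.Injective (π.symm.toLinearMap ∘ₗ LinearMap.inr F (Vec e F) (Vec b F)) := by
      rw [LinearMap.coe_comp]
      exact π.symm.injective.comp (LinearMap.inr_injective (R := F) (M := Vec e F) (M₂ := Vec b F))
    rw [hker, ← LinearEquiv.finrank_eq (Submodule.equivMapOfInjective _ hinj _), hxk]
    have := Nat.add_one_mul s c
    omega

section Count

variable {a t : ℕ}

/-- Orthogonal decompositions into nondegenerate summands of dimension `a`. -/
def IsOrth (a : ℕ) (D : Fin t → Submodule F (Fin d ⊕ Fin d → F)) : Prop :=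
  Cfsg.Geo.IsMDecomposition a D ∧ (∀ j, ∀ u ∈ D j, u ≠ 0 → ∃ v ∈ D j, Cfsg.sympForm d F u v ≠ 0) ∧
    (∀ j j', j ≠ j' → ∀ u ∈ D j, ∀ v ∈ D j', Cfsg.sympForm d F u v = 0)

theorem nd_of_isOrth {D : Fin t → Submodule F (Fin d ⊕ Fin d → F)} (hD : IsOrth a D) (j : Fin t) :
    Nd (Forms.sympBilin d F) (D j) := fun u hu h => by
  by_contra h0
  obtain ⟨v, hv, hv0⟩ := hD.2.1 j u hu h0
  exact hv0 (by rw [← Forms.sympBilin_apply]; exact h v hv)

omit [Fintype F] in
theorem isOrth_smul (g : Sp d F) {D : Fin t → Submodule F (Fin d ⊕ Fin d → F)} (hD : IsOrth a D) :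
    IsOrth a (fun j => (D j).map (DistribSMul.toLinearMap F (Vec d F) g)) := by
  have hinj : Function.Injective (DistribSMul.toLinearMap F (Vec d F) g) := MulAction.injective g
  have hsurj : Function.Surjective (DistribSMul.toLinearMap F (Vec d F) g) := MulAction.surjective g
  refine ⟨⟨hD.1.two_le, hD.1.pos, fun j => ?_, ?_, ?_⟩, ?_, ?_⟩
  · rw [← LinearEquiv.finrank_eq (Submodule.equivMapOfInjective _ hinj (D j))]
    exact hD.1.finrank_eq j
  · intro j
    have := Submodule.disjoint_map hinj (hD.1.indep j)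
    simpa only [Submodule.map_iSup] using this
  · show iSup (fun j => (D j).map _) = ⊤
    rw [← Submodule.map_iSup, hD.1.iSup_eq_top, Submodule.map_top, LinearMap.range_eq_top.2 hsurj]
  · rintro j _ ⟨u, hu, rfl⟩ h0
    obtain ⟨v, hv, hv0⟩ := hD.2.1 j u hu (fun e => h0 (by rw [e, map_zero]))
    exact ⟨_, ⟨v, hv, rfl⟩, by simpa [DistribSMul.toLinearMap_apply] using hv0⟩
  · rintro j j' hne _ ⟨u, hu, rfl⟩ _ ⟨v, hv, rfl⟩
    simpa [DistribSMul.toLinearMap_apply] using hD.2.2 j j' hne u hu v hv

/-- A prime dividing the number of unordered orthogonal decompositions divides the group order. -/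
theorem dvd_card_Sp {r : ℕ} (hat : 2 * d = a * t) (hae : Even a)
    (h : r ∣ Nat.card {D : Fin t → Submodule F (Fin d ⊕ Fin d → F) // IsOrth a D} / Nat.factorial t)
    (hne : Nonempty {D : Fin t → Submodule F (Fin d ⊕ Fin d → F) // IsOrth a D}) :
    r ∣ Nat.card (Sp d F) := by
  classical
  let Ω := {D : Fin t → Submodule F (Fin d ⊕ Fin d → F) // IsOrth a D}
  letI actP : MulAction (Equiv.Perm (Fin t)) Ω :=
    { smul := fun g D => ⟨D.1 ∘ g.symm, ⟨D.2.1.two_le, D.2.1.pos, fun i => D.2.1.finrank_eq _,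
          D.2.1.indep.comp g.symm.injective, (g.symm.surjective.iSup_comp D.1).trans D.2.1.iSup_eq_top⟩,
        fun j => D.2.2.1 _, fun j j' hne => D.2.2.2 _ _ (g.symm.injective.ne hne)⟩
      one_smul := fun D => Subtype.ext rfl
      mul_smul := fun g h D => Subtype.ext rfl }
  have hfree : ∀ D : Ω, MulAction.stabilizer (Equiv.Perm (Fin t)) D = ⊥ := by
    intro D
    rw [Subgroup.eq_bot_iff_forall]
    intro g hg
    have hg' : D.1 ∘ g.symm = D.1 := congrArg Subtype.val hg
    ext i
    by_contra hne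
    have h1 : D.1 i = D.1 (g i) := by
      have := congrFun hg' (g i)
      rwa [Function.comp_apply, Equiv.symm_apply_apply] at this
    have h2 : Disjoint (D.1 i) (D.1 (g i)) :=
      D.2.1.indep.pairwiseDisjoint (fun e => hne (by rw [Equiv.Perm.one_apply, ← e]))
    rw [← h1, disjoint_self] at h2
    have h3 := D.2.1.finrank_eq i
    rw [h2, finrank_bot] at h3
    have := D.2.1.pos
    omega
  have hfac : Nat.factorial t ∣ Nat.card Ω := by
    rw [Nat.card_congr (MulAction.selfEquivOrbitsQuotientProd hfree), Nat.card_prod, Nat.card_perm, Nat.card_fin]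
    exact dvd_mul_left _ _
  have hdvd : r ∣ Nat.card Ω := by
    rw [← Nat.div_mul_cancel hfac]
    exact h.mul_right _
  letI actS : MulAction (Sp d F) Ω :=
    { smul := fun g D => ⟨_, isOrth_smul g D.2⟩
      one_smul := fun D => Subtype.ext (funext fun j => by
        show (D.1 j).map _ = D.1 j
        rw [show DistribSMul.toLinearMap F (Vec d F) (1 : Sp d F) = LinearMap.id from
          LinearMap.ext fun v => one_smul _ v, Submodule.map_id])
      mul_smul := fun g h D => Subtype.ext (funext fun j => by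
        show (D.1 j).map _ = ((D.1 j).map _).map _
        rw [← Submodule.map_comp]
        congr 1
        exact LinearMap.ext fun v => mul_smul g h v) }
  obtain ⟨h₀, rfl⟩ := hae
  have hfam : ∀ D : Ω, ∃ e f : Fin t × Fin h₀ → Vec d F,
      (∀ i i', Cfsg.sympForm d F (e i) (f i') = if i = i' then 1 else 0) ∧
      (∀ i i', Cfsg.sympForm d F (e i) (e i') = 0) ∧ (∀ i i', Cfsg.sympForm d F (f i) (f i') = 0) ∧
      LinearIndependent F (Sum.elim e f) ∧
      ∀ j, D.1 j = span F (Set.range fun s : Fin h₀ ⊕ Fin h₀ => Sum.elim (fun l => e (j, l)) (fun l => f (j, l)) s) := by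
    intro D
    have hone : ∀ j, ∃ e f : Fin h₀ → Vec d F, (∀ i, e i ∈ D.1 j) ∧ (∀ i, f i ∈ D.1 j) ∧
        (∀ i k, Forms.sympBilin d F (e i) (f k) = if i = k then 1 else 0) ∧
        (∀ i k, Forms.sympBilin d F (e i) (e k) = 0) ∧ (∀ i k, Forms.sympBilin d F (f i) (f k) = 0) ∧
        D.1 j ≤ span F (Set.range (Sum.elim e f)) := by
      intro j
      obtain ⟨m, e, f, he, hf, hef, hee, hff, hspan⟩ := Forms.exists_symplectic_family (Forms.sympBilin d F)
        Forms.sympBilin_isAlt (D.1 j) (nd_of_isOrth D.2 j)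
      have hm := Forms.finrank_eq_of_symplectic_family (Forms.sympBilin d F) Forms.sympBilin_isAlt _ e f he hf hef hee hff hspan
      rw [D.2.1.finrank_eq] at hm
      obtain rfl : m = h₀ := by omega
      exact ⟨e, f, he, hf, hef, hee, hff, hspan⟩
    choose e f he hf hef hee hff hspan using hone
    have horth : ∀ j j', j ≠ j' → ∀ u ∈ D.1 j, ∀ v ∈ D.1 j', Cfsg.sympForm d F u v = 0 := D.2.2.2
    refine ⟨fun i => e i.1 i.2, fun i => f i.1 i.2, ?_, ?_, ?_, ?_, ?_⟩
    · rintro ⟨j, l⟩ ⟨j', l'⟩
      rcases eq_or_ne j j' with rfl | hne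
      · simp [← Forms.sympBilin_apply, hef]
      · simp [horth j j' hne _ (he j l) _ (hf j' l'), hne]
    · rintro ⟨j, l⟩ ⟨j', l'⟩
      rcases eq_or_ne j j' with rfl | hne
      · simp [← Forms.sympBilin_apply, hee]
      · exact horth j j' hne _ (he j l) _ (he j' l')
    · rintro ⟨j, l⟩ ⟨j', l'⟩
      rcases eq_or_ne j j' with rfl | hne
      · simp [← Forms.sympBilin_apply, hff]
      · exact horth j j' hne _ (hf j l) _ (hf j' l')
    · refine linearIndependent_of_top_le_span_of_card_eq_finrank ?_ ?_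
      · rw [← D.2.1.iSup_eq_top]
        refine iSup_le fun j => (hspan j).trans (span_mono ?_)
        rintro _ ⟨l | l, rfl⟩
        · exact ⟨Sum.inl (j, l), rfl⟩
        · exact ⟨Sum.inr (j, l), rfl⟩
      · simp only [Fintype.card_sum, Fintype.card_prod, Fintype.card_fin, finrank_pi]
        rw [← two_mul d, hat]
        ring
    · intro j
      refine le_antisymm ((hspan j).trans (le_of_eq rfl)) (span_le.2 ?_)
      rintro _ ⟨l | l, rfl⟩
      · exact he j l
      · exact hf j l
  obtain ⟨D₀⟩ := hne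
  have horb : MulAction.orbit (Sp d F) D₀ = Set.univ := by
    refine Set.eq_univ_of_forall fun D => ?_
    obtain ⟨e, f, hef, hee, hff, hli, hsp⟩ := hfam D₀
    obtain ⟨e', f', hef', hee', hff', hli', hsp'⟩ := hfam D
    obtain ⟨g, hg⟩ := Forms.exists_smul_tuple (Sum.elim e f) (Sum.elim e' f') hli hli' (by
      rintro (i | i) (j | j) <;>
        simp only [Sum.elim_inl, Sum.elim_inr, hee, hee', hff, hff', hef, hef'] <;>
        rw [sympForm_swap (f' i), sympForm_swap (f i), hef, hef'])
    refine ⟨g, Subtype.ext (funext fun j => ?_)⟩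
    show (D₀.1 j).map (DistribSMul.toLinearMap F (Vec d F) g) = D.1 j
    rw [hsp, hsp', Submodule.map_span, ← Set.range_comp]
    congr 2
    funext s
    rcases s with l | l
    · exact hg (Sum.inl (j, l))
    · exact hg (Sum.inr (j, l))
  have hcard : Nat.card Ω * Nat.card (MulAction.stabilizer (Sp d F) D₀) = Nat.card (Sp d F) := by
    rw [← Nat.card_univ (α := Ω), ← horb, ← Nat.card_prod]
    exact Nat.card_congr (MulAction.orbitProdStabilizerEquivGroup (Sp d F) D₀)
  exact hdvd.trans ⟨_, hcard.symm⟩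

theorem exists_isOrth (ha : 2 ≤ a) (hae : Even a) (ht : 2 ≤ t) (hat : 2 * d = a * t) :
    Nonempty {D : Fin t → Submodule F (Fin d ⊕ Fin d → F) // IsOrth a D} := by
  have key : ∀ (k : ℕ) (X : Submodule F (Vec d F)), Nd (Forms.sympBilin d F) X → finrank F X = k * a →
      ∃ D : Fin k → Submodule F (Vec d F), (∀ j, D j ≤ X ∧ Nd (Forms.sympBilin d F) (D j) ∧ finrank F (D j) = a) ∧
        (∀ j j', j ≠ j' → ∀ u ∈ D j, ∀ v ∈ D j', Forms.sympBilin d F u v = 0) ∧ iSup D = X := by
    intro k
    induction k with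
    | zero =>
      intro X _ hd
      refine ⟨Fin.elim0, fun j => j.elim0, fun j => j.elim0, ?_⟩
      rw [Submodule.finrank_eq_zero.1 (by rw [hd, zero_mul] : finrank F X = 0)]
      simp
    | succ k ih =>
      intro X hXn hd
      rw [Nat.succ_mul] at hd
      obtain ⟨U, hU1, hU3, hU4⟩ := exists_nd_sub Forms.sympBilin_isAlt hXn hae (by omega)
      obtain ⟨hdis, hsup, hn', hfr⟩ := split Forms.sympBilin_isAlt hU1 hU3 hXn
      obtain ⟨D, hD, hDo, hDs⟩ := ih _ hn' (by omega)
      refine ⟨Fin.cons U D, Fin.cases ⟨hU1, hU3, hU4⟩ fun j => ⟨(hD j).1.trans inf_le_left, (hD j).2⟩, ?_, ?_⟩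
      · intro j j' hne
        induction j using Fin.cases with
        | zero =>
          induction j' using Fin.cases with
          | zero => exact absurd rfl hne
          | succ j' => exact fun u hu v hv => mem_perp.1 ((hD j').1 hv).2 u hu
        | succ j =>
          induction j' using Fin.cases with
          | zero => exact fun u hu v hv => swap_zero Forms.sympBilin_isAlt (mem_perp.1 ((hD j).1 hu).2 v hv)
          | succ j' => exact hDo j j' fun e => hne (by rw [e])
      · refine le_antisymm (iSup_le fun j => ?_) ?_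
        · induction j using Fin.cases with
          | zero => exact hU1
          | succ j => exact (hD j).1.trans inf_le_left
        · rw [← hsup, ← hDs]
          refine sup_le (le_iSup_of_le 0 (by rw [Fin.cons_zero])) (iSup_le fun j => ?_)
          exact le_iSup_of_le j.succ (by rw [Fin.cons_succ])
  obtain ⟨D, hD, hDo, hDs⟩ := key t ⊤ nd_top (by
    rw [finrank_top, finrank_pi, Fintype.card_sum, Fintype.card_fin, ← two_mul, hat, mul_comm])
  exact ⟨⟨D, ⟨ht, by omega, fun j => (hD j).2.2,
    indep_of_orth Forms.sympBilin_isAlt D (fun j => (hD j).2.1) hDo, hDs⟩,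
    fun j u hu h0 => by
      by_contra hcon
      push Not at hcon
      exact h0 ((hD j).2.1 u hu fun v hv => by rw [Forms.sympBilin_apply]; exact hcon v hv),
    fun j j' hne u hu v hv => by rw [← Forms.sympBilin_apply]; exact hDo j j' hne u hu v hv⟩⟩

end Count

end Cfsg.Agent.ClMax99.SympInv
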