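import Cfsg.Agent.ClMax99.SpGLCard
import Cfsg.Agent.ClMax99.SympConj
import Cfsg.Agent.ClMax99.SympOddElt
import Cfsg.Agent.ClMax99.InvElt
import Cfsg.Agent.Lib.Unitary.Count

/-!
Skew square roots of a non-square for an alternating form: normal bases, conjugacy and the unitary subgroup.
-/

set_option autoImplicit false
set_option linter.unusedSectionVars false

namespace Cfsg.Agent.ClMax99.SkewField

open Module Submodule

variable {F V : Type*} [Field F] [AddCommGroup V] [Module F V] [FiniteDimensional F V]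

/-- A skew square root of a non-square. -/
structure Skew (B : LinearMap.BilinForm F V) (j : Module.End F V) (δ : F) : Prop where
  alt : B.IsAlt
  sq : ∀ v, j (j v) = δ • v
  skew : ∀ u v, B (j u) v = -B u (j v)
  nsq : ∀ t : F, t * t ≠ δ
  two : (2 : F) ≠ 0

variable {B : LinearMap.BilinForm F V} {j : Module.End F V} {δ : F}

theorem Skew.ne_zero (h : Skew B j δ) : δ ≠ 0 := fun e => h.nsq 0 (by rw [e, mul_zero])

theorem Skew.symm (h : Skew B j δ) (u v : V) : B u (j v) = B v (j u) := by
  rw [← LinearMap.IsAlt.neg h.alt (j v) u, h.skew, neg_neg]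

theorem Skew.no_eigen (h : Skew B j δ) {v : V} {t : F} (hv : j v = t • v) : v = 0 := by
  have := h.sq v
  rw [hv, map_smul, hv, smul_smul] at this
  by_contra hne
  exact h.nsq t (smul_left_injective F hne this)

theorem Skew.injective (h : Skew B j δ) : Function.Injective j := fun u v e => by
  have := congrArg j e
  rw [h.sq, h.sq] at this
  exact smul_right_injective V h.ne_zero this

/-- A vector with value one. -/
theorem exists_value [Fintype F] (h : Skew B j δ) {S : Submodule F V} (hinv : ∀ v ∈ S, j v ∈ S)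
    (hnd : ∀ u ∈ S, (∀ v ∈ S, B u v = 0) → u = 0) (hS : S ≠ ⊥) : ∃ e ∈ S, B e (j e) = 1 := by
  obtain ⟨a, ha, haa⟩ : ∃ a ∈ S, B a (j a) ≠ 0 := by
    by_contra hc
    push Not at hc
    obtain ⟨a, ha, ha0⟩ := S.exists_mem_ne_zero_of_ne_bot hS
    refine ha0 (hnd a ha fun v hv => ?_)
    have hw : B a (j (δ⁻¹ • j v)) = 0 := by
      have hw' := S.smul_mem δ⁻¹ (hinv v hv)
      have e := hc _ (S.add_mem ha hw')
      have ea := hc a ha
      have ew := hc _ hw'
      simp only [map_add, LinearMap.add_apply] at e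
      rw [ea, ew, h.symm (δ⁻¹ • j v) a] at e
      have : (2 : F) * B a (j (δ⁻¹ • j v)) = 0 := by linear_combination e
      exact (mul_eq_zero.1 this).resolve_left h.two
    rwa [map_smul j, h.sq, smul_smul, inv_mul_cancel₀ h.ne_zero, one_smul] at hw
  obtain ⟨x, y, hxy⟩ := SympConj.exists_form_value (z := δ) (d := (B a (j a))⁻¹) (fun _ => h.ne_zero)
  refine ⟨x • a + y • j a, S.add_mem (S.smul_mem _ ha) (S.smul_mem _ (hinv a ha)), ?_⟩
  have hja : B (j a) (j a) = 0 := h.alt _
  have haa' : B a a = 0 := h.alt _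
  simp only [map_add, map_smul, h.sq, LinearMap.add_apply, LinearMap.smul_apply, smul_eq_mul]
  rw [hja, haa', show B (j a) a = -B a (j a) by rw [← LinearMap.IsAlt.neg h.alt]]
  have hmul := mul_inv_cancel₀ haa
  linear_combination (B a (j a)) * hxy + hmul

/-- A normal family. -/
def Normal (B : LinearMap.BilinForm F V) (j : Module.End F V) {k : ℕ} (e : Fin k → V) : Prop :=
  ∀ a b, B (e a) (e b) = 0 ∧ B (e a) (j (e b)) = if a = b then 1 else 0

/-- A normal family spanning an invariant non-degenerate subspace. -/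
theorem exists_normal [Fintype F] (h : Skew B j δ) :
    ∀ (N : ℕ) (S : Submodule F V), finrank F S ≤ N → (∀ v ∈ S, j v ∈ S) →
      (∀ u ∈ S, (∀ v ∈ S, B u v = 0) → u = 0) →
      ∃ (k : ℕ) (e : Fin k → V), Normal B j e ∧ (∀ a, e a ∈ S) ∧
        S ≤ span F (Set.range (Sum.elim e fun a => j (e a))) := by
  intro N
  induction N with
  | zero =>
    intro S hN _ _
    refine ⟨0, Fin.elim0, fun a => a.elim0, fun a => a.elim0, ?_⟩
    rw [Submodule.finrank_eq_zero.1 (Nat.le_zero.1 hN)]
    exact bot_le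
  | succ N ih =>
    intro S hN hinv hnd
    by_cases hS : S = ⊥
    · exact ⟨0, Fin.elim0, fun a => a.elim0, fun a => a.elim0, by rw [hS]; exact bot_le⟩
    obtain ⟨e, he, hee⟩ := exists_value h hinv hnd hS
    let S' : Submodule F V := S ⊓ LinearMap.ker (B e) ⊓ LinearMap.ker (B (j e))
    have hmem : ∀ w, w ∈ S' ↔ (w ∈ S ∧ B e w = 0) ∧ B (j e) w = 0 := fun w => Iff.rfl
    have hje : B (j e) e = -1 := by rw [← LinearMap.IsAlt.neg h.alt, hee]
    have hdec : ∀ w ∈ S, w - B w (j e) • e + B w e • j e ∈ S' := fun w hw => by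
      refine (hmem _).2 ⟨⟨S.add_mem (S.sub_mem hw (S.smul_mem _ he)) (S.smul_mem _ (hinv e he)), ?_⟩, ?_⟩
      · simp only [map_add, map_sub, map_smul, smul_eq_mul, hee, show B e e = 0 from h.alt e]
        rw [← LinearMap.IsAlt.neg h.alt e w]; ring
      · simp only [map_add, map_sub, map_smul, smul_eq_mul, hje, show B (j e) (j e) = 0 from h.alt _]
        rw [← LinearMap.IsAlt.neg h.alt (j e) w]; ring
    have hinv' : ∀ v ∈ S', j v ∈ S' := fun v hv => by
      obtain ⟨⟨hvS, h1⟩, h3⟩ := (hmem v).1 hv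
      refine (hmem _).2 ⟨⟨hinv v hvS, ?_⟩, ?_⟩
      · rw [← neg_neg (B e (j v)), ← h.skew, h3, neg_zero]
      · rw [h.skew, h.sq, map_smul, h1, smul_zero, neg_zero]
    have hnd' : ∀ u ∈ S', (∀ v ∈ S', B u v = 0) → u = 0 := fun u hu hu0 => by
      obtain ⟨⟨huS, h1⟩, h3⟩ := (hmem u).1 hu
      refine hnd u huS fun v hv => ?_
      have hue : B u e = 0 := by rw [← LinearMap.IsAlt.neg h.alt, h1, neg_zero]
      have huje : B u (j e) = 0 := by rw [← LinearMap.IsAlt.neg h.alt, h3, neg_zero]
      have := hu0 _ (hdec v hv)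
      simpa [hue, huje] using this
    have hlt : S' < S := lt_of_le_of_ne (inf_le_left.trans inf_le_left) fun e' => by
      have := ((hmem (j e)).1 (e' ▸ hinv e he)).1.2
      rw [hee] at this
      exact one_ne_zero this
    obtain ⟨k, f, hf, hfS, hspan⟩ := ih S' (by have := Submodule.finrank_lt_finrank_of_lt hlt; omega) hinv' hnd'
    refine ⟨k + 1, Fin.cons e f, ?_, ?_, ?_⟩
    · intro a b
      refine Fin.cases ?_ (fun a => ?_) a <;> refine Fin.cases ?_ (fun b => ?_) b
      · simp [hee, show B e e = 0 from h.alt e]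
      · obtain ⟨⟨-, h1⟩, h3⟩ := (hmem _).1 (hfS b)
        obtain ⟨⟨-, h1'⟩, -⟩ := (hmem _).1 (hinv' _ (hfS b))
        simp [h1, h1', Ne.symm (Fin.succ_ne_zero b)]
      · obtain ⟨⟨-, h1⟩, h3⟩ := (hmem _).1 (hfS a)
        have hue : B (f a) e = 0 := by rw [← LinearMap.IsAlt.neg h.alt, h1, neg_zero]
        have huje : B (f a) (j e) = 0 := by rw [← LinearMap.IsAlt.neg h.alt, h3, neg_zero]
        simp [hue, huje]
      · simpa [Fin.succ_inj] using hf a b
    · intro a
      refine Fin.cases ?_ (fun a => ?_) a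
      · simpa using he
      · simpa using ((hmem _).1 (hfS a)).1.1
    · intro w hw
      set X := span F (Set.range (Sum.elim (Fin.cons e f : Fin (k + 1) → V) fun a => j ((Fin.cons e f : Fin (k + 1) → V) a)))
      have h1 : e ∈ X := subset_span ⟨Sum.inl 0, by simp⟩
      have h2 : j e ∈ X := subset_span ⟨Sum.inr 0, by simp⟩
      have h3 : w - B w (j e) • e + B w e • j e ∈ X := by
        refine (hspan.trans (span_mono ?_)) (hdec w hw)
        rintro _ ⟨a | a, rfl⟩
        · exact ⟨Sum.inl a.succ, by simp⟩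
        · exact ⟨Sum.inr a.succ, by simp⟩
      have := X.sub_mem (X.add_mem h3 (X.smul_mem (B w (j e)) h1)) (X.smul_mem (B w e) h2)
      convert this using 1
      module

/-- A normal basis of the whole space. -/
theorem exists_basis [Fintype F] (h : Skew B j δ) (hB : B.Nondegenerate) {d : ℕ}
    (hd : finrank F V = 2 * d) :
    ∃ (e : Fin d → V) (b : Module.Basis (Fin d ⊕ Fin d) F V), Normal B j e ∧
      ⇑b = Sum.elim e fun a => j (e a) := by
  obtain ⟨k, e, he, -, hspan⟩ := exists_normal h (finrank F V) ⊤ (by rw [finrank_top])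
    (fun _ _ => Submodule.mem_top) (fun u _ hu => hB.1 u fun v => hu v Submodule.mem_top)
  have hju : ∀ a b, B (j (e a)) (e b) = -if a = b then (1 : F) else 0 := fun a b => by
    rw [h.skew, (he a b).2]
  have hjj : ∀ a b, B (j (e a)) (j (e b)) = 0 := fun a b => by
    rw [h.skew, h.sq, map_smul, (he a b).1, smul_zero, neg_zero]
  have hli : LinearIndependent F (Sum.elim e fun a => j (e a)) := by
    rw [Fintype.linearIndependent_iff]
    intro g hg
    simp only [Fintype.sum_sum_type, Sum.elim_inl, Sum.elim_inr] at hg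
    rintro (i | i)
    · simpa [map_sum, hju, hjj] using congrArg (B (j (e i))) hg
    · simpa [map_sum, (he i _).1, (he i _).2] using congrArg (B (e i)) hg
  let b := Module.Basis.mk hli hspan
  have := finrank_eq_card_basis b
  rw [hd, Fintype.card_sum, Fintype.card_fin] at this
  obtain rfl : k = d := by omega
  exact ⟨e, b, he, Module.Basis.coe_mk hli hspan⟩

/-- The form on a normal basis is that of the standard one. -/
theorem form_eq (h : Skew B j δ) {d : ℕ} {e : Fin d → V} (he : Normal B j e) (s t : Fin d ⊕ Fin d) :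
    B (Sum.elim e (fun a => j (e a)) s) (Sum.elim e (fun a => j (e a)) t) =
      match s, t with
      | Sum.inl a, Sum.inr b => if a = b then 1 else 0
      | Sum.inr a, Sum.inl b => -if a = b then 1 else 0
      | _, _ => 0 := by
  rcases s with a | a <;> rcases t with b | b <;> simp only [Sum.elim_inl, Sum.elim_inr]
  · exact (he a b).1
  · exact (he a b).2
  · rw [h.skew, (he a b).2]
  · rw [h.skew, h.sq, map_smul, (he a b).1, smul_zero, neg_zero]

/-- Skew roots of the same non-square are conjugate under the isometries. -/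
theorem exists_intertwine [Fintype F] (hB : B.Nondegenerate) {d : ℕ} (hd : finrank F V = 2 * d)
    {j' : Module.End F V} (h : Skew B j δ) (h' : Skew B j' δ) :
    ∃ g : V ≃ₗ[F] V, (∀ u v, B (g u) (g v) = B u v) ∧ ∀ v, g (j v) = j' (g v) := by
  obtain ⟨e, b, he, hb⟩ := exists_basis h hB hd
  obtain ⟨e', b', he', hb'⟩ := exists_basis h' hB hd
  let g := b.equiv b' (Equiv.refl _)
  have hg : ∀ s, g (b s) = b' s := fun s => by simp [g]
  refine ⟨g, ?_, ?_⟩
  · have : B.compl₁₂ g.toLinearMap g.toLinearMap = B := by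
      refine LinearMap.ext_basis b b fun s t => ?_
      rw [LinearMap.compl₁₂_apply, LinearEquiv.coe_coe, hg, hg, hb, hb', form_eq h he, form_eq h' he']
    exact fun u v => LinearMap.congr_fun₂ this u v
  · have : g.toLinearMap ∘ₗ j = j' ∘ₗ g.toLinearMap := by
      refine b.ext fun s => ?_
      simp only [LinearMap.comp_apply, LinearEquiv.coe_coe, hg]
      rcases s with a | a
      · rw [show j (b (Sum.inl a)) = b (Sum.inr a) by simp [hb], hg]; simp [hb']
      · rw [show j (b (Sum.inr a)) = δ • b (Sum.inl a) by simp [hb, h.sq], map_smul, hg]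
        simp [hb', h'.sq]
    exact fun v => LinearMap.congr_fun this v

section Unitary

variable [Fintype F] {d : ℕ}

/-- The unitary group embeds into the isometries commuting with `j`. -/
theorem exists_unitary_hom {j : Module.End F (Symplectic.Vec d F)}
    (h : Skew (Forms.sympBilin d F) j δ) {q : ℕ} (hq : Fintype.card F = q) :
    ∃ N : ℕ, N = q ^ (d * (d - 1) / 2) *
        ∏ i ∈ Finset.range d, (if Even i then q ^ (i + 1) + 1 else q ^ (i + 1) - 1) ∧
      ∀ H : Subgroup (GL (Fin d ⊕ Fin d) F),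
        (∀ g : GL (Fin d ⊕ Fin d) F, g ∈ Cfsg.spGL d F →
          (∀ v, Matrix.toLin' (g : Matrix (Fin d ⊕ Fin d) (Fin d ⊕ Fin d) F) (j v) =
            j (Matrix.toLin' (g : Matrix (Fin d ⊕ Fin d) (Fin d ⊕ Fin d) F) v)) → g ∈ H) →
        N ∣ Nat.card H := by
  classical
  let P : Polynomial F := Polynomial.X ^ 2 - Polynomial.C δ
  haveI : Fact (Irreducible P) := ⟨X_pow_sub_C_irreducible_of_prime Nat.prime_two fun t ht =>
    h.nsq t (by rw [← pow_two]; exact ht)⟩
  let E := AdjoinRoot P
  have hP0 : P ≠ 0 := Polynomial.X_pow_sub_C_ne_zero two_pos δ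
  let pb := AdjoinRoot.powerBasis (f := P) hP0
  have hdim : pb.dim = 2 := by
    show P.natDegree = 2
    exact Polynomial.natDegree_X_pow_sub_C
  let bE : Module.Basis (Fin 2) F E := pb.basis.reindex (finCongr hdim)
  haveI : Module.Finite F E := pb.finite
  haveI : Finite E := Module.finite_of_finite F
  letI : Fintype E := Fintype.ofFinite E
  set s : E := AdjoinRoot.root P with hs
  have hbE0 : bE 0 = 1 := by simp [bE, pb, PowerBasis.basis_eq_pow]
  have hbE1 : bE 1 = s := by simp [bE, pb, PowerBasis.basis_eq_pow, hs]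
  have hss : s * s = algebraMap F E δ := by
    have h0 := AdjoinRoot.mk_self (f := P)
    rw [map_sub, map_pow, AdjoinRoot.mk_X, AdjoinRoot.mk_C, sub_eq_zero, ← AdjoinRoot.algebraMap_eq, pow_two] at h0
    exact h0
  have hcE : Fintype.card E = q ^ 2 := by
    rw [Module.card_eq_pow_finrank (K := F) (V := E), pb.finrank, hdim, hq]
  have hFq : ∀ t : F, (algebraMap F E t) ^ q = algebraMap F E t := fun t => by
    rw [← map_pow, ← hq, FiniteField.pow_card]
  have hoddq : Odd q := by
    rw [← hq]
    exact Nat.odd_iff.2 (FiniteField.odd_card_of_char_ne_two fun e => h.two (by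
      have := CharP.cast_eq_zero F (ringChar F); rw [e] at this; exact_mod_cast this))
  have hsq : s ^ q = -s := by
    obtain ⟨l, hl⟩ := hoddq
    have hδl : δ ^ l = -1 := by
      have h2 : δ ^ l = 1 ∨ δ ^ l = -1 := by
        have := FiniteField.pow_card_sub_one_eq_one δ h.ne_zero
        rw [hq, hl, Nat.add_sub_cancel, pow_mul'] at this
        exact sq_eq_one_iff.1 this
      refine h2.resolve_left fun h1 => ?_
      have hc2 : ringChar F ≠ 2 := fun e => h.two (by
        have := CharP.cast_eq_zero F (ringChar F); rw [e] at this; exact_mod_cast this)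
      have := (FiniteField.isSquare_iff hc2 h.ne_zero).2 (by
        rw [show Fintype.card F / 2 = l by rw [hq]; omega, h1])
      obtain ⟨t, ht⟩ := this
      exact h.nsq t ht.symm
    rw [hl, pow_succ, pow_mul, pow_two, hss, ← map_pow, hδl, map_neg, map_one, neg_one_mul]
  obtain ⟨e, b, he, hb⟩ := exists_basis h Forms.sympBilin_nondegenerate
    (d := d) (by rw [Module.finrank_fintype_fun_eq_card, Fintype.card_sum, Fintype.card_fin]; ring)
  -- coordinates
  let C : (Fin d → E) ≃ₗ[F] (Fin d ⊕ Fin d → F) :=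
    { toFun := fun z => Sum.elim (fun k => bE.repr (z k) 0) fun k => bE.repr (z k) 1
      invFun := fun c k => c (Sum.inl k) • bE 0 + c (Sum.inr k) • bE 1
      map_add' := fun z w => by funext k; rcases k with k | k <;> simp
      map_smul' := fun t z => by funext k; rcases k with k | k <;> simp
      left_inv := fun z => by
        funext k
        conv_rhs => rw [← bE.sum_repr (z k), Fin.sum_univ_two]
        rfl
      right_inv := fun c => by funext k; rcases k with k | k <;> simp }
  let Φ : (Fin d → E) ≃ₗ[F] Symplectic.Vec d F := C.trans b.equivFun.symm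
  have hΦ : ∀ z, Φ z = ∑ k, bE.repr (z k) 0 • e k + ∑ k, bE.repr (z k) 1 • j (e k) := fun z => by
    simp [Φ, C, Module.Basis.equivFun_symm_apply, Fintype.sum_sum_type, hb]
  have hz : ∀ z : Fin d → E, ∀ k, z k = algebraMap F E (bE.repr (z k) 0) + algebraMap F E (bE.repr (z k) 1) * s := by
    intro z k
    conv_lhs => rw [← bE.sum_repr (z k), Fin.sum_univ_two, hbE0, hbE1, Algebra.smul_def, Algebra.smul_def, mul_one]
  have hrep : ∀ x y : F, bE.repr (algebraMap F E x + algebraMap F E y * s) 0 = x ∧
      bE.repr (algebraMap F E x + algebraMap F E y * s) 1 = y := fun x y => by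
    rw [Algebra.algebraMap_eq_smul_one, ← hbE0, ← Algebra.smul_def, ← hbE1]
    simp
  have hΦs : ∀ z, Φ (fun k => s * z k) = j (Φ z) := fun z => by
    have hk : ∀ k, s * z k = algebraMap F E (δ * bE.repr (z k) 1) + algebraMap F E (bE.repr (z k) 0) * s := fun k => by
      conv_lhs => rw [hz z k]
      rw [mul_add, mul_left_comm s, hss, map_mul]
      ring
    rw [hΦ, hΦ, map_add, map_sum, map_sum, add_comm]
    congr 1
    · exact Finset.sum_congr rfl fun k _ => by rw [hk, (hrep _ _).2, map_smul]
    · exact Finset.sum_congr rfl fun k _ => by rw [hk, (hrep _ _).1, map_smul, h.sq, smul_smul, mul_comm]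
  -- the form
  have hf : ∀ z w, Forms.sympBilin d F (Φ z) (Φ w) = -bE.repr (Cfsg.hermForm d E q z w) 1 := fun z w => by
    have hk : ∀ k, z k * w k ^ q = algebraMap F E (bE.repr (z k) 0 * bE.repr (w k) 0 - δ * (bE.repr (z k) 1 * bE.repr (w k) 1)) +
        algebraMap F E (bE.repr (z k) 1 * bE.repr (w k) 0 - bE.repr (z k) 0 * bE.repr (w k) 1) * s := fun k => by
      obtain ⟨p', hp'⟩ := CharP.exists F
      haveI := hp'
      haveI : Fact p'.Prime := ⟨CharP.char_is_prime F p'⟩
      haveI : CharP E p' := charP_of_injective_algebraMap (algebraMap F E).injective p'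
      obtain ⟨n, -, hn⟩ := FiniteField.card F p'
      conv_lhs => rw [hz z k, hz w k, ← hq, hn, add_pow_char_pow, mul_pow, ← hn, hq, hsq, hFq, hFq]
      simp only [map_sub, map_mul]
      linear_combination (-(algebraMap F E (bE.repr (z k) 1) * algebraMap F E (bE.repr (w k) 1))) * hss
    have hR : bE.repr (Cfsg.hermForm d E q z w) 1 =
        ∑ x, (bE.repr (z x) 1 * bE.repr (w x) 0 - bE.repr (z x) 0 * bE.repr (w x) 1) := by
      rw [Cfsg.hermForm, map_sum, Finsupp.finsetSum_apply]
      exact Finset.sum_congr rfl fun x _ => by rw [hk, (hrep _ _).2]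
    rw [hR, hΦ, hΦ]
    simp only [map_sum, map_add, map_smul, LinearMap.sum_apply, LinearMap.add_apply,
      LinearMap.smul_apply, smul_eq_mul, ← Finset.sum_add_distrib]
    rw [← Finset.sum_neg_distrib]
    refine Finset.sum_congr rfl fun x _ => ?_
    have h1 : ∀ a c, Forms.sympBilin d F (e a) (e c) = 0 := fun a c => (he a c).1
    have h3 : ∀ a c, Forms.sympBilin d F (e a) (j (e c)) = if a = c then 1 else 0 := fun a c => (he a c).2
    have h4 : ∀ a c, Forms.sympBilin d F (j (e a)) (e c) = -if a = c then 1 else 0 := fun a c => by rw [h.skew, h3]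
    have h5 : ∀ a c, Forms.sympBilin d F (j (e a)) (j (e c)) = 0 := fun a c => by rw [h.skew, h.sq, map_smul, h1, smul_zero, neg_zero]
    simp only [h1, h3, h4, h5, mul_zero, add_zero, zero_add, Finset.sum_add_distrib, mul_neg, mul_ite, mul_one,
      Finset.sum_neg_distrib, Finset.sum_ite_eq', Finset.sum_ite_eq, Finset.mem_univ, if_true]
    ring
  -- the homomorphism
  let A : Matrix (Fin d) (Fin d) E →* Matrix (Fin d ⊕ Fin d) (Fin d ⊕ Fin d) F :=
    { toFun := fun M => LinearMap.toMatrix' (Φ.toLinearMap ∘ₗ (M.mulVecLin.restrictScalars F) ∘ₗ Φ.symm.toLinearMap)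
      map_one' := by
        refine (Matrix.toLin').injective ?_
        rw [Matrix.toLin'_toMatrix', Matrix.toLin'_one, Matrix.mulVecLin_one]
        ext1 v
        simp
      map_mul' := fun M N => by
        rw [← LinearMap.toMatrix'_comp]
        congr 1
        refine LinearMap.ext fun v => ?_
        simp [Matrix.mulVecLin_mul] }
  let f : ↥(Cfsg.GU d E q) →* GL (Fin d ⊕ Fin d) F := (Units.map A).comp (Cfsg.GU d E q).subtype
  have hfv : ∀ (g : ↥(Cfsg.GU d E q)) v, Matrix.toLin' (f g : Matrix (Fin d ⊕ Fin d) (Fin d ⊕ Fin d) F) v =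
      Φ ((g.1 : Matrix (Fin d) (Fin d) E).mulVec (Φ.symm v)) := fun g v => by
    show Matrix.toLin' (LinearMap.toMatrix' _) v = _
    rw [Matrix.toLin'_toMatrix']
    rfl
  have hinj : Function.Injective f := fun g g' hgg => by
    refine Subtype.ext (Units.ext (Matrix.ext_of_mulVec_single fun i => Φ.injective ?_))
    have h1 := hfv g (Φ (Pi.single i 1))
    have h2 := hfv g' (Φ (Pi.single i 1))
    rw [LinearEquiv.symm_apply_apply] at h1 h2
    rw [← h1, ← h2, hgg]
  refine ⟨_, rfl, fun H hH => ?_⟩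
  rw [← Unitary.card_GU (F := E) (q := q) hcE d]
  rw [Nat.card_congr (MonoidHom.ofInjective hinj).toEquiv]
  refine Subgroup.card_dvd_of_le ?_
  rintro _ ⟨g, rfl⟩
  refine hH _ (SpGL.mem_iff.2 fun u v => ?_) fun v => ?_
  · rw [← Matrix.toLin'_apply, ← Matrix.toLin'_apply, hfv, hfv, ← Forms.sympBilin_apply, hf,
      show Cfsg.hermForm d E q ((g.1 : Matrix (Fin d) (Fin d) E).mulVec (Φ.symm u))
        ((g.1 : Matrix (Fin d) (Fin d) E).mulVec (Φ.symm v)) = Cfsg.hermForm d E q (Φ.symm u) (Φ.symm v) from g.2 _ _,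
      ← hf, LinearEquiv.apply_symm_apply, LinearEquiv.apply_symm_apply, Forms.sympBilin_apply]
  · obtain ⟨z, rfl⟩ := Φ.surjective v
    rw [hfv, hfv, ← hΦs, LinearEquiv.symm_apply_apply, LinearEquiv.symm_apply_apply, ← hΦs]
    congr 1
    exact Matrix.mulVec_smul (g.1 : Matrix (Fin d) (Fin d) E) s z

end Unitary

end Cfsg.Agent.ClMax99.SkewField
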