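import Cfsg.Agent.Lib.Symplectic.Card
import Cfsg.Agent.Lib.Forms.Symp
import Cfsg.Prelude.Def_GeometricClasses

/-!
The symplectic group inside the general linear group.
-/

set_option autoImplicit false

namespace Cfsg.Agent.ClMax99.SpGL

open Matrix Cfsg.Agent.Symplectic

variable {F : Type*} [Field F] {d : ℕ}

theorem mem_iff {g : GL (Fin d ⊕ Fin d) F} : g ∈ Cfsg.spGL d F ↔
    ∀ u v, Cfsg.sympForm d F ((g : Matrix (Fin d ⊕ Fin d) (Fin d ⊕ Fin d) F) *ᵥ u)
      ((g : Matrix (Fin d ⊕ Fin d) (Fin d ⊕ Fin d) F) *ᵥ v) = Cfsg.sympForm d F u v := Iff.rfl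

theorem coe_mem {g : GL (Fin d ⊕ Fin d) F} (hg : g ∈ Cfsg.spGL d F) :
    (g : Matrix (Fin d ⊕ Fin d) (Fin d ⊕ Fin d) F) ∈ Matrix.symplecticGroup (Fin d) F := by
  rw [SymplecticGroup.mem_iff']
  refine (Matrix.toLinearMap₂' F (S₁ := F) (S₂ := F) (N₂ := F)).injective ?_
  refine LinearMap.ext fun u => LinearMap.ext fun v => ?_
  simp only [Matrix.toLinearMap₂'_apply']
  have h := mem_iff.1 hg u v
  simp only [Cfsg.sympForm] at h
  rw [← h, ← Matrix.mulVec_mulVec, ← Matrix.mulVec_mulVec, Matrix.dotProduct_mulVec u,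
    Matrix.vecMul_transpose]

/-- `spGL` and Mathlib's symplectic group have the same elements. -/
noncomputable def equivSp : ↥(Cfsg.spGL d F) ≃ Symplectic.Sp d F where
  toFun g := ⟨(g.1 : Matrix (Fin d ⊕ Fin d) (Fin d ⊕ Fin d) F), coe_mem g.2⟩
  invFun x := ⟨Matrix.GeneralLinearGroup.mkOfDetNeZero x.1
    (by rw [SymplecticGroup.det_eq_one x.2]; exact one_ne_zero),
    mem_iff.2 fun u v => sympForm_smul_smul x u v⟩
  left_inv g := Subtype.ext (Units.ext rfl)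
  right_inv x := rfl

theorem card_spGL [Fintype F] {q : ℕ} (hq : Fintype.card F = q) :
    Nat.card ↥(Cfsg.spGL d F) = q ^ (d ^ 2) * ∏ i ∈ Finset.range d, (q ^ (2 * (i + 1)) - 1) := by
  rw [Nat.card_congr equivSp, card_Sp hq]

/-- The index of a subgroup inside `spGL`. -/
theorem card_mul_relIndex (H : Subgroup (GL (Fin d ⊕ Fin d) F)) :
    Nat.card ↥(H ⊓ Cfsg.spGL d F) * H.relIndex (Cfsg.spGL d F) = Nat.card ↥(Cfsg.spGL d F) := by
  rw [← Subgroup.inf_relIndex_right,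
    ← Nat.card_congr (Subgroup.subgroupOfEquivOfLe (inf_le_right : H ⊓ Cfsg.spGL d F ≤ _)).toEquiv]
  exact Subgroup.card_mul_index _

end Cfsg.Agent.ClMax99.SpGL
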