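import Mathlib

/-! Subgroups of index `n` in the symmetric group of degree `n`. -/

set_option autoImplicit false

namespace Cfsg.Agent.ClMax99

open Equiv Equiv.Perm MulAction

variable {Ω : Type*} [Fintype Ω] [DecidableEq Ω]

theorem normalCore_le_cases (h5 : 5 ≤ Fintype.card Ω) {H : Subgroup (Perm Ω)} (hH : H ≠ ⊤)
    (hA : H ≠ alternatingGroup Ω) : H.normalCore = ⊥ := by
  by_contra h
  have hle : alternatingGroup Ω ≤ H := le_trans
    (Equiv.Perm.alternatingGroup_le_of_normal (by rwa [Nat.card_eq_fintype_card])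
      ((Subgroup.nontrivial_iff_ne_bot _).2 h)) H.normalCore_le
  have : Nontrivial Ω := Fintype.one_lt_card_iff_nontrivial.1 (by omega)
  have h2 := Subgroup.index_dvd_of_le hle
  rw [alternatingGroup.index_eq_two] at h2
  rcases (Nat.dvd_prime Nat.prime_two).1 h2 with h1 | h1
  · exact hH (Subgroup.index_eq_one.1 h1)
  · exact hA (Equiv.Perm.eq_alternatingGroup_of_index_eq_two h1)

/-- The action on the cosets of a subgroup other than `⊤` and the alternating group is faithful. -/
theorem toPermHom_quotient_injective (h5 : 5 ≤ Fintype.card Ω) {H : Subgroup (Perm Ω)} (hH : H ≠ ⊤)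
    (hA : H ≠ alternatingGroup Ω) :
    Function.Injective (MulAction.toPermHom (Perm Ω) (Perm Ω ⧸ H)) := by
  rw [← MonoidHom.ker_eq_bot_iff, ← Subgroup.normalCore_eq_ker]
  exact normalCore_le_cases h5 hH hA

theorem le_index (h4 : Fintype.card Ω ≠ 4) {H : Subgroup (Perm Ω)} (hH : H ≠ ⊤)
    (hA : H ≠ alternatingGroup Ω) : Fintype.card Ω ≤ H.index := by
  by_cases h5 : 5 ≤ Fintype.card Ω
  · have hinj := toPermHom_quotient_injective h5 hH hA
    have h := Nat.card_le_card_of_injective _ hinj
    rw [Nat.card_perm, Nat.card_perm, Nat.card_eq_fintype_card (α := Ω)] at h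
    rw [Subgroup.index]
    by_contra hlt
    push Not at hlt
    have hpos : 0 < Nat.card (Perm Ω ⧸ H) := Nat.card_pos
    have h' := (Nat.factorial_lt hpos).2 hlt
    omega
  · have hpos : 0 < H.index := Nat.pos_of_ne_zero Subgroup.index_ne_zero_of_finite
    have h1 : H.index ≠ 1 := fun h => hH (Subgroup.index_eq_one.1 h)
    have h2 : H.index ≠ 2 := fun h => hA (Equiv.Perm.eq_alternatingGroup_of_index_eq_two h)
    omega

section Coset

variable (H : Subgroup (Perm Ω)) (hH : H.index = Fintype.card Ω)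

theorem ne_top_and_ne_alt (h3 : 3 ≤ Fintype.card Ω) (hH : H.index = Fintype.card Ω) :
    H ≠ ⊤ ∧ H ≠ alternatingGroup Ω := by
  refine ⟨fun h => ?_, fun h => ?_⟩
  · rw [h, Subgroup.index_top] at hH; omega
  · have : Nontrivial Ω := Fintype.one_lt_card_iff_nontrivial.1 (by omega)
    rw [h, alternatingGroup.index_eq_two] at hH; omega

/-- A subgroup of index `n` in the symmetric group of degree `n ≥ 5` is a point stabiliser after an
automorphism. -/
theorem exists_mulAut_stabilizer (h5 : 5 ≤ Fintype.card Ω) (hH : H.index = Fintype.card Ω) :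
    ∃ (ψ : Perm Ω ≃* Perm Ω) (x : Ω), ∀ g, g ∈ H ↔ ψ g x = x := by
  obtain ⟨hT, hA⟩ := ne_top_and_ne_alt H (by omega) hH
  have e : Perm Ω ⧸ H ≃ Ω := Classical.choice <|
    Finite.card_eq.1 (by rw [← Subgroup.index, hH, Nat.card_eq_fintype_card])
  let φ : Perm Ω →* Perm Ω :=
    e.permCongrHom.toMonoidHom.comp (MulAction.toPermHom (Perm Ω) (Perm Ω ⧸ H))
  have hφ : Function.Injective φ :=
    e.permCongrHom.injective.comp (toPermHom_quotient_injective h5 hT hA)
  refine ⟨MulEquiv.ofBijective φ ⟨hφ, Finite.injective_iff_surjective.1 hφ⟩, e ((1 : Perm Ω) : Perm Ω ⧸ H),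
    fun g => ?_⟩
  show g ∈ H ↔ e.permCongr (MulAction.toPerm g) _ = _
  rw [Equiv.permCongr_apply, Equiv.symm_apply_apply, e.injective.eq_iff, MulAction.toPerm_apply,
    MulAction.Quotient.smul_coe, smul_eq_mul, mul_one, QuotientGroup.eq]
  simp

end Coset

theorem cycleType_of_sq {g : Perm Ω} (hg : g ^ 2 = 1) :
    g.cycleType = Multiset.replicate (Multiset.card g.cycleType) 2 := by
  refine Multiset.eq_replicate.2 ⟨rfl, fun b hb => ?_⟩
  have h2 : orderOf g ∣ 2 := orderOf_dvd_of_pow_eq_one hg
  have hd : b ∣ 2 := (Equiv.Perm.dvd_of_mem_cycleType hb).trans h2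
  have := Equiv.Perm.two_le_of_mem_cycleType hb
  have := Nat.le_of_dvd (by norm_num) hd
  omega

theorem centralizer_count {n k : ℕ} (hk : 2 ≤ k) (hkn : 2 * k ≤ n)
    (h : (n - 2 * k).factorial * 2 ^ k * k.factorial = 2 * (n - 2).factorial) :
    n = 6 ∧ k = 3 := by
  obtain ⟨m, rfl⟩ : ∃ m, n = m + 2 * k := ⟨n - 2 * k, by omega⟩
  simp only [Nat.add_sub_cancel] at h
  rw [show m + 2 * k - 2 = (2 * k - 2) + m by omega] at h
  have hmono : (2 * k - 2).factorial * m.factorial ≤ ((2 * k - 2) + m).factorial :=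
    Nat.le_of_dvd (Nat.factorial_pos _) (Nat.factorial_mul_factorial_dvd_factorial_add _ _)
  have hle : 2 * (2 * k - 2).factorial ≤ 2 ^ k * k.factorial := by
    refine le_of_mul_le_mul_right ?_ (Nat.factorial_pos m)
    calc 2 * (2 * k - 2).factorial * m.factorial
        ≤ 2 * ((2 * k - 2) + m).factorial := by rw [mul_assoc]; exact Nat.mul_le_mul_left 2 hmono
      _ = 2 ^ k * k.factorial * m.factorial := by rw [← h]; ring
  have key : ∀ j, 4 ≤ j → 2 ^ j * j.factorial < 2 * (2 * j - 2).factorial := by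
    intro j hj
    induction j, hj using Nat.le_induction with
    | base => decide
    | succ j hj ih =>
      rw [show 2 * (j + 1) - 2 = (2 * j - 2) + 1 + 1 by omega, pow_succ, Nat.factorial_succ,
        Nat.factorial_succ, Nat.factorial_succ]
      have hq : 2 * (j + 1) ≤ ((2 * j - 2) + 1 + 1) * ((2 * j - 2) + 1) := by
        rw [show 2 * j - 2 + 1 + 1 = 2 * j by omega]
        calc 2 * (j + 1) ≤ 2 * j * 2 := by omega
          _ ≤ 2 * j * (2 * j - 2 + 1) := Nat.mul_le_mul_left _ (by omega)
      calc 2 ^ j * 2 * ((j + 1) * j.factorial) = (2 * (j + 1)) * (2 ^ j * j.factorial) := by ring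
        _ < (2 * (j + 1)) * (2 * (2 * j - 2).factorial) := by gcongr
        _ ≤ (((2 * j - 2) + 1 + 1) * ((2 * j - 2) + 1)) * (2 * (2 * j - 2).factorial) :=
          Nat.mul_le_mul_right _ hq
        _ = _ := by ring
  have hk3 : k ≤ 3 := by
    by_contra hc
    have := key k (by omega)
    omega
  rcases (by omega : k = 2 ∨ k = 3) with rfl | rfl
  · rcases m with _ | m
    · simp at h
    · exfalso
      rw [show 2 * 2 - 2 + (m + 1) = m + 1 + 1 + 1 by omega, Nat.factorial_succ (m + 1 + 1),
        Nat.factorial_succ (m + 1)] at h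
      have hf := Nat.factorial_pos (m + 1)
      have : 4 = (m + 1 + 1 + 1) * (m + 1 + 1) := by
        apply Nat.eq_of_mul_eq_mul_right hf
        norm_num [Nat.factorial_two, show Nat.factorial 3 = 6 from rfl] at h
        generalize (m + 1).factorial = z at h ⊢
        ring_nf at h ⊢
        linarith
      nlinarith
  · rcases m with _ | m
    · simp
    · exfalso
      rw [show 2 * 3 - 2 + (m + 1) = m + 1 + 1 + 1 + 1 + 1 by omega, Nat.factorial_succ (m + 1 + 1 + 1 + 1),
        Nat.factorial_succ (m + 1 + 1 + 1), Nat.factorial_succ (m + 1 + 1), Nat.factorial_succ (m + 1)] at h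
      have hf := Nat.factorial_pos (m + 1)
      have : 24 = (m + 1 + 1 + 1 + 1 + 1) * ((m + 1 + 1 + 1 + 1) * ((m + 1 + 1 + 1) * (m + 1 + 1))) := by
        apply Nat.eq_of_mul_eq_mul_right hf
        norm_num [Nat.factorial_two, show Nat.factorial 3 = 6 from rfl] at h
        generalize (m + 1).factorial = z at h ⊢
        ring_nf at h ⊢
        linarith
      have : 5 * (4 * (3 * 2)) ≤ (m + 1 + 1 + 1 + 1 + 1) * ((m + 1 + 1 + 1 + 1) * ((m + 1 + 1 + 1) * (m + 1 + 1))) := by
        gcongr <;> omega
      omega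

/-- An automorphism maps a transposition to a transposition, unless the degree is six. -/
theorem mulAut_isSwap_or (ψ : Perm Ω ≃* Perm Ω) {g : Perm Ω} (hg : g.IsSwap) :
    (ψ g).IsSwap ∨ Fintype.card Ω = 6 ∧ (ψ g).cycleType = {2, 2, 2} := by
  have hct : g.cycleType = {2} := by
    rw [hg.isCycle.cycleType, Equiv.Perm.card_support_eq_two.2 hg]
  have h2 : g ^ 2 = 1 := by
    obtain ⟨a, b, hab, rfl⟩ := hg
    rw [sq, Equiv.swap_mul_self]
  have hψ2 : (ψ g) ^ 2 = 1 := by rw [← map_pow, h2, map_one]
  have hr := cycleType_of_sq hψ2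
  set k := Multiset.card (ψ g).cycleType
  have hk0 : k ≠ 0 := by
    intro hk
    rw [hk, Multiset.replicate_zero, Equiv.Perm.cycleType_eq_zero, map_eq_one_iff ψ ψ.injective] at hr
    rw [hr, Equiv.Perm.cycleType_one] at hct
    exact Multiset.zero_ne_singleton _ hct
  rcases eq_or_ne k 1 with hk | hk
  · left
    refine Equiv.Perm.card_support_eq_two.1 ?_
    rw [← Equiv.Perm.sum_cycleType, hr, hk]
    simp
  · right
    have hsum : 2 * k ≤ Fintype.card Ω := by
      have := Equiv.Perm.sum_cycleType (ψ g) ▸ (ψ g).support.card_le_univ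
      rw [hr] at this
      simpa [mul_comm] using this
    have hcard : Nat.card (Subgroup.centralizer {g}) = Nat.card (Subgroup.centralizer {ψ g}) := by
      refine Nat.card_congr
        { toFun := fun u => ⟨ψ u, ?_⟩
          invFun := fun u => ⟨ψ.symm u, ?_⟩
          left_inv := fun u => by simp
          right_inv := fun u => by simp }
      · rw [Subgroup.mem_centralizer_singleton_iff, ← map_mul, ← map_mul,
          Subgroup.mem_centralizer_singleton_iff.1 u.2]
      · rw [Subgroup.mem_centralizer_singleton_iff]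
        apply ψ.injective
        simpa using Subgroup.mem_centralizer_singleton_iff.1 u.2
    rw [Equiv.Perm.nat_card_centralizer, Equiv.Perm.nat_card_centralizer, hct, hr] at hcard
    simp [Multiset.toFinset_replicate, hk0, mul_comm k 2] at hcard
    obtain ⟨h6, h3⟩ := centralizer_count (n := Fintype.card Ω) (k := k) (by omega) hsum
      (by linarith)
    exact ⟨h6, by rw [hr, h3]; decide⟩

theorem eq_stabilizer_of_mulAut (h5 : 5 ≤ Fintype.card Ω) {H : Subgroup (Perm Ω)}
    (ψ : Perm Ω ≃* Perm Ω) (x : Ω) (hψ : ∀ g, g ∈ H ↔ ψ g x = x)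
    (hsw : ∀ g : Perm Ω, g.IsSwap → (ψ g).IsSwap) :
    ∃ y : Ω, H = MulAction.stabilizer (Perm Ω) y := by
  classical
  have hswapiff : ∀ g : Perm Ω, (ψ g).IsSwap → g.IsSwap := by
    intro g hg
    let S : Finset (Perm Ω) := Finset.univ.filter fun g => g.IsSwap
    have himg : S.image ψ = S := by
      refine Finset.eq_of_subset_of_card_le ?_ (by rw [Finset.card_image_of_injective _ ψ.injective])
      intro u hu
      obtain ⟨v, hv, rfl⟩ := Finset.mem_image.1 hu
      simpa [S] using hsw v (by simpa [S] using hv)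
    have hgi : ψ g ∈ S.image ψ := by rw [himg]; simpa [S] using hg
    obtain ⟨v, hv, hvg⟩ := Finset.mem_image.1 hgi
    rw [← ψ.injective hvg]
    simpa [S] using hv
  have hclos : H = Subgroup.closure {g | g ∈ H ∧ g.IsSwap} := by
    refine le_antisymm (fun g hg => ?_) ((Subgroup.closure_le _).2 fun g hg => hg.1)
    have hx := (hψ g).1 hg
    let u : Perm {y // y ≠ x} := (ψ g).subtypePerm (fun y => by
      refine not_congr ⟨fun h => ?_, fun h => by rw [h, hx]⟩
      exact (ψ g).injective (by rw [h, hx]))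
    have hu : Equiv.Perm.ofSubtype u = ψ g := Equiv.Perm.ofSubtype_subtypePerm _ (by
      intro y hy hyx; exact hy (by rw [hyx, hx]))
    have : u ∈ Subgroup.closure {s : Perm {y // y ≠ x} | s.IsSwap} := by
      rw [Equiv.Perm.closure_isSwap]; trivial
    have hall : ∀ v ∈ Subgroup.closure {s : Perm {y // y ≠ x} | s.IsSwap},
        ψ.symm (Equiv.Perm.ofSubtype v) ∈ Subgroup.closure {g | g ∈ H ∧ g.IsSwap} := by
      intro v hv
      induction hv using Subgroup.closure_induction with
      | mem s hs =>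
        have h1 : (Equiv.Perm.ofSubtype s : Perm Ω).IsSwap := hs.of_subtype_isSwap
        refine Subgroup.subset_closure ⟨(hψ _).2 ?_, hswapiff _ (by simpa using h1)⟩
        rw [MulEquiv.apply_symm_apply]
        exact Equiv.Perm.ofSubtype_apply_of_not_mem s (by simp)
      | one => simpa using Subgroup.one_mem _
      | mul a b _ _ ha hb => simpa using Subgroup.mul_mem _ ha hb
      | inv a _ ha => simpa using Subgroup.inv_mem _ ha
    have hmem := hall u this
    rw [hu] at hmem
    simpa using hmem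
  have hne : H ≠ ⊤ := by
    intro h
    obtain ⟨y, hy⟩ := Fintype.exists_ne_of_one_lt_card (by omega : 1 < Fintype.card Ω) x
    have := (hψ (ψ.symm (Equiv.swap x y))).1 (h ▸ Subgroup.mem_top _)
    simp [Equiv.swap_apply_left] at this
    exact hy this
  have hnt : ¬ MulAction.IsPretransitive H Ω := by
    intro h
    apply hne
    rw [hclos] at h ⊢
    exact closure_of_isSwap_of_isPretransitive (fun g hg => hg.2)
  obtain ⟨a, b, hab⟩ : ∃ a b : Ω, b ∉ MulAction.orbit H a := by
    by_contra! hc
    exact hnt ⟨fun a b => by obtain ⟨g, hg⟩ := hc a b; exact ⟨g, hg⟩⟩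
  let s : Finset Ω := Finset.univ.filter (fun c => c ∈ MulAction.orbit H a)
  -- the transpositions of `H` stay on one side of `s`
  let T : Finset (Finset Ω) := Finset.univ.powersetCard 2
  let A : Finset (Finset Ω) := s.powersetCard 2 ∪ sᶜ.powersetCard 2
  let B : Finset (Perm Ω) := Finset.univ.filter fun g => g ∈ H ∧ g.IsSwap
  have hB : (Fintype.card Ω - 1).choose 2 ≤ B.card := by
    have hinj : Set.InjOn (fun p : Finset Ω => p) ((Finset.univ.erase x).powersetCard 2 : Finset (Finset Ω)) :=
      fun p _ q _ h => h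
    let C : Finset (Perm Ω) := Finset.univ.filter fun g => g x = x ∧ g.IsSwap
    have hBC : B.card = C.card := by
      refine Finset.card_bij (fun g _ => ψ g) ?_ (fun a _ b _ h => ψ.injective h) ?_
      · intro g hg
        simp only [B, C, Finset.mem_filter, Finset.mem_univ, true_and] at hg ⊢
        exact ⟨(hψ g).1 hg.1, hsw g hg.2⟩
      · intro g hg
        simp only [C, Finset.mem_filter, Finset.mem_univ, true_and] at hg
        refine ⟨ψ.symm g, ?_, by simp⟩
        simp only [B, Finset.mem_filter, Finset.mem_univ, true_and]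
        exact ⟨(hψ _).2 (by simpa using hg.1), hswapiff _ (by simpa using hg.2)⟩
    rw [hBC]
    have : ((Finset.univ.erase x).powersetCard 2) ⊆ C.image Equiv.Perm.support := by
      intro p hp
      rw [Finset.mem_powersetCard] at hp
      obtain ⟨c, d, hcd, rfl⟩ := Finset.card_eq_two.1 hp.2
      refine Finset.mem_image.2 ⟨Equiv.swap c d, ?_, Equiv.Perm.support_swap hcd⟩
      simp only [C, Finset.mem_filter, Finset.mem_univ, true_and]
      have hc := Finset.ne_of_mem_erase (hp.1 (Finset.mem_insert_self c {d}))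
      have hd := Finset.ne_of_mem_erase (hp.1 (Finset.mem_insert_of_mem (Finset.mem_singleton_self d)))
      exact ⟨Equiv.swap_apply_of_ne_of_ne hc.symm hd.symm, c, d, hcd, rfl⟩
    have := (Finset.card_le_card this).trans Finset.card_image_le
    simpa [Finset.card_powersetCard, Finset.card_erase_of_mem] using this
  have hA : B.card ≤ A.card := by
    refine Finset.card_le_card_of_injOn Equiv.Perm.support ?_ ?_
    · intro g hg
      simp only [B, Finset.coe_filter, Finset.mem_univ, true_and, Set.mem_ofPred_eq] at hg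
      obtain ⟨hgH, c, d, hcd, rfl⟩ := hg
      have hiff : c ∈ s ↔ d ∈ s := by
        simp only [s, Finset.mem_filter, Finset.mem_univ, true_and]
        constructor <;> rintro ⟨u, hu⟩ <;> refine ⟨⟨_, hgH⟩ * u, ?_⟩ <;> simp only at hu <;>
          simp [mul_smul, hu, Subgroup.smul_def]
      show (Equiv.swap c d).support ∈ (A : Set (Finset Ω))
      rw [Equiv.Perm.support_swap hcd]
      by_cases hc : c ∈ s
      · simp [A, Finset.insert_subset_iff, hc, hiff.1 hc, Finset.card_pair hcd]
      · simp [A, Finset.insert_subset_iff, hc, mt hiff.2 hc, Finset.card_pair hcd]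
    · intro g hg g' hg' h
      simp only [B, Finset.coe_filter, Finset.mem_univ, true_and, Set.mem_ofPred_eq] at hg hg'
      obtain ⟨-, c, d, hcd, rfl⟩ := hg
      obtain ⟨-, c', d', hcd', rfl⟩ := hg'
      rw [Equiv.Perm.support_swap hcd, Equiv.Perm.support_swap hcd'] at h
      have h1 : c ∈ ({c', d'} : Finset Ω) := h ▸ Finset.mem_insert_self c {d}
      have h2 : d ∈ ({c', d'} : Finset Ω) := h ▸ Finset.mem_insert_of_mem (Finset.mem_singleton_self d)
      simp only [Finset.mem_insert, Finset.mem_singleton] at h1 h2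
      rcases h1 with rfl | rfl <;> rcases h2 with rfl | rfl
      · exact absurd rfl hcd
      · rfl
      · exact Equiv.swap_comm _ _
      · exact absurd rfl hcd
  have hsa : a ∈ s := by simp [s]
  have hsb : b ∉ s := by simp [s, hab]
  have hAc : A.card ≤ s.card.choose 2 + (Fintype.card Ω - s.card).choose 2 := by
    refine (Finset.card_union_le _ _).trans (le_of_eq ?_)
    simp [Finset.card_powersetCard, Finset.card_compl]
  have hk1 : 1 ≤ s.card := Finset.card_pos.2 ⟨a, hsa⟩
  have hk2 : s.card < Fintype.card Ω := Finset.card_lt_univ_of_notMem hsb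
  have hfix : ∀ t : Finset Ω, (∀ g ∈ H, ∀ c ∈ t, g c ∈ t) → t.card = 1 →
      ∃ y : Ω, H = MulAction.stabilizer (Perm Ω) y := by
    intro t ht ht1
    obtain ⟨y, rfl⟩ := Finset.card_eq_one.1 ht1
    refine ⟨y, ?_⟩
    have hle : H ≤ MulAction.stabilizer (Perm Ω) y := fun g hg => by
      simpa using ht g hg y (Finset.mem_singleton_self y)
    refine Subgroup.eq_of_le_of_card_ge hle (le_of_eq ?_)
    have e : Nat.card H = Nat.card (MulAction.stabilizer (Perm Ω) x) :=
      Nat.card_congr
        { toFun := fun g => ⟨ψ g, (hψ g).1 g.2⟩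
          invFun := fun g => ⟨ψ.symm g, (hψ _).2 (by simp [show (g : Perm Ω) x = x from g.2])⟩
          left_inv := fun g => by simp
          right_inv := fun g => by simp }
    rw [e]
    have hx := MulAction.index_stabilizer_of_transitive (Perm Ω) x
    have hy := MulAction.index_stabilizer_of_transitive (Perm Ω) y
    have h1 := (MulAction.stabilizer (Perm Ω) x).card_mul_index
    have h2 := (MulAction.stabilizer (Perm Ω) y).card_mul_index
    rw [hx] at h1; rw [hy] at h2
    have : 0 < Nat.card Ω := by rw [Nat.card_eq_fintype_card]; omega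
    exact Nat.eq_of_mul_eq_mul_right this (h2.trans h1.symm)
  have hinv : ∀ g ∈ H, ∀ c ∈ s, g c ∈ s := by
    intro g hg c hc
    simp only [s, Finset.mem_filter, Finset.mem_univ, true_and] at hc ⊢
    obtain ⟨u, hu⟩ := hc
    refine ⟨⟨g, hg⟩ * u, ?_⟩
    simp only at hu
    simp [mul_smul, hu, Subgroup.smul_def]
  have hinv' : ∀ g ∈ H, ∀ c ∈ sᶜ, g c ∈ sᶜ := by
    intro g hg c hc
    rw [Finset.mem_compl] at hc ⊢
    exact fun h => hc (by simpa using hinv g⁻¹ (H.inv_mem hg) _ h)
  have hkey := (hB.trans hA).trans hAc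
  obtain ⟨j, hj⟩ : ∃ j, s.card = j + 1 := ⟨s.card - 1, by omega⟩
  obtain ⟨l, hl⟩ : ∃ l, Fintype.card Ω = j + 1 + (l + 1) := ⟨Fintype.card Ω - s.card - 1, by omega⟩
  rw [hj, hl, Nat.add_sub_cancel_left, show j + 1 + (l + 1) - 1 = j + l + 1 by omega,
    Nat.choose_two_right, Nat.choose_two_right, Nat.choose_two_right, Nat.add_sub_cancel,
    Nat.add_sub_cancel, Nat.add_sub_cancel] at hkey
  have h21 := Nat.even_mul_succ_self j
  have h22 := Nat.even_mul_succ_self l
  have h23 := Nat.even_mul_succ_self (j + l)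
  rw [mul_comm] at h21 h22 h23
  have hjl : j = 0 ∨ l = 0 := by
    rw [← mul_eq_zero]
    have e1 := Nat.div_mul_cancel h21.two_dvd
    have e2 := Nat.div_mul_cancel h22.two_dvd
    have e3 := Nat.div_mul_cancel h23.two_dvd
    nlinarith
  rcases hjl with h | h
  · exact hfix s hinv (by omega)
  · exact hfix sᶜ hinv' (by rw [Finset.card_compl]; omega)

theorem eq_stabilizer_small (h4 : Fintype.card Ω ≤ 4) {H : Subgroup (Perm Ω)}
    (hH : H.index = Fintype.card Ω) : ∃ x : Ω, H = MulAction.stabilizer (Perm Ω) x := by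
  classical
  rcases Nat.eq_zero_or_pos (Fintype.card Ω) with h0 | h0
  · exact absurd hH (h0 ▸ Subgroup.index_ne_zero_of_finite)
  have : Nonempty Ω := Fintype.card_pos_iff.1 h0
  have hmul := H.card_mul_index
  rw [Nat.card_perm, Nat.card_eq_fintype_card (α := Ω), hH] at hmul
  have hcard : Nat.card H = (Fintype.card Ω - 1).factorial := by
    refine Nat.eq_of_mul_eq_mul_right h0 ?_
    rw [hmul]
    conv_lhs => rw [show Fintype.card Ω = Fintype.card Ω - 1 + 1 by omega, Nat.factorial_succ]
    rw [show Fintype.card Ω - 1 + 1 = Fintype.card Ω by omega]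
    ring
  have hst : ∀ x : Ω, Nat.card (MulAction.stabilizer (Perm Ω) x) = Nat.card H := by
    intro x
    refine Nat.eq_of_mul_eq_mul_right h0 ?_
    have := (MulAction.stabilizer (Perm Ω) x).card_mul_index
    rw [MulAction.index_stabilizer_of_transitive, Nat.card_eq_fintype_card (α := Ω)] at this
    rw [this, Nat.card_perm, Nat.card_eq_fintype_card (α := Ω), hmul]
  suffices h : ∃ x : Ω, ∀ g ∈ H, g x = x by
    obtain ⟨x, hx⟩ := h
    exact ⟨x, Subgroup.eq_of_le_of_card_ge (fun g hg => hx g hg) (le_of_eq (hst x))⟩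
  rcases Nat.lt_or_ge (Fintype.card Ω) 3 with hlt | hge
  · refine ⟨Classical.arbitrary Ω, fun g hg => ?_⟩
    rw [Nat.factorial_eq_one.2 (by omega)] at hcard
    have := Subgroup.eq_bot_of_card_eq H hcard
    rw [this, Subgroup.mem_bot] at hg
    simp [hg]
  set r := Fintype.card Ω - 1 with hr
  have hrp : r.Prime := by
    rcases (by omega : r = 2 ∨ r = 3) with h | h <;> rw [h] <;> norm_num
  have : Fact r.Prime := ⟨hrp⟩
  obtain ⟨c, hc⟩ := exists_prime_orderOf_dvd_card' r (G := H)
    (hcard ▸ Nat.dvd_factorial hrp.pos le_rfl)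
  rw [← Subgroup.orderOf_coe] at hc
  obtain ⟨m, hm⟩ := Equiv.Perm.cycleType_prime_order (σ := (c : Perm Ω)) (hc.symm ▸ hrp)
  have hs : (c : Perm Ω).support.card = r := by
    have h1 := Equiv.Perm.sum_cycleType (c : Perm Ω)
    rw [hm, Multiset.sum_replicate, hc, smul_eq_mul] at h1
    have h2 := (c : Perm Ω).support.card_le_univ
    rcases m with _ | m
    · simpa using h1.symm
    · exfalso
      have : 2 * r ≤ (m + 1 + 1) * r := Nat.mul_le_mul_right _ (by omega)
      rw [← h1] at h2
      omega
  obtain ⟨x, hx⟩ : ∃ x, (c : Perm Ω).supportᶜ = {x} :=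
    Finset.card_eq_one.1 (by rw [Finset.card_compl, hs]; omega)
  refine ⟨x, fun g hg => ?_⟩
  have hnorm : (Subgroup.zpowers c).Normal := by
    have hrr : r.factorial ≤ 2 * r := by
      rcases (by omega : r = 2 ∨ r = 3) with h | h <;> rw [h] <;> decide
    have hidx := (Subgroup.zpowers c).card_mul_index
    rw [Nat.card_zpowers, ← Subgroup.orderOf_coe, hc, hcard] at hidx
    have h0' : (Subgroup.zpowers c).index ≠ 0 := Subgroup.index_ne_zero_of_finite
    have hi : (Subgroup.zpowers c).index ≤ 2 := by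
      by_contra h
      have h3 : r * 3 ≤ r * (Subgroup.zpowers c).index := Nat.mul_le_mul_left r (by omega)
      have := hrp.pos
      omega
    rcases (by omega : (Subgroup.zpowers c).index = 1 ∨ (Subgroup.zpowers c).index = 2) with h | h
    · rw [Subgroup.index_eq_one.1 h]; infer_instance
    · exact Subgroup.normal_of_index_eq_two h
  have hcx : (c : Perm Ω) x = x := by
    have : x ∈ (c : Perm Ω).supportᶜ := by simp [hx]
    simpa using this
  have hin := hnorm.conj_mem c (Subgroup.mem_zpowers c) ⟨g⁻¹, H.inv_mem hg⟩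
  obtain ⟨k, hk⟩ := Subgroup.mem_zpowers_iff.1 hin
  have hk' := congrArg (fun u : H => (u : Perm Ω) x) hk
  simp only [SubgroupClass.coe_zpow, Subgroup.coe_mul, Equiv.Perm.mul_apply, inv_inv,
    InvMemClass.coe_inv] at hk'
  rw [Equiv.Perm.zpow_apply_eq_self_of_apply_eq_self hcx] at hk'
  have hfix : (c : Perm Ω) (g x) = g x := by
    have := congrArg g hk'
    simpa using this.symm
  have : g x ∈ (c : Perm Ω).supportᶜ := by simp [hfix]
  simpa [hx] using this

theorem eq_stabilizer_of_index_eq (h6 : Fintype.card Ω ≠ 6) {H : Subgroup (Perm Ω)}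
    (hH : H.index = Fintype.card Ω) : ∃ x : Ω, H = MulAction.stabilizer (Perm Ω) x := by
  by_cases h5 : 5 ≤ Fintype.card Ω
  · obtain ⟨ψ, x, hψ⟩ := exists_mulAut_stabilizer H h5 hH
    exact eq_stabilizer_of_mulAut h5 ψ x hψ
      (fun g hg => (mulAut_isSwap_or ψ hg).resolve_right (fun h => h6 h.1))
  · exact eq_stabilizer_small (by omega) hH

end Cfsg.Agent.ClMax99
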