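import Cfsg.Agent.ClMax99.SymIndex

/-! The twelve subgroups of index six of the symmetric group of degree six. -/

set_option autoImplicit false

namespace Cfsg.Agent.ClMax99

open Equiv Equiv.Perm MulAction

/-- Five triple transpositions which between them use every pair of six points once. -/
def total : Finset (Perm (Fin 6)) :=
  {swap 0 1 * (swap 2 3 * swap 4 5), swap 0 2 * (swap 1 4 * swap 3 5),
   swap 0 3 * (swap 1 5 * swap 2 4), swap 0 4 * (swap 2 5 * swap 1 3),
   swap 0 5 * (swap 3 4 * swap 1 2)}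

/-- The stabiliser of `total`, a transitive subgroup of index six. -/
def excSub : Subgroup (Perm (Fin 6)) where
  carrier := {g | total.image (fun t => g * t * g⁻¹) = total}
  mul_mem' {a b} ha hb := by
    simp only [Set.mem_ofPred_eq] at ha hb ⊢
    conv_rhs => rw [← ha, ← hb]
    rw [Finset.image_image]
    congr 1
  one_mem' := by simp
  inv_mem' {a} ha := by
    simp only [Set.mem_ofPred_eq] at ha ⊢
    conv_lhs => rw [← ha]
    rw [Finset.image_image]
    convert Finset.image_id (s := total) using 2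
    funext t
    simp [mul_assoc]

instance : DecidablePred (· ∈ excSub) := fun g =>
  inferInstanceAs (Decidable (total.image (fun t => g * t * g⁻¹) = total))

set_option maxRecDepth 100000 in
theorem card_excSub : Nat.card excSub = 120 := by
  rw [Nat.card_eq_fintype_card, Fintype.card_subtype]
  decide +kernel

set_option maxRecDepth 100000 in
theorem excSub_moves : ∀ a : Fin 6, ∃ g ∈ excSub, g a ≠ a := by
  decide +kernel

theorem index_excSub : excSub.index = 6 := by
  have := excSub.card_mul_index
  rw [card_excSub, Nat.card_perm, Nat.card_fin] at this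
  norm_num [Nat.factorial] at this
  omega

theorem excSub_not_stabilizer (a : Fin 6) : excSub ≠ stabilizer (Perm (Fin 6)) a := by
  intro h
  obtain ⟨g, hg, hga⟩ := excSub_moves a
  rw [h] at hg
  exact hga hg

/-- Two subgroups of index six that fix no point are conjugate. -/
theorem isConj_of_no_fixed_point {H K : Subgroup (Perm (Fin 6))} (hH : H.index = 6)
    (hK : K.index = 6) (hH' : ∀ a : Fin 6, H ≠ stabilizer (Perm (Fin 6)) a)
    (hK' : ∀ a : Fin 6, K ≠ stabilizer (Perm (Fin 6)) a) :
    ∃ g : Perm (Fin 6), H.map (MulAut.conj g).toMonoidHom = K := by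
  classical
  have h5 : 5 ≤ Fintype.card (Fin 6) := by simp
  obtain ⟨ψ, x, hψ⟩ := exists_mulAut_stabilizer H h5 (by simpa using hH)
  obtain ⟨χ, y, hχ⟩ := exists_mulAut_stabilizer K h5 (by simpa using hK)
  let S : Finset (Perm (Fin 6)) := Finset.univ.filter fun g => g.IsSwap
  let T : Finset (Perm (Fin 6)) := Finset.univ.filter fun g => g.cycleType = {2, 2, 2}
  have hmap : ∀ (θ : Perm (Fin 6) ≃* Perm (Fin 6)) (L : Subgroup (Perm (Fin 6))) (z : Fin 6),
      (∀ g, g ∈ L ↔ θ g z = z) → (∀ a : Fin 6, L ≠ stabilizer (Perm (Fin 6)) a) →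
      S.image θ = T := by
    intro θ L z hθ hL
    obtain ⟨s₀, hs₀, hθs₀⟩ : ∃ s : Perm (Fin 6), s.IsSwap ∧ ¬ (θ s).IsSwap := by
      by_contra! hc
      obtain ⟨a, ha⟩ := eq_stabilizer_of_mulAut h5 θ z hθ hc
      exact hL a ha
    have h3 := ((mulAut_isSwap_or θ hs₀).resolve_left hθs₀).2
    refine Finset.ext fun u => ⟨fun hu => ?_, fun hu => ?_⟩
    · obtain ⟨s, hs, rfl⟩ := Finset.mem_image.1 hu
      obtain ⟨a, b, hab, rfl⟩ := (Finset.mem_filter.1 hs).2
      obtain ⟨c, d, hcd, rfl⟩ := hs₀
      obtain ⟨g, hg⟩ := isConj_iff.1 (Equiv.Perm.isConj_swap hcd hab)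
      refine Finset.mem_filter.2 ⟨Finset.mem_univ _, ?_⟩
      rw [← hg, map_mul, map_mul, map_inv, Equiv.Perm.cycleType_conj, h3]
    · obtain ⟨-, hu⟩ := Finset.mem_filter.1 hu
      obtain ⟨g, hg⟩ := isConj_iff.1 (Equiv.Perm.isConj_iff_cycleType_eq.2 (h3.trans hu.symm))
      obtain ⟨g', rfl⟩ := θ.surjective g
      refine Finset.mem_image.2 ⟨g' * s₀ * g'⁻¹, Finset.mem_filter.2 ⟨Finset.mem_univ _, ?_⟩, ?_⟩
      · refine Equiv.Perm.card_support_eq_two.1 ?_
        rw [Equiv.Perm.card_support_conj, Equiv.Perm.card_support_eq_two]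
        exact hs₀
      · rw [map_mul, map_mul, map_inv, hg]
  have hS1 := hmap ψ H x hψ hH'
  have hS2 := hmap χ K y hχ hK'
  have hsw : ∀ g : Perm (Fin 6), g.IsSwap → (χ.symm (ψ g)).IsSwap := by
    intro g hg
    have : ψ g ∈ S.image χ := by
      rw [hS2, ← hS1]; exact Finset.mem_image_of_mem _ (by simpa [S] using hg)
    obtain ⟨s, hs, hsg⟩ := Finset.mem_image.1 this
    rw [← hsg, MulEquiv.symm_apply_apply]
    simpa [S] using hs
  -- the automorphism ρ = χ⁻¹ψ preserves transpositions
  let ρ : Perm (Fin 6) ≃* Perm (Fin 6) := ψ.trans χ.symm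
  obtain ⟨u, hu⟩ := MulAction.exists_smul_eq (Perm (Fin 6)) x y
  obtain ⟨v, rfl⟩ := ψ.surjective u
  -- `v H v⁻¹` is the preimage under `ψ` of the stabiliser of `y`
  let H' := H.map (MulAut.conj v).toMonoidHom
  have hH'' : ∀ g, g ∈ H' ↔ ψ g y = y := by
    intro g
    rw [Subgroup.mem_map_equiv, hψ]
    simp only [MulAut.conj_symm_apply, map_mul, map_inv, Equiv.Perm.mul_apply]
    rw [Equiv.Perm.inv_eq_iff_eq]
    rw [show (ψ v) x = y from hu]
  have hKim : ∀ g, g ∈ H' ↔ ρ g ∈ K := by
    intro g
    rw [hH'', hχ]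
    simp [ρ]
  -- an automorphism preserving transpositions is inner
  obtain ⟨w, hw⟩ : ∃ w : Perm (Fin 6), ∀ g, ρ g = w * g * w⁻¹ := by
    have hstab : ∀ a : Fin 6, ∃ b, ∀ g : Perm (Fin 6), g b = b ↔ ρ g a = a := by
      intro a
      obtain ⟨b, hb⟩ := eq_stabilizer_of_mulAut h5 ρ a
        (H := (stabilizer (Perm (Fin 6)) a).comap ρ.toMonoidHom) (fun g => by simp) hsw
      refine ⟨b, fun g => ?_⟩
      have := Subgroup.ext_iff.1 hb g
      simpa using this.symm
    choose f hf using hstab
    have hinj : Function.Injective f := by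
      intro a a' h
      by_contra hne
      obtain ⟨c, hc1, hc2⟩ : ∃ c, c ≠ a ∧ c ≠ a' := ⟨_,
        (Finset.exists_mem_notMem_of_card_lt_card (s := {a, a'}) (t := Finset.univ)
          (by rw [Finset.card_pair hne]; simp)).choose_spec.2 |> fun h => by
            simpa using h⟩
      obtain ⟨g, hg⟩ := ρ.surjective (swap a' c)
      have h1 := (hf a g).2 (by rw [hg, swap_apply_of_ne_of_ne hne hc1.symm])
      have h2 := (hf a' g).1 (h ▸ h1)
      rw [hg, swap_apply_left] at h2
      exact hc2 h2
    let fe : Perm (Fin 6) := Equiv.ofBijective f ⟨hinj, Finite.injective_iff_surjective.1 hinj⟩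
    refine ⟨fe⁻¹, fun g => ?_⟩
    have key : ∀ a, f (ρ g a) = g (f a) := by
      intro a
      -- both points have the same stabiliser
      have hst : ∀ h : Perm (Fin 6), h (f (ρ g a)) = f (ρ g a) → h (g (f a)) = g (f a) := by
        intro h hh
        have h1 : ρ (g⁻¹ * h * g) a = a := by
          simp [(hf _ h).1 hh]
        have h2 := (hf a _).2 h1
        rwa [Equiv.Perm.mul_apply, Equiv.Perm.mul_apply, Equiv.Perm.inv_eq_iff_eq] at h2
      by_contra hne
      obtain ⟨c, hc1, hc2⟩ : ∃ c, c ≠ f (ρ g a) ∧ c ≠ g (f a) := ⟨_,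
        (Finset.exists_mem_notMem_of_card_lt_card (s := {f (ρ g a), g (f a)}) (t := Finset.univ)
          (by rw [Finset.card_pair hne]; simp)).choose_spec.2 |> fun h => by
            simpa using h⟩
      have := hst (swap (g (f a)) c) (swap_apply_of_ne_of_ne hne hc1.symm)
      rw [swap_apply_left] at this
      exact hc2 this
    ext a
    rw [inv_inv, Equiv.Perm.mul_apply, Equiv.Perm.mul_apply, show fe a = f a from rfl, ← key,
      show f (ρ g a) = fe (ρ g a) from rfl]
    simp
  refine ⟨w * v, ?_⟩
  ext g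
  rw [Subgroup.mem_map_equiv]
  have h1 := hKim (w⁻¹ * g * w)
  rw [Subgroup.mem_map_equiv, hw] at h1
  simp only [MulAut.conj_symm_apply] at h1 ⊢
  simpa [mul_assoc] using h1

theorem six_classification (H : Subgroup (Perm (Fin 6))) (hH : H.index = 6) :
    (∃ a : Fin 6, H = stabilizer (Perm (Fin 6)) a) ∨
      ∃ g : Perm (Fin 6), excSub.map (MulAut.conj g).toMonoidHom = H := by
  by_contra! hc
  obtain ⟨g, hg⟩ := isConj_of_no_fixed_point index_excSub hH excSub_not_stabilizer hc.1
  exact hc.2 g hg

theorem map_conj_stabilizer (g : Perm (Fin 6)) (a : Fin 6) :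
    (stabilizer (Perm (Fin 6)) a).map (MulAut.conj g).toMonoidHom = stabilizer (Perm (Fin 6)) (g a) := by
  ext h
  rw [Subgroup.mem_map_equiv]
  simp [Equiv.symm_apply_eq]

theorem normalizer_excSub : Subgroup.normalizer (excSub : Set (Perm (Fin 6))) = excSub := by
  set N := Subgroup.normalizer (excSub : Set (Perm (Fin 6)))
  have hle : excSub ≤ N := Subgroup.le_normalizer
  refine (Subgroup.eq_of_le_of_card_ge hle ?_).symm
  have hd := Subgroup.index_dvd_of_le hle
  rw [index_excSub] at hd
  have hcore : excSub.normalCore = ⊥ :=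
    normalCore_le_cases (by simp) (fun h => by simpa [h] using index_excSub)
      (fun h => by simpa [h, alternatingGroup.index_eq_two] using index_excSub)
  have hA : N ≠ alternatingGroup (Fin 6) := by
    intro h
    have h' : (excSub.subgroupOf (alternatingGroup (Fin 6))).Normal := by
      rw [Subgroup.normal_subgroupOf_iff_le_normalizer (h ▸ hle)]
      exact h.ge
    rcases alternatingGroup.normal_subgroup_eq_bot_or_eq_top (α := Fin 6) (by simp)
      (N := excSub.subgroupOf (alternatingGroup (Fin 6))) with hb | ht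
    · rw [Subgroup.subgroupOf_eq_bot, disjoint_iff, inf_eq_left.2 (h ▸ hle)] at hb
      have := card_excSub
      rw [hb] at this
      simp at this
    · rw [Subgroup.subgroupOf_eq_top] at ht
      have := Subgroup.index_dvd_of_le ht
      rw [index_excSub, alternatingGroup.index_eq_two] at this
      omega
  have hT : N ≠ ⊤ := by
    intro h
    have : excSub.Normal := Subgroup.normalizer_eq_top_iff.1 h
    rw [Subgroup.normalCore_eq_self] at hcore
    have := card_excSub
    rw [hcore] at this
    simp at this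
  have h6 := le_index (Ω := Fin 6) (by simp) hT hA
  simp at h6
  have h6' : N.index = 6 := le_antisymm (Nat.le_of_dvd (by norm_num) hd) h6
  have h1 := N.card_mul_index
  have h2 := excSub.card_mul_index
  rw [h6'] at h1
  rw [index_excSub] at h2
  omega

theorem map_conj_eq_iff (g h : Perm (Fin 6)) :
    excSub.map (MulAut.conj g).toMonoidHom = excSub.map (MulAut.conj h).toMonoidHom ↔
      g⁻¹ * h ∈ excSub := by
  conv_rhs => rw [← normalizer_excSub]
  rw [Subgroup.mem_normalizer_iff]
  constructor
  · intro e x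
    constructor
    · intro hx
      have : h * x * h⁻¹ ∈ excSub.map (MulAut.conj g).toMonoidHom := e ▸ ⟨x, hx, rfl⟩
      obtain ⟨y, hy, hyx⟩ := this
      simp only [MulEquiv.coe_toMonoidHom, MulAut.conj_apply] at hyx
      have : g⁻¹ * h * x * (g⁻¹ * h)⁻¹ = y := by
        rw [show y = g⁻¹ * (g * y * g⁻¹) * g by group, hyx]; group
      rw [this]; exact hy
    · intro hx
      have : g * (g⁻¹ * h * x * (g⁻¹ * h)⁻¹) * g⁻¹ ∈ excSub.map (MulAut.conj h).toMonoidHom :=
        e ▸ ⟨_, hx, rfl⟩
      obtain ⟨y, hy, hyx⟩ := this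
      simp only [MulEquiv.coe_toMonoidHom, MulAut.conj_apply] at hyx
      have : x = y := by
        rw [show y = h⁻¹ * (h * y * h⁻¹) * h by group, hyx]; group
      rw [this]; exact hy
  · intro e
    ext x
    rw [Subgroup.mem_map_equiv, Subgroup.mem_map_equiv]
    simp only [MulAut.conj_symm_apply]
    rw [e (h⁻¹ * x * h)]
    group

theorem exists_third : ∀ a a' : Fin 6, ∃ c : Fin 6, c ≠ a ∧ c ≠ a' := by decide

theorem card_index_six : Nat.card {H : Subgroup (Perm (Fin 6)) // H.index = 6} = 12 := by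
  classical
  let f : (Perm (Fin 6) ⧸ excSub) ⊕ Fin 6 → {H : Subgroup (Perm (Fin 6)) // H.index = 6} :=
    Sum.elim
      (fun q => ⟨excSub.map (MulAut.conj q.out).toMonoidHom, by
        rw [← Subgroup.index_comap_of_surjective (f := (MulAut.conj q.out).toMonoidHom) _ (MulEquiv.surjective _),
          Subgroup.comap_map_eq_self_of_injective (MulEquiv.injective _), index_excSub]⟩)
      (fun a => ⟨stabilizer (Perm (Fin 6)) a, by
        rw [MulAction.index_stabilizer_of_transitive, Nat.card_fin]⟩)
  have hne : ∀ (g : Perm (Fin 6)) (a : Fin 6),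
      excSub.map (MulAut.conj g).toMonoidHom ≠ stabilizer (Perm (Fin 6)) a := by
    intro g a h
    apply excSub_not_stabilizer (g⁻¹ a)
    apply Subgroup.map_injective (f := (MulAut.conj g).toMonoidHom) (MulEquiv.injective (MulAut.conj g))
    show excSub.map (MulAut.conj g).toMonoidHom =
      (stabilizer (Perm (Fin 6)) (g⁻¹ a)).map (MulAut.conj g).toMonoidHom
    rw [h, map_conj_stabilizer]
    simp
  have hf : Function.Bijective f := by
    refine ⟨?_, fun H => ?_⟩
    · rintro (q | a) (q' | a') h <;> simp only [f, Sum.elim_inl, Sum.elim_inr, Subtype.mk.injEq] at h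
      · rw [map_conj_eq_iff, ← QuotientGroup.eq] at h
        rw [QuotientGroup.out_eq', QuotientGroup.out_eq'] at h
        rw [h]
      · exact absurd h (hne _ _)
      · exact absurd h.symm (hne _ _)
      · congr 1
        by_contra hne'
        obtain ⟨c, hc1, hc2⟩ := exists_third a a'
        have : swap a' c ∈ stabilizer (Perm (Fin 6)) a :=
          swap_apply_of_ne_of_ne hne' hc1.symm
        rw [h] at this
        have : swap a' c a' = a' := this
        rw [swap_apply_left] at this
        exact hc2 this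
    · rcases six_classification H.1 H.2 with ⟨a, ha⟩ | ⟨g, hg⟩
      · exact ⟨Sum.inr a, Subtype.ext ha.symm⟩
      · refine ⟨Sum.inl ((g : Perm (Fin 6)) : Perm (Fin 6) ⧸ excSub), Subtype.ext ?_⟩
        show excSub.map _ = H.1
        rw [← hg, map_conj_eq_iff, ← QuotientGroup.eq, QuotientGroup.out_eq']
  rw [← Nat.card_eq_of_bijective f hf, Nat.card_sum, Nat.card_fin, ← Subgroup.index, index_excSub]

end Cfsg.Agent.ClMax99
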