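import Cfsg.Agent.KnownSimple58.SpElements
import Cfsg.Agent.ClMax99.InvSub

/-!
Symplectic elements of prime order with small moved space.
-/

set_option autoImplicit false

namespace Cfsg.Agent.ClMax99.SympElt

open Cfsg.Agent.Symplectic Module Submodule

variable {F : Type*} [Field F] [Fintype F]

/-- A symplectic element of prime order `r ∣ q^e + 1` moving a space of dimension at most `2e`. -/
theorem exists_moved {d e : ℕ} (he : 1 ≤ e) (hed : e ≤ d) {r : ℕ} [hr : Fact r.Prime]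
    (hdvd : r ∣ Fintype.card F ^ e + 1) :
    ∃ x : Sp d F, x ^ r = 1 ∧ x ≠ 1 ∧
      finrank F (LinearMap.range
        (Matrix.toLin' (x : Matrix (Fin d ⊕ Fin d) (Fin d ⊕ Fin d) F) - 1)) ≤ 2 * e := by
  obtain ⟨b, rfl⟩ : ∃ b, d = e + b := ⟨d - e, by omega⟩
  obtain ⟨-, z, hz⟩ := KS58.SpEl.exists_sp_torus (F := F) he
  obtain ⟨c, hc⟩ := hdvd
  have hy : orderOf (z ^ c) = r := by
    have hc0 : c ≠ 0 := by rintro rfl; omega
    rw [orderOf_pow' z hc0, hz, hc, Nat.gcd_mul_left_left, Nat.mul_div_cancel _ (Nat.pos_of_ne_zero hc0)]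
  refine ⟨KS58.SpEl.blockSum ((z ^ c, 1) : Sp e F × Sp b F), ?_, ?_, ?_⟩
  · rw [← map_pow, Prod.pow_mk, one_pow, ← hy, pow_orderOf_eq_one]
    exact map_one _
  · intro h
    have h1 := KS58.SpEl.blockSum_injective (h.trans (map_one _).symm)
    have h2 : z ^ c = 1 := congrArg Prod.fst h1
    rw [h2, orderOf_one] at hy
    exact hr.out.one_lt.ne' hy.symm
  · set g := KS58.SpEl.blockSum ((z ^ c, 1) : Sp e F × Sp b F) with hg
    set π := KS58.SpEl.splitVec e b F with hπ
    have hle : LinearMap.range (Matrix.toLin' (g : Matrix (Fin (e + b) ⊕ Fin (e + b)) (Fin (e + b) ⊕ Fin (e + b)) F) - 1) ≤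
        LinearMap.range (π.symm.toLinearMap ∘ₗ LinearMap.inl F (Vec e F) (Vec b F)) := by
      rintro _ ⟨v, rfl⟩
      refine ⟨(π (g • v) - π v).1, π.injective ?_⟩
      have h2 : π ((Matrix.toLin' (g : Matrix (Fin (e + b) ⊕ Fin (e + b)) (Fin (e + b) ⊕ Fin (e + b)) F) - 1) v) = π (g • v) - π v := by
        rw [LinearMap.sub_apply, Module.End.one_apply, map_sub, Matrix.toLin'_apply]
        rfl
      rw [h2, hg, KS58.SpEl.split_blockSum, ← hπ]
      refine Prod.ext ?_ ?_ <;> simp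
    refine (Submodule.finrank_mono hle).trans ((LinearMap.finrank_range_le _).trans ?_)
    rw [finrank_pi, Fintype.card_sum, Fintype.card_fin, two_mul]

end Cfsg.Agent.ClMax99.SympElt
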