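import Cfsg.Agent.ClMax99.DecompElusive
import Cfsg.Agent.ClMax99.AltSim

/-!
Nondegenerate invariant subspaces of isometries of odd prime order of an alternating form.
-/

set_option autoImplicit false
set_option linter.unusedSectionVars false

namespace Cfsg.Agent.ClMax99.SympInv

open Module Submodule Cfsg.Agent.ClMax99.Inv

section General

variable {F V : Type*} [Field F] [AddCommGroup V] [Module F V] [FiniteDimensional F V]
variable {B : LinearMap.BilinForm F V}

/-- The restriction of `B` to `W` has trivial radical. -/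
def Nd (B : LinearMap.BilinForm F V) (W : Submodule F V) : Prop :=
  ∀ u ∈ W, (∀ v ∈ W, B u v = 0) → u = 0

/-- The orthogonal of `U`. -/
def perp (B : LinearMap.BilinForm F V) (U : Submodule F V) : Submodule F V :=
  ⨅ u : U, LinearMap.ker (B (u : V))

theorem mem_perp {U : Submodule F V} {v : V} : v ∈ perp B U ↔ ∀ u ∈ U, B u v = 0 := by
  simp [perp, Submodule.mem_iInf]

theorem swap_zero (hA : B.IsAlt) {u v : V} (h : B u v = 0) : B v u = 0 := by
  rw [← LinearMap.IsAlt.neg hA u v, h, neg_zero]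

/-- Splitting off a nondegenerate subspace. -/
theorem split (hA : B.IsAlt) {U X : Submodule F V} (hUX : U ≤ X) (hU : Nd B U) (hX : Nd B X) :
    Disjoint U (X ⊓ perp B U) ∧ U ⊔ (X ⊓ perp B U) = X ∧ Nd B (X ⊓ perp B U) ∧
      finrank F X = finrank F U + finrank F ↥(X ⊓ perp B U) := by
  have hd : Disjoint U (X ⊓ perp B U) := by
    rw [Submodule.disjoint_def]
    exact fun u hu h => hU u hu fun v hv => swap_zero hA (mem_perp.1 h.2 v hv)
  have hs : U ⊔ (X ⊓ perp B U) = X := by
    refine le_antisymm (sup_le hUX inf_le_left) fun x hx => ?_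
    let L : U →ₗ[F] Dual F U := B.domRestrict₁₂ U U
    have hinj : Function.Injective L := by
      rw [← LinearMap.ker_eq_bot, eq_bot_iff]
      intro u hu
      exact (mem_bot F).2 (Subtype.ext (hU u u.2 fun v hv => LinearMap.congr_fun (LinearMap.mem_ker.1 hu) ⟨v, hv⟩))
    obtain ⟨u, hu⟩ := (LinearMap.injective_iff_surjective_of_finrank_eq_finrank Subspace.dual_finrank_eq.symm).1 hinj
      ((B x).domRestrict U)
    refine mem_sup.2 ⟨u, u.2, x - u, ⟨X.sub_mem hx (hUX u.2), mem_perp.2 fun v hv => ?_⟩, add_sub_cancel _ _⟩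
    have e : B (u : V) v = B x v := LinearMap.congr_fun hu ⟨v, hv⟩
    rw [map_sub, ← LinearMap.IsAlt.neg hA (x : V) v, ← LinearMap.IsAlt.neg hA (u : V) v, e, sub_self]
  refine ⟨hd, hs, fun w hw h => hX w hw.1 fun v hv => ?_, ?_⟩
  · rw [← hs] at hv
    obtain ⟨u, hu, v', hv', rfl⟩ := mem_sup.1 hv
    rw [map_add, swap_zero hA (mem_perp.1 hw.2 u hu), h v' hv', add_zero]
  · have h := Submodule.finrank_sup_add_finrank_inf_eq U (X ⊓ perp B U)
    rw [hd.eq_bot, hs, finrank_bot, add_zero] at h
    exact h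

/-- Orthogonal nondegenerate subspaces. -/
theorem nd_sup (hA : B.IsAlt) {U W : Submodule F V} (hU : Nd B U) (hW : Nd B W)
    (h : ∀ u ∈ U, ∀ w ∈ W, B u w = 0) : Nd B (U ⊔ W) ∧ Disjoint U W := by
  refine ⟨fun x hx hx0 => ?_, ?_⟩
  · obtain ⟨u, hu, w, hw, rfl⟩ := mem_sup.1 hx
    have h1 : u = 0 := hU u hu fun v hv => by
      have := hx0 v (mem_sup_left hv)
      rwa [map_add, LinearMap.add_apply, swap_zero hA (h v hv w hw), add_zero] at this
    have h2 : w = 0 := hW w hw fun v hv => by
      have := hx0 v (mem_sup_right hv)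
      rwa [map_add, LinearMap.add_apply, h u hu v hv, zero_add] at this
    rw [h1, h2, add_zero]
  · rw [Submodule.disjoint_def]
    exact fun x hx hx' => hU x hx fun v hv => swap_zero hA (h v hv x hx')

/-- Nondegenerate subspaces of every even dimension. -/
theorem exists_nd_sub (hA : B.IsAlt) {X : Submodule F V} (hX : Nd B X) {m : ℕ} (hm : Even m)
    (hle : m ≤ finrank F X) : ∃ P ≤ X, Nd B P ∧ finrank F P = m := by
  obtain ⟨k, e, f, he, hf, hef, hee, hff, hspan⟩ := Forms.exists_symplectic_family B hA X hX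
  rw [Forms.finrank_eq_of_symplectic_family B hA X e f he hf hef hee hff hspan] at hle
  obtain ⟨l, rfl⟩ := hm
  have hlk : l ≤ k := by omega
  let e' : Fin l → V := e ∘ Fin.castLE hlk
  let f' : Fin l → V := f ∘ Fin.castLE hlk
  have h1 : ∀ i j, B (e' i) (f' j) = if i = j then 1 else 0 := fun i j => by
    simp [e', f', hef, (Fin.castLE_injective hlk).eq_iff]
  refine ⟨span F (Set.range (Sum.elim e' f')), ?_, ?_, ?_⟩
  · rw [span_le]; rintro _ ⟨i | i, rfl⟩ <;> simp [e', f', he, hf]
  · intro u hu h0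
    obtain ⟨g, rfl⟩ := (mem_span_range_iff_exists_fun F).1 hu
    have hg : g = 0 := by
      have hfe : ∀ i j, B (f' i) (e' j) = if j = i then -1 else 0 := fun i j => by
        rw [← LinearMap.IsAlt.neg hA (e' j) (f' i), h1]; split_ifs <;> simp
      have hee' : ∀ i j, B (e' i) (e' j) = 0 := fun i j => hee _ _
      have hff' : ∀ i j, B (f' i) (f' j) = 0 := fun i j => hff _ _
      funext s
      rcases s with s | s
      · have := h0 (f' s) (subset_span ⟨Sum.inr s, rfl⟩)
        simpa [Fintype.sum_sum_type, h1, hff'] using this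
      · have := h0 (e' s) (subset_span ⟨Sum.inl s, rfl⟩)
        simpa [Fintype.sum_sum_type, hfe, hee'] using this
    simp [hg]
  · rw [finrank_span_eq_card (Forms.linearIndependent_symplectic_family B hA e' f' h1
      (fun i j => hee _ _) fun i j => hff _ _), Fintype.card_sum, Fintype.card_fin]

/-- The orthogonal of an invariant subspace is invariant. -/
theorem map_perp_le {T : Module.End F V} (hT : ∀ u v, B (T u) (T v) = B u v) (hi : Function.Injective T)
    {U : Submodule F V} (hU : U.map T ≤ U) : (perp B U).map T ≤ perp B U := by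
  have heq : U.map T = U :=
    Submodule.eq_of_le_of_finrank_eq hU (Submodule.equivMapOfInjective T hi U).finrank_eq.symm
  rintro _ ⟨v, hv, rfl⟩
  refine mem_perp.2 fun u hu => ?_
  rw [← heq] at hu
  obtain ⟨u', hu', rfl⟩ := hu
  rw [hT]
  exact mem_perp.1 hv u' hu'

/-- A family of pairwise orthogonal nondegenerate subspaces is independent. -/
theorem indep_of_orth (hA : B.IsAlt) {κ : Type*} (D : κ → Submodule F V) (hD : ∀ j, Nd B (D j))
    (h : ∀ j j', j ≠ j' → ∀ u ∈ D j, ∀ v ∈ D j', B u v = 0) : iSupIndep D := by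
  intro j
  rw [Submodule.disjoint_def]
  intro w hw hw'
  refine hD j w hw fun y hy => swap_zero hA ?_
  refine (?_ : (⨆ i, ⨆ (_ : i ≠ j), D i) ≤ LinearMap.ker (B y)) hw'
  exact iSup₂_le fun i hi z hz => h j i (Ne.symm hi) y hy z hz

end General

section Order

open Polynomial

variable {F : Type*} [Field F] [Fintype F] {r : ℕ} [hr : Fact r.Prime]

/-- For even order of `q` modulo `r` the factors of the cyclotomic polynomial are self-reciprocal. -/
theorem dvd_comp_neg (hrF : (r : F) ≠ 0) {g : F[X]} (hg : Irreducible g)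
    (hdvd : g ∣ ∑ j ∈ Finset.range r, (X : F[X]) ^ j) {e : ℕ} (he : 0 < e)
    (hi : orderOf (Fintype.card F : ZMod r) = 2 * e) : g ∣ g.comp (X ^ (r - 1)) := by
  haveI := Fact.mk hg
  have hpow : AdjoinRoot.root g ^ r = 1 := by
    obtain ⟨c, hc⟩ : g ∣ X ^ r - 1 := by rw [← geom_sum_mul]; exact dvd_mul_of_dvd_left hdvd _
    have h0 := congrArg (AdjoinRoot.mk g) hc
    rw [map_mul, AdjoinRoot.mk_self, zero_mul, map_sub, map_pow, AdjoinRoot.mk_X, map_one, sub_eq_zero] at h0
    exact h0
  have hneg : ((Fintype.card F : ZMod r)) ^ e = -1 := by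
    have h1 : (Fintype.card F : ZMod r) ^ e * (Fintype.card F : ZMod r) ^ e = 1 := by
      rw [← pow_add, ← two_mul, ← hi, pow_orderOf_eq_one]
    refine (mul_self_eq_one_iff.1 h1).resolve_left fun h => ?_
    have := orderOf_le_of_pow_eq_one he h
    omega
  have hmod : Fintype.card F ^ e % r = r - 1 := by
    have h1 : ((Fintype.card F ^ e : ℕ) : ZMod r) = ((r - 1 : ℕ) : ZMod r) := by
      rw [Nat.cast_pow, hneg, Nat.cast_sub hr.out.one_le, ZMod.natCast_self, Nat.cast_one, zero_sub]
    have h2 := (ZMod.natCast_eq_natCast_iff' _ _ _).1 h1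
    rwa [Nat.mod_eq_of_lt (show r - 1 < r by have := hr.out.pos; omega)] at h2
  have hroot : AdjoinRoot.root g ^ (Fintype.card F ^ e) = AdjoinRoot.root g ^ (r - 1) := by
    rw [pow_eq_pow_mod _ hpow, hmod]
  have h0 : aeval (((FiniteField.frobeniusAlgHom F (AdjoinRoot g)) ^ e) (AdjoinRoot.root g)) g = 0 := by
    rw [aeval_algHom_apply, AdjoinRoot.aeval_eq, AdjoinRoot.mk_self, map_zero]
  rw [AlgHom.coe_pow, FiniteField.coe_frobeniusAlgHom, pow_iterate] at h0
  simp only [hroot] at h0
  rw [← AdjoinRoot.mk_eq_zero, ← AdjoinRoot.aeval_eq, aeval_comp, map_pow, aeval_X]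
  exact h0

variable {V : Type*} [AddCommGroup V] [Module F V] [FiniteDimensional F V]
variable {B : LinearMap.BilinForm F V} (hA : B.IsAlt) {T : Module.End F V}
variable (hT : ∀ u v, B (T u) (T v) = B u v) (hrF : (r : F) ≠ 0) (hf : T ^ r = 1)
variable {i c : ℕ} (hi : i = orderOf (Fintype.card F : ZMod r)) (hc : c = if Even i then i else 2 * i)

include hT in
theorem form_pow (k : ℕ) (u v : V) : B ((T ^ k) u) ((T ^ k) v) = B u v := by
  induction k with
  | zero => simp
  | succ k ih => rw [pow_succ', Module.End.mul_apply, Module.End.mul_apply, hT, ih]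

include hf in
theorem injective : Function.Injective T := by
  intro u v huv
  have h := congrArg (T ^ (r - 1)) huv
  rwa [← Module.End.mul_apply, ← Module.End.mul_apply, ← pow_succ, Nat.sub_add_cancel hr.out.one_le, hf,
    Module.End.one_apply, Module.End.one_apply] at h

include hT hf in
theorem adjoint (P : F[X]) (u w : V) :
    B u (aeval T P w) = B (aeval T (P.comp (X ^ (r - 1))) u) w := by
  induction P using Polynomial.induction_on' with
  | add P Q hP hQ => simp [map_add, add_comp, hP, hQ]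
  | monomial k a =>
    rw [monomial_comp, ← pow_mul, aeval_monomial, map_mul, aeval_C, map_pow, aeval_X]
    simp only [Module.algebraMap_end_eq_smul_id, LinearMap.smul_apply, Module.End.mul_apply, LinearMap.id_coe,
      id_eq, map_smul, smul_eq_mul]
    congr 1
    have e := form_pow hT k ((T ^ ((r - 1) * k)) u) w
    rw [← Module.End.mul_apply, ← pow_add,
      show k + (r - 1) * k = r * k by
        obtain ⟨s, hs⟩ : ∃ s, r = s + 1 := ⟨r - 1, by have := hr.out.pos; omega⟩
        rw [hs, Nat.add_sub_cancel]; ring,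
      pow_mul, hf, one_pow, Module.End.one_apply] at e
    exact e

include hA hT hrF hf in
/-- The moved part and the fixed part of a nondegenerate invariant subspace. -/
theorem nd_parts {W : Submodule F V} (hW : W.map T ≤ W) (hWn : Nd B W) :
    Nd B (W.map (T - 1)) ∧ Nd B (W ⊓ LinearMap.ker (T - 1)) ∧
      ∀ u ∈ LinearMap.ker (T - 1), ∀ v ∈ LinearMap.range (T - 1), B u v = 0 := by
  have horth : ∀ u ∈ LinearMap.ker (T - 1), ∀ v ∈ LinearMap.range (T - 1), B u v = 0 := by
    rintro u hu _ ⟨w, rfl⟩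
    rw [LinearMap.mem_ker, LinearMap.sub_apply, Module.End.one_apply, sub_eq_zero] at hu
    have e := hT u w
    rw [hu] at e
    rw [LinearMap.sub_apply, Module.End.one_apply, map_sub, e, sub_self]
  have hle : W.map (T - 1) ≤ W := by
    rintro _ ⟨v, hv, rfl⟩
    exact W.sub_mem (hW ⟨v, hv, rfl⟩) hv
  have hsup : W ⊓ LinearMap.ker (T - 1) ⊔ W.map (T - 1) = W := by
    refine Submodule.eq_of_le_of_finrank_eq (sup_le inf_le_left hle) ?_
    have h := Submodule.finrank_sup_add_finrank_inf_eq (W ⊓ LinearMap.ker (T - 1)) (W.map (T - 1))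
    rw [((disjoint_ker_range hrF hf).mono inf_le_right LinearMap.map_le_range).eq_bot, finrank_bot] at h
    have := finrank_split T W
    omega
  refine ⟨fun u hu h => hWn u (hle hu) fun v hv => ?_, fun u hu h => hWn u hu.1 fun v hv => ?_, horth⟩
  · rw [← hsup] at hv
    obtain ⟨a, ha, b, hb, rfl⟩ := mem_sup.1 hv
    rw [map_add, h b hb, add_zero]
    exact swap_zero hA (horth a ha.2 u (LinearMap.map_le_range hu))
  · rw [← hsup] at hv
    obtain ⟨a, ha, b, hb, rfl⟩ := mem_sup.1 hv
    rw [map_add, h a ha, zero_add]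
    exact horth u hu.2 b (LinearMap.map_le_range hb)

include hA hT hrF hf hi hc in
/-- The moved dimension of a nondegenerate invariant subspace. -/
theorem dvd_moved {W : Submodule F V} (hW : W.map T ≤ W) (hWn : Nd B W) :
    c ∣ finrank F (W.map (T - 1)) := by
  have h1 := dvd_finrank_moved hrF hf hW
  rw [← hi] at h1
  have h2 : Even (finrank F (W.map (T - 1))) := AltSim.even_finrank B hA _ (nd_parts hA hT hrF hf hW hWn).1
  rw [hc]
  split_ifs with he
  · exact h1
  · exact (Nat.Coprime.mul_dvd_of_dvd_of_dvd (Nat.coprime_two_left.2 (Nat.not_even_iff_odd.1 he)) h2.two_dvd h1)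

include hrF hf hi in
/-- A nonzero invariant subspace without fixed vectors has dimension a multiple of `i`. -/
theorem dvd_of_le_range {P : Submodule F V} (hP : P.map T ≤ P) (hle : P ≤ LinearMap.range (T - 1)) :
    i ∣ finrank F P := by
  have h := finrank_mod hrF hf hP
  rw [((disjoint_ker_range hrF hf).symm.mono_left hle).eq_bot, finrank_bot, Nat.zero_mod, ← hi] at h
  exact Nat.dvd_of_mod_eq_zero h

/-- The cyclic subspace of a vector killed by an irreducible polynomial. -/
theorem exists_cyclic {g : F[X]} (hg : Irreducible g) {R : Submodule F V} (hR : R.map T ≤ R) {u : V}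
    (hu : u ∈ R) (hgu : aeval T g u = 0) :
    ∃ P ≤ R, P.map T ≤ P ∧ u ∈ P ∧ finrank F P ≤ g.natDegree := by
  set P := span F (Set.range fun j : Fin g.natDegree => (T ^ (j : ℕ)) u) with hP
  have hpoly : ∀ Q : F[X], aeval T Q u ∈ P := fun Q => by
    have e : aeval T (Q % g) u = aeval T Q u := by
      conv_rhs => rw [← EuclideanDomain.mod_add_div Q g]
      rw [map_add, mul_comm g, map_mul, LinearMap.add_apply, Module.End.mul_apply, hgu, map_zero, add_zero]
    rw [← e, aeval_eq_sum_range' (n := g.natDegree) (natDegree_mod_lt Q hg.natDegree_pos.ne'),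
      LinearMap.sum_apply]
    refine sum_mem fun j hj => ?_
    rw [LinearMap.smul_apply]
    exact P.smul_mem _ (subset_span ⟨⟨j, Finset.mem_range.1 hj⟩, rfl⟩)
  refine ⟨P, span_le.2 ?_, ?_, by simpa using hpoly 1, (finrank_range_le_card _).trans (by simp)⟩
  · rintro _ ⟨j, rfl⟩
    have h := aeval_mem hR ((X : F[X]) ^ (j : ℕ)) hu
    rwa [map_pow, aeval_X] at h
  · rw [hP, Submodule.map_span_le]
    rintro _ ⟨j, rfl⟩
    have h := hpoly ((X : F[X]) ^ ((j : ℕ) + 1))
    rwa [map_pow, aeval_X, pow_succ', Module.End.mul_apply] at h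

include hA hT hrF hf hi hc in
/-- An invariant nondegenerate piece of dimension `c`. -/
theorem exists_piece (hr2 : r ≠ 2) {R : Submodule F V} (hRi : R.map T ≤ R) (hRn : Nd B R)
    (hle : R ≤ LinearMap.range (T - 1)) (hne : R ≠ ⊥) :
    ∃ P ≤ R, P.map T ≤ P ∧ Nd B P ∧ finrank F P = c := by
  obtain ⟨L, hL, hL0⟩ := exists_factor_list (P := ∑ j ∈ Finset.range r, (X : F[X]) ^ j) (geom_ne_zero hrF) T
  obtain ⟨v, hv, hv0⟩ := R.exists_mem_ne_zero_of_ne_bot hne
  obtain ⟨g, hg, u, huR, hu0, hgu⟩ := exists_factor_vec (W := (⊥ : Submodule F V)) hRi L v hv (by simpa using hv0) (by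
    obtain ⟨w, rfl⟩ := hle hv
    rw [hL0 _ (geom_apply_sub hf w)]
    exact zero_mem _)
  rw [mem_bot] at hu0 hgu
  have hdeg : g.natDegree = i := (natDegree_eq_orderOf hrF (hL g hg).1 (hL g hg).2).trans hi.symm
  have hgi := (hL g hg).1
  have hipos : 0 < i := hdeg ▸ hgi.natDegree_pos
  have hinj := injective hf
  have hcyc : ∀ w ∈ R, w ≠ 0 → aeval T g w = 0 → ∃ P ≤ R, P.map T ≤ P ∧ w ∈ P ∧ finrank F P = i ∧
      (Nd B P ∨ ∀ a ∈ P, ∀ b ∈ P, B a b = 0) := by
    intro w hw hw0 hgw
    obtain ⟨P, hPR, hPi, hwP, hPd⟩ := exists_cyclic hgi hRi hw hgw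
    have hPd' : finrank F P = i := by
      refine le_antisymm (hdeg ▸ hPd) (Nat.le_of_dvd ?_ (dvd_of_le_range hrF hf hi hPi (hPR.trans hle)))
      exact Nat.pos_of_ne_zero fun h0 => hw0 (by rw [Submodule.finrank_eq_zero.1 h0] at hwP; simpa using hwP)
    refine ⟨P, hPR, hPi, hwP, hPd', ?_⟩
    have hK : (P ⊓ perp B P).map T ≤ P ⊓ perp B P :=
      (Submodule.map_inf_le T).trans (inf_le_inf hPi (map_perp_le hT hinj hPi))
    obtain ⟨k, hk⟩ := dvd_of_le_range hrF hf hi hK (inf_le_left.trans (hPR.trans hle))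
    rcases Nat.eq_zero_or_pos k with rfl | hk0
    · refine Or.inl fun a ha h => ?_
      have hbot : P ⊓ perp B P = ⊥ := Submodule.finrank_eq_zero.1 (by rw [hk, mul_zero])
      rw [← mem_bot F, ← hbot]
      exact ⟨ha, mem_perp.2 fun b hb => swap_zero hA (h b hb)⟩
    · refine Or.inr fun a ha b hb => ?_
      have heq : P ⊓ perp B P = P := Submodule.eq_of_le_of_finrank_le inf_le_left (by
        rw [hk, hPd']; exact Nat.le_mul_of_pos_right _ hk0)
      exact mem_perp.1 (heq.symm ▸ hb : b ∈ P ⊓ perp B P).2 a ha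
  by_cases hev : Even i
  · rw [if_pos hev] at hc
    obtain ⟨e, he⟩ := hev
    set K := R ⊓ LinearMap.ker (aeval T g) with hK
    have hKi : K.map T ≤ K := by
      rintro _ ⟨w, ⟨hwR, hwg⟩, rfl⟩
      refine ⟨hRi ⟨w, hwR, rfl⟩, ?_⟩
      rw [SetLike.mem_coe, LinearMap.mem_ker] at hwg ⊢
      have : aeval T g * T = T * aeval T g := by
        have h := congrArg (aeval T) (mul_comm g X)
        simpa using h
      rw [← Module.End.mul_apply, this, Module.End.mul_apply, hwg, map_zero]
    have hKn : Nd B K := by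
      obtain ⟨X', hd, hs, hX'⟩ := exists_invariant_compl_in hrF one_ne_zero
        (show T ^ r = (1 : F) • 1 by rw [one_smul]; exact hf) hKi hRi inf_le_left
      have hX'R : X' ≤ R := hs ▸ le_sup_right
      have himg : X'.map (aeval T g) = X' := by
        refine Submodule.eq_of_le_of_finrank_eq (by rintro _ ⟨w, hw, rfl⟩; exact aeval_mem hX' g hw) ?_
        have h := LinearMap.finrank_range_of_inj (f := (aeval T g).domRestrict X') (by
          rw [← LinearMap.ker_eq_bot, Submodule.eq_bot_iff]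
          rintro ⟨w, hw⟩ h0
          exact Subtype.ext (Submodule.disjoint_def.1 hd w ⟨hX'R hw, h0⟩ hw))
        rwa [LinearMap.range_domRestrict] at h
      intro a ha h
      refine hRn a ha.1 fun b hb => ?_
      rw [← hs] at hb
      obtain ⟨k, hk, x', hx', rfl⟩ := mem_sup.1 hb
      rw [← himg] at hx'
      obtain ⟨w, -, rfl⟩ := hx'
      obtain ⟨q, hq⟩ := dvd_comp_neg hrF hgi (hL g hg).2 (e := e) (by omega) (by rw [← hi, he, two_mul])
      rw [map_add, h k hk, zero_add, adjoint hT hf, hq, mul_comm, map_mul, Module.End.mul_apply,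
        LinearMap.mem_ker.1 ha.2, map_zero, map_zero, LinearMap.zero_apply]
    by_cases hex : ∃ w ∈ K, B w (T w) ≠ 0
    · obtain ⟨w, ⟨hwR, hwg⟩, hw1⟩ := hex
      obtain ⟨P, hPR, hPi, hwP, hPd, hP⟩ := hcyc w hwR (fun h0 => hw1 (by simp [h0])) (LinearMap.mem_ker.1 hwg)
      exact ⟨P, hPR, hPi, hP.resolve_right fun h => hw1 (h w hwP _ (hPi ⟨w, hwP, rfl⟩)), hPd.trans hc.symm⟩
    · push Not at hex
      exfalso
      have hsq : (T ^ 2) u = u := by
        have huK : u ∈ K := ⟨huR, LinearMap.mem_ker.2 hgu⟩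
        have hz : T u - (T ^ (r - 1)) u = 0 := by
          have h1 : (T ^ (r - 1)) u ∈ K := by
            have := aeval_mem hKi ((X : F[X]) ^ (r - 1)) huK
            rwa [map_pow, aeval_X] at this
          refine hKn _ (K.sub_mem (hKi ⟨u, huK, rfl⟩) h1) fun a ha => ?_
          have e1 := hex (u + a) (K.add_mem huK ha)
          simp only [map_add, LinearMap.add_apply, hex u huK, hex a ha, zero_add, add_zero] at e1
          have e2 : B ((T ^ (r - 1)) u) a = B u (T a) := by
            have := adjoint hT hf (X : F[X]) u a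
            rw [aeval_X, X_comp, map_pow, aeval_X] at this
            exact this.symm
          rw [map_sub, LinearMap.sub_apply, e2, ← LinearMap.IsAlt.neg hA a (T u)]
          linear_combination -e1
        have := congrArg T hz
        rw [map_sub, map_zero, sub_eq_zero, ← Module.End.mul_apply, ← Module.End.mul_apply, ← pow_succ',
          Nat.sub_add_cancel hr.out.one_le, hf, ← pow_two] at this
        exact this
      have hodd : ∀ k, (T ^ (2 * k + 1)) u = T u := fun k => by
        induction k with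
        | zero => simp
        | succ k ih =>
          rw [show 2 * (k + 1) + 1 = (2 * k + 1) + 2 by ring, pow_add, Module.End.mul_apply, hsq, ih]
      obtain ⟨k, hk⟩ := hr.out.odd_of_ne_two hr2
      have hfix : T u = u := by
        rw [← hodd k, ← hk, hf, Module.End.one_apply]
      exact hu0 (Submodule.disjoint_def.1 (disjoint_ker_range hrF hf) u
        (by rw [LinearMap.mem_ker, LinearMap.sub_apply, Module.End.one_apply, hfix, sub_self]) (hle huR))
  · rw [if_neg hev] at hc
    obtain ⟨P, hPR, hPi, huP, hPd, hP⟩ := hcyc u huR hu0 hgu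
    have hTI : ∀ a ∈ P, ∀ b ∈ P, B a b = 0 :=
      hP.resolve_left fun h => hev (hPd ▸ AltSim.even_finrank B hA P h)
    set Y := R ⊓ perp B P with hY
    have hYi : Y.map T ≤ Y := (Submodule.map_inf_le T).trans (inf_le_inf hRi (map_perp_le hT hinj hPi))
    have hPY : P ≤ Y := le_inf hPR fun a ha => mem_perp.2 fun b hb => hTI b hb a ha
    obtain ⟨Q, hd, hs, hQi⟩ := exists_invariant_compl_in hrF one_ne_zero
      (show T ^ r = (1 : F) • 1 by rw [one_smul]; exact hf) hYi hRi inf_le_left
    have hQR : Q ≤ R := hs ▸ le_sup_right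
    have hQY : ∀ q ∈ Q, (∀ a ∈ P, B q a = 0) → q = 0 := fun q hq h =>
      Submodule.disjoint_def.1 hd q ⟨hQR hq, mem_perp.2 fun a ha => swap_zero hA (h a ha)⟩ hq
    have hQd : finrank F Q = i := by
      refine le_antisymm (hPd ▸ AltSim.finrank_le_of_pairing B Q P hQY)
        (Nat.le_of_dvd ?_ (dvd_of_le_range hrF hf hi hQi (hQR.trans hle)))
      refine Nat.pos_of_ne_zero fun h0 => hu0 (hRn u huR fun b hb => ?_)
      rw [← hs, Submodule.finrank_eq_zero.1 h0, sup_bot_eq] at hb
      exact mem_perp.1 hb.2 u huP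
    refine ⟨P ⊔ Q, sup_le hPR hQR, by rw [Submodule.map_sup]; exact sup_le_sup hPi hQi, ?_, ?_⟩
    · intro w hw h
      obtain ⟨a, ha, q, hq, rfl⟩ := mem_sup.1 hw
      have hq0 : q = 0 := hQY q hq fun b hb => by
        have := h b (mem_sup_left hb)
        rwa [map_add, LinearMap.add_apply, hTI a ha b hb, zero_add] at this
      subst hq0
      rw [add_zero] at h ⊢
      refine hRn a (hPR ha) fun b hb => ?_
      rw [← hs] at hb
      obtain ⟨y, hy, q, hq, rfl⟩ := mem_sup.1 hb
      rw [map_add, mem_perp.1 hy.2 a ha, h q (mem_sup_right hq), add_zero]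
    · have h := Submodule.finrank_sup_add_finrank_inf_eq P Q
      rw [(hd.mono_left hPY).eq_bot, finrank_bot, hPd, hQd] at h
      omega

include hA hT hrF hf hi hc in
/-- Invariant nondegenerate subspaces of all admissible dimensions without fixed vectors. -/
theorem exists_pieces (hr2 : r ≠ 2) (hcpos : 0 < c) : ∀ (m : ℕ) {R : Submodule F V}, R.map T ≤ R → Nd B R →
    R ≤ LinearMap.range (T - 1) → m * c ≤ finrank F R →
      ∃ P ≤ R, P.map T ≤ P ∧ Nd B P ∧ finrank F P = m * c := by
  intro m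
  induction m with
  | zero =>
    exact fun _ _ _ _ => ⟨⊥, bot_le, by simp, fun u hu _ => (mem_bot F).1 hu, by simp⟩
  | succ m ih =>
    intro R hRi hRn hle hm
    rw [Nat.succ_mul] at hm ⊢
    obtain ⟨P₁, h1, h2, h3, h4⟩ := exists_piece hA hT hrF hf hi hc hr2 hRi hRn hle (fun h => by
      rw [h, finrank_bot] at hm; omega)
    obtain ⟨hd, -, hn', hfr⟩ := split hA h1 h3 hRn
    obtain ⟨P₂, g1, g2, g3, g4⟩ := ih ((Submodule.map_inf_le T).trans (inf_le_inf hRi (map_perp_le hT (injective hf) h2)))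
      hn' (inf_le_left.trans hle) (by omega)
    obtain ⟨hsn, hdis⟩ := nd_sup hA h3 g3 fun a ha b hb => mem_perp.1 (g1 hb).2 a ha
    refine ⟨P₁ ⊔ P₂, sup_le h1 (g1.trans inf_le_left), by rw [Submodule.map_sup]; exact sup_le_sup h2 g2, hsn, ?_⟩
    have h := Submodule.finrank_sup_add_finrank_inf_eq P₁ P₂
    rw [hdis.eq_bot, finrank_bot, h4, g4] at h
    omega

include hA hT hrF hf hi hc in
/-- An invariant nondegenerate subspace of even dimension `a`, with `dim` of its fixed part minimal. -/
theorem exists_sub (hr2 : r ≠ 2) (hcpos : 0 < c) {a : ℕ} (ha : Even a) {X : Submodule F V} (hXi : X.map T ≤ X)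
    (hXn : Nd B X) (hle : a ≤ finrank F X) (hfix : a % c ≤ finrank F ↥(X ⊓ LinearMap.ker (T - 1))) :
    ∃ U ≤ X, U.map T ≤ U ∧ Nd B U ∧ finrank F U = a ∧
      finrank F ↥(X ⊓ LinearMap.ker (T - 1)) - finrank F ↥((X ⊓ perp B U) ⊓ LinearMap.ker (T - 1)) ≤
        max (a % c) (a - finrank F (X.map (T - 1))) := by
  obtain ⟨hRn, hCn, horth⟩ := nd_parts hA hT hrF hf hXi hXn
  obtain ⟨s, hs⟩ := dvd_moved hA hT hrF hf hi hc hXi hXn
  rw [mul_comm] at hs
  have hsplit := finrank_split T X
  have hRi : (X.map (T - 1)).map T ≤ X.map (T - 1) := by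
    rintro _ ⟨_, ⟨v, hv, rfl⟩, rfl⟩
    exact ⟨T v, hXi ⟨v, hv, rfl⟩, by simp⟩
  have hRX : X.map (T - 1) ≤ X := by
    rintro _ ⟨v, hv, rfl⟩
    exact X.sub_mem (hXi ⟨v, hv, rfl⟩) hv
  have hac : a / c * c ≤ a := Nat.div_mul_le_self a c
  set m := min (a / c) s with hm
  have hmc : m * c ≤ a := (Nat.mul_le_mul_right _ (min_le_left _ _)).trans hac
  obtain ⟨P, hP1, hP2, hP3, hP4⟩ := exists_pieces hA hT hrF hf hi hc hr2 hcpos m hRi hRn LinearMap.map_le_range
    (by rw [hs]; exact Nat.mul_le_mul_right _ (min_le_right _ _))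
  have hcev : Even c := by rw [hc]; split_ifs with h <;> [exact h; exact even_two_mul i]
  have hbound : a - m * c ≤ finrank F ↥(X ⊓ LinearMap.ker (T - 1)) ∧
      a - m * c ≤ max (a % c) (a - finrank F (X.map (T - 1))) := by
    rcases le_total (a / c) s with h | h
    · rw [hm, min_eq_left h]
      have := Nat.div_add_mod a c
      rw [mul_comm] at this
      omega
    · rw [hm, min_eq_right h]
      omega
  obtain ⟨E, hE1, hE3, hE4⟩ := exists_nd_sub hA hCn (m := a - m * c)
    ((Nat.even_sub hmc).2 (iff_of_true ha (hcev.mul_left m))) hbound.1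
  obtain ⟨hUn, hdis⟩ := nd_sup hA hE3 hP3 fun x hx y hy => horth x (hE1 hx).2 y (LinearMap.map_le_range (hP1 hy))
  refine ⟨E ⊔ P, sup_le (hE1.trans inf_le_left) (hP1.trans hRX), ?_, hUn, ?_, ?_⟩
  · rw [Submodule.map_sup]
    refine sup_le_sup ?_ hP2
    rintro _ ⟨v, hv, rfl⟩
    have hv' := (hE1 hv).2
    rw [SetLike.mem_coe, LinearMap.mem_ker, LinearMap.sub_apply, Module.End.one_apply, sub_eq_zero] at hv'
    rwa [hv']
  · have h := Submodule.finrank_sup_add_finrank_inf_eq E P
    rw [hdis.eq_bot, finrank_bot, hE4, hP4] at h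
    omega
  · obtain ⟨-, -, -, hfr⟩ := split hA hE1 hE3 hCn
    have hsub : X ⊓ LinearMap.ker (T - 1) ⊓ perp B E ≤ (X ⊓ perp B (E ⊔ P)) ⊓ LinearMap.ker (T - 1) := by
      rintro v ⟨⟨hvX, hvC⟩, hvE⟩
      refine ⟨⟨hvX, mem_perp.2 fun w hw => ?_⟩, hvC⟩
      obtain ⟨x, hx, y, hy, rfl⟩ := mem_sup.1 hw
      rw [map_add, LinearMap.add_apply, mem_perp.1 hvE x hx,
        swap_zero hA (horth v hvC y (LinearMap.map_le_range (hP1 hy))), add_zero]
    have h1 := Submodule.finrank_mono hsub
    omega

include hA hT hrF hf hi hc in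
/-- Orthogonal invariant blocks. -/
theorem exists_blocks (hr2 : r ≠ 2) (hcpos : 0 < c) {a : ℕ} (ha : Even a) :
    ∀ (k : ℕ) {X : Submodule F V}, X.map T ≤ X → Nd B X → finrank F X = k * a →
      k * (a % c) ≤ finrank F ↥(X ⊓ LinearMap.ker (T - 1)) →
      ∃ D : Fin k → Submodule F V, (∀ j, D j ≤ X ∧ (D j).map T ≤ D j ∧ Nd B (D j) ∧ finrank F (D j) = a) ∧
        (∀ j j', j ≠ j' → ∀ u ∈ D j, ∀ v ∈ D j', B u v = 0) ∧ iSup D = X := by
  intro k
  induction k with
  | zero =>
    intro X _ _ hd _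
    refine ⟨Fin.elim0, fun j => j.elim0, fun j => j.elim0, ?_⟩
    rw [Submodule.finrank_eq_zero.1 (by rw [hd, zero_mul] : finrank F X = 0)]
    simp
  | succ k ih =>
    intro X hXi hXn hd hk
    rw [Nat.succ_mul] at hd hk
    obtain ⟨U, hU1, hU2, hU3, hU4, hU5⟩ := exists_sub hA hT hrF hf hi hc hr2 hcpos ha hXi hXn (by omega) (by omega)
    obtain ⟨hdis, hsup, hn', hfr⟩ := split hA hU1 hU3 hXn
    have hsplit := finrank_split T X
    obtain ⟨D, hD, hDo, hDs⟩ := ih ((Submodule.map_inf_le T).trans (inf_le_inf hXi (map_perp_le hT (injective hf) hU2)))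
      hn' (by omega) (by
        have : k * (a % c) ≤ k * a := Nat.mul_le_mul_left _ (Nat.mod_le _ _)
        omega)
    refine ⟨Fin.cons U D, ?_, ?_, ?_⟩
    · refine Fin.cases ⟨hU1, hU2, hU3, hU4⟩ fun j => ?_
      exact ⟨(hD j).1.trans inf_le_left, (hD j).2⟩
    · intro j j' hne
      induction j using Fin.cases with
      | zero =>
        induction j' using Fin.cases with
        | zero => exact absurd rfl hne
        | succ j' => exact fun u hu v hv => mem_perp.1 ((hD j').1 hv).2 u hu
      | succ j =>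
        induction j' using Fin.cases with
        | zero => exact fun u hu v hv => swap_zero hA (mem_perp.1 ((hD j).1 hu).2 v hv)
        | succ j' => exact hDo j j' fun e => hne (by rw [e])
    · refine le_antisymm (iSup_le fun j => ?_) ?_
      · induction j using Fin.cases with
        | zero => exact hU1
        | succ j => exact (hD j).1.trans inf_le_left
      · rw [← hsup, ← hDs]
        refine sup_le (le_iSup_of_le 0 (by rw [Fin.cons_zero])) (iSup_le fun j => ?_)
        exact le_iSup_of_le j.succ (by rw [Fin.cons_succ])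

end Order

end Cfsg.Agent.ClMax99.SympInv
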