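import Cfsg.Agent.ClMax99.SympInv
import Cfsg.Agent.ClMax99.JordanType
import Cfsg.Agent.KnownSimple58.SpElements

/-!
Skew nilpotent maps of a nondegenerate alternating form in odd characteristic: orthogonal Jordan blocks,
and realisation of every symplectic type.
-/

set_option autoImplicit false
set_option linter.unusedSectionVars false

namespace Cfsg.Agent.ClMax99.SympJordan

open Module Submodule SympInv

/-- Odd parts have even multiplicity. -/
def Par (μ : Multiset ℕ) : Prop := ∀ a, Odd a → Even (μ.count a)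

section Decomp

variable {F V : Type*} [Field F] [AddCommGroup V] [Module F V] [FiniteDimensional F V]
variable {B : LinearMap.BilinForm F V} (hA : B.IsAlt) {N : Module.End F V}
variable (hN : ∀ u v, B (N u) v = -B u (N v))

include hN in
theorem skew_pow (j : ℕ) : ∀ u v, B ((N ^ j) u) v = (-1) ^ j * B u ((N ^ j) v) := by
  induction j with
  | zero => simp
  | succ j ih =>
    intro u v
    rw [pow_succ', Module.End.mul_apply, hN, ih, ← Module.End.mul_apply (N ^ j) N, ← pow_succ, pow_succ' (-1 : F)]
    rw [neg_one_mul, neg_mul, pow_succ' N j]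

theorem map_pow_le {X : Submodule F V} (hX : X.map N ≤ X) (j : ℕ) : ∀ v ∈ X, (N ^ j) v ∈ X := by
  induction j with
  | zero => simp
  | succ j ih =>
    intro v hv
    rw [pow_succ', Module.End.mul_apply]
    exact hX ⟨_, ih v hv, rfl⟩

include hA hN in
theorem map_perp_le' {U : Submodule F V} (hU : U.map N ≤ U) : (perp B U).map N ≤ perp B U := by
  rintro _ ⟨v, hv, rfl⟩
  refine mem_perp.2 fun u hu => ?_
  rw [← neg_neg (B u (N v)), ← hN, mem_perp.1 hv _ (hU ⟨u, hu, rfl⟩), neg_zero]

/-- Rank and nullity on a subspace. -/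
theorem finrank_map_add (f : Module.End F V) (W : Submodule F V) :
    finrank F (W.map f) + finrank F ↥(W ⊓ LinearMap.ker f) = finrank F W := by
  have h := LinearMap.finrank_range_add_finrank_ker (f.domRestrict W)
  rw [LinearMap.range_domRestrict, LinearMap.ker_domRestrict] at h
  rw [← h, add_right_inj]
  exact ((Submodule.equivMapOfInjective W.subtype W.injective_subtype _).finrank_eq.trans
      (by rw [Submodule.map_comap_subtype])).symm

/-- Kernels in a direct sum of invariant subspaces. -/
theorem finrank_inf_ker_add (f : Module.End F V) {U W : Submodule F V} (hd : Disjoint U W)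
    (hU : U.map f ≤ U) (hW : W.map f ≤ W) :
    finrank F ↥((U ⊔ W) ⊓ LinearMap.ker f) =
      finrank F ↥(U ⊓ LinearMap.ker f) + finrank F ↥(W ⊓ LinearMap.ker f) := by
  have he : (U ⊔ W) ⊓ LinearMap.ker f = (U ⊓ LinearMap.ker f) ⊔ (W ⊓ LinearMap.ker f) := by
    refine le_antisymm ?_ (sup_le (inf_le_inf_right _ le_sup_left) (inf_le_inf_right _ le_sup_right))
    rintro x ⟨hx, hx0⟩
    obtain ⟨u, hu, w, hw, rfl⟩ := mem_sup.1 hx
    rw [SetLike.mem_coe, LinearMap.mem_ker, map_add] at hx0
    have h1 : f u = 0 := Submodule.disjoint_def.1 hd _ (hU ⟨u, hu, rfl⟩)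
      (by rw [eq_neg_of_add_eq_zero_left hx0]; exact W.neg_mem (hW ⟨w, hw, rfl⟩))
    rw [h1, zero_add] at hx0
    exact add_mem_sup ⟨hu, h1⟩ ⟨hw, hx0⟩
  have h := Submodule.finrank_sup_add_finrank_inf_eq (U ⊓ LinearMap.ker f) (W ⊓ LinearMap.ker f)
  rw [(hd.mono inf_le_left inf_le_left).eq_bot, finrank_bot, add_zero, ← he] at h
  exact h

include hA hN in
/-- The span of Jordan chains with a nonsingular leading Gram matrix. -/
theorem chains {X : Submodule F V} (hXi : X.map N ≤ X) {k l : ℕ} (hk0 : ∀ v ∈ X, (N ^ k) v = 0)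
    (g : Fin l → V) (hg : ∀ s, g s ∈ X)
    (hG : ∀ c : Fin l → F, (∀ t, ∑ s, c s * B (g t) ((N ^ (k - 1)) (g s)) = 0) → c = 0) :
    ∃ P ≤ X, P.map N ≤ P ∧ Nd B P ∧ finrank F P = l * k ∧
      ∀ j, finrank F ↥(P ⊓ LinearMap.ker (N ^ j)) = JType.nul (Multiset.replicate l k) j := by
  classical
  let b : Fin l × Fin k → V := fun x => (N ^ (x.2 : ℕ)) (g x.1)
  have hz : ∀ m, k ≤ m → ∀ s, (N ^ m) (g s) = 0 := fun m hm s => by
    rw [show m = k + (m - k) by omega, pow_add, Module.End.mul_apply]
    exact hk0 _ (map_pow_le hXi _ _ (hg s))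
  have key : ∀ c : Fin l × Fin k → F, (∀ y, B (b y) (∑ x, c x • b x) = 0) → c = 0 := by
    intro c hc
    suffices h : ∀ a, ∀ ha : a < k, ∀ s, c (s, ⟨a, ha⟩) = 0 from funext fun x => h x.2 x.2.2 x.1
    intro a
    induction a using Nat.strong_induction_on with
    | _ a ih =>
      intro ha s
      refine congrFun (hG (fun s => c (s, ⟨a, ha⟩)) fun t => ?_) s
      have h := hc (t, ⟨k - 1 - a, by omega⟩)
      simp only [map_sum, map_smul, smul_eq_mul, b] at h
      rw [Fintype.sum_prod_type] at h
      have hin : ∀ s, ∑ a' : Fin k, c (s, a') * B ((N ^ (k - 1 - a)) (g t)) ((N ^ (a' : ℕ)) (g s)) =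
          (-1) ^ (k - 1 - a) * (c (s, ⟨a, ha⟩) * B (g t) ((N ^ (k - 1)) (g s))) := fun s => by
        rw [Finset.sum_eq_single (⟨a, ha⟩ : Fin k)]
        · rw [skew_pow hN, ← Module.End.mul_apply, ← pow_add, show k - 1 - a + a = k - 1 by omega]; ring
        · intro a' _ hne
          rcases lt_or_gt_of_ne (fun e : (a' : ℕ) = a => hne (Fin.ext e)) with hlt | hgt
          · rw [ih a' hlt a'.2 s, zero_mul]
          · rw [skew_pow hN, ← Module.End.mul_apply, ← pow_add, hz _ (by omega), map_zero, mul_zero, mul_zero]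
        · exact fun h => absurd (Finset.mem_univ _) h
      rw [Finset.sum_congr rfl fun s _ => hin s, ← Finset.mul_sum] at h
      exact (mul_eq_zero.1 h).resolve_left (pow_ne_zero _ (neg_ne_zero.2 one_ne_zero))
  have hli : LinearIndependent F b := by
    rw [Fintype.linearIndependent_iff]
    exact fun c hc x => congrFun (key c fun y => by rw [hc, map_zero]) x
  set P := span F (Set.range b) with hP
  have hfin : finrank F P = l * k := by
    rw [hP, finrank_span_eq_card hli, Fintype.card_prod, Fintype.card_fin, Fintype.card_fin]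
  have hmem : ∀ m s, (N ^ m) (g s) ∈ P := fun m s => by
    by_cases hm : m < k
    · exact subset_span ⟨(s, ⟨m, hm⟩), rfl⟩
    · rw [hz m (by omega) s]; exact zero_mem _
  refine ⟨P, span_le.2 ?_, ?_, ?_, hfin, fun j => ?_⟩
  · rintro _ ⟨x, rfl⟩; exact map_pow_le hXi _ _ (hg _)
  · rw [hP, Submodule.map_span_le]
    rintro _ ⟨x, rfl⟩
    show N ((N ^ (x.2 : ℕ)) (g x.1)) ∈ P
    rw [← Module.End.mul_apply, ← pow_succ']
    exact hmem _ _
  · intro u hu h0
    obtain ⟨c, rfl⟩ := (mem_span_range_iff_exists_fun F).1 hu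
    rw [key c fun y => swap_zero hA (h0 _ (subset_span ⟨y, rfl⟩))]
    simp
  · have h1 := finrank_map_add (N ^ j) P
    have h2 : finrank F (P.map (N ^ j)) = l * (k - j) := by
      let ι : Fin l × Fin (k - j) → Fin l × Fin k := fun x => (x.1, ⟨j + x.2, by have := x.2.2; omega⟩)
      have hι : Function.Injective ι := fun x y e => by
        simp only [ι, Prod.mk.injEq, Fin.mk.injEq, add_right_inj] at e
        exact Prod.ext e.1 (Fin.ext e.2)
      have he : P.map (N ^ j) = span F (Set.range (b ∘ ι)) := by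
        refine le_antisymm ?_ (span_le.2 ?_)
        · rw [hP, Submodule.map_span_le]
          rintro _ ⟨x, rfl⟩
          show (N ^ j) ((N ^ (x.2 : ℕ)) (g x.1)) ∈ _
          rw [← Module.End.mul_apply, ← pow_add]
          by_cases hm : j + (x.2 : ℕ) < k
          · exact subset_span ⟨(x.1, ⟨x.2, by omega⟩), rfl⟩
          · rw [hz _ (by omega)]; exact zero_mem _
        · rintro _ ⟨x, rfl⟩
          refine ⟨(N ^ (x.2 : ℕ)) (g x.1), hmem _ _, ?_⟩
          rw [← Module.End.mul_apply, ← pow_add]
          rfl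
      rw [he, finrank_span_eq_card (hli.comp ι hι), Fintype.card_prod, Fintype.card_fin, Fintype.card_fin]
    have h3 : JType.nul (Multiset.replicate l k) j = l * min k j := by simp [JType.nul]
    rw [h3]
    rw [h2, hfin] at h1
    rcases le_total k j with h | h
    · rw [min_eq_left h]
      rw [Nat.sub_eq_zero_of_le h] at h1
      omega
    · rw [min_eq_right h]
      rw [Nat.mul_sub] at h1
      have := Nat.mul_le_mul_left l h
      omega

include hA hN in
/-- One orthogonal block of maximal height. -/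
theorem exists_top (h2 : (2 : F) ≠ 0) {X : Submodule F V} (hXi : X.map N ≤ X) (hXn : Nd B X) {k : ℕ}
    (hk : 0 < k) (hk0 : ∀ v ∈ X, (N ^ k) v = 0) (hk1 : ∃ v ∈ X, (N ^ (k - 1)) v ≠ 0) :
    ∃ P ≤ X, P.map N ≤ P ∧ Nd B P ∧ finrank F P = (if Even k then 1 else 2) * k ∧
      ∀ j, finrank F ↥(P ⊓ LinearMap.ker (N ^ j)) =
        JType.nul (Multiset.replicate (if Even k then 1 else 2) k) j := by
  set M := N ^ (k - 1) with hM
  obtain ⟨v₀, hv₀, hMv⟩ := hk1
  have hne : ∃ u ∈ X, ∃ w ∈ X, B u (M w) ≠ 0 := by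
    by_contra hc
    push Not at hc
    exact hMv (hXn _ (map_pow_le hXi _ _ hv₀) fun v hv => swap_zero hA (hc v hv v₀ hv₀))
  have hsym : ∀ u w, B w (M u) = (-1) ^ k * B u (M w) := fun u w => by
    rw [← LinearMap.IsAlt.neg hA (M u) w, hM, skew_pow hN]
    obtain ⟨k', rfl⟩ : ∃ k', k = k' + 1 := ⟨k - 1, by omega⟩
    rw [pow_succ, Nat.add_sub_cancel]
    ring
  obtain ⟨u, hu, w, hw, huw⟩ := hne
  by_cases hev : Even k
  · rw [if_pos hev]
    obtain ⟨v, hv, hvv⟩ : ∃ v ∈ X, B v (M v) ≠ 0 := by
      by_contra hc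
      push Not at hc
      have e := hc _ (X.add_mem hu hw)
      simp only [map_add, LinearMap.add_apply, hc u hu, hc w hw, hsym u w, hev.neg_one_pow, one_mul,
        zero_add, add_zero] at e
      exact huw ((mul_eq_zero.1 (show (2 : F) * B u (M w) = 0 by linear_combination e)).resolve_left h2)
    refine chains hA hN hXi hk0 (fun _ : Fin 1 => v) (fun _ => hv) fun c hc => ?_
    funext s
    have h := hc 0
    rw [Fin.sum_univ_one] at h
    rw [Subsingleton.elim s 0]
    exact (mul_eq_zero.1 h).resolve_right hvv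
  · rw [if_neg hev]
    have hdiag : ∀ v, B v (M v) = 0 := fun v => by
      have e := hsym v v
      rw [(Nat.not_even_iff_odd.1 hev).neg_one_pow] at e
      exact (mul_eq_zero.1 (show (2 : F) * B v (M v) = 0 by linear_combination e)).resolve_left h2
    refine chains hA hN hXi hk0 ![u, w] (fun s => by fin_cases s <;> assumption) fun c hc => ?_
    have e0 := hc 0
    have e1 := hc 1
    rw [Fin.sum_univ_two] at e0 e1
    simp only [Matrix.cons_val_zero, Matrix.cons_val_one, ← hM, hdiag, mul_zero, zero_add, add_zero] at e0 e1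
    rw [hsym u w] at e1
    funext s
    fin_cases s
    · exact (mul_eq_zero.1 e1).resolve_right (mul_ne_zero (pow_ne_zero _ (neg_ne_zero.2 one_ne_zero)) huw)
    · exact (mul_eq_zero.1 e0).resolve_right huw

include hA hN in
/-- Symplectic type of a nondegenerate invariant subspace, with nondegenerate pieces for its sub-types. -/
theorem exists_type (h2 : (2 : F) ≠ 0) {p : ℕ} (hNp : N ^ p = 0) : ∀ (X : Submodule F V), X.map N ≤ X → Nd B X →
    ∃ μ : Multiset ℕ, (∀ a ∈ μ, 0 < a ∧ a ≤ p) ∧ Par μ ∧ μ.sum = finrank F X ∧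
      (∀ j, finrank F ↥(X ⊓ LinearMap.ker (N ^ j)) = JType.nul μ j) ∧
      ∀ ν ≤ μ, Par ν → ∃ U ≤ X, U.map N ≤ U ∧ Nd B U ∧ finrank F U = ν.sum := by
  classical
  intro X
  induction hd : finrank F X using Nat.strong_induction_on generalizing X with
  | _ n ih =>
    intro hXi hXn
    by_cases hX : X = ⊥
    · refine ⟨0, by simp, fun a _ => by simp, ?_, fun j => ?_, fun ν hν _ => ?_⟩
      · rw [← hd, hX, finrank_bot]; rfl
      · simp [hX, JType.nul]
      · rw [Multiset.le_zero.1 hν]
        exact ⟨⊥, bot_le, by simp, fun u hu _ => (mem_bot F).1 hu, by simp⟩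
    have hex : ∃ k, ∀ v ∈ X, (N ^ k) v = 0 := ⟨p, fun v _ => by rw [hNp]; rfl⟩
    set k := Nat.find hex with hk
    have hk0 := Nat.find_spec hex
    have hkp : k ≤ p := Nat.find_min' hex fun v _ => by rw [hNp]; rfl
    have hkpos : 0 < k := by
      refine Nat.pos_of_ne_zero fun h0 => hX ((Submodule.eq_bot_iff X).2 fun v hv => ?_)
      have := hk0 v hv
      rw [← hk, h0, pow_zero, Module.End.one_apply] at this
      exact this
    have hk1 : ∃ v ∈ X, (N ^ (k - 1)) v ≠ 0 := by
      by_contra hc
      push Not at hc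
      exact Nat.find_min hex (show k - 1 < Nat.find hex by omega) hc
    obtain ⟨P, hPX, hPi, hPn, hPd, hPk⟩ := exists_top hA hN h2 hXi hXn hkpos hk0 hk1
    set l := if Even k then 1 else 2 with hl
    have hlpos : 0 < l := by rw [hl]; split_ifs <;> norm_num
    obtain ⟨hdis, hsup, hn', hfr⟩ := split hA hPX hPn hXn
    have hlk : 0 < l * k := Nat.mul_pos hlpos hkpos
    have hi' : (X ⊓ perp B P).map N ≤ X ⊓ perp B P :=
      (Submodule.map_inf_le N).trans (inf_le_inf hXi (map_perp_le' hA hN hPi))
    obtain ⟨μ, hμ, hμP, hμs, hμk, hμU⟩ := ih (finrank F ↥(X ⊓ perp B P)) (by omega) (X ⊓ perp B P) rfl hi' hn'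
    refine ⟨Multiset.replicate l k + μ, ?_, ?_, ?_, fun j => ?_, fun ν hν hνP => ?_⟩
    · intro a ha
      rcases Multiset.mem_add.1 ha with h | h
      · rw [Multiset.eq_of_mem_replicate h]; exact ⟨hkpos, hkp⟩
      · exact hμ a h
    · intro a ha
      rw [Multiset.count_add, Multiset.count_replicate]
      refine Even.add ?_ (hμP a ha)
      split_ifs with h
      · subst h
        rw [hl, if_neg (Nat.not_even_iff_odd.2 ha)]
        exact even_two
      · exact Even.zero
    · rw [Multiset.sum_add, Multiset.sum_replicate, smul_eq_mul, hμs]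
      omega
    · have hpow : ∀ W : Submodule F V, W.map N ≤ W → W.map (N ^ j) ≤ W := fun W hW => by
        rintro _ ⟨v, hv, rfl⟩; exact map_pow_le hW j v hv
      rw [JType.nul_add, ← hμk, ← hPk, ← finrank_inf_ker_add (N ^ j) hdis (hpow _ hPi) (hpow _ hi'), hsup]
    · by_cases hc : Multiset.replicate l k ≤ ν
      · obtain ⟨ν', rfl⟩ := Multiset.le_iff_exists_add.1 hc
        obtain ⟨U, hUX, hUi, hUn, hUd⟩ := hμU ν' (le_of_add_le_add_left hν) (fun a ha => by
          have h := hνP a ha
          rw [Multiset.count_add, Multiset.count_replicate] at h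
          refine (Nat.even_add.1 h).1 ?_
          split_ifs with h'
          · subst h'; rw [hl, if_neg (Nat.not_even_iff_odd.2 ha)]; exact even_two
          · exact Even.zero)
        obtain ⟨hn2, hd2⟩ := nd_sup hA hPn hUn fun u hu v hv => mem_perp.1 (hUX hv).2 u hu
        refine ⟨P ⊔ U, sup_le hPX (hUX.trans inf_le_left), by rw [Submodule.map_sup]; exact sup_le_sup hPi hUi, hn2, ?_⟩
        have h := Submodule.finrank_sup_add_finrank_inf_eq P U
        rw [hd2.eq_bot, finrank_bot, hPd, hUd] at h
        rw [Multiset.sum_add, Multiset.sum_replicate, smul_eq_mul]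
        omega
      · obtain ⟨U, hUX, hUi, hUn, hUd⟩ := hμU ν (Multiset.le_iff_count.2 fun a => by
          have h := Multiset.le_iff_count.1 hν a
          rw [Multiset.count_add, Multiset.count_replicate] at h
          split_ifs at h with h'
          · subst h'
            have hlt : ν.count k < l := by
              by_contra h0
              exact hc (Multiset.le_count_iff_replicate_le.1 (not_lt.1 h0))
            have h0 : ν.count k = 0 := by
              rw [hl] at hlt
              split_ifs at hlt with hev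
              · omega
              · obtain ⟨m, hm⟩ := hνP k (Nat.not_even_iff_odd.1 hev)
                omega
            omega
          · omega) hνP
        exact ⟨U, hUX.trans inf_le_left, hUi, hUn, hUd⟩

end Decomp

section Realise

open Cfsg.Agent.Symplectic

variable {F : Type*} [Field F]

/-- A nilpotent skew map on `Vec d` of type `μ`. -/
def Real (F : Type*) [Field F] (d : ℕ) (μ : Multiset ℕ) : Prop :=
  ∃ N : Module.End F (Vec d F), (∀ u v, Forms.sympBilin d F (N u) v = -Forms.sympBilin d F u (N v)) ∧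
    N ^ (2 * d) = 0 ∧ ∀ j, finrank F (LinearMap.ker (N ^ j)) = JType.nul μ j

theorem finrank_vec (d : ℕ) : finrank F (Vec d F) = 2 * d := by
  rw [finrank_pi, Fintype.card_sum, Fintype.card_fin, two_mul]

theorem nd_top' {d : ℕ} : Nd (Forms.sympBilin d F) ⊤ :=
  fun u _ h => Forms.sympBilin_nondegenerate.1 u fun v => h v Submodule.mem_top

theorem skew_of_matrix {d : ℕ} {M : Matrix (Fin d ⊕ Fin d) (Fin d ⊕ Fin d) F}
    (h : M.transpose * Matrix.J (Fin d) F = -(Matrix.J (Fin d) F * M)) (u v : Vec d F) :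
    Forms.sympBilin d F (Matrix.toLin' M u) v = -Forms.sympBilin d F u (Matrix.toLin' M v) := by
  simp only [Forms.sympBilin_apply, Cfsg.sympForm, Matrix.toLin'_apply, Matrix.mulVec_mulVec]
  rw [← Matrix.vecMul_transpose, ← Matrix.dotProduct_mulVec, Matrix.mulVec_mulVec, h, Matrix.neg_mulVec,
    dotProduct_neg]

/-- A single block. -/
theorem real_block (h2 : (2 : F) ≠ 0) {k d : ℕ} (hk : 0 < k) (hd : 2 * d = (if Even k then 1 else 2) * k) :
    Real F d (Multiset.replicate (if Even k then 1 else 2) k) := by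
  classical
  have hfin : ∀ (M : Matrix (Fin d ⊕ Fin d) (Fin d ⊕ Fin d) F),
      M.transpose * Matrix.J (Fin d) F = -(Matrix.J (Fin d) F * M) → IsNilpotent M → M ^ (k - 1) ≠ 0 →
      (¬ Even k → M ^ k = 0) → Real F d (Multiset.replicate (if Even k then 1 else 2) k) := by
    intro M hskew hnil hne hodd
    set N := Matrix.toLin' M with hN
    have hpow : ∀ j, N ^ j = Matrix.toLin' (M ^ j) := fun j => (Matrix.toLin'_pow M j).symm
    have hN0 : N ^ (2 * d) = 0 := by
      obtain ⟨m, hm⟩ := hnil
      obtain ⟨μ, hμ, hμs, hμk, -⟩ := JType.exists_type N (p := m) (by rw [hpow, hm, map_zero])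
      rw [← LinearMap.ker_eq_top]
      refine Submodule.eq_top_of_finrank_eq ?_
      rw [hμk, ← hμs]
      unfold JType.nul
      rw [Multiset.map_congr rfl (fun a ha => min_eq_left ((Multiset.le_sum_of_mem ha).trans (by rw [hμs, finrank_vec]))),
        Multiset.map_id']
    obtain ⟨μ, hμ, hμP, hμs, hμk, -⟩ := exists_type Forms.sympBilin_isAlt (skew_of_matrix hskew) h2 hN0 ⊤
      le_top nd_top'
    replace hμk : ∀ j, finrank F (LinearMap.ker (N ^ j)) = JType.nul μ j := fun j => by
      rw [← hμk j]; exact (LinearEquiv.ofEq _ _ (top_inf_eq _).symm).finrank_eq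
    rw [finrank_top, finrank_vec] at hμs
    refine ⟨N, skew_of_matrix hskew, hN0, fun j => ?_⟩
    rw [hμk]
    congr 1
    have hle : k ≤ μ.sum := by rw [hμs, hd]; exact Nat.le_mul_of_pos_left _ (by split_ifs <;> norm_num)
    obtain ⟨a, ha, hak⟩ : ∃ a ∈ μ, k ≤ a := by
      by_contra hc
      push Not at hc
      refine hne (Matrix.toLin'.injective ?_)
      rw [← hpow, map_zero, ← LinearMap.ker_eq_top]
      refine Submodule.eq_top_of_finrank_eq ?_
      rw [hμk, finrank_vec, ← hμs]
      unfold JType.nul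
      rw [Multiset.map_congr rfl (fun a ha => min_eq_left (by have := hc a ha; omega)), Multiset.map_id']
    have hmax : ¬ Even k → ∀ b ∈ μ, b ≤ k := by
      intro hev b hb
      by_contra hlt
      have h1 := hμk k
      rw [hpow, hodd hev, map_zero, LinearMap.ker_zero, finrank_top, finrank_vec, ← hμs] at h1
      obtain ⟨μ', rfl⟩ := Multiset.exists_cons_of_mem hb
      simp only [JType.nul, Multiset.map_cons, Multiset.sum_cons] at h1
      have : (μ'.map fun e => min e k).sum ≤ μ'.sum := by
        refine le_trans (Multiset.sum_map_le_sum_map (fun e => min e k) id fun e _ => min_le_left e k) ?_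
        rw [Multiset.map_id]
      omega
    by_cases hev : Even k
    · rw [if_pos hev] at hd ⊢
      obtain ⟨μ', rfl⟩ := Multiset.exists_cons_of_mem ha
      rw [Multiset.sum_cons] at hμs
      have ha' : a = k := by omega
      have hsum : μ'.sum = 0 := by omega
      have hμ0 : μ' = 0 := Multiset.eq_zero_of_forall_notMem fun b hb => by
        have := (hμ b (Multiset.mem_cons_of_mem hb)).1
        have := Multiset.le_sum_of_mem hb
        omega
      subst ha' hμ0
      rfl
    · rw [if_neg hev] at hd ⊢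
      have ha' : a = k := le_antisymm (hmax hev a ha) hak
      subst ha'
      have h2c : 2 ≤ μ.count a := by
        obtain ⟨m, hm⟩ := hμP a (Nat.not_even_iff_odd.1 hev)
        have := Multiset.count_pos.2 ha
        omega
      obtain ⟨μ', rfl⟩ := Multiset.le_iff_exists_add.1 (Multiset.le_count_iff_replicate_le.1 h2c)
      rw [Multiset.sum_add, Multiset.sum_replicate, smul_eq_mul] at hμs
      have hμ0 : μ' = 0 := Multiset.eq_zero_of_forall_notMem fun b hb => by
        have := (hμ b (Multiset.mem_add.2 (Or.inr hb))).1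
        have := Multiset.le_sum_of_mem hb
        omega
      rw [hμ0, add_zero]
  by_cases hev : Even k
  · rw [if_pos hev, one_mul] at hd
    refine hfin (KS58.SpEl.nilN d F) KS58.SpEl.nilN_skew ⟨2 * d + 1, KS58.SpEl.nilN_pow_self⟩
      (KS58.SpEl.nilN_pow_ne_zero (by omega)) fun h => absurd hev h
  · rw [if_neg hev] at hd
    obtain rfl : d = k := by omega
    set J := KS58.SpEl.nilA d F * KS58.SpEl.nilB d F with hJ
    have hp : ∀ m, (Matrix.fromBlocks J 0 0 (-J.transpose) : Matrix (Fin d ⊕ Fin d) (Fin d ⊕ Fin d) F) ^ m =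
        Matrix.fromBlocks (J ^ m) 0 0 ((-J.transpose) ^ m) := by
      intro m
      induction m with
      | zero => simp [Matrix.fromBlocks_one]
      | succ m ih => rw [pow_succ, ih, Matrix.fromBlocks_multiply, pow_succ, pow_succ]; simp
    have hJd : J ^ d = 0 := by
      ext j i
      rw [hJ, KS58.SpEl.nilA_mul_nilB_pow, if_neg (by omega)]; rfl
    have hz : (Matrix.fromBlocks J 0 0 (-J.transpose) : Matrix (Fin d ⊕ Fin d) (Fin d ⊕ Fin d) F) ^ d = 0 := by
      rw [hp, hJd, neg_pow, ← Matrix.transpose_pow, hJd, Matrix.transpose_zero, mul_zero, Matrix.fromBlocks_zero]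
    refine hfin _ ?_ ⟨d, hz⟩ ?_ fun _ => hz
    · simp [Matrix.J, Matrix.fromBlocks_transpose, Matrix.fromBlocks_multiply, Matrix.fromBlocks_neg]
    · rw [hp]
      intro h
      have h' := congrFun (congrFun h (Sum.inl ⟨0, hk⟩)) (Sum.inl ⟨d - 1, by omega⟩)
      rw [Matrix.fromBlocks_apply₁₁, hJ, KS58.SpEl.nilA_mul_nilB_pow, if_pos (by simp)] at h'
      exact one_ne_zero h'

/-- Orthogonal sums. -/
theorem real_add {d e : ℕ} {μ ν : Multiset ℕ} (hμ : Real F d μ) (hν : Real F e ν) : Real F (d + e) (μ + ν) := by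
  obtain ⟨N, hN, hN0, hNk⟩ := hμ
  obtain ⟨M, hM, hM0, hMk⟩ := hν
  set π := KS58.SpEl.splitVec d e F with hπ
  set R : Module.End F (Vec (d + e) F) := π.symm.conjRingEquiv (N.prodMap M) with hR
  have happ : ∀ v, π (R v) = (N (π v).1, M (π v).2) := fun v => by simp [hR]
  have hpow : ∀ j v, π ((R ^ j) v) = ((N ^ j) (π v).1, (M ^ j) (π v).2) := by
    intro j
    induction j with
    | zero => simp
    | succ j ih => intro v; rw [pow_succ', Module.End.mul_apply, happ, ih]; simp [pow_succ']
  refine ⟨R, fun u v => ?_, ?_, fun j => ?_⟩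
  · simp only [Forms.sympBilin_apply, KS58.SpEl.sympForm_split, ← hπ, happ]
    simp only [← Forms.sympBilin_apply, hN, hM]
    ring
  · refine LinearMap.ext fun v => π.injective ?_
    rw [hpow, show 2 * (d + e) = 2 * e + 2 * d by ring, pow_add N, hN0, mul_zero,
      show 2 * e + 2 * d = 2 * d + 2 * e by ring, pow_add M, hM0, mul_zero]
    simp
  · rw [JType.nul_add, ← hNk, ← hMk, ← JType.finrank_prod_submodule]
    have hk : LinearMap.ker (R ^ j) =
        ((LinearMap.ker (N ^ j)).prod (LinearMap.ker (M ^ j))).map π.symm.toLinearMap := by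
      ext v
      rw [Submodule.mem_map_equiv, LinearEquiv.symm_symm, Submodule.mem_prod, LinearMap.mem_ker,
        LinearMap.mem_ker, LinearMap.mem_ker, ← π.map_eq_zero_iff, hpow, Prod.mk_eq_zero]
    rw [hk, LinearEquiv.finrank_map_eq]

/-- Every symplectic type is realised. -/
theorem real_all (h2 : (2 : F) ≠ 0) (μ : Multiset ℕ) :
    (∀ a ∈ μ, 0 < a) → Par μ → ∀ d, μ.sum = 2 * d → Real F d μ := by
  classical
  induction hs : μ.sum using Nat.strong_induction_on generalizing μ with
  | _ n ih =>
    intro hμ hP d hd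
    rcases μ.empty_or_exists_mem with rfl | ⟨k, hk⟩
    · obtain rfl : d = 0 := by simp at hs; omega
      refine ⟨0, by simp, LinearMap.ext fun v => Subsingleton.elim _ _, fun j => ?_⟩
      have h : finrank F (LinearMap.ker ((0 : Module.End F (Vec 0 F)) ^ j)) ≤ 0 := by
        refine (Submodule.finrank_le _).trans ?_
        simp
      simp [JType.nul, Nat.le_zero.1 h]
    have hk0 := hμ k hk
    set l := if Even k then 1 else 2 with hl
    have hlc : l ≤ μ.count k := by
      have h1 := Multiset.count_pos.2 hk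
      rw [hl]
      split_ifs with hev
      · omega
      · obtain ⟨m, hm⟩ := hP k (Nat.not_even_iff_odd.1 hev); omega
    obtain ⟨μ', rfl⟩ := Multiset.le_iff_exists_add.1 (Multiset.le_count_iff_replicate_le.1 hlc)
    rw [Multiset.sum_add, Multiset.sum_replicate, smul_eq_mul] at hs
    obtain ⟨d₁, hd₁⟩ : Even (l * k) := by
      rw [hl]; split_ifs with hev
      · simpa using hev
      · exact even_two_mul k
    have hlk : 0 < l * k := Nat.mul_pos (by rw [hl]; split_ifs <;> norm_num) hk0
    obtain ⟨d₂, rfl⟩ : ∃ d₂, d = d₁ + d₂ := ⟨d - d₁, by omega⟩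
    refine real_add (real_block h2 hk0 (show 2 * d₁ = l * k by omega)) ?_
    refine ih μ'.sum (by omega) μ' rfl (fun a ha => hμ a (Multiset.mem_add.2 (Or.inr ha))) (fun a ha => ?_) d₂
      (by omega)
    have h := hP a ha
    rw [Multiset.count_add, Multiset.count_replicate] at h
    refine (Nat.even_add.1 h).1 ?_
    split_ifs with h'
    · subst h'; rw [hl, if_neg (Nat.not_even_iff_odd.2 ha)]; exact even_two
    · exact Even.zero

end Realise

end Cfsg.Agent.ClMax99.SympJordan
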