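import Mathlib

/-!
Complementary totally isotropic subspaces compatible with an isometry of square `±1`.
-/

set_option autoImplicit false

namespace Cfsg.Agent.ClMax99.SympPair

open Module Submodule

variable {F V : Type*} [Field F] [AddCommGroup V] [Module F V] [FiniteDimensional F V]
variable (B : LinearMap.BilinForm F V)

/-- An invariant non-degenerate subspace is the sum of two disjoint totally isotropic subspaces which are
fixed (`sw = false`) or interchanged (`sw = true`), provided suitable invariant planes exist. -/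
theorem exists_pair (hA : B.IsAlt) (T : V →ₗ[F] V) (hT : ∀ u v, B (T u) (T v) = B u v) (sw : Bool)
    (hplane : ∀ S : Submodule F V, S ≠ ⊥ → (∀ v ∈ S, T v ∈ S) → (∀ u ∈ S, (∀ v ∈ S, B u v = 0) → u = 0) →
      ∃ u ∈ S, ∃ v ∈ S, B u v ≠ 0 ∧ T u ∈ (if sw then (F ∙ v) else (F ∙ u)) ∧
        T v ∈ (if sw then (F ∙ u) else (F ∙ v))) :
    ∀ S : Submodule F V, (∀ v ∈ S, T v ∈ S) → (∀ u ∈ S, (∀ v ∈ S, B u v = 0) → u = 0) →
      ∃ U W : Submodule F V, U ⊔ W = S ∧ Disjoint U W ∧ (∀ u ∈ U, ∀ v ∈ U, B u v = 0) ∧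
        (∀ u ∈ W, ∀ v ∈ W, B u v = 0) ∧ (∀ w ∈ U, T w ∈ (if sw then W else U)) ∧
        (∀ w ∈ W, T w ∈ (if sw then U else W)) := by
  intro S
  induction h : finrank F S using Nat.strong_induction_on generalizing S with
  | _ n ih =>
    intro hinv hnd
    by_cases hS : S = ⊥
    · refine ⟨⊥, ⊥, by simp [hS], disjoint_bot_left, ?_, ?_, ?_, ?_⟩ <;>
        simp +contextual [Submodule.mem_bot]
    · obtain ⟨u, hu, v, hv, huv, hTu, hTv⟩ := hplane S hS hinv hnd
      have hneg : ∀ a b, B a b = -B b a := fun a b => (neg_eq_iff_eq_neg.1 (LinearMap.IsAlt.neg hA a b)).trans (by simp)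
      have hvu : B v u ≠ 0 := by rw [hneg]; simpa using huv
      let S' : Submodule F V := S ⊓ LinearMap.ker (B u) ⊓ LinearMap.ker (B v)
      have hmem : ∀ w, w ∈ S' ↔ w ∈ S ∧ B u w = 0 ∧ B v w = 0 := fun w => by
        simp [S', and_assoc]
      have hsplit : ∀ w ∈ S, ∃ a b : F, ∃ w' ∈ S', w = a • u + b • v + w' := by
        intro w hw
        refine ⟨B v w / B v u, B u w / B u v, w - (B v w / B v u) • u - (B u w / B u v) • v,
          (hmem _).2 ⟨?_, ?_, ?_⟩, by abel⟩
        · exact S.sub_mem (S.sub_mem hw (S.smul_mem _ hu)) (S.smul_mem _ hv)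
        · simp [hA.self_eq_zero, huv]
        · simp [hA.self_eq_zero, hvu]
      have hlt : finrank F S' < n := by
        rw [← h]
        refine Submodule.finrank_lt_finrank_of_lt (lt_of_le_of_ne (fun w hw => ((hmem w).1 hw).1) ?_)
        intro he
        exact hvu ((hmem u).1 (he ▸ hu)).2.2
      have hnd' : ∀ z ∈ S', (∀ w ∈ S', B z w = 0) → z = 0 := by
        intro z hz hzw
        obtain ⟨hzS, hz1, hz2⟩ := (hmem z).1 hz
        refine hnd z hzS fun w hw => ?_
        obtain ⟨a, b, w', hw', rfl⟩ := hsplit w hw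
        simp [hzw w' hw', hneg z u, hneg z v, hz1, hz2]
      have hkey : ∀ w, B u w = 0 → B v w = 0 → B u (T w) = 0 ∧ B v (T w) = 0 := by
        intro w h1 h2
        have hne : B (T u) (T v) ≠ 0 := by rw [hT]; exact huv
        cases sw
        · simp only [Bool.false_eq_true, if_false, mem_span_singleton] at hTu hTv
          obtain ⟨a, ha⟩ := hTu
          obtain ⟨b, hb⟩ := hTv
          have ha0 : a ≠ 0 := by rintro rfl; rw [← ha] at hne; simp at hne
          have hb0 : b ≠ 0 := by rintro rfl; rw [← hb] at hne; simp at hne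
          have e1 := hT u w; have e2 := hT v w
          rw [← ha, h1] at e1; rw [← hb, h2] at e2
          simp only [map_smul, LinearMap.smul_apply, smul_eq_mul, mul_eq_zero] at e1 e2
          exact ⟨e1.resolve_left ha0, e2.resolve_left hb0⟩
        · simp only [if_true, mem_span_singleton] at hTu hTv
          obtain ⟨a, ha⟩ := hTu
          obtain ⟨b, hb⟩ := hTv
          have ha0 : a ≠ 0 := by rintro rfl; rw [← ha] at hne; simp at hne
          have hb0 : b ≠ 0 := by rintro rfl; rw [← hb] at hne; simp at hne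
          have e1 := hT u w; have e2 := hT v w
          rw [← ha, h1] at e1; rw [← hb, h2] at e2
          simp only [map_smul, LinearMap.smul_apply, smul_eq_mul, mul_eq_zero] at e1 e2
          exact ⟨e2.resolve_left hb0, e1.resolve_left ha0⟩
      have hinv' : ∀ w ∈ S', T w ∈ S' := by
        intro w hw
        obtain ⟨hwS, h1, h2⟩ := (hmem w).1 hw
        exact (hmem _).2 ⟨hinv w hwS, hkey w h1 h2⟩
      obtain ⟨U', W', hsup, hdis, hU', hW', hTU, hTW⟩ := ih _ hlt S' rfl hinv' hnd'
      have hUS : ∀ w ∈ U', B u w = 0 ∧ B v w = 0 := fun w hw =>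
        ((hmem w).1 (hsup ▸ mem_sup_left hw)).2
      have hWS : ∀ w ∈ W', B u w = 0 ∧ B v w = 0 := fun w hw =>
        ((hmem w).1 (hsup ▸ mem_sup_right hw)).2
      have hS' : U' ⊔ W' ≤ S := hsup ▸ fun w hw => ((hmem w).1 hw).1
      refine ⟨(F ∙ u) ⊔ U', (F ∙ v) ⊔ W', ?_, ?_, ?_, ?_, ?_, ?_⟩
      · refine le_antisymm ?_ fun w hw => ?_
        · refine sup_le (sup_le ?_ (le_sup_left.trans hS')) (sup_le ?_ (le_sup_right.trans hS'))
          · rwa [Submodule.span_singleton_le_iff_mem]
          · rwa [Submodule.span_singleton_le_iff_mem]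
        · obtain ⟨a, b, w', hw', rfl⟩ := hsplit w hw
          rw [← hsup, mem_sup] at hw'
          obtain ⟨p, hp, p', hp', rfl⟩ := hw'
          refine mem_sup.2 ⟨a • u + p, add_mem (mem_sup_left (mem_span_singleton.2 ⟨a, rfl⟩))
            (mem_sup_right hp), b • v + p',
            add_mem (mem_sup_left (mem_span_singleton.2 ⟨b, rfl⟩)) (mem_sup_right hp'), by abel⟩
      · rw [Submodule.disjoint_def]
        intro w hw1 hw2
        simp only [mem_sup, mem_span_singleton] at hw1 hw2
        obtain ⟨_, ⟨a, rfl⟩, p, hp, rfl⟩ := hw1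
        obtain ⟨_, ⟨b, rfl⟩, p', hp', he⟩ := hw2
        have e1 := congrArg (B u) he
        have e2 := congrArg (B v) he
        simp [hA.self_eq_zero, (hWS p' hp').1, (hUS p hp).1, huv] at e1
        simp [hA.self_eq_zero, (hWS p' hp').2, (hUS p hp).2, hvu] at e2
        subst e1
        subst e2
        simp only [zero_smul, zero_add] at he ⊢
        exact Submodule.disjoint_def.1 hdis p hp (he ▸ hp')
      · intro a ha b hb
        simp only [mem_sup, mem_span_singleton] at ha hb
        obtain ⟨_, ⟨c, rfl⟩, p, hp, rfl⟩ := ha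
        obtain ⟨_, ⟨c', rfl⟩, p', hp', rfl⟩ := hb
        simp [hA.self_eq_zero, (hUS p' hp').1, hneg p u, (hUS p hp).1, hU' p hp p' hp']
      · intro a ha b hb
        simp only [mem_sup, mem_span_singleton] at ha hb
        obtain ⟨_, ⟨c, rfl⟩, p, hp, rfl⟩ := ha
        obtain ⟨_, ⟨c', rfl⟩, p', hp', rfl⟩ := hb
        simp [hA.self_eq_zero, (hWS p' hp').2, hneg p v, (hWS p hp).2, hW' p hp p' hp']
      · intro w hw
        simp only [mem_sup, mem_span_singleton] at hw
        obtain ⟨_, ⟨c, rfl⟩, p, hp, rfl⟩ := hw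
        rw [map_add, map_smul]
        cases sw
        · exact add_mem (smul_mem _ c (mem_sup_left hTu)) (mem_sup_right (hTU p hp))
        · exact add_mem (smul_mem _ c (mem_sup_left hTu)) (mem_sup_right (hTU p hp))
      · intro w hw
        simp only [mem_sup, mem_span_singleton] at hw
        obtain ⟨_, ⟨c, rfl⟩, p, hp, rfl⟩ := hw
        rw [map_add, map_smul]
        cases sw
        · exact add_mem (smul_mem _ c (mem_sup_left hTv)) (mem_sup_right (hTW p hp))
        · exact add_mem (smul_mem _ c (mem_sup_left hTv)) (mem_sup_right (hTW p hp))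

/-- Planes for an isometry of square `±1`. -/
theorem exists_pair_of_sq (h2 : (2 : F) ≠ 0) (hA : B.IsAlt) (hB : B.Nondegenerate) (T : V →ₗ[F] V)
    (hT : ∀ u v, B (T u) (T v) = B u v) (z : F) (hz : z = 1 ∨ z = -1) (hT2 : ∀ v, T (T v) = z • v) :
    ∃ U W : Submodule F V, IsCompl U W ∧ (∀ u ∈ U, ∀ v ∈ U, B u v = 0) ∧
      (∀ u ∈ W, ∀ v ∈ W, B u v = 0) ∧ ((U.map T = U ∧ W.map T = W) ∨ (U.map T = W ∧ W.map T = U)) := by
  have hz0 : z ≠ 0 := by rcases hz with rfl | rfl <;> simp
  have hinj : Function.Injective T := by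
    intro a b hab
    have := congrArg T hab
    rw [hT2, hT2] at this
    exact (smul_right_inj hz0).1 this
  have main : ∃ sw : Bool, ∀ S : Submodule F V, S ≠ ⊥ → (∀ v ∈ S, T v ∈ S) →
      (∀ u ∈ S, (∀ v ∈ S, B u v = 0) → u = 0) →
      ∃ u ∈ S, ∃ v ∈ S, B u v ≠ 0 ∧ T u ∈ (if sw then (F ∙ v) else (F ∙ u)) ∧
        T v ∈ (if sw then (F ∙ u) else (F ∙ v)) := by
    by_cases hsq : ∃ e : F, e ^ 2 = z
    · refine ⟨false, fun S hS hinv hnd => ?_⟩
      obtain ⟨e, he⟩ := hsq
      have he0 : e ≠ 0 := by rintro rfl; exact hz0 (by simpa using he.symm)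
      obtain ⟨u0, hu0, hu00⟩ := S.exists_mem_ne_zero_of_ne_bot hS
      obtain ⟨u, hu, hune, f, hf, hTu⟩ : ∃ u ∈ S, u ≠ 0 ∧ ∃ f : F, f ^ 2 = z ∧ T u = f • u := by
        by_cases hc : T u0 + e • u0 = 0
        · exact ⟨u0, hu0, hu00, -e, by simp [he], by rw [eq_neg_of_add_eq_zero_left hc, neg_smul]⟩
        · refine ⟨_, S.add_mem (hinv _ hu0) (S.smul_mem e hu0), hc, e, he, ?_⟩
          rw [map_add, map_smul, hT2, smul_add, smul_smul, ← pow_two, he, add_comm]
      have hf0 : f ≠ 0 := by rintro rfl; exact hz0 (by simpa using hf.symm)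
      obtain ⟨w, hw, huw⟩ : ∃ w ∈ S, B u w ≠ 0 := by
        by_contra hc
        push Not at hc
        exact hune (hnd u hu hc)
      have hBTw : B u (T w) = f⁻¹ * B u w := by
        have := hT u w
        rw [hTu, map_smul, LinearMap.smul_apply, smul_eq_mul] at this
        rw [← this, inv_mul_cancel_left₀ hf0]
      have hff : f⁻¹ * f⁻¹ = z := by
        rcases hz with rfl | rfl <;> rw [← mul_inv, ← pow_two, hf] <;> simp
      refine ⟨u, hu, T w + f⁻¹ • w, S.add_mem (hinv _ hw) (S.smul_mem _ hw), ?_, ?_, ?_⟩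
      · rw [map_add, map_smul, smul_eq_mul, hBTw, ← add_mul, ← two_mul]
        exact mul_ne_zero (mul_ne_zero h2 (inv_ne_zero hf0)) huw
      · simp [hTu, mem_span_singleton]
      · simp only [Bool.false_eq_true, if_false, mem_span_singleton]
        refine ⟨f⁻¹, ?_⟩
        rw [map_add, map_smul, hT2, smul_add, smul_smul, hff, add_comm]
    · refine ⟨true, fun S hS hinv hnd => ?_⟩
      have hz1 : z = -1 := by
        rcases hz with rfl | rfl
        · exact absurd ⟨1, one_pow 2⟩ hsq
        · rfl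
      obtain ⟨u, hu, huu⟩ : ∃ u ∈ S, B u (T u) ≠ 0 := by
        by_contra hc
        push Not at hc
        obtain ⟨u, hu, hune⟩ := S.exists_mem_ne_zero_of_ne_bot hS
        refine hune (hnd u hu fun v hv => ?_)
        obtain ⟨v', hv', rfl⟩ : ∃ v' ∈ S, T v' = v :=
          ⟨-T v, S.neg_mem (hinv _ hv), by rw [map_neg, hT2, hz1]; simp⟩
        have e := hc (u + v') (S.add_mem hu hv')
        simp only [map_add, LinearMap.add_apply, hc u hu, hc v' hv', zero_add, add_zero] at e
        have e' : B v' (T u) = B u (T v') := by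
          rw [← hT v' (T u), hT2, hz1, map_smul, smul_eq_mul, neg_one_mul, LinearMap.IsAlt.neg hA]
        rw [e'] at e
        exact (mul_eq_zero.1 (by rw [two_mul]; exact e)).resolve_left h2
      refine ⟨u, hu, T u, hinv _ hu, huu, ?_, ?_⟩
      · simp [mem_span_singleton_self]
      · simp only [if_true, mem_span_singleton]
        exact ⟨z, (hT2 u).symm⟩
  obtain ⟨sw, hplane⟩ := main
  obtain ⟨U, W, hsup, hdis, hU, hW, hTU, hTW⟩ := exists_pair B hA T hT sw hplane ⊤ (by simp)
    (fun u _ h => hB.1 u fun v => h v mem_top)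
  have hr : ∀ A : Submodule F V, finrank F (A.map T) = finrank F A := fun A =>
    LinearEquiv.finrank_eq (Submodule.equivMapOfInjective T hinj A).symm
  refine ⟨U, W, ⟨hdis, codisjoint_iff.2 hsup⟩, hU, hW, ?_⟩
  cases sw
  · simp only [Bool.false_eq_true, if_false] at hTU hTW
    exact Or.inl ⟨Submodule.eq_of_le_of_finrank_eq (map_le_iff_le_comap.2 hTU) (hr U),
      Submodule.eq_of_le_of_finrank_eq (map_le_iff_le_comap.2 hTW) (hr W)⟩
  · simp only [if_true] at hTU hTW
    have h1 : U.map T ≤ W := map_le_iff_le_comap.2 hTU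
    have h3 : W.map T ≤ U := map_le_iff_le_comap.2 hTW
    have a := Submodule.finrank_mono h1
    have b := Submodule.finrank_mono h3
    rw [hr] at a b
    exact Or.inr ⟨Submodule.eq_of_le_of_finrank_eq h1 (by rw [hr]; omega),
      Submodule.eq_of_le_of_finrank_eq h3 (by rw [hr]; omega)⟩

end Cfsg.Agent.ClMax99.SympPair
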