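import Cfsg.Agent.Lib.Forms.Symp
import Cfsg.Agent.Lib.Symplectic.Card

/-!
The number of ordered pairs of complementary totally isotropic subspaces of a symplectic space.
-/

set_option autoImplicit false

namespace Cfsg.Agent.ClMax99.SympPair

open Cfsg.Agent.Symplectic Module Submodule

variable {F : Type*} [Field F] {d : ℕ}

/-- Complementary totally isotropic subspaces. -/
def Polar (P : Submodule F (Vec d F) × Submodule F (Vec d F)) : Prop :=
  IsCompl P.1 P.2 ∧ (∀ u ∈ P.1, ∀ v ∈ P.1, Cfsg.sympForm d F u v = 0) ∧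
    (∀ u ∈ P.2, ∀ v ∈ P.2, Cfsg.sympForm d F u v = 0)

theorem eq_zero_of_orth {P : Submodule F (Vec d F) × Submodule F (Vec d F)} (h : Polar P) {w : Vec d F}
    (hw : w ∈ P.2) (horth : ∀ u ∈ P.1, Cfsg.sympForm d F u w = 0) : w = 0 := by
  refine Forms.sympForm_left_cancel fun v => ?_
  obtain ⟨a, ha, b, hb, rfl⟩ := mem_sup.1 (h.1.sup_eq_top ▸ mem_top : v ∈ P.1 ⊔ P.2)
  rw [sympForm_add_right, h.2.2 w hw b hb, sympForm_swap, horth a ha]
  simp

theorem finrank_polar {P : Submodule F (Vec d F) × Submodule F (Vec d F)} (h : Polar P) :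
    finrank F P.1 = d ∧ finrank F P.2 = d := by
  have key : ∀ Q : Submodule F (Vec d F) × Submodule F (Vec d F), Polar Q →
      finrank F Q.2 ≤ finrank F Q.1 := by
    intro Q hQ
    let b := finBasis F Q.1
    let L : Q.2 →ₗ[F] (Fin (finrank F Q.1) → F) :=
      LinearMap.pi fun i => (Forms.sympBilin d F (b i : Vec d F)).comp Q.2.subtype
    have hL : Function.Injective L := by
      rw [← LinearMap.ker_eq_bot, eq_bot_iff]
      intro w hw
      refine (mem_bot F).2 (Subtype.ext (eq_zero_of_orth hQ w.2 fun u hu => ?_))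
      have hwi : ∀ i, Forms.sympBilin d F (b i : Vec d F) (w : Vec d F) = 0 := fun i =>
        congrFun (LinearMap.mem_ker.1 hw) i
      have e : u = ∑ i, (b.repr ⟨u, hu⟩ i) • (b i : Vec d F) := by
        have := congrArg Subtype.val (b.sum_repr ⟨u, hu⟩).symm
        rwa [Submodule.coe_sum] at this
      rw [← Forms.sympBilin_apply, e, map_sum, LinearMap.sum_apply]
      exact Finset.sum_eq_zero fun i _ => by simp [hwi i]
    simpa using LinearMap.finrank_le_finrank_of_injective hL
  have h1 := key P h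
  have h2 := key (P.2, P.1) ⟨h.1.symm, h.2.2, h.2.1⟩
  have h3 := Submodule.finrank_add_eq_of_isCompl h.1
  rw [finrank_pi, Fintype.card_sum, Fintype.card_fin] at h3
  dsimp only at h2
  omega

variable [Fintype F]

theorem card_Sp_eq (q : ℕ) (hq : Fintype.card F = q) :
    Nat.card (Sp d F) = Nat.card {P : Submodule F (Vec d F) × Submodule F (Vec d F) // Polar P} *
      ∏ i : Fin d, (q ^ d - q ^ (i : ℕ)) := by
  classical
  let Ω := {P : Submodule F (Vec d F) × Submodule F (Vec d F) // Polar P}
  let T := Σ P : Ω, {b : Fin d → P.1.1 // LinearIndependent F b}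
  haveI : Fintype Ω := Fintype.ofFinite _
  have hT : Nat.card T = Nat.card Ω * ∏ i : Fin d, (q ^ d - q ^ (i : ℕ)) := by
    have hf : ∀ P : Ω, Nat.card {b : Fin d → P.1.1 // LinearIndependent F b} =
        ∏ i : Fin d, (q ^ d - q ^ (i : ℕ)) := fun P => by
      rw [card_linearIndependent (finrank_polar P.2).1.ge, (finrank_polar P.2).1, hq]
    rw [Nat.card_sigma, Finset.sum_congr rfl fun P _ => hf P, Finset.sum_const, smul_eq_mul,
      Finset.card_univ, Nat.card_eq_fintype_card]
  have hform : ∀ (g : Sp d F) u v, Cfsg.sympForm d F (g • u) (g • v) = Cfsg.sympForm d F u v :=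
    fun g u v => sympForm_smul_smul g u v
  let Ue : Sp d F → Submodule F (Vec d F) := fun g => span F (Set.range fun i => g • (eI i : Vec d F))
  let Wf : Sp d F → Submodule F (Vec d F) := fun g => span F (Set.range fun i => g • (fI i : Vec d F))
  have hTI : ∀ b : Fin d → Vec d F, (∀ i j, Cfsg.sympForm d F (b i) (b j) = 0) →
      ∀ u ∈ span F (Set.range b), ∀ v ∈ span F (Set.range b), Cfsg.sympForm d F u v = 0 := by
    intro b hb u hu v hv
    obtain ⟨c, rfl⟩ := (mem_span_range_iff_exists_fun F).1 hu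
    obtain ⟨c', rfl⟩ := (mem_span_range_iff_exists_fun F).1 hv
    rw [← Forms.sympBilin_apply]
    simp [map_sum, Forms.sympBilin_apply, hb]
  have hdec : ∀ v : Vec d F, v = ∑ i, v (Sum.inl i) • (eI i : Vec d F) + ∑ i, v (Sum.inr i) • fI i := by
    intro v
    funext j
    rcases j with j | j <;>
      simp [eI, fI, Finset.sum_apply, Pi.single_apply]
  have hpolar : ∀ g, Polar (Ue g, Wf g) := by
    intro g
    have h1 := hTI (fun i => g • (eI i : Vec d F)) (fun i j => by rw [hform, sympForm_eI_eI])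
    have h2 := hTI (fun i => g • (fI i : Vec d F)) (fun i j => by rw [hform, sympForm_fI_fI])
    refine ⟨⟨?_, ?_⟩, h1, h2⟩
    · rw [Submodule.disjoint_def]
      intro v hv1 hv2
      obtain ⟨w, rfl⟩ : ∃ w, g • w = v := ⟨g⁻¹ • v, smul_inv_smul g v⟩
      suffices w = 0 by rw [this, smul_zero]
      funext j
      rcases j with j | j
      · rw [Pi.zero_apply, ← sympForm_fI_left j w, ← hform g]
        exact h2 _ (subset_span ⟨j, rfl⟩) _ hv2
      · rw [Pi.zero_apply, ← sympForm_eI_right j w, ← hform g]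
        exact h1 _ hv1 _ (subset_span ⟨j, rfl⟩)
    · rw [codisjoint_iff_le_sup]
      intro v _
      obtain ⟨w, rfl⟩ : ∃ w, g • w = v := ⟨g⁻¹ • v, smul_inv_smul g v⟩
      rw [hdec w, smul_add]
      simp only [Finset.smul_sum, smul_comm g]
      exact add_mem (mem_sup_left (sum_mem fun i _ => smul_mem _ _ (subset_span ⟨i, rfl⟩)))
        (mem_sup_right (sum_mem fun i _ => smul_mem _ _ (subset_span ⟨i, rfl⟩)))
  have hli : ∀ g : Sp d F, LinearIndependent F fun i => g • (eI i : Vec d F) := by
    intro g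
    rw [Fintype.linearIndependent_iff]
    intro c hc i
    have h0 : Forms.sympBilin d F (g • fI i) (∑ j, c j • g • (eI j : Vec d F)) = 0 := by
      rw [hc, map_zero]
    rw [map_sum, Finset.sum_eq_single i (fun j _ hji => by
      simp [Forms.sympBilin_apply, hform, sympForm_swap (fI i), sympForm_eI_fI_of_ne hji])
      (by simp)] at h0
    simpa [Forms.sympBilin_apply, hform, sympForm_fI_eI] using h0
  let f : Sp d F → T := fun g => ⟨⟨(Ue g, Wf g), hpolar g⟩,
    ⟨fun i => ⟨g • eI i, subset_span ⟨i, rfl⟩⟩, LinearIndependent.of_comp (Ue g).subtype (hli g)⟩⟩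
  have hproj : ∀ g i, (((f g).2.1 i : (f g).1.1.1) : Vec d F) = g • eI i := fun g i => rfl
  have hinj : Function.Injective f := by
    intro g h he
    have he1 : ∀ i, g • (eI i : Vec d F) = h • eI i := fun i => by
      rw [← hproj g i, ← hproj h i, he]
    have hW : Wf g = Wf h := congrArg (fun t : T => t.1.1.2) he
    have he2 : ∀ j, g • (fI j : Vec d F) = h • fI j := by
      intro j
      rw [← sub_eq_zero]
      refine eq_zero_of_orth (hpolar g) ((Wf g).sub_mem (subset_span ⟨j, rfl⟩)
        (hW ▸ subset_span ⟨j, rfl⟩)) fun u hu => ?_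
      obtain ⟨c, rfl⟩ := (mem_span_range_iff_exists_fun F).1 hu
      have eg : ∀ k : Sp d F, ∑ i, c i • k • (eI i : Vec d F) = k • ∑ i, c i • eI i := fun k => by
        simp only [Finset.smul_sum, smul_comm k]
      rw [sympForm_sub_right, sub_eq_zero]
      conv_rhs => simp only [he1]
      rw [eg, eg, hform, hform]
    refine eq_of_smul_eq fun v => ?_
    rw [hdec v, smul_add, smul_add]
    simp only [Finset.smul_sum, smul_comm g, smul_comm h, he1, he2]
  have hsurj : Function.Surjective f := by
    rintro ⟨⟨⟨U, W⟩, hP⟩, ⟨b, hb⟩⟩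
    obtain ⟨hdU, hdW⟩ := finrank_polar hP
    dsimp only at hdU hdW hb
    have hspanU : span F (Set.range fun i => (b i : Vec d F)) = U := by
      refine eq_of_le_of_finrank_eq (span_le.2 (Set.range_subset_iff.2 fun i => (b i).2)) ?_
      rw [finrank_span_eq_card (R := F) (b := fun i => (b i : Vec d F))
        (hb.map' U.subtype U.ker_subtype), Fintype.card_fin, hdU]
    let L : W →ₗ[F] (Fin d → F) :=
      LinearMap.pi fun i => (Forms.sympBilin d F (b i : Vec d F)).comp W.subtype
    have hLinj : Function.Injective L := by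
      rw [← LinearMap.ker_eq_bot, eq_bot_iff]
      intro w hw
      refine (mem_bot F).2 (Subtype.ext (eq_zero_of_orth hP w.2 fun u hu => ?_))
      rw [← hspanU] at hu
      obtain ⟨c, rfl⟩ := (mem_span_range_iff_exists_fun F).1 hu
      have hwi : ∀ i, Forms.sympBilin d F (b i : Vec d F) (w : Vec d F) = 0 := fun i =>
        congrFun (LinearMap.mem_ker.1 hw) i
      rw [← Forms.sympBilin_apply]
      simp [hwi]
    have hLs : Function.Surjective L :=
      (LinearMap.injective_iff_surjective_of_finrank_eq_finrank (by simp [hdW])).1 hLinj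
    choose c hc using fun j : Fin d => hLs (Pi.single j (-1))
    have hxy : ∀ i j, Cfsg.sympForm d F (b i : Vec d F) (c j : Vec d F) = if i = j then -1 else 0 := by
      intro i j
      have := congrFun (hc j) i
      simpa [L, Forms.sympBilin_apply, Pi.single_apply] using this
    let g : Sp d F := Forms.spOfLinearMap (Forms.sympEmb (fun i => (b i : Vec d F)) fun i => (c i : Vec d F))
      (Forms.sympForm_sympEmb _ _ hxy (fun i j => hP.2.1 _ (b i).2 _ (b j).2)
        fun i j => hP.2.2 _ (c i).2 _ (c j).2)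
    have hge : ∀ i, g • (eI i : Vec d F) = b i := fun i => by
      exact (Forms.spOfLinearMap_smul _ _ _).trans
        (by simp [Forms.sympEmb, eI, Fintype.linearCombination_apply_single])
    have hgf : ∀ i, g • (fI i : Vec d F) = c i := fun i => by
      exact (Forms.spOfLinearMap_smul _ _ _).trans
        (by simp [Forms.sympEmb, fI, Fintype.linearCombination_apply_single])
    refine ⟨g, ?_⟩
    have hU : Ue g = U := by simp only [Ue, hge]; exact hspanU
    have hW : Wf g = W := by
      have hle : Wf g ≤ W := span_le.2 (Set.range_subset_iff.2 fun i => (hgf i).symm ▸ (c i).2)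
      exact eq_of_le_of_finrank_eq hle ((finrank_polar (hpolar g)).2.trans hdW.symm)
    have hUW : (f g).1 = ⟨(U, W), hP⟩ := Subtype.ext (Prod.ext hU hW)
    have key : ∀ (t s : T), t.1 = s.1 → (∀ i, ((t.2.1 i : t.1.1.1) : Vec d F) = (s.2.1 i : s.1.1.1)) → t = s := by
      rintro ⟨a, x, hx⟩ ⟨a', y, hy⟩ (rfl : a = a') hxy
      obtain rfl : x = y := funext fun i => Subtype.ext (hxy i)
      rfl
    exact key _ _ hUW fun i => (hproj g i).trans (hge i)
  rw [Nat.card_eq_of_bijective f ⟨hinj, hsurj⟩, hT]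

/-- Prime divisors of the number of ordered pairs, and its parity for odd `q`. -/
theorem card_polar (q : ℕ) (hq : Fintype.card F = q) :
    Nat.card {P : Submodule F (Vec d F) × Submodule F (Vec d F) // Polar P} * q ^ (∑ i ∈ Finset.range d, i) =
      q ^ (d ^ 2) * ∏ i ∈ Finset.range d, (q ^ (i + 1) + 1) := by
  have h := card_Sp_eq (d := d) q hq
  rw [card_Sp hq] at h
  have hq1 : 1 < q := hq ▸ Fintype.one_lt_card
  have e1 : ∏ i : Fin d, (q ^ d - q ^ (i : ℕ)) =
      q ^ (∑ i ∈ Finset.range d, i) * ∏ i ∈ Finset.range d, (q ^ (i + 1) - 1) := by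
    rw [Fin.prod_univ_eq_prod_range (fun i => q ^ d - q ^ i) d, ← Finset.prod_pow_eq_pow_sum,
      ← Finset.prod_range_reflect (fun i => q ^ (i + 1) - 1) d, ← Finset.prod_mul_distrib]
    refine Finset.prod_congr rfl fun i hi => ?_
    rw [Finset.mem_range] at hi
    rw [Nat.mul_sub, mul_one, ← pow_add, show i + (d - 1 - i + 1) = d by omega]
  have e2 : ∏ i ∈ Finset.range d, (q ^ (2 * (i + 1)) - 1) =
      (∏ i ∈ Finset.range d, (q ^ (i + 1) + 1)) * ∏ i ∈ Finset.range d, (q ^ (i + 1) - 1) := by
    rw [← Finset.prod_mul_distrib]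
    exact Finset.prod_congr rfl fun i _ => by rw [← Nat.sq_sub_sq, one_pow, ← pow_mul, mul_comm]
  rw [e1, e2, ← mul_assoc, ← mul_assoc] at h
  refine (Nat.eq_of_mul_eq_mul_right (Finset.prod_pos fun i _ => ?_) h).symm
  exact Nat.sub_pos_of_lt (Nat.one_lt_pow (by omega) hq1)

end Cfsg.Agent.ClMax99.SympPair
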