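import Mathlib

/-!
Orthogonal plane decompositions compatible with an isometry of square `±1`, and groupings of involution orbits.
-/

set_option autoImplicit false

namespace Cfsg.Agent.ClMax99.SympPlanes

open Module Submodule

variable {F V : Type*} [Field F] [AddCommGroup V] [Module F V] [FiniteDimensional F V]
variable (B : LinearMap.BilinForm F V)

/-- A family of planes in `S` permuted by `T`. -/
def Planes (T : V →ₗ[F] V) (S : Submodule F V) {ι : Type} [DecidableEq ι] (u v : ι → V) (σ : Equiv.Perm ι) : Prop :=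
  (∀ i, σ (σ i) = i) ∧ (∀ i, u i ∈ S ∧ v i ∈ S) ∧ (∀ i j, B (u i) (v j) = if i = j then 1 else 0) ∧
    (∀ i j, B (u i) (u j) = 0) ∧ (∀ i j, B (v i) (v j) = 0) ∧
    ∀ i, T (u i) ∈ span F {u (σ i), v (σ i)} ∧ T (v i) ∈ span F {u (σ i), v (σ i)}

theorem exists_step (hA : B.IsAlt) (T : V →ₗ[F] V) (hT : ∀ u v, B (T u) (T v) = B u v) {z : F}
    (hz : z = 1 ∨ z = -1) (hT2 : ∀ v, T (T v) = z • v) (S : Submodule F V) (hS : S ≠ ⊥)
    (hinv : ∀ v ∈ S, T v ∈ S) (hnd : ∀ u ∈ S, (∀ v ∈ S, B u v = 0) → u = 0) :
    ∃ (κ : Type) (_ : Fintype κ) (_ : DecidableEq κ) (_ : Nonempty κ) (u v : κ → V) (σ : Equiv.Perm κ),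
      Planes B T S u v σ ∧ ((2 : F) ≠ 0 → ∀ i, σ i = i) := by
  classical
  have hz0 : z ≠ 0 := by rcases hz with rfl | rfl <;> simp
  have plane : ∀ a ∈ S, ∀ b ∈ S, B a b ≠ 0 → T a ∈ span F {a, b} → T b ∈ span F {a, b} →
      ∃ (κ : Type) (_ : Fintype κ) (_ : DecidableEq κ) (_ : Nonempty κ) (u v : κ → V) (σ : Equiv.Perm κ),
        Planes B T S u v σ ∧ ((2 : F) ≠ 0 → ∀ i, σ i = i) := by
    intro a ha b hb hab hTa hTb
    refine ⟨PUnit, inferInstance, inferInstance, inferInstance, fun _ => a, fun _ => (B a b)⁻¹ • b, 1,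
      ⟨fun _ => rfl, fun _ => ⟨ha, S.smul_mem _ hb⟩, fun _ _ => by simp [hab], fun _ _ => hA.self_eq_zero a,
      fun _ _ => hA.self_eq_zero _, fun _ => ?_⟩, fun _ _ => rfl⟩
    have hsp : span F ({a, (B a b)⁻¹ • b} : Set V) = span F {a, b} := by
      rw [Submodule.span_insert, Submodule.span_insert,
        Submodule.span_singleton_smul_eq (IsUnit.mk0 _ (inv_ne_zero hab))]
    rw [hsp]
    exact ⟨hTa, by rw [map_smul]; exact smul_mem _ _ hTb⟩
  by_cases hex : ∃ a ∈ S, B a (T a) ≠ 0
  · obtain ⟨a, ha, haa⟩ := hex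
    exact plane a ha (T a) (hinv a ha) haa (subset_span (Or.inr rfl))
      (by rw [hT2]; exact smul_mem _ _ (subset_span (Or.inl rfl)))
  · push Not at hex
    have hanti : ∀ a ∈ S, ∀ b ∈ S, B a (T b) + B b (T a) = 0 := fun a ha b hb => by
      have e := hex (a + b) (S.add_mem ha hb)
      simpa [map_add, hex a ha, hex b hb, add_comm] using e
    have hflip : ∀ a b, B b (T a) = -(z * B a (T b)) := fun a b => by
      rw [← hT b (T a), hT2, map_smul, smul_eq_mul, ← LinearMap.IsAlt.neg hA a (T b)]
      ring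
    obtain ⟨a0, ha0, ha00⟩ := S.exists_mem_ne_zero_of_ne_bot hS
    by_cases h2 : (2 : F) = 0
    · -- characteristic two
      have hz1 : z = 1 := by
        rcases hz with h | h
        · exact h
        · rw [h]; linear_combination -h2
      subst hz1
      simp only [one_smul] at hT2
      by_cases hid : ∀ a ∈ S, T a = a
      · obtain ⟨b, hb, hab⟩ : ∃ b ∈ S, B a0 b ≠ 0 := by
          by_contra hc
          push Not at hc
          exact ha00 (hnd a0 ha0 hc)
        exact plane a0 ha0 b hb hab (by rw [hid _ ha0]; exact subset_span (Or.inl rfl))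
          (by rw [hid _ hb]; exact subset_span (Or.inr rfl))
      · push Not at hid
        obtain ⟨a, ha, hTa⟩ := hid
        obtain ⟨w, hw, hw1, hw2⟩ : ∃ w ∈ S, B (T a) w = 0 ∧ B a w = 1 := by
          by_contra hc
          push Not at hc
          have hzero : ∀ w ∈ S, B (T a) w = 0 → B a w = 0 := by
            intro w hw h1
            by_contra h0
            exact hc ((B a w)⁻¹ • w) (S.smul_mem _ hw) (by simp [h1]) (by simp [h0])
          by_cases hTa0 : T a = 0
          · refine hTa ?_
            have := hT2 a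
            rw [hTa0, map_zero] at this
            rw [hTa0, ← this]
          obtain ⟨w0, hw0, hw01⟩ : ∃ w0 ∈ S, B (T a) w0 = 1 := by
            by_contra h1
            push Not at h1
            refine hTa0 (hnd _ (hinv a ha) fun w hw => ?_)
            by_contra h0
            exact h1 ((B (T a) w)⁻¹ • w) (S.smul_mem _ hw) (by simp [h0])
          have hlin : a - B a w0 • T a = 0 := by
            refine hnd _ (S.sub_mem ha (S.smul_mem _ (hinv a ha))) fun w hw => ?_
            have e := hzero (w - B (T a) w • w0) (S.sub_mem hw (S.smul_mem _ hw0)) (by simp [hw01])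
            simp only [map_sub, map_smul, LinearMap.sub_apply, LinearMap.smul_apply, smul_eq_mul] at e ⊢
            linear_combination e
          rw [sub_eq_zero] at hlin
          set k := B a w0
          have hk : k ^ 2 = 1 := by
            have hTk : T a = k • a := by
              conv_lhs => rw [hlin]
              rw [map_smul, hT2]
            have e : a = (k ^ 2) • a := by
              rw [pow_two, mul_smul, ← hTk, ← hlin]
            have e' : (k ^ 2 - 1) • a = 0 := by rw [sub_smul, one_smul, ← e, sub_self]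
            exact sub_eq_zero.1 ((smul_eq_zero.1 e').resolve_right fun h => hTa (by rw [h, map_zero]))
          have hk1 : k = 1 := by
            have : (k - 1) ^ 2 = 0 := by linear_combination hk + (1 - k) * h2
            exact sub_eq_zero.1 (pow_eq_zero_iff (n := 2) (by norm_num) |>.1 this)
          rw [hk1, one_smul] at hlin
          exact hTa hlin.symm
        have hne : B a (T w) = 0 := by rw [← hT a (T w), hT2, hw1]
        have hwTa : B w (T a) = 0 := by rw [← LinearMap.IsAlt.neg hA (T a) w, hw1, neg_zero]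
        refine ⟨Bool, inferInstance, inferInstance, inferInstance, fun b => cond b (T a) a, fun b => cond b (T w) w,
          Equiv.swap false true, ⟨fun i => Equiv.swap_apply_self _ _ i, ?_, ?_, ?_, ?_, ?_⟩, fun h => absurd h2 h⟩
        · rintro ⟨⟩ <;> simp [ha, hw, hinv]
        · rintro ⟨⟩ ⟨⟩ <;> simp [hw2, hne, hw1, hT]
        · rintro ⟨⟩ ⟨⟩ <;> simp [hA.self_eq_zero, hex a ha, ← LinearMap.IsAlt.neg hA a (T a)]
        · rintro ⟨⟩ ⟨⟩ <;> simp [hA.self_eq_zero, hex w hw, ← LinearMap.IsAlt.neg hA w (T w)]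
        · rintro ⟨⟩ <;> simp [hT2] <;> exact ⟨subset_span (Or.inl rfl), subset_span (Or.inr rfl)⟩
    · -- odd characteristic
      rcases hz with rfl | rfl
      · obtain ⟨u, hu, hune, ε, hε, hTu⟩ : ∃ u ∈ S, u ≠ 0 ∧ ∃ ε : F, ε * ε = 1 ∧ T u = ε • u := by
          by_cases hc : T a0 + a0 = 0
          · exact ⟨a0, ha0, ha00, -1, by ring, by rw [neg_one_smul]; exact eq_neg_of_add_eq_zero_left hc⟩
          · exact ⟨_, S.add_mem (hinv _ ha0) ha0, hc, 1, one_mul 1, by
              rw [map_add, hT2, one_smul, one_smul, add_comm]⟩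
        obtain ⟨w, hw, huw⟩ : ∃ w ∈ S, B u w ≠ 0 := by
          by_contra hc
          push Not at hc
          exact hune (hnd u hu hc)
        have hε0 : ε ≠ 0 := left_ne_zero_of_mul_eq_one hε
        have hBTw : B u (T w) = ε * B u w := by
          have h := hT u w
          rw [hTu, map_smul, LinearMap.smul_apply, smul_eq_mul] at h
          rw [← h, ← mul_assoc, hε, one_mul]
        refine plane u hu (T w + ε • w) (S.add_mem (hinv _ hw) (S.smul_mem _ hw)) ?_ ?_ ?_
        · rw [map_add, map_smul, smul_eq_mul, hBTw, ← two_mul]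
          exact mul_ne_zero h2 (mul_ne_zero hε0 huw)
        · rw [hTu]; exact smul_mem _ _ (subset_span (Or.inl rfl))
        · have : T (T w + ε • w) = ε • (T w + ε • w) := by
            rw [map_add, map_smul, hT2, smul_add, smul_smul, hε, add_comm]
          rw [this]
          exact smul_mem _ _ (subset_span (Or.inr rfl))
      · exfalso
        refine ha00 (hnd a0 ha0 fun b hb => ?_)
        have e := hanti a0 ha0 (T b) (hinv b hb)
        rw [hflip a0 (T b), hT2] at e
        simp only [map_smul, smul_eq_mul, neg_mul, one_mul, neg_neg] at e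
        exact (mul_eq_zero.1 (show (2 : F) * B a0 b = 0 by linear_combination -e)).resolve_left h2

/-- Complete decomposition into planes. -/
theorem exists_planes (hA : B.IsAlt) (T : V →ₗ[F] V) (hT : ∀ u v, B (T u) (T v) = B u v) {z : F}
    (hz : z = 1 ∨ z = -1) (hT2 : ∀ v, T (T v) = z • v) :
    ∀ S : Submodule F V, (∀ v ∈ S, T v ∈ S) → (∀ u ∈ S, (∀ v ∈ S, B u v = 0) → u = 0) →
      ∃ (ι : Type) (_ : Fintype ι) (_ : DecidableEq ι) (u v : ι → V) (σ : Equiv.Perm ι),
        Planes B T S u v σ ∧ S ≤ span F (Set.range (Sum.elim u v)) ∧ ((2 : F) ≠ 0 → ∀ i, σ i = i) := by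
  intro S
  induction h : finrank F S using Nat.strong_induction_on generalizing S with
  | _ n ih =>
    intro hinv hnd
    by_cases hS : S = ⊥
    · exact ⟨Empty, inferInstance, inferInstance, Empty.elim, Empty.elim, 1,
        ⟨fun i => i.elim, fun i => i.elim, fun i => i.elim, fun i => i.elim, fun i => i.elim, fun i => i.elim⟩,
        by simp [hS], fun _ i => i.elim⟩
    obtain ⟨κ, _, _, ⟨k0⟩, u, v, σ, ⟨hσ, hm, huv, huu, hvv, hTm⟩, hfix⟩ := exists_step B hA T hT hz hT2 S hS hinv hnd
    let S' : Submodule F V := S ⊓ ⨅ k, (LinearMap.ker (B (u k)) ⊓ LinearMap.ker (B (v k)))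
    have hmem : ∀ w, w ∈ S' ↔ w ∈ S ∧ ∀ k, B (u k) w = 0 ∧ B (v k) w = 0 := fun w => by
      simp [S', Submodule.mem_iInf]
    have hvu : ∀ i j, B (v i) (u j) = -if j = i then 1 else 0 := fun i j => by
      rw [← LinearMap.IsAlt.neg hA (u j) (v i), huv]
    have hdec : ∀ w ∈ S, w + ∑ k, B (v k) w • u k - ∑ k, B (u k) w • v k ∈ S' := by
      intro w hw
      refine (hmem _).2 ⟨S.sub_mem (S.add_mem hw (sum_mem fun k _ => S.smul_mem _ (hm k).1))
        (sum_mem fun k _ => S.smul_mem _ (hm k).2), fun k => ⟨?_, ?_⟩⟩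
      · simp [map_sum, huu, huv]
      · simp [map_sum, hvv, hvu]
    have hlt : finrank F S' < n := by
      rw [← h]
      refine Submodule.finrank_lt_finrank_of_lt (lt_of_le_of_ne (fun w hw => ((hmem w).1 hw).1) fun he => ?_)
      have := (((hmem (v k0)).1 (he ▸ (hm k0).2)).2 k0).1
      rw [huv, if_pos rfl] at this
      exact one_ne_zero this
    have hnd' : ∀ a ∈ S', (∀ w ∈ S', B a w = 0) → a = 0 := by
      intro a ha haw
      obtain ⟨haS, hak⟩ := (hmem a).1 ha
      refine hnd a haS fun w hw => ?_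
      have e := haw _ (hdec w hw)
      have ea : ∀ k, B a (u k) = 0 ∧ B a (v k) = 0 := fun k =>
        ⟨by rw [← LinearMap.IsAlt.neg hA (u k) a, (hak k).1, neg_zero],
          by rw [← LinearMap.IsAlt.neg hA (v k) a, (hak k).2, neg_zero]⟩
      simpa [map_sum, ea] using e
    have hinv' : ∀ w ∈ S', T w ∈ S' := by
      intro w hw
      obtain ⟨hwS, hwk⟩ := (hmem w).1 hw
      have key : ∀ k, ∀ y ∈ span F ({u (σ k), v (σ k)} : Set V), B y w = 0 := by
        intro k y hy
        obtain ⟨c, d, rfl⟩ := mem_span_pair.1 hy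
        simp [(hwk _).1, (hwk _).2]
      refine (hmem _).2 ⟨hinv w hwS, fun k => ⟨?_, ?_⟩⟩
      · rw [← hT (u k) (T w), hT2, map_smul, key k _ (hTm k).1, smul_zero]
      · rw [← hT (v k) (T w), hT2, map_smul, key k _ (hTm k).2, smul_zero]
    obtain ⟨ι, _, _, u', v', σ', ⟨hσ', hm', huv', huu', hvv', hTm'⟩, hspan, hfix'⟩ := ih _ hlt S' rfl hinv' hnd'
    have hk' : ∀ k i, (B (u k) (u' i) = 0 ∧ B (v k) (u' i) = 0) ∧ B (u k) (v' i) = 0 ∧ B (v k) (v' i) = 0 :=
      fun k i => ⟨((hmem _).1 (hm' i).1).2 k, ((hmem _).1 (hm' i).2).2 k⟩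
    have hk'' : ∀ k i, B (u' i) (u k) = 0 ∧ B (u' i) (v k) = 0 ∧ B (v' i) (u k) = 0 ∧ B (v' i) (v k) = 0 :=
      fun k i => ⟨by rw [← LinearMap.IsAlt.neg hA (u k), (hk' k i).1.1, neg_zero],
        by rw [← LinearMap.IsAlt.neg hA (v k), (hk' k i).1.2, neg_zero],
        by rw [← LinearMap.IsAlt.neg hA (u k), (hk' k i).2.1, neg_zero],
        by rw [← LinearMap.IsAlt.neg hA (v k), (hk' k i).2.2, neg_zero]⟩
    refine ⟨κ ⊕ ι, inferInstance, inferInstance, Sum.elim u u', Sum.elim v v', σ.sumCongr σ',
      ⟨?_, ?_, ?_, ?_, ?_, ?_⟩, ?_, fun h => by rintro (i | i) <;> simp [hfix h, hfix' h]⟩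
    · rintro (i | i) <;> simp [hσ, hσ']
    · rintro (i | i)
      · exact hm i
      · exact ⟨((hmem _).1 (hm' i).1).1, ((hmem _).1 (hm' i).2).1⟩
    · rintro (i | i) (j | j)
      · simp [huv]
      · simp [(hk' i j).2.1]
      · simp [(hk'' j i).2.1]
      · simp [huv']
    · rintro (i | i) (j | j)
      · simp [huu]
      · simp [(hk' i j).1.1]
      · simp [(hk'' j i).1]
      · simp [huu']
    · rintro (i | i) (j | j)
      · simp [hvv]
      · simp [(hk' i j).2.2]
      · simp [(hk'' j i).2.2.2]
      · simp [hvv']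
    · rintro (i | i) <;> simp only [Sum.elim_inl, Sum.elim_inr, Equiv.sumCongr_apply, Sum.map_inl, Sum.map_inr]
      · exact hTm i
      · exact hTm' i
    · intro w hw
      have hsub : span F (Set.range (Sum.elim u' v')) ≤ span F (Set.range (Sum.elim (Sum.elim u u') (Sum.elim v v'))) :=
        span_mono (by
          rintro _ ⟨i | i, rfl⟩
          · exact ⟨Sum.inl (Sum.inr i), rfl⟩
          · exact ⟨Sum.inr (Sum.inr i), rfl⟩)
      have h1 := hsub (hspan (hdec w hw))
      have h2 : ∑ k, B (v k) w • u k ∈ span F (Set.range (Sum.elim (Sum.elim u u') (Sum.elim v v'))) :=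
        sum_mem fun k _ => smul_mem _ _ (subset_span ⟨Sum.inl (Sum.inl k), rfl⟩)
      have h3 : ∑ k, B (u k) w • v k ∈ span F (Set.range (Sum.elim (Sum.elim u u') (Sum.elim v v'))) :=
        sum_mem fun k _ => smul_mem _ _ (subset_span ⟨Sum.inr (Sum.inl k), rfl⟩)
      have h4 := Submodule.add_mem _ (Submodule.sub_mem _ h1 h2) h3
      convert h4 using 1
      abel

variable {ι : Type*} [DecidableEq ι] (σ : ι → ι) (hσ : ∀ i, σ (σ i) = i)

include hσ

/-- An invariant subset of given size. -/
theorem exists_invariant_subset : ∀ (m : ℕ) (s : Finset ι), (∀ i ∈ s, σ i ∈ s) → m ≤ s.card →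
    (Even m ∨ ∃ i ∈ s, σ i = i) → ∃ A ⊆ s, A.card = m ∧ ∀ i ∈ A, σ i ∈ A := by
  intro m
  induction m using Nat.strong_induction_on with
  | _ m ih =>
    intro s hs hm hcond
    by_cases hall : ∀ i ∈ s, σ i = i
    · obtain ⟨A, hA, hAc⟩ := Finset.exists_subset_card_eq hm
      exact ⟨A, hA, hAc, fun i hi => by rwa [hall i (hA hi)]⟩
    push Not at hall
    obtain ⟨i, hi, hne⟩ := hall
    by_cases hm2 : m < 2
    · rcases Nat.lt_succ_iff.1 hm2 |> Nat.le_one_iff_eq_zero_or_eq_one.1 with rfl | rfl
      · exact ⟨∅, Finset.empty_subset _, rfl, by simp⟩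
      · obtain ⟨j, hj, hjf⟩ := hcond.resolve_left (by decide)
        exact ⟨{j}, by simpa using hj, rfl, by simp [hjf]⟩
    set s' := s \ {i, σ i}
    have hs' : ∀ j ∈ s', σ j ∈ s' := fun j hj => by
      simp only [s', Finset.mem_sdiff, Finset.mem_insert, Finset.mem_singleton] at hj ⊢
      refine ⟨hs j hj.1, fun h => hj.2 ?_⟩
      rcases h with h | h
      · exact Or.inr (by rw [← h, hσ])
      · exact Or.inl (by rw [← hσ j, h, hσ])
    have hcard : s'.card + 2 = s.card := by
      have hsub : ({i, σ i} : Finset ι) ⊆ s := by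
        simp [Finset.insert_subset_iff, hi, hs i hi]
      rw [← Finset.card_pair (Ne.symm hne), Finset.card_sdiff_add_card_eq_card hsub]
    obtain ⟨A, hA, hAc, hAi⟩ := ih (m - 2) (by omega) s' hs' (by omega) (by
      rcases hcond with h | ⟨j, hj, hjf⟩
      · exact Or.inl (by rw [Nat.even_sub (by omega)]; simp [h])
      · refine Or.inr ⟨j, ?_, hjf⟩
        simp only [s', Finset.mem_sdiff, Finset.mem_insert, Finset.mem_singleton]
        refine ⟨hj, fun h => hne ?_⟩
        rcases h with rfl | rfl
        · exact hjf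
        · rw [hσ] at hjf; exact hjf.symm)
    have hdisj : Disjoint A ({i, σ i} : Finset ι) :=
      Finset.disjoint_of_subset_left hA Finset.sdiff_disjoint
    refine ⟨A ∪ {i, σ i}, Finset.union_subset (hA.trans Finset.sdiff_subset)
      (by simp [Finset.insert_subset_iff, hi, hs i hi]), ?_, ?_⟩
    · rw [Finset.card_union_of_disjoint hdisj, hAc, Finset.card_pair (Ne.symm hne)]; omega
    · intro j hj
      simp only [Finset.mem_union, Finset.mem_insert, Finset.mem_singleton] at hj ⊢
      rcases hj with h | rfl | rfl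
      · exact Or.inl (hAi j h)
      · exact Or.inr (Or.inr rfl)
      · exact Or.inr (Or.inl (hσ i))

/-- Blocks of equal size permuted by an involution. -/
theorem exists_blocks {h : ℕ} : ∀ (t : ℕ) (s : Finset ι), (∀ i ∈ s, σ i ∈ s) → s.card = t * h →
    ∃ (κ : Type) (_ : Fintype κ) (Bl : κ → Finset ι) (τ : Equiv.Perm κ), Fintype.card κ = t ∧
      (∀ k, (Bl k).card = h ∧ Bl k ⊆ s) ∧ (∀ k k', k ≠ k' → Disjoint (Bl k) (Bl k')) ∧
      ∀ k, (Bl k).image σ = Bl (τ k) := by
  intro t
  induction t using Nat.strong_induction_on with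
  | _ t ih =>
    intro s hs hc
    rcases Nat.eq_zero_or_pos t with rfl | ht
    · exact ⟨Empty, inferInstance, Empty.elim, 1, rfl, fun k => k.elim, fun k => k.elim, fun k => k.elim⟩
    have hinj : Function.Injective σ := Function.LeftInverse.injective hσ
    have himg : ∀ A : Finset ι, (∀ i ∈ A, σ i ∈ A) → A.image σ = A := fun A hA =>
      Finset.eq_of_subset_of_card_le (Finset.image_subset_iff.2 hA) (by rw [Finset.card_image_of_injective _ hinj])
    have hcompl : ∀ A : Finset ι, (∀ i ∈ A, σ i ∈ A) → ∀ i ∈ s \ A, σ i ∈ s \ A := fun A hA i hi => by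
      rw [Finset.mem_sdiff] at hi ⊢
      exact ⟨hs i hi.1, fun h => hi.2 (by rw [← hσ i]; exact hA _ h)⟩
    by_cases hcond : Even h ∨ ∃ i ∈ s, σ i = i
    · obtain ⟨A, hA, hAc, hAi⟩ := exists_invariant_subset σ hσ h s hs
        (by rw [hc]; exact Nat.le_mul_of_pos_left _ ht) hcond
      obtain ⟨κ, _, Bl, τ, hκ, hBl, hdis, hmap⟩ := ih (t - 1) (by omega) (s \ A) (hcompl A hAi) (by
        rw [Finset.card_sdiff_of_subset hA, hc, hAc, Nat.sub_mul, one_mul])
      refine ⟨Option κ, inferInstance, fun k => k.elim A Bl, τ.optionCongr, ?_, ?_, ?_, ?_⟩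
      · rw [Fintype.card_option, hκ]; omega
      · rintro (_ | k)
        · exact ⟨hAc, hA⟩
        · exact ⟨(hBl k).1, (hBl k).2.trans Finset.sdiff_subset⟩
      · rintro (_ | k) (_ | k') hne
        · exact absurd rfl hne
        · exact (Finset.disjoint_of_subset_left (hBl k').2 Finset.sdiff_disjoint).symm
        · exact Finset.disjoint_of_subset_left (hBl k).2 Finset.sdiff_disjoint
        · exact hdis k k' fun e => hne (by rw [e])
      · rintro (_ | k)
        · exact himg A hAi
        · exact hmap k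
    · push Not at hcond
      obtain ⟨hodd, hfree⟩ := hcond
      have ht2 : 2 ≤ t := by
        by_contra hlt
        obtain rfl : t = 1 := by omega
        rw [one_mul] at hc
        obtain ⟨A, hA, hAc, hAi⟩ := exists_invariant_subset σ hσ (h - 1) s hs (by omega)
          (Or.inl (Nat.Odd.sub_odd (Nat.not_even_iff_odd.1 hodd) odd_one))
        have h1 : (s \ A).card = 1 := by
          rw [Finset.card_sdiff_of_subset hA, hc, hAc]
          have := (Nat.not_even_iff_odd.1 hodd).pos
          omega
        obtain ⟨j, hj⟩ := Finset.card_eq_one.1 h1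
        have hjm : j ∈ s \ A := by simp [hj]
        have := hcompl A hAi j hjm
        rw [hj, Finset.mem_singleton] at this
        exact hfree j (Finset.mem_sdiff.1 hjm).1 this
      obtain ⟨A, hA, hAc, hAi⟩ := exists_invariant_subset σ hσ (h + h) s hs
        (by rw [hc]; calc h + h = 2 * h := by ring
              _ ≤ t * h := Nat.mul_le_mul_right h ht2) (Or.inl ⟨h, rfl⟩)
      -- choose representatives of the pairs in `A`
      have hreps : ∀ (m : ℕ) (A : Finset ι), A.card = m → (∀ i ∈ A, σ i ∈ A) → (∀ i ∈ A, σ i ≠ i) →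
          ∃ R ⊆ A, 2 * R.card = m ∧ Disjoint R (R.image σ) := by
        intro m
        induction m using Nat.strong_induction_on with
        | _ m ihm =>
          intro A hAm hAi hAf
          rcases A.eq_empty_or_nonempty with rfl | ⟨i, hi⟩
          · exact ⟨∅, subset_rfl, by simp at hAm ⊢; omega, by simp⟩
          have hsub : ({i, σ i} : Finset ι) ⊆ A := by simp [Finset.insert_subset_iff, hi, hAi i hi]
          have hpair : ({i, σ i} : Finset ι).card = 2 := Finset.card_pair (Ne.symm (hAf i hi))
          have hm2 : 2 ≤ m := hAm ▸ hpair ▸ Finset.card_le_card hsub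
          obtain ⟨R, hR, hRc, hRd⟩ := ihm (m - 2) (by omega) (A \ {i, σ i})
            (by rw [Finset.card_sdiff_of_subset hsub, hpair, hAm]) (fun j hj => by
              simp only [Finset.mem_sdiff, Finset.mem_insert, Finset.mem_singleton] at hj ⊢
              refine ⟨hAi j hj.1, fun h' => hj.2 ?_⟩
              rcases h' with h' | h'
              · exact Or.inr (by rw [← h', hσ])
              · exact Or.inl (by rw [← hσ j, h', hσ]))
            fun j hj => hAf j (Finset.mem_sdiff.1 hj).1
          have hiR : i ∉ R := fun h' => by simpa using (Finset.mem_sdiff.1 (hR h')).2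
          have hσiR : σ i ∉ R := fun h' => by simpa using (Finset.mem_sdiff.1 (hR h')).2
          refine ⟨insert i R, Finset.insert_subset hi (hR.trans Finset.sdiff_subset), ?_, ?_⟩
          · rw [Finset.card_insert_of_notMem hiR]; omega
          · rw [Finset.disjoint_left]
            intro x hx hx'
            rw [Finset.image_insert, Finset.mem_insert] at hx'
            rw [Finset.mem_insert] at hx
            rcases hx with rfl | hx <;> rcases hx' with hx' | hx'
            · exact hAf x hi hx'.symm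
            · obtain ⟨y, hy, hy'⟩ := Finset.mem_image.1 hx'
              refine hσiR ?_
              rw [← hy', hσ]
              exact hy
            · exact hσiR (hx' ▸ hx)
            · exact Finset.disjoint_left.1 hRd hx hx'
      obtain ⟨R, hR, hRc, hRd⟩ := hreps (h + h) A hAc hAi fun i hi => hfree i (hA hi)
      have hRh : R.card = h := by omega
      have hRA : R.image σ ⊆ A := Finset.image_subset_iff.2 fun i hi => hAi i (hR hi)
      obtain ⟨κ, _, Bl, τ, hκ, hBl, hdis, hmap⟩ := ih (t - 2) (by omega) (s \ A) (hcompl A hAi) (by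
        rw [Finset.card_sdiff_of_subset hA, hc, hAc, Nat.sub_mul, two_mul])
      refine ⟨Bool ⊕ κ, inferInstance, Sum.elim (fun b => cond b (R.image σ) R) Bl,
        (Equiv.swap false true).sumCongr τ, ?_, ?_, ?_, ?_⟩
      · rw [Fintype.card_sum, Fintype.card_bool, hκ]; omega
      · rintro (b | k)
        · cases b
          · exact ⟨hRh, hR.trans hA⟩
          · exact ⟨by simp [Finset.card_image_of_injective _ hinj, hRh], hRA.trans hA⟩
        · exact ⟨(hBl k).1, (hBl k).2.trans Finset.sdiff_subset⟩
      · rintro (b | k) (b' | k') hne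
        · cases b <;> cases b'
          · exact absurd rfl hne
          · exact hRd
          · exact hRd.symm
          · exact absurd rfl hne
        · refine (Finset.disjoint_of_subset_left (hBl k').2 (Finset.disjoint_of_subset_right ?_ Finset.sdiff_disjoint)).symm
          cases b
          · exact hR
          · exact hRA
        · refine Finset.disjoint_of_subset_left (hBl k).2 (Finset.disjoint_of_subset_right ?_ Finset.sdiff_disjoint)
          cases b'
          · exact hR
          · exact hRA
        · exact hdis k k' fun e => hne (by rw [e])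
      · rintro (b | k)
        · cases b
          · simp
          · simp [Finset.image_image, Function.comp_def, hσ]
        · simpa using hmap k

end Cfsg.Agent.ClMax99.SympPlanes
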