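import Cfsg.Agent.OrthFix.Std
import Cfsg.Agent.ClMax99.SpGLCard
import Cfsg.Agent.ClMax99.AltSim

/-!
Quadratic forms with the standard alternating polar form in characteristic two.
-/

set_option autoImplicit false
set_option linter.unusedSectionVars false

namespace Cfsg.Agent.ClMax99.SympQuad

open Module QuadraticMap Cfsg.Agent.OrthFix
open Cfsg.Agent.UnitaryOrthogonal (PolarND orth form_smul)
open Cfsg.Agent.Symplectic (Vec)

variable {F : Type*} [Field F] [Fintype F] {d : ℕ}

/-- The polar form is the standard alternating form. -/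
def HasPolar (Q : QuadraticForm F (Vec d F)) : Prop :=
  ∀ u v, polar Q u v = Cfsg.sympForm d F u v

variable {Q : QuadraticForm F (Vec d F)}

theorem HasPolar.polarND (hQ : HasPolar Q) : PolarND Q := fun x hx =>
  Forms.sympForm_left_cancel fun v => by rw [← hQ]; exact hx v

theorem HasPolar.add_eq (hQ : HasPolar Q) (u v : Vec d F) :
    Q (u + v) = Q u + Q v + Cfsg.sympForm d F u v := by
  rw [QuadraticMap.map_add ⇑Q, hQ]

/-- `Q + f(a, ·)²`. -/
noncomputable def shift (Q : QuadraticForm F (Vec d F)) (a : Vec d F) : QuadraticForm F (Vec d F) :=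
  Q + QuadraticMap.linMulLin (Forms.sympBilin d F a) (Forms.sympBilin d F a)

theorem shift_apply (a v : Vec d F) :
    shift Q a v = Q v + Cfsg.sympForm d F a v * Cfsg.sympForm d F a v := by
  simp [shift, Forms.sympBilin_apply]

theorem HasPolar.shift (h2 : (2 : F) = 0) (hQ : HasPolar Q) (a : Vec d F) :
    HasPolar (shift Q a) := fun u v => by
  simp only [polar, shift_apply, hQ.add_eq, Symplectic.sympForm_add_right]
  linear_combination (Cfsg.sympForm d F a u * Cfsg.sympForm d F a v) * h2

theorem two_mul_finrank_le {W : Submodule F (Vec d F)} (hQ : HasPolar Q) (hW : ∀ w ∈ W, Q w = 0) :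
    finrank F W ≤ d := by
  have hND := hQ.polarND
  obtain ⟨M, hM⟩ := W.exists_isCompl
  have hle := AltSim.finrank_le_of_pairing (polarBilin Q) W M fun u hu h => hND u fun v => by
    obtain ⟨a, ha, b, hb, rfl⟩ := Submodule.mem_sup.1
      (hM.sup_eq_top ▸ Submodule.mem_top : v ∈ W ⊔ M)
    rw [polar_add_right, show polar Q u b = 0 from h b hb, add_zero]
    simp [polar, hW u hu, hW a ha, hW _ (W.add_mem hu ha)]
  have := Submodule.finrank_add_eq_of_isCompl hM
  rw [finrank_fun_plus] at this
  omega

/-- The sign `+1` means a totally singular subspace of half the dimension. -/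
theorem sig_one_iff (hQ : HasPolar Q) :
    Sig Q 1 ↔ ∃ T : Submodule F (Vec d F), (∀ t ∈ T, Q t = 0) ∧ finrank F T = d := by
  have h := sigOn_one_iff (Q := Q) (W := ⊤) (h := d) (ndOn_top hQ.polarND)
    (by rw [finrank_top, finrank_fun_plus])
  refine ⟨fun hs => ?_, fun ⟨T, hT, hd⟩ => sig_of_sigOn_top (h.2 ⟨T, le_top, hT, hd⟩)⟩
  obtain ⟨T, -, hT, hd⟩ := h.1 (sigOn_top hs)
  exact ⟨T, hT, hd⟩

/-- Two forms with a common totally singular subspace of half the dimension. -/
theorem sig_one_of_le (hQ : HasPolar Q) {W : Submodule F (Vec d F)} (hW : ∀ w ∈ W, Q w = 0)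
    (hd : d ≤ finrank F W) : Sig Q 1 :=
  (sig_one_iff hQ).2 ⟨W, hW, le_antisymm (two_mul_finrank_le hQ hW) hd⟩

/-- A shift along a nonsingular vector reaches both signs. -/
theorem exists_shift (h2 : (2 : F) = 0) (hQ : HasPolar Q) {k : Vec d F} (hk : Q k ≠ 0) (δ : ℤ)
    (hδ : δ = 1 ∨ δ = -1) : ∃ μ : F, Sig (shift Q (μ • k)) δ := by
  haveI : CharP F 2 := (CharP.charP_iff_prime_eq_zero Nat.prime_two).2 (by exact_mod_cast h2)
  have hk0 : k ≠ 0 := fun e => hk (by rw [e, QuadraticMap.map_zero])
  obtain ⟨w, hw⟩ : ∃ w, Cfsg.sympForm d F k w = 1 := by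
    by_contra hn
    push Not at hn
    refine hk0 (Forms.sympForm_left_cancel fun v => ?_)
    by_contra hv
    exact hn ((Cfsg.sympForm d F k v)⁻¹ • v) (by
      rw [Symplectic.sympForm_smul_right, inv_mul_cancel₀ hv])
  have hwk : Cfsg.sympForm d F w k = 1 := by
    rw [Symplectic.sympForm_swap, hw]; linear_combination -h2
  set P := Submodule.span F {k, w} with hP
  have hli : LinearIndependent F ![k, w] := by
    refine LinearIndependent.pair_iff.2 fun s t h => ?_
    have h1 := congrArg (fun z => Cfsg.sympForm d F k z) h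
    have h3 := congrArg (fun z => Cfsg.sympForm d F w z) h
    simp only [Symplectic.sympForm_add_right, Symplectic.sympForm_smul_right,
      Symplectic.sympForm_self, hw, hwk, mul_zero, mul_one, zero_add, add_zero] at h1 h3
    exact ⟨h3.trans (by simp [Cfsg.sympForm]), h1.trans (by simp [Cfsg.sympForm])⟩
  have hP2 : finrank F P = 2 := by
    have := finrank_span_eq_card hli
    rwa [Matrix.range_cons, Matrix.range_cons, Matrix.range_empty, Set.union_empty,
      Set.singleton_union, Fintype.card_fin] at this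
  have hmem : ∀ x ∈ P, ∃ s t : F, x = s • k + t • w := fun x hx => by
    obtain ⟨s, t, rfl⟩ := Submodule.mem_span_pair.1 hx
    exact ⟨s, t, rfl⟩
  have hkP : k ∈ P := Submodule.subset_span (by simp)
  have hwP : w ∈ P := Submodule.subset_span (by simp)
  have hND : ∀ μ : F, NDOn (shift Q (μ • k)) P := fun μ => ndOn_iff.2 fun u hu h => by
    obtain ⟨s, t, rfl⟩ := hmem u hu
    have h1 := h w hwP
    have h3 := h k hkP
    rw [hQ.shift h2, Symplectic.sympForm_add_left, Symplectic.sympForm_smul_left,
      Symplectic.sympForm_smul_left] at h1 h3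
    rw [hw, Symplectic.sympForm_self, mul_zero, mul_one, add_zero] at h1
    rw [hwk, Symplectic.sympForm_self, mul_zero, mul_one, zero_add] at h3
    rw [h1, h3, zero_smul, zero_smul, add_zero]
  have hval : ∀ μ s t : F, shift Q (μ • k) (s • k + t • w) =
      s ^ 2 * Q k + s * t + t ^ 2 * (Q w + μ * μ) := fun μ s t => by
    rw [shift_apply, hQ.add_eq, QuadraticMap.map_smul, QuadraticMap.map_smul,
      Symplectic.sympForm_smul_left, Symplectic.sympForm_smul_left, Symplectic.sympForm_add_right,
      Symplectic.sympForm_smul_right, Symplectic.sympForm_smul_right,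
      Symplectic.sympForm_self, hw, smul_eq_mul, smul_eq_mul]
    ring
  -- the hyperbolic choice
  obtain ⟨μ, hμ⟩ := Forms59.isSquare_of_two_eq_zero h2 (Q w)
  have hplus : SigOn (shift Q (μ • k)) P 1 := by
    refine (sigOn_one_iff (hND μ) (h := 1) (by rw [hP2])).2
      ⟨Submodule.span F {w}, Submodule.span_le.2 (by simpa using hwP), fun t ht => ?_,
        finrank_span_singleton fun e => by simp [e, Cfsg.sympForm] at hw⟩
    obtain ⟨c, rfl⟩ := Submodule.mem_span_singleton.1 ht
    have := hval μ 0 c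
    rw [zero_smul, zero_add] at this
    rw [this, hμ]
    linear_combination (c ^ 2 * (μ * μ)) * h2
  -- the elliptic choice
  obtain ⟨ζ, hζ⟩ := exists_binAniso (F := F)
  obtain ⟨ν, hν⟩ := Forms59.isSquare_of_two_eq_zero h2 (Q w + ζ / Q k)
  have hminus : SigOn (shift Q (ν • k)) P (-1) := by
    obtain ⟨e, he⟩ := exists_sig (hND ν)
    rcases he.unit with rfl | rfl
    · exfalso
      obtain ⟨T, hTP, hT, hT1⟩ := (sigOn_one_iff (hND ν) (h := 1) (by rw [hP2])).1 he
      obtain ⟨x, hx, hx0⟩ : ∃ x ∈ T, x ≠ 0 :=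
        Submodule.exists_mem_ne_zero_of_ne_bot fun e => by rw [e, finrank_bot] at hT1; omega
      obtain ⟨s, t, rfl⟩ := hmem x (hTP hx)
      have h := hT _ hx
      rw [hval, ← hν] at h
      have h' : (Q k * s) ^ 2 + 1 * (Q k * s) * t + ζ * t ^ 2 = 0 := by
        field_simp at h
        linear_combination h - (t ^ 2 * Q k * Q w) * h2
      obtain ⟨hs, rfl⟩ := hζ _ _ h'
      rw [(mul_eq_zero.1 hs).resolve_left hk, zero_smul, zero_smul, add_zero] at hx0
      exact hx0 rfl
    · exact he
  -- the complements agree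
  have hperp : ∀ μ : F, perp (shift Q (μ • k)) P = perp Q P := fun μ => by
    ext x; simp only [mem_perp, hQ.shift h2 (μ • k) _, hQ _]
  obtain ⟨εR, hR⟩ : ∃ ε, SigOn Q (perp Q P) ε := by
    have hP0 : NDOn Q P := ndOn_iff.2 fun u hu h => ndOn_iff.1 (hND 0) u hu fun v hv => by
      rw [hQ.shift h2, ← hQ]; exact h v hv
    have := (ndOn_top hQ.polarND).inf_perp hP0 le_top
    rw [top_inf_eq] at this
    exact exists_sig this.1
  have hsign : ∀ (μ : F) (e : ℤ), SigOn (shift Q (μ • k)) P e → Sig (shift Q (μ • k)) (e * εR) := by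
    intro μ e he
    obtain ⟨hn', -, hs⟩ := (ndOn_top (hQ.shift h2 (μ • k)).polarND).inf_perp (hND μ) le_top
    rw [top_inf_eq] at hn' hs
    obtain ⟨eT, heT⟩ := exists_sig (hQ.shift h2 (μ • k)).polarND
    have hs' := hs eT e (sigOn_top heT) he
    rw [sig_even_left (by rw [hP2]; exact even_two), mul_one] at hs'
    have hcomp : (shift Q (μ • k)).comp (perp (shift Q (μ • k)) P).subtype =
        Q.comp (perp (shift Q (μ • k)) P).subtype := by
      ext ⟨x, hx⟩
      show shift Q (μ • k) x = Q x
      have hkx := mem_perp.1 hx k hkP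
      rw [hQ.shift h2] at hkx
      rw [shift_apply, Symplectic.sympForm_smul_left, hkx, mul_zero, mul_zero, add_zero]
    have hR' : SigOn Q (perp (shift Q (μ • k)) P) εR := by rw [hperp]; exact hR
    rw [SigOn, ← hcomp] at hR'
    have := hs'.unique hR'
    rcases he.unit with rfl | rfl
    · rw [mul_one] at this
      rw [one_mul, ← this]; exact heT
    · rw [show -1 * εR = eT by linarith]; exact heT
  rcases hR.unit with rfl | rfl <;> rcases hδ with rfl | rfl
  · exact ⟨μ, hsign μ 1 hplus⟩
  · exact ⟨ν, hsign ν (-1) hminus⟩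
  · exact ⟨ν, hsign ν (-1) hminus⟩
  · exact ⟨μ, hsign μ 1 hplus⟩

/-- An isometry between two such forms is symplectic. -/
theorem exists_conj {Q' : QuadraticForm F (Vec d F)} (hQ : HasPolar Q) (hQ' : HasPolar Q') {ε : ℤ}
    (h : Sig Q ε) (h' : Sig Q' ε) : ∃ g ∈ Cfsg.spGL d F,
      ∀ v, Q' (Matrix.toLin' (g : Matrix (Fin d ⊕ Fin d) (Fin d ⊕ Fin d) F) v) = Q v := by
  obtain ⟨e⟩ := Sig.isometric hQ.polarND hQ'.polarND h h' rfl
  let g : GL (Fin d ⊕ Fin d) F := Matrix.GeneralLinearGroup.toLin.symm
    ((LinearMap.GeneralLinearGroup.generalLinearEquiv F _).symm e.toLinearEquiv)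
  have hg : ∀ v, Matrix.toLin' (g : Matrix (Fin d ⊕ Fin d) (Fin d ⊕ Fin d) F) v = e v := fun v => by
    have h1 : (Matrix.GeneralLinearGroup.toLin g) = (LinearMap.GeneralLinearGroup.generalLinearEquiv F _).symm
        e.toLinearEquiv := MulEquiv.apply_symm_apply _ _
    exact LinearMap.congr_fun (congrArg Units.val h1) v
  refine ⟨g, SpGL.mem_iff.2 fun u v => ?_, fun v => by rw [hg, e.map_app]⟩
  rw [← Matrix.toLin'_apply, ← Matrix.toLin'_apply, hg, hg, ← hQ', ← hQ,
    UnitaryOrthogonal.polar_isometryEquiv e]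

/-- A symplectic involution preserves some form. -/
theorem exists_invariant (h2 : (2 : F) = 0) (hQ : HasPolar Q)
    {T : Vec d F →ₗ[F] Vec d F} (hT : ∀ u v, Cfsg.sympForm d F (T u) (T v) = Cfsg.sympForm d F u v)
    (hT2 : ∀ v, T (T v) = v) : ∃ a, ∀ v, shift Q a (T v) = shift Q a v := by
  haveI : CharP F 2 := (CharP.charP_iff_prime_eq_zero Nat.prime_two).2 (by exact_mod_cast h2)
  haveI : PerfectRing F 2 := PerfectField.toPerfectRing 2
  let sq : F → F := fun x => (frobeniusEquiv F 2).symm x
  have hsq : ∀ x, sq x * sq x = x := fun x => by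
    rw [← pow_two]
    exact (frobeniusEquiv_def F 2 _).symm.trans ((frobeniusEquiv F 2).apply_symm_apply x)
  let L : Vec d F →ₗ[F] F :=
    { toFun := fun v => sq (Q (T v) + Q v)
      map_add' := fun u v => by
        rw [map_add, hQ.add_eq, hQ.add_eq, hT, ← map_add (frobeniusEquiv F 2).symm]
        congr 1
        linear_combination (Cfsg.sympForm d F u v) * h2
      map_smul' := fun c v => by
        show sq _ = c * sq _
        rw [map_smul, QuadraticMap.map_smul, QuadraticMap.map_smul, smul_eq_mul, smul_eq_mul,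
          ← mul_add]
        show (frobeniusEquiv F 2).symm (c * c * _) = _
        rw [map_mul]
        congr 1
        rw [← pow_two, ← frobeniusEquiv_def F 2]
        exact (frobeniusEquiv F 2).symm_apply_apply c }
  have hL : L ∈ LinearMap.range (T + LinearMap.id).dualMap := by
    rw [LinearMap.range_dualMap_eq_dualAnnihilator_ker, Submodule.mem_dualAnnihilator]
    intro v hv
    have hTv : T v = v := by
      have hv' : T v + v = 0 := hv
      funext i
      have := congrFun hv' i
      simp only [Pi.add_apply, Pi.zero_apply] at this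
      linear_combination this - (v i) * h2
    show sq (Q (T v) + Q v) = 0
    rw [hTv, show Q v + Q v = 0 by linear_combination (Q v) * h2]
    exact map_zero _
  obtain ⟨ℓ, hℓ⟩ := hL
  have hB : (Forms.sympBilin d F).Nondegenerate := Forms.sympBilin_nondegenerate
  set a := (LinearMap.BilinForm.toDual (Forms.sympBilin d F) hB).symm ℓ
  have ha : ∀ v, Cfsg.sympForm d F a v = ℓ v := fun v => by
    rw [← Forms.sympBilin_apply]
    exact LinearMap.BilinForm.apply_toDual_symm_apply ℓ v
  refine ⟨a, fun v => ?_⟩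
  rw [shift_apply, shift_apply, ha, ha]
  have h1 : ℓ (T v) + ℓ v = sq (Q (T v) + Q v) := by
    rw [← map_add]; exact LinearMap.congr_fun hℓ v
  have h2' : (ℓ (T v) + ℓ v) * (ℓ (T v) + ℓ v) = Q (T v) + Q v := by rw [h1, hsq]
  linear_combination h2' + (Q (T v) - ℓ v * ℓ v - ℓ (T v) * ℓ v) * h2

/-- Both signs, or a forced sign. -/
theorem exists_invariant_sig (h2 : (2 : F) = 0) (hQ : HasPolar Q)
    {T : Vec d F →ₗ[F] Vec d F} (hT : ∀ u v, Cfsg.sympForm d F (T u) (T v) = Cfsg.sympForm d F u v)
    (hT2 : ∀ v, T (T v) = v) {δ : ℤ} (hδ : δ = 1 ∨ (δ = -1 ∧ Odd d)) :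
    ∃ Q' : QuadraticForm F (Vec d F), HasPolar Q' ∧ Sig Q' δ ∧ ∀ v, Q' (T v) = Q' v := by
  obtain ⟨a, ha⟩ := exists_invariant h2 hQ hT hT2
  set Q₁ := shift Q a
  have hQ₁ : HasPolar Q₁ := hQ.shift h2 a
  by_cases hk : ∃ k, T k = k ∧ Q₁ k ≠ 0
  · obtain ⟨k, hkT, hk⟩ := hk
    obtain ⟨μ, hμ⟩ := exists_shift h2 hQ₁ hk δ (hδ.imp_right And.left)
    refine ⟨shift Q₁ (μ • k), hQ₁.shift h2 _, hμ, fun v => ?_⟩
    have hkT' : T (μ • k) = μ • k := by rw [map_smul, hkT]
    rw [shift_apply (Q := Q₁), shift_apply (Q := Q₁), show Q₁ (T v) = Q₁ v from ha v]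
    conv_lhs => rw [← hkT', hT]
  · push Not at hk
    set N : Vec d F →ₗ[F] Vec d F := T + LinearMap.id with hN
    have hneg : ∀ x : Vec d F, x + x = 0 := fun x => by
      funext i; simp only [Pi.add_apply, Pi.zero_apply]; linear_combination (x i) * h2
    have hker : ∀ v ∈ LinearMap.ker N, T v = v := fun v hv => by
      have hv' : T v + v = 0 := hv
      linear_combination (norm := module) hv' - hneg v
    have hK : ∀ w ∈ LinearMap.ker N, Q₁ w = 0 := fun w hw => hk w (hker w hw)
    have hrk : finrank F (LinearMap.range N) ≤ finrank F (LinearMap.ker N) := by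
      refine Submodule.finrank_mono ?_
      rintro _ ⟨v, rfl⟩
      show T (T v + v) + (T v + v) = 0
      rw [map_add, hT2, add_comm v (T v)]
      exact hneg _
    have hsum := N.finrank_range_add_finrank_ker
    rw [finrank_fun_plus] at hsum
    have hle := two_mul_finrank_le hQ₁ hK
    rcases hδ with rfl | ⟨rfl, hd⟩
    · exact ⟨Q₁, hQ₁, sig_one_of_le hQ₁ hK (by omega), ha⟩
    · exfalso
      have hND := hQ₁.polarND
      have hNK : ∀ v, N v ∈ LinearMap.ker N := fun v => by
        show T (T v + v) + (T v + v) = 0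
        rw [map_add, hT2, add_comm v (T v)]
        exact hneg _
      let B : LinearMap.BilinForm F (Vec d F) := (polarBilin Q₁).compl₂ N
      have hA : B.IsAlt := fun v => by
        show polar Q₁ v (N v) = 0
        have e : T v = v + N v := by
          show T v = v + (T v + v)
          linear_combination (norm := module) -hneg v
        have := ha v
        rw [show shift Q a (T v) = Q₁ (T v) from rfl, e, QuadraticMap.map_add ⇑Q₁, hK _ (hNK v)] at this
        linear_combination this
      obtain ⟨M, hM⟩ := (LinearMap.ker N).exists_isCompl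
      have hKp : ∀ u ∈ LinearMap.ker N, ∀ v ∈ LinearMap.ker N, polar Q₁ u v = 0 :=
        fun u hu v hv => by simp [polar, hK u hu, hK v hv, hK _ ((LinearMap.ker N).add_mem hu hv)]
      have hev := AltSim.even_finrank B hA M fun v hv h => by
        refine Submodule.disjoint_def.1 hM.disjoint v (hND _ fun u => ?_) hv
        obtain ⟨x, hx, y, hy, rfl⟩ := Submodule.mem_sup.1
          (hM.sup_eq_top ▸ Submodule.mem_top : u ∈ LinearMap.ker N ⊔ M)
        rw [polar_comm, polar_add_left, hKp x hx _ (hNK v), zero_add]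
        show B y v = 0
        rw [← LinearMap.IsAlt.neg hA v y, h y hy, neg_zero]
      have := Submodule.finrank_add_eq_of_isCompl hM
      rw [finrank_fun_plus] at this
      obtain ⟨k, hk'⟩ := hev
      obtain ⟨l, hl⟩ := hd
      omega

/-- The form given as a function. -/
noncomputable def ofFun {f : Vec d F → F} (hsm : ∀ (c : F) v, f (c • v) = c ^ 2 * f v)
    (hf : ∀ u v, polar f u v = Cfsg.sympForm d F u v) : QuadraticForm F (Vec d F) :=
  QuadraticMap.ofPolar f (fun c v => by rw [hsm, smul_eq_mul, pow_two])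
    (fun u v w => by simp only [hf, Symplectic.sympForm_add_left])
    (fun c u v => by simp only [hf, Symplectic.sympForm_smul_left, smul_eq_mul])

end Cfsg.Agent.ClMax99.SympQuad
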