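import Cfsg.Agent.ClMax99.SympInv
import Cfsg.Agent.ClMax99.SympJordan
import Mathlib.FieldTheory.ChevalleyWarning

/-!
Totally isotropic invariant subspaces of isometries of odd prime order of an alternating form.
-/

set_option autoImplicit false
set_option linter.unusedSectionVars false

namespace Cfsg.Agent.ClMax99.SympTI

open Module Submodule Polynomial SympInv Cfsg.Agent.ClMax99.Inv

variable {F V : Type*} [Field F] [AddCommGroup V] [Module F V] [FiniteDimensional F V]
variable {B : LinearMap.BilinForm F V}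

/-- Total isotropy. -/
def TI (B : LinearMap.BilinForm F V) (P : Submodule F V) : Prop := ∀ u ∈ P, ∀ v ∈ P, B u v = 0

/-- Few quadratic equations have a common non-trivial zero. -/
theorem exists_common_zero [Fintype F] {ι : Type*} [Fintype ι] (β : ι → LinearMap.BilinForm F V) (X : Submodule F V)
    (h : 2 * Fintype.card ι < finrank F X) : ∃ v ∈ X, v ≠ 0 ∧ ∀ j, β j v v = 0 := by
  classical
  by_contra hcon
  push Not at hcon
  obtain ⟨p, hp⟩ := CharP.exists F
  haveI : Fact p.Prime := ⟨CharP.char_is_prime F p⟩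
  let e := Module.finBasis F X
  let f : ι → MvPolynomial (Fin (finrank F X)) F := fun j =>
    ∑ a, ∑ b, MvPolynomial.C (β j (e a : V) (e b : V)) * (MvPolynomial.X a * MvPolynomial.X b)
  have hdeg : ∀ j, (f j).totalDegree ≤ 2 := by
    intro j
    refine (MvPolynomial.totalDegree_finsetSum _ _).trans (Finset.sup_le fun a _ => ?_)
    refine (MvPolynomial.totalDegree_finsetSum _ _).trans (Finset.sup_le fun b _ => ?_)
    refine (MvPolynomial.totalDegree_mul _ _).trans ?_
    rw [MvPolynomial.totalDegree_C, zero_add]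
    refine (MvPolynomial.totalDegree_mul _ _).trans ?_
    rw [MvPolynomial.totalDegree_X, MvPolynomial.totalDegree_X]
  have heval : ∀ (x : Fin (finrank F X) → F) (j),
      MvPolynomial.eval x (f j) = β j (∑ a, x a • (e a : V)) (∑ b, x b • (e b : V)) := by
    intro x j
    simp only [f, map_sum, map_mul, MvPolynomial.eval_C, MvPolynomial.eval_X, map_smul, LinearMap.sum_apply,
      LinearMap.smul_apply, smul_eq_mul, Finset.mul_sum]
    rw [Finset.sum_comm]
    exact Finset.sum_congr rfl fun a _ => Finset.sum_congr rfl fun b _ => by ring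
  have hdvd := char_dvd_card_solutions_of_fintype_sum_lt p (f := f) (lt_of_le_of_lt
    ((Finset.sum_le_card_nsmul _ _ 2 fun j _ => hdeg j).trans
      (by rw [Finset.card_univ, smul_eq_mul, mul_comm]))
    (by rw [Fintype.card_fin]; exact h))
  have hone : Fintype.card {x : Fin (finrank F X) → F // ∀ j, MvPolynomial.eval x (f j) = 0} = 1 := by
    refine Fintype.card_eq_one_iff.2 ⟨⟨0, fun j => by rw [heval]; simp⟩, ?_⟩
    rintro ⟨x, hx⟩
    refine Subtype.ext ?_
    have hmem : ∑ a, x a • (e a : V) ∈ X := sum_mem fun a _ => X.smul_mem _ (e a).2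
    have h0 : ∑ a, x a • (e a : V) = 0 := by
      by_contra hne
      obtain ⟨j, hj⟩ := hcon _ hmem hne
      exact hj (by rw [← heval]; exact hx j)
    have h1 : (∑ a, x a • e a : X) = 0 := Subtype.ext (by rw [Submodule.coe_sum]; exact h0)
    exact funext (Fintype.linearIndependent_iff.1 e.linearIndependent x h1)
  rw [hone] at hdvd
  exact (Fact.out : p.Prime).one_lt.ne' (Nat.dvd_one.1 hdvd)

/-- A totally isotropic subspace has at most half the dimension. -/
theorem ti_le (hA : B.IsAlt) {W X : Submodule F V} (hWX : W ≤ X) (hX : Nd B X) (hW : TI B W) :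
    2 * finrank F W ≤ finrank F X := by
  set Y := X ⊓ perp B W with hY
  have hWY : W ≤ Y := le_inf hWX fun w hw => mem_perp.2 fun u hu => hW u hu w hw
  obtain ⟨Q, hQ⟩ := Submodule.exists_isCompl Y
  have hdis : Disjoint Y (Q ⊓ X) := hQ.disjoint.mono_right inf_le_left
  have hsup : Y ⊔ (Q ⊓ X) = X := by
    rw [← sup_inf_assoc_of_le Q (inf_le_left : Y ≤ X), hQ.sup_eq_top, top_inf_eq]
  have h1 : finrank F W ≤ finrank F ↥(Q ⊓ X) := AltSim.finrank_le_of_pairing B W _ fun w hw h0 => by
    refine hX w (hWX hw) fun x hx => ?_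
    rw [← hsup] at hx
    obtain ⟨y, hy, q, hq, rfl⟩ := mem_sup.1 hx
    rw [map_add, mem_perp.1 hy.2 w hw, h0 q hq, add_zero]
  have h2 := Submodule.finrank_sup_add_finrank_inf_eq Y (Q ⊓ X)
  rw [hdis.eq_bot, finrank_bot, add_zero, hsup] at h2
  have h3 := Submodule.finrank_mono hWY
  omega

/-- Totally isotropic subspaces up to half the dimension. -/
theorem exists_ti (hA : B.IsAlt) {X : Submodule F V} (hX : Nd B X) {a : ℕ} (ha : 2 * a ≤ finrank F X) :
    ∃ P ≤ X, TI B P ∧ finrank F P = a := by
  obtain ⟨k, e, f, he, hf, hef, hee, hff, hspan⟩ := Forms.exists_symplectic_family B hA X hX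
  rw [Forms.finrank_eq_of_symplectic_family B hA X e f he hf hef hee hff hspan] at ha
  have hak : a ≤ k := by omega
  refine ⟨span F (Set.range (e ∘ Fin.castLE hak)), span_le.2 (by rintro _ ⟨j, rfl⟩; exact he _), ?_, ?_⟩
  · intro u hu v hv
    obtain ⟨c, rfl⟩ := (mem_span_range_iff_exists_fun F).1 hu
    obtain ⟨c', rfl⟩ := (mem_span_range_iff_exists_fun F).1 hv
    simp [hee]
  · rw [finrank_span_eq_card, Fintype.card_fin]
    exact ((Forms.linearIndependent_symplectic_family B hA e f hef hee hff).comp Sum.inl Sum.inl_injective).comp _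
      (Fin.castLE_injective hak)

/-- Kernels of products. -/
theorem finrank_ker_prod_le (T : Module.End F V) (R : Submodule F V) (hR : R.map T ≤ R) :
    ∀ L : List F[X], finrank F ↥(R ⊓ LinearMap.ker (aeval T L.prod)) ≤
      (L.map fun g => finrank F ↥(R ⊓ LinearMap.ker (aeval T g))).sum := by
  intro L
  induction L with
  | nil =>
    have h0 : R ⊓ LinearMap.ker (aeval T (1 : F[X])) = ⊥ := by
      rw [map_one, Submodule.eq_bot_iff]
      rintro x ⟨-, hx⟩
      exact hx
    exact (LinearEquiv.finrank_eq (LinearEquiv.ofEq _ _ h0)).trans_le (by simp)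
  | cons g L ih =>
    set X' := R ⊓ LinearMap.ker (aeval T (g :: L).prod) with hX'
    have h := SympJordan.finrank_map_add (aeval T L.prod) X'
    have h1 : X'.map (aeval T L.prod) ≤ R ⊓ LinearMap.ker (aeval T g) := by
      rintro _ ⟨v, ⟨hvR, hv⟩, rfl⟩
      rw [SetLike.mem_coe, LinearMap.mem_ker, List.prod_cons, map_mul, Module.End.mul_apply] at hv
      exact ⟨aeval_mem hR _ hvR, hv⟩
    have h2 : X' ⊓ LinearMap.ker (aeval T L.prod) ≤ R ⊓ LinearMap.ker (aeval T L.prod) :=
      inf_le_inf_right _ inf_le_left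
    have := Submodule.finrank_mono h1
    have := Submodule.finrank_mono h2
    rw [List.map_cons, List.sum_cons]
    omega

section Order

variable [Fintype F] {r : ℕ} [hr : Fact r.Prime] {T : Module.End F V}
variable (hA : B.IsAlt) (hT : ∀ u v, B (T u) (T v) = B u v) (hrF : (r : F) ≠ 0) (hf : T ^ r = 1)
variable {i : ℕ} (hi : i = orderOf (Fintype.card F : ZMod r))

include hA hT hrF hf hi in
/-- An invariant totally isotropic irreducible subspace inside a large isotypic part. -/
theorem exists_piece {R : Submodule F V} (hRi : R.map T ≤ R) (hle : R ≤ LinearMap.range (T - 1)) {g : F[X]}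
    (hg : Irreducible g) (hgd : g.natDegree = i) (hir : i ≤ r)
    (hbig : (if Even i then i else 0) < finrank F ↥(R ⊓ LinearMap.ker (aeval T g))) :
    ∃ P ≤ R, P.map T ≤ P ∧ TI B P ∧ finrank F P = i := by
  have hipos : 0 < i := hgd ▸ hg.natDegree_pos
  set K := R ⊓ LinearMap.ker (aeval T g) with hK
  have hKi : K.map T ≤ K := by
    rintro _ ⟨w, ⟨hwR, hwg⟩, rfl⟩
    refine ⟨hRi ⟨w, hwR, rfl⟩, ?_⟩
    rw [SetLike.mem_coe, LinearMap.mem_ker] at hwg ⊢
    have : aeval T g * T = T * aeval T g := by
      have h := congrArg (aeval T) (mul_comm g Polynomial.X)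
      simpa using h
    rw [← Module.End.mul_apply, this, Module.End.mul_apply, hwg, map_zero]
  have hKd : i ∣ finrank F K := dvd_of_le_range hrF hf hi hKi (inf_le_left.trans hle)
  set h := i / 2 with hh
  have hcnt : 2 * h < finrank F K := by
    by_cases hev : Even i
    · rw [if_pos hev] at hbig; omega
    · rw [if_neg hev] at hbig
      have := Nat.le_of_dvd hbig hKd
      obtain ⟨k, hk⟩ := Nat.not_even_iff_odd.1 hev
      omega
  obtain ⟨v, hvK, hv0, hv⟩ := exists_common_zero
    (fun j : Fin h => (B.compl₂ (T ^ ((j : ℕ) + 1)) : LinearMap.BilinForm F V)) K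
    (by rw [Fintype.card_fin]; exact hcnt)
  have hpos : ∀ m, m ≤ h → B v ((T ^ m) v) = 0 := fun m hm => by
    rcases m with _ | m
    · simp [hA.self_eq_zero]
    · exact hv ⟨m, by omega⟩
  have hneg : ∀ m, m ≤ h → B v ((T ^ (r - m)) v) = 0 := fun m hm => by
    rw [← form_pow hT m, ← Module.End.mul_apply (T ^ m), ← pow_add, show m + (r - m) = r by omega, hf,
      Module.End.one_apply]
    exact swap_zero hA (hpos m hm)
  set h' := i - 1 - h with hh'
  have hh'h : h' ≤ h := by omega
  set u := (T ^ (r - h')) v with hu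
  have hgu : aeval T g u = 0 := by
    rw [hu, ← Module.End.mul_apply, show (aeval T g) * T ^ (r - h') = T ^ (r - h') * aeval T g by
      have e := congrArg (aeval T) (mul_comm g (Polynomial.X ^ (r - h')))
      simpa using e, Module.End.mul_apply, LinearMap.mem_ker.1 hvK.2, map_zero]
  have hwin : ∀ a, (T ^ a) u ∈ span F (Set.range fun j : Fin g.natDegree => (T ^ (j : ℕ)) u) := fun a => by
    have e : aeval T ((Polynomial.X : F[X]) ^ a % g) u = aeval T ((Polynomial.X : F[X]) ^ a) u := by
      conv_rhs => rw [← EuclideanDomain.mod_add_div ((Polynomial.X : F[X]) ^ a) g]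
      rw [map_add, mul_comm g, map_mul, LinearMap.add_apply, Module.End.mul_apply, hgu, map_zero, add_zero]
    rw [show (T ^ a) u = aeval T ((Polynomial.X : F[X]) ^ a) u by rw [map_pow, aeval_X], ← e,
      aeval_eq_sum_range' (n := g.natDegree) (natDegree_mod_lt _ hg.natDegree_pos.ne'),
      LinearMap.sum_apply]
    refine sum_mem fun j hj => ?_
    rw [LinearMap.smul_apply]
    exact smul_mem _ _ (subset_span ⟨⟨j, Finset.mem_range.1 hj⟩, rfl⟩)
  have hall : ∀ a, B v ((T ^ a) v) = 0 := fun a => by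
    have e : (T ^ a) v = (T ^ (a + h')) u := by
      rw [hu, ← Module.End.mul_apply, ← pow_add, show a + h' + (r - h') = a + r by omega, pow_add, hf, mul_one]
    rw [e]
    refine (span_le.2 ?_ (hwin (a + h')) : (T ^ (a + h')) u ∈ LinearMap.ker (B v))
    rintro _ ⟨j, rfl⟩
    show B v ((T ^ (j : ℕ)) u) = 0
    have hj : (j : ℕ) < i := hgd ▸ j.2
    rw [hu, ← Module.End.mul_apply, ← pow_add]
    rcases le_or_gt h' (j : ℕ) with hc | hc
    · rw [show (j : ℕ) + (r - h') = ((j : ℕ) - h') + r by omega, pow_add, hf, mul_one]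
      exact hpos _ (by omega)
    · rw [show (j : ℕ) + (r - h') = r - (h' - (j : ℕ)) by omega]
      exact hneg _ (by omega)
  obtain ⟨P, hPR, hPi, hvP, hPd⟩ := exists_cyclic hg hKi hvK (LinearMap.mem_ker.1 hvK.2)
  set Q := span F (Set.range fun a : ℕ => (T ^ a) v) with hQ
  have hQP : Q ≤ P := span_le.2 (by rintro _ ⟨a, rfl⟩; exact SympJordan.map_pow_le hPi a v hvP)
  have hQi : Q.map T ≤ Q := by
    rw [hQ, Submodule.map_span_le]
    rintro _ ⟨a, rfl⟩
    exact subset_span ⟨a + 1, by simp [pow_succ', Module.End.mul_apply]⟩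
  refine ⟨Q, hQP.trans (hPR.trans inf_le_left), hQi, ?_, ?_⟩
  · have h1 : ∀ a, ∀ y ∈ Q, B ((T ^ a) v) y = 0 := fun a y hy => by
      refine (span_le.2 ?_ hy : y ∈ LinearMap.ker (B ((T ^ a) v)))
      rintro _ ⟨b, rfl⟩
      show B ((T ^ a) v) ((T ^ b) v) = 0
      obtain ⟨s, hs⟩ : ∃ s, b + r * a = a + s := ⟨b + r * a - a, by
        have : a ≤ r * a := Nat.le_mul_of_pos_left a hr.out.pos
        omega⟩
      rw [show (T ^ b) v = (T ^ (a + s)) v by rw [← hs, pow_add, pow_mul, hf, one_pow, mul_one],
        pow_add, Module.End.mul_apply, form_pow hT]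
      exact hall s
    intro x hx y hy
    refine (span_le.2 ?_ hx : x ∈ LinearMap.ker (B.flip y))
    rintro _ ⟨a, rfl⟩
    exact h1 a y hy
  · refine le_antisymm ((Submodule.finrank_mono hQP).trans (hgd ▸ hPd)) (Nat.le_of_dvd ?_
      (dvd_of_le_range hrF hf hi hQi (hQP.trans (hPR.trans (inf_le_left.trans hle)))))
    have hvQ : v ∈ Q := subset_span ⟨0, by simp⟩
    exact Nat.pos_of_ne_zero fun h0 => hv0 (by rw [Submodule.finrank_eq_zero.1 h0] at hvQ; simpa using hvQ)

include hA hT hrF hf hi in
/-- Maximal totally isotropic invariant subspaces without fixed vectors. -/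
theorem exists_max {R : Submodule F V} (hRi : R.map T ≤ R) (hRn : Nd B R) (hle : R ≤ LinearMap.range (T - 1))
    (hir : i ≤ r) :
    ∃ P ≤ R, P.map T ≤ P ∧ TI B P ∧ finrank F R ≤ 2 * finrank F P + (if Even i then r - 1 else 0) := by
  induction hd : finrank F R using Nat.strong_induction_on generalizing R with
  | _ n ih =>
  classical
  have hpoly0 := geom_ne_zero (F := F) hrF
  set L := (UniqueFactorizationMonoid.factors (∑ j ∈ Finset.range r, (Polynomial.X : F[X]) ^ j)).toList with hL
  have hLirr : ∀ g ∈ L, Irreducible g ∧ g ∣ ∑ j ∈ Finset.range r, (Polynomial.X : F[X]) ^ j := fun g hg => by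
    rw [hL, Multiset.mem_toList] at hg
    exact ⟨UniqueFactorizationMonoid.irreducible_of_factor g hg, UniqueFactorizationMonoid.dvd_of_mem_factors hg⟩
  have hdeg : ∀ g ∈ L, g.natDegree = i := fun g hg =>
    (natDegree_eq_orderOf hrF (hLirr g hg).1 (hLirr g hg).2).trans hi.symm
  by_cases hex : ∃ g ∈ L, (if Even i then i else 0) < finrank F ↥(R ⊓ LinearMap.ker (aeval T g))
  · obtain ⟨g, hg, hbig⟩ := hex
    obtain ⟨P, hPR, hPi, hPT, hPd⟩ := exists_piece hA hT hrF hf hi hRi hle (hLirr g hg).1 (hdeg g hg) hir hbig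
    have hipos : 0 < i := hdeg g hg ▸ (hLirr g hg).1.natDegree_pos
    set Y := R ⊓ perp B P with hY
    have hinj := SympInv.injective hf
    have hYi : Y.map T ≤ Y := (Submodule.map_inf_le T).trans (inf_le_inf hRi (map_perp_le hT hinj hPi))
    have hPY : P ≤ Y := le_inf hPR fun a ha => mem_perp.2 fun b hb => hPT b hb a ha
    obtain ⟨Q, hdis, hs, hQi⟩ := exists_invariant_compl_in hrF one_ne_zero
      (show T ^ r = (1 : F) • 1 by rw [one_smul]; exact hf) hYi hRi inf_le_left
    have hQR : Q ≤ R := hs ▸ le_sup_right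
    have hQY : ∀ q ∈ Q, (∀ a ∈ P, B q a = 0) → q = 0 := fun q hq h =>
      Submodule.disjoint_def.1 hdis q ⟨hQR hq, mem_perp.2 fun a ha => swap_zero hA (h a ha)⟩ hq
    have hMn : Nd B (P ⊔ Q) := by
      intro w hw h
      obtain ⟨a, ha, q, hq, rfl⟩ := mem_sup.1 hw
      have hq0 : q = 0 := hQY q hq fun b hb => by
        have := h b (mem_sup_left hb)
        rwa [map_add, LinearMap.add_apply, hPT a ha b hb, zero_add] at this
      subst hq0
      rw [add_zero] at h ⊢
      refine hRn a (hPR ha) fun b hb => ?_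
      rw [← hs] at hb
      obtain ⟨y, hy, q, hq, rfl⟩ := mem_sup.1 hb
      rw [map_add, mem_perp.1 hy.2 a ha, h q (mem_sup_right hq), add_zero]
    have hMR : P ⊔ Q ≤ R := sup_le hPR hQR
    have hMi : (P ⊔ Q).map T ≤ P ⊔ Q := by rw [Submodule.map_sup]; exact sup_le_sup hPi hQi
    have hQd : finrank F Q ≤ i := hPd ▸ AltSim.finrank_le_of_pairing B Q P hQY
    have hMd : finrank F ↥(P ⊔ Q) = i + finrank F Q := by
      have h := Submodule.finrank_sup_add_finrank_inf_eq P Q
      rw [(hdis.mono_left hPY).eq_bot, finrank_bot, hPd] at h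
      omega
    obtain ⟨-, -, hn', hfr⟩ := split hA hMR hMn hRn
    obtain ⟨P', hP'R, hP'i, hP'T, hP'd⟩ := ih (finrank F ↥(R ⊓ perp B (P ⊔ Q))) (by omega)
      ((Submodule.map_inf_le T).trans (inf_le_inf hRi (map_perp_le hT hinj hMi))) hn' (inf_le_left.trans hle) rfl
    have horth : ∀ a ∈ P, ∀ b ∈ P', B a b = 0 := fun a ha b hb => mem_perp.1 (hP'R hb).2 a (mem_sup_left ha)
    have hdisP : Disjoint P P' := by
      rw [Submodule.disjoint_def]
      intro a ha ha'
      exact hMn a (mem_sup_left ha) fun b hb => swap_zero hA (mem_perp.1 (hP'R ha').2 b hb)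
    refine ⟨P ⊔ P', sup_le hPR (hP'R.trans inf_le_left), by rw [Submodule.map_sup]; exact sup_le_sup hPi hP'i, ?_, ?_⟩
    · intro x hx y hy
      obtain ⟨a, ha, b, hb, rfl⟩ := mem_sup.1 hx
      obtain ⟨a', ha', b', hb', rfl⟩ := mem_sup.1 hy
      simp only [map_add, LinearMap.add_apply, hPT a ha a' ha', hP'T b hb b' hb', horth a ha b' hb',
        swap_zero hA (horth a' ha' b hb), add_zero]
    · have h := Submodule.finrank_sup_add_finrank_inf_eq P P'
      rw [hdisP.eq_bot, finrank_bot, hPd] at h
      omega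
  · push Not at hex
    refine ⟨⊥, bot_le, by simp, fun u hu v _ => by rw [(mem_bot F).1 hu]; simp, ?_⟩
    rw [finrank_bot, ← hd]
    have hR : R ⊓ LinearMap.ker (aeval T L.prod) = R := inf_eq_left.2 fun v hv => by
      obtain ⟨w, rfl⟩ := hle hv
      obtain ⟨c, hc⟩ := (UniqueFactorizationMonoid.factors_prod hpoly0).symm
      rw [LinearMap.mem_ker, hL, Multiset.prod_toList, ← hc, mul_comm, map_mul, Module.End.mul_apply,
        geom_apply_sub hf w, map_zero]
    have h1 := finrank_ker_prod_le T R hRi L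
    rw [hR] at h1
    refine h1.trans ?_
    rw [mul_zero, zero_add]
    refine (List.sum_le_sum hex).trans ?_
    split_ifs with hev
    · have hs : (L.map fun _ => i).sum = (L.map natDegree).sum := by
        congr 1
        exact List.map_congr_left fun g hg => (hdeg g hg).symm
      rw [hs]
      have hprod := natDegree_eq_of_degree_eq
        (degree_eq_degree_of_associated (UniqueFactorizationMonoid.factors_prod hpoly0))
      rw [natDegree_multiset_prod _ (fun h0 => (UniqueFactorizationMonoid.irreducible_of_factor _ h0).ne_zero rfl)]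
        at hprod
      rw [hL, ← Multiset.sum_coe, ← Multiset.map_coe, Multiset.coe_toList, hprod]
      refine natDegree_sum_le_of_forall_le _ _ fun j hj => ?_
      rw [natDegree_X_pow]
      have := Finset.mem_range.1 hj
      omega
    · simp

end Order

end Cfsg.Agent.ClMax99.SympTI
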