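import Cfsg.Agent.ClMax99.SympTI
import Cfsg.Agent.ClMax99.SympOddElt

/-!
Elements of odd prime order of `Sp` with few totally isotropic invariant subspaces.
-/

set_option autoImplicit false
set_option linter.unusedSectionVars false

namespace Cfsg.Agent.ClMax99.SympTI

open Module Submodule Polynomial SympInv Cfsg.Agent.Symplectic

variable {F : Type*} [Field F] [Fintype F] {r : ℕ} [hr : Fact r.Prime]

/-- The bound on totally isotropic invariant subspaces. -/
def Bound {d : ℕ} (x : Sp d F) (β : ℕ) : Prop :=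
  ∀ P : Submodule F (Vec d F), P.map (lin x) ≤ P → TI (Forms.sympBilin d F) P →
    2 * finrank F (P.map (lin x - 1)) ≤ β

/-- `g` kills no nonzero vector. -/
def Free {d : ℕ} (x : Sp d F) (g : F[X]) : Prop := Function.Injective (aeval (lin x) g)

variable (hrF : (r : F) ≠ 0) {i : ℕ} (hi : i = orderOf (Fintype.card F : ZMod r))

theorem split_aeval {e b : ℕ} (y : Sp e F) (x : Sp b F) (g : F[X]) (v : Vec (e + b) F) :
    KS58.SpEl.splitVec e b F (aeval (lin (KS58.SpEl.blockSum (y, x))) g v) =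
      (aeval (lin y) g (KS58.SpEl.splitVec e b F v).1, aeval (lin x) g (KS58.SpEl.splitVec e b F v).2) := by
  induction g using Polynomial.induction_on' generalizing v with
  | add P Q hP hQ =>
    simp only [map_add, LinearMap.add_apply, hP, hQ]
    rfl
  | monomial k a =>
    induction k generalizing v with
    | zero => simp [Module.algebraMap_end_eq_smul_id]; rfl
    | succ k ih =>
      simp only [aeval_monomial, pow_succ, ← mul_assoc, Module.End.mul_apply] at ih ⊢
      rw [ih, lin_apply, KS58.SpEl.split_blockSum]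
      simp [lin_apply]

theorem aeval_comm_mem {d : ℕ} (x : Sp d F) {P : Submodule F (Vec d F)} (hP : P.map (lin x) ≤ P) (g : F[X]) :
    P.map (aeval (lin x) g) ≤ P := by
  rintro _ ⟨v, hv, rfl⟩
  exact Inv.aeval_mem hP g hv

include hrF hi in
/-- The summands of a block with an irreducible piece. -/
theorem add_block {e b : ℕ} (hei : 2 * e = i) {y : Sp e F} {x : Sp b F} (hy : y ^ r = 1) (hx : x ^ r = 1)
    (hyk : LinearMap.ker (lin y - 1) = ⊥) :
    ∃ z : Sp (e + b) F, z ^ r = 1 ∧
      finrank F (LinearMap.ker (lin z - 1)) = finrank F (LinearMap.ker (lin x - 1)) ∧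
      (∀ g, Free y g → Free x g → Free z g) ∧
      ∀ g β, aeval (lin y) g = 0 → Free x g → Bound x β → Bound z β := by
  set π := KS58.SpEl.splitVec e b F with hπ
  set z := KS58.SpEl.blockSum (y, x) with hz
  set ι₂ := π.symm.toLinearMap ∘ₗ LinearMap.inr F (Vec e F) (Vec b F) with hι₂
  set ι₁ := π.symm.toLinearMap ∘ₗ LinearMap.inl F (Vec e F) (Vec b F) with hι₁
  have hinj2 : Function.Injective ι₂ := by
    rw [hι₂, LinearMap.coe_comp]
    exact π.symm.injective.comp (LinearMap.inr_injective (R := F) (M := Vec e F) (M₂ := Vec b F))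
  have hπ2 : ∀ w, π (ι₂ w) = (0, w) := fun w => by simp [hι₂]
  have hπ1 : ∀ w, π (ι₁ w) = (w, 0) := fun w => by simp [hι₁]
  have hlz : ∀ v, π (lin z v) = (lin y (π v).1, lin x (π v).2) := fun v => by
    rw [lin_apply, hz, hπ, KS58.SpEl.split_blockSum, lin_apply, lin_apply]
  have hz2 : ∀ w, lin z (ι₂ w) = ι₂ (lin x w) := fun w => π.injective (by simp [hlz, hπ2])
  have hz1 : ∀ w, lin z (ι₁ w) = ι₁ (lin y w) := fun w => π.injective (by simp [hlz, hπ1])
  refine ⟨z, by rw [hz, ← map_pow, Prod.pow_mk, hy, hx]; exact map_one _, ?_, ?_, ?_⟩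
  · have hker : LinearMap.ker (lin z - 1) = (LinearMap.ker (lin x - 1)).map ι₂ := by
      ext v
      simp only [LinearMap.mem_ker, LinearMap.sub_apply, Module.End.one_apply, sub_eq_zero, Submodule.mem_map]
      constructor
      · intro hv
        have h1 := hlz v
        rw [hv] at h1
        have hfst : (π v).1 = 0 := by
          have : (π v).1 ∈ LinearMap.ker (lin y - 1) := by
            rw [LinearMap.mem_ker, LinearMap.sub_apply, Module.End.one_apply, sub_eq_zero]
            exact (congrArg Prod.fst h1).symm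
          rw [hyk] at this
          exact (mem_bot F).1 this
        refine ⟨(π v).2, (congrArg Prod.snd h1).symm, π.injective ?_⟩
        rw [hπ2]
        exact Prod.ext hfst.symm rfl
      · rintro ⟨w, hw, rfl⟩
        rw [hz2, hw]
    rw [hker, ← LinearEquiv.finrank_eq (Submodule.equivMapOfInjective _ hinj2 _)]
  · intro g hgy hgx v v' hvv
    have h1 := congrArg π hvv
    rw [hπ, hz, split_aeval, split_aeval, Prod.ext_iff] at h1
    exact π.injective (Prod.ext (hgy h1.1) (hgx h1.2))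
  · intro g β hgy hgx hβ P hPi hPT
    set pr := (LinearMap.snd F (Vec e F) (Vec b F)) ∘ₗ π.toLinearMap with hpr
    set P2 := P.map pr with hP2
    have hP2i : P2.map (lin x) ≤ P2 := by
      rintro _ ⟨_, ⟨v, hv, rfl⟩, rfl⟩
      exact ⟨lin z v, hPi ⟨v, hv, rfl⟩, by simp [hpr, hlz]⟩
    have hsurj : P2.map (aeval (lin x) g) = P2 :=
      Submodule.eq_of_le_of_finrank_eq (aeval_comm_mem x hP2i g)
        (Submodule.equivMapOfInjective _ hgx P2).finrank_eq.symm
    have hin : ∀ w ∈ P2, ι₂ w ∈ P := by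
      intro w hw
      rw [← hsurj] at hw
      obtain ⟨_, ⟨v, hv, rfl⟩, rfl⟩ := hw
      have h1 : ι₂ (aeval (lin x) g (pr v)) = aeval (lin z) g v := π.injective (by
        rw [hπ2, hπ, hz, split_aeval, hgy]
        simp [hpr, hπ])
      rw [h1]
      exact Inv.aeval_mem hPi g hv
    set P1 := P.comap ι₁ with hP1
    have hP1i : P1.map (lin y) ≤ P1 := by
      rintro _ ⟨w, hw, rfl⟩
      show ι₁ (lin y w) ∈ P
      rw [← hz1]
      exact hPi ⟨_, hw, rfl⟩
    have hyr := lin_pow_eq_one hy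
    have hrange : LinearMap.range (lin y - 1) = ⊤ :=
      LinearMap.range_eq_top.2 (LinearMap.injective_iff_surjective.1 (LinearMap.ker_eq_bot.1 hyk))
    have hP1bot : P1 = ⊥ := by
      obtain ⟨k, hk⟩ := dvd_of_le_range hrF hyr hi hP1i (hrange ▸ le_top)
      rcases Nat.eq_zero_or_pos (i * k) with h0 | hk0
      · exact Submodule.finrank_eq_zero.1 (hk.trans h0)
      · exfalso
        have hti : TI (Forms.sympBilin e F) P1 := fun u hu w hw => by
          have h := hPT _ hu _ hw
          simpa [Forms.sympBilin_apply, KS58.SpEl.sympForm_split, ← hπ, hπ1] using h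
        have h2 := ti_le Forms.sympBilin_isAlt (le_top : P1 ≤ ⊤) nd_top hti
        rw [finrank_top, hk, SympJordan.finrank_vec, hei] at h2
        have : i ≤ i * k := Nat.le_mul_of_pos_right i (Nat.pos_of_ne_zero fun h0 => by simp [h0] at hk0)
        omega
    have hP : P = P2.map ι₂ := by
      refine le_antisymm (fun v hv => ?_) (by rintro _ ⟨w, hw, rfl⟩; exact hin w hw)
      have hw : pr v ∈ P2 := ⟨v, hv, rfl⟩
      have hsub : ι₁ (π v).1 ∈ P := by
        have e1 : ι₁ (π v).1 = v - ι₂ (pr v) := π.injective (by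
          rw [map_sub, hπ1, hπ2]
          refine Prod.ext ?_ ?_ <;> simp [hpr])
        rw [e1]
        exact P.sub_mem hv (hin _ hw)
      have h0 : (π v).1 = 0 := by
        rw [← mem_bot F, ← hP1bot]; exact hsub
      exact ⟨pr v, hw, π.injective (by rw [hπ2]; exact Prod.ext h0.symm rfl)⟩
    have hmap : P.map (lin z - 1) = (P2.map (lin x - 1)).map ι₂ := by
      refine (congrArg (Submodule.map (lin z - 1)) hP).trans ((Submodule.map_comp ι₂ (lin z - 1) P2).symm.trans ?_)
      rw [show (lin z - 1) ∘ₗ ι₂ = ι₂ ∘ₗ (lin x - 1) from LinearMap.ext fun w => by simp [hz2]]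
      exact Submodule.map_comp (lin x - 1) ι₂ P2
    rw [hmap, ← LinearEquiv.finrank_eq (Submodule.equivMapOfInjective _ hinj2 _)]
    refine hβ P2 hP2i fun u hu w hw => ?_
    have h := hPT _ (hin u hu) _ (hin w hw)
    simpa [Forms.sympBilin_apply, KS58.SpEl.sympForm_split, ← hπ, hπ2] using h

include hrF hi in
/-- Several copies of one piece. -/
theorem exists_copies {e : ℕ} (hei : 2 * e = i) {y : Sp e F} (hy : y ^ r = 1) (hyk : LinearMap.ker (lin y - 1) = ⊥) :
    ∀ (s : ℕ) {d : ℕ}, s * e ≤ d → ∃ x : Sp d F, x ^ r = 1 ∧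
      finrank F (LinearMap.ker (lin x - 1)) = 2 * d - s * i ∧
      (∀ g, g ∣ ∑ j ∈ Finset.range r, (X : F[X]) ^ j → Free y g → Free x g) ∧ Bound x (s * i) := by
  intro s
  induction s with
  | zero =>
    intro d _
    have h1 : lin (1 : Sp d F) = 1 := by rw [lin, OneMemClass.coe_one, Matrix.toLin'_one]; rfl
    refine ⟨1, one_pow r, ?_, fun g hg _ => ?_, fun P _ _ => ?_⟩
    · rw [h1, sub_self, LinearMap.ker_zero, finrank_top, SympJordan.finrank_vec, zero_mul, Nat.sub_zero]
    · have hg1 : g.eval 1 ≠ 0 := by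
        intro h0
        obtain ⟨q, hq⟩ := hg
        have h2 := congrArg (eval 1) hq
        simp [eval_finsetSum, h0] at h2
        exact hrF h2
      intro u v huv
      rw [Free] at *
      have e1 : aeval (lin (1 : Sp d F)) g = g.eval 1 • (1 : Module.End F (Vec d F)) := by
        rw [h1, show (1 : Module.End F (Vec d F)) = algebraMap F (Module.End F (Vec d F)) 1 from (map_one _).symm,
          aeval_algebraMap_apply, Algebra.algebraMap_eq_smul_one]
        simp
      rw [e1] at huv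
      exact smul_right_injective _ hg1 huv
    · rw [h1, sub_self, Submodule.map_zero, finrank_bot]
      omega
  | succ s ih =>
    intro d hd
    rw [Nat.add_one_mul] at hd
    obtain ⟨b, rfl⟩ : ∃ b, d = e + b := ⟨d - e, by omega⟩
    obtain ⟨x, hx, hxk, hxf, -⟩ := ih (d := b) (by omega)
    obtain ⟨z, hz, hzk, hzf, -⟩ := add_block hrF hi hei hy hx hyk
    have h1 := Nat.add_one_mul s i
    have h2 : 2 * (s * e) = s * i := by rw [← hei]; ring
    refine ⟨z, hz, by rw [hzk, hxk]; omega, fun g hg hgy => hzf g hgy (hxf g hg hgy), fun P hPi hPT => ?_⟩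
    have hzr := lin_pow_eq_one hz
    obtain ⟨hRn, -, -⟩ := nd_parts Forms.sympBilin_isAlt (lin_form z) hrF hzr (W := ⊤) le_top nd_top
    rw [Submodule.map_top] at hRn
    have hle : P.map (lin z - 1) ≤ P := by
      rintro _ ⟨v, hv, rfl⟩
      exact P.sub_mem (hPi ⟨v, hv, rfl⟩) hv
    have h3 := ti_le Forms.sympBilin_isAlt (W := P.map (lin z - 1)) LinearMap.map_le_range hRn
      (fun u hu v hv => hPT u (hle hu) v (hle hv))
    have h4 := LinearMap.finrank_range_add_finrank_ker (lin z - 1)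
    rw [hzk, hxk, SympJordan.finrank_vec] at h4
    omega

include hrF hi in
/-- An element whose totally isotropic invariant subspaces have small moved part. -/
theorem exists_bad {e : ℕ} (hei : 2 * e = i) (he : 0 < e) {u t' s₀ d : ℕ} (htu : u = t' + 1)
    (hu : u * i ≤ r - 1) (hd : (s₀ + t') * e ≤ d) :
    ∃ x : Sp d F, x ^ r = 1 ∧ finrank F (LinearMap.ker (lin x - 1)) = 2 * d - (s₀ + t') * i ∧
      Bound x (s₀ * i) := by
  classical
  have hev : Even i := ⟨e, by omega⟩
  have hipos : 0 < i := by omega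
  obtain ⟨y, hy, hyk⟩ := exists_base hrF hi (c := i) (by rw [if_pos hev]) hei.symm (by omega)
  obtain ⟨A, hA0, hA⟩ : ∃ A : Fin u → ℕ, (∀ l, (A l : ZMod r) ≠ 0) ∧
      ∀ l l', l ≠ l' → ∀ k, (A l' : ZMod r) ≠ A l * (Fintype.card F : ZMod r) ^ k := by
    have hq0 : (Fintype.card F : ZMod r) ≠ 0 := fun h0 => by
      rw [hi, h0, orderOf_zero] at hipos
      exact lt_irrefl 0 hipos
    set Q := Subgroup.zpowers (Units.mk0 (Fintype.card F : ZMod r) hq0) with hQ
    have hQc : Nat.card Q = i := by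
      rw [hQ, Nat.card_zpowers, ← orderOf_units, Units.val_mk0, hi]
    have hidx : u ≤ Fintype.card ((ZMod r)ˣ ⧸ Q) := by
      have h1 := Subgroup.card_eq_card_quotient_mul_card_subgroup Q
      rw [hQc, Nat.card_units, Nat.card_zmod, Nat.card_eq_fintype_card] at h1
      exact Nat.le_of_mul_le_mul_right (h1 ▸ hu) hipos
    let f : Fin u ↪ (ZMod r)ˣ ⧸ Q :=
      (Fin.castLEEmb hidx).trans (Fintype.equivFin ((ZMod r)ˣ ⧸ Q)).symm.toEmbedding
    refine ⟨fun l => ((((f l).out : (ZMod r)ˣ)) : ZMod r).val, fun l => by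
      rw [ZMod.natCast_zmod_val]; exact Units.ne_zero _, fun l l' hne k hk => hne (f.injective ?_)⟩
    rw [ZMod.natCast_zmod_val, ZMod.natCast_zmod_val] at hk
    rw [← QuotientGroup.out_eq' (f l), ← QuotientGroup.out_eq' (f l'), QuotientGroup.eq]
    refine Subgroup.mem_zpowers_iff.2 ⟨(k : ℤ), ?_⟩
    rw [zpow_natCast, eq_inv_mul_iff_mul_eq]
    exact Units.ext (by push_cast; exact hk.symm)
  have hyr := lin_pow_eq_one hy
  have hyn : ∀ n : ℕ, (n : ZMod r) ≠ 0 → (y ^ n) ^ r = 1 ∧ LinearMap.ker (lin (y ^ n) - 1) = ⊥ := by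
    intro n hn
    refine ⟨by rw [← pow_mul, mul_comm, pow_mul, hy, one_pow], ?_⟩
    have hco : Nat.Coprime n r := ((hr.out.coprime_iff_not_dvd).2 fun h0 => hn ((ZMod.natCast_eq_zero_iff _ _).2 h0)).symm
    obtain ⟨c, hc⟩ := Nat.exists_mul_mod_eq_one_of_coprime hco hr.out.one_lt
    rw [eq_bot_iff]
    intro v hv
    rw [LinearMap.mem_ker, LinearMap.sub_apply, Module.End.one_apply, sub_eq_zero, lin_apply] at hv
    have h1 : (y ^ n) ^ c • v = v := by
      have : ∀ m, (y ^ n) ^ m • v = v := fun m => by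
        induction m with
        | zero => simp
        | succ m ih => rw [pow_succ, mul_smul, hv, ih]
      exact this c
    rw [← pow_mul, pow_eq_pow_mod _ hy, hc.2, pow_one] at h1
    rw [← hyk, LinearMap.mem_ker, LinearMap.sub_apply, Module.End.one_apply, sub_eq_zero, lin_apply, h1]
  have hlinpow : ∀ n : ℕ, lin (y ^ n) = lin y ^ n := fun n => by
    rw [lin, lin, SubmonoidClass.coe_pow, Matrix.toLin'_pow]
  have hvec : ∀ (T : Module.End F (Vec e F)), T ^ r = 1 → LinearMap.ker (T - 1) = ⊥ → ∀ P : Submodule F (Vec e F),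
      P.map T ≤ P → P ≠ ⊥ → P = ⊤ := by
    intro T hT hTk P hP hne
    have hrange : LinearMap.range (T - 1) = ⊤ :=
      LinearMap.range_eq_top.2 (LinearMap.injective_iff_surjective.1 (LinearMap.ker_eq_bot.1 hTk))
    obtain ⟨k, hk⟩ := dvd_of_le_range hrF hT hi hP (hrange ▸ le_top)
    refine Submodule.eq_top_of_finrank_eq (le_antisymm (Submodule.finrank_le _) ?_)
    rw [SympJordan.finrank_vec, hk, hei]
    exact Nat.le_mul_of_pos_right _ (Nat.pos_of_ne_zero fun h0 => hne (Submodule.finrank_eq_zero.1 (by rw [hk, h0, mul_zero])))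
  -- the minimal polynomials
  have hG : ∀ n : ℕ, (n : ZMod r) ≠ 0 → ∃ g : F[X], Irreducible g ∧
      g ∣ ∑ j ∈ Finset.range r, (X : F[X]) ^ j ∧ aeval (lin (y ^ n)) g = 0 := by
    intro n hn
    obtain ⟨hnr, hnk⟩ := hyn n hn
    have hTr := lin_pow_eq_one hnr
    obtain ⟨L, hL, hL0⟩ := Inv.exists_factor_list (Inv.geom_ne_zero hrF) (lin (y ^ n))
    obtain ⟨g, hg, w, -, hw0, hgw⟩ := Inv.exists_factor_vec (f := lin (y ^ n)) (W := (⊥ : Submodule F (Vec e F))) (R := ⊤)
      le_top L (eI ⟨0, he⟩) trivial (by simpa using eI_ne_zero (F := F) (⟨0, he⟩ : Fin e)) (by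
        obtain ⟨v, hv⟩ := (LinearMap.injective_iff_surjective.1 (LinearMap.ker_eq_bot.1 hnk)) (eI ⟨0, he⟩)
        rw [← hv, hL0 _ (Inv.geom_apply_sub hTr v)]
        exact zero_mem _)
    rw [mem_bot] at hw0 hgw
    refine ⟨g, (hL g hg).1, (hL g hg).2, ?_⟩
    have htop := hvec _ hTr hnk (LinearMap.ker (aeval (lin (y ^ n)) g)) (by
      rintro _ ⟨v, hv, rfl⟩
      rw [SetLike.mem_coe, LinearMap.mem_ker] at hv
      rw [LinearMap.mem_ker]
      have : aeval (lin (y ^ n)) g * lin (y ^ n) = lin (y ^ n) * aeval (lin (y ^ n)) g := by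
        have h := congrArg (aeval (lin (y ^ n))) (mul_comm g Polynomial.X)
        simpa using h
      rw [← Module.End.mul_apply, this, Module.End.mul_apply, hv, map_zero])
      (fun h0 => hw0 (by rw [← mem_bot F, ← h0]; exact hgw))
    exact LinearMap.ker_eq_top.1 htop
  obtain ⟨g1, hg1, hg1d, hg1z⟩ := hG 1 (by simp)
  rw [pow_one] at hg1z
  have hsep : ∀ a b : ℕ, (a : ZMod r) ≠ 0 → (b : ZMod r) ≠ 0 → ∀ g, Irreducible g →
      g ∣ ∑ j ∈ Finset.range r, (X : F[X]) ^ j → aeval (lin (y ^ a)) g = 0 →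
      ¬ Free (y ^ b) g → ∃ k, (b : ZMod r) = a * (Fintype.card F : ZMod r) ^ k := by
    intro a b ha hb g hg hgd hga hgb
    obtain ⟨hbr, hbk⟩ := hyn b hb
    have hgbz : aeval (lin (y ^ b)) g = 0 := by
      refine LinearMap.ker_eq_top.1 (hvec _ (lin_pow_eq_one hbr) hbk _ ?_ fun h0 => hgb (LinearMap.ker_eq_bot.1 h0))
      rintro _ ⟨v, hv, rfl⟩
      rw [SetLike.mem_coe, LinearMap.mem_ker] at hv
      rw [LinearMap.mem_ker]
      have : aeval (lin (y ^ b)) g * lin (y ^ b) = lin (y ^ b) * aeval (lin (y ^ b)) g := by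
        have h := congrArg (aeval (lin (y ^ b))) (mul_comm g Polynomial.X)
        simpa using h
      rw [← Module.End.mul_apply, this, Module.End.mul_apply, hv, map_zero]
    haveI := Fact.mk hg1
    set θ := AdjoinRoot.root g1 with hθ
    have hev' : ∀ n : ℕ, aeval (lin (y ^ n)) g = 0 → aeval (θ ^ n) g = 0 := by
      intro n hn
      have hdvd : g1 ∣ g.comp (X ^ n) := by
        by_contra hnd
        obtain ⟨P, R, hPR⟩ := hg1.coprime_iff_not_dvd.2 hnd
        have h1 := congrArg (aeval (lin y)) hPR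
        rw [map_add, map_mul, map_mul, hg1z, aeval_comp, map_pow, aeval_X, ← hlinpow, hn, mul_zero, mul_zero,
          add_zero, map_one] at h1
        have h2 := congrFun (LinearMap.congr_fun h1 (eI ⟨0, he⟩)) (Sum.inl ⟨0, he⟩)
        simp [eI] at h2
      have h3 := (AdjoinRoot.mk_eq_zero (f := g1)).2 hdvd
      rwa [← AdjoinRoot.aeval_eq, aeval_comp, map_pow, aeval_X] at h3
    have hθr : θ ^ r = 1 := by
      obtain ⟨c, hc⟩ : g1 ∣ X ^ r - 1 := by rw [← geom_sum_mul]; exact dvd_mul_of_dvd_left hg1d _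
      have h0 := congrArg (AdjoinRoot.mk g1) hc
      rw [map_mul, AdjoinRoot.mk_self, zero_mul, map_sub, map_pow, AdjoinRoot.mk_X, map_one, sub_eq_zero] at h0
      exact h0
    have hθ1 : θ ≠ 1 := by
      intro e1
      obtain ⟨c, hc⟩ := hg1d
      have h0 := congrArg (AdjoinRoot.mk g1) hc
      rw [map_mul, AdjoinRoot.mk_self, zero_mul, map_sum] at h0
      simp only [map_pow, AdjoinRoot.mk_X, ← hθ, e1, one_pow, Finset.sum_const, Finset.card_range, nsmul_eq_mul,
        mul_one] at h0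
      exact hrF ((algebraMap F (AdjoinRoot g1)).injective (by rw [map_natCast, h0, map_zero]))
    have hord : orderOf θ = r := orderOf_eq_prime hθr hθ1
    have hfield : IsUnit θ := IsUnit.of_pow_eq_one hθr hr.out.ne_zero
    have hpw : ∀ m n : ℕ, θ ^ m = θ ^ n → (m : ZMod r) = n := by
      intro m n hmn
      rw [ZMod.natCast_eq_natCast_iff, Nat.ModEq]
      rw [pow_eq_pow_mod m hθr, pow_eq_pow_mod n hθr] at hmn
      exact pow_injOn_Iio_orderOf (by rw [hord]; exact Nat.mod_lt _ hr.out.pos)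
        (by rw [hord]; exact Nat.mod_lt _ hr.out.pos) hmn
    have hgdeg : g.natDegree = i := (Inv.natDegree_eq_orderOf hrF hg hgd).trans hi.symm
    set p : ((AdjoinRoot g1))[X] := g.map (algebraMap F (AdjoinRoot g1)) with hp
    have hp0 : p ≠ 0 := (Polynomial.map_ne_zero_iff (algebraMap F (AdjoinRoot g1)).injective).2 hg.ne_zero
    let S : Finset (AdjoinRoot g1) := (Finset.range i).image fun k => θ ^ (a * Fintype.card F ^ k)
    have hScard : S.card = i := by
      rw [Finset.card_image_of_injOn, Finset.card_range]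
      intro k hk l hl hkl
      have h1 := hpw _ _ hkl
      push_cast at h1
      rw [Finset.coe_range, Set.mem_Iio, hi] at hk hl
      exact pow_injOn_Iio_orderOf hk hl (mul_left_cancel₀ ha h1)
    have hroot : ∀ z ∈ S, aeval z g = 0 := by
      intro z hz
      obtain ⟨k, -, rfl⟩ := Finset.mem_image.1 hz
      have h1 : aeval (((FiniteField.frobeniusAlgHom F (AdjoinRoot g1)) ^ k) (θ ^ a)) g = 0 := by
        rw [aeval_algHom_apply, hev' a hga, map_zero]
      rw [AlgHom.coe_pow, FiniteField.coe_frobeniusAlgHom, pow_iterate] at h1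
      beta_reduce at h1
      rwa [← pow_mul] at h1
    by_contra hno
    push Not at hno
    have hbS : θ ^ b ∉ S := fun hmem => by
      obtain ⟨k, -, hk⟩ := Finset.mem_image.1 hmem
      have h1 := hpw _ _ hk
      push_cast at h1
      exact hno k h1.symm
    have hle : (insert (θ ^ b) S).card ≤ p.natDegree := Polynomial.card_le_degree_of_subset_roots fun z hz => by
      rw [mem_roots hp0, IsRoot, hp, eval_map, ← aeval_def]
      rcases Finset.mem_insert.1 (Finset.mem_def.2 hz) with rfl | hz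
      · exact hev' b hgbz
      · exact hroot z hz
    rw [Finset.card_insert_of_notMem hbS, hScard, hp, natDegree_map, hgdeg] at hle
    omega
  subst htu
  suffices H : ∀ n, ∀ hn : n < t' + 1, ∀ d, (s₀ + n) * e ≤ d → ∃ x : Sp d F, x ^ r = 1 ∧
      finrank F (LinearMap.ker (lin x - 1)) = 2 * d - (s₀ + n) * i ∧ Bound x (s₀ * i) ∧
      ∀ g, g ∣ ∑ j ∈ Finset.range r, (X : F[X]) ^ j → (∀ l : Fin (t' + 1), (l : ℕ) ≤ n → Free (y ^ A l) g) → Free x g by
    obtain ⟨x, hx, hxk, hxb, -⟩ := H t' (by omega) d hd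
    exact ⟨x, hx, hxk, hxb⟩
  intro n
  induction n with
  | zero =>
    intro hn d hd
    obtain ⟨hr0, hk0⟩ := hyn _ (hA0 ⟨0, hn⟩)
    obtain ⟨x, hx, hxk, hxf, hxb⟩ := exists_copies hrF hi hei hr0 hk0 s₀ (d := d) hd
    exact ⟨x, hx, hxk, hxb, fun g hg hfree => hxf g hg (hfree ⟨0, hn⟩ le_rfl)⟩
  | succ n ih =>
    intro hn d hd
    rw [show s₀ + (n + 1) = (s₀ + n) + 1 by ring, Nat.add_one_mul] at hd
    obtain ⟨b, rfl⟩ : ∃ b, d = e + b := ⟨d - e, by omega⟩
    obtain ⟨x, hx, hxk, hxb, hxf⟩ := ih (by omega) b (by omega)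
    obtain ⟨hr0, hk0⟩ := hyn _ (hA0 ⟨n + 1, hn⟩)
    obtain ⟨g0, hg0, hg0d, hg0z⟩ := hG _ (hA0 ⟨n + 1, hn⟩)
    have hfree : Free x g0 := hxf g0 hg0d fun l hl => by
      by_contra hnf
      obtain ⟨k, hk⟩ := hsep _ _ (hA0 ⟨n + 1, hn⟩) (hA0 l) g0 hg0 hg0d hg0z hnf
      exact hA ⟨n + 1, hn⟩ l (fun e1 => by have := congrArg Fin.val e1; simp only at this; omega) k hk
    obtain ⟨z, hz, hzk, hzf, hzb⟩ := add_block hrF hi hei hr0 hx hk0
    refine ⟨z, hz, ?_, hzb g0 _ hg0z hfree hxb, fun g hg hl => ?_⟩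
    · rw [hzk, hxk, show s₀ + (n + 1) = (s₀ + n) + 1 by ring, Nat.add_one_mul]
      have h2 : 2 * ((s₀ + n) * e) = (s₀ + n) * i := by rw [← hei]; ring
      have h3 := Nat.add_one_mul (s₀ + n) i
      omega
    · exact hzf g (hl ⟨n + 1, hn⟩ le_rfl) (hxf g hg fun l hln => hl l (by omega))

end Cfsg.Agent.ClMax99.SympTI
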