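import Cfsg.Agent.ClMax99.UnitMoved
import Cfsg.Agent.Lib.Unitary.Count

/-!
Unitary elements of prime order built from orthogonal blocks.
-/

set_option autoImplicit false
set_option linter.unusedSectionVars false
set_option linter.style.haveILetI false

namespace Cfsg.Agent.ClMax99.UnitFix

open Module Polynomial Submodule
open Cfsg.Agent.Unitary

variable {F : Type*} [Field F] [Fintype F] {q : ℕ} {r : ℕ} [hr : Fact r.Prime] {i b c : ℕ}

/-- The endomorphism of a member of `GU`. -/
noncomputable def glin {n : ℕ} (g : GU n F q) : Module.End F (Fin n → F) :=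
  Matrix.toLin' ((g : GL (Fin n) F) : Matrix (Fin n) (Fin n) F)

theorem glin_apply {n : ℕ} (g : GU n F q) (v : Fin n → F) : glin g v = g • v := Matrix.toLin'_apply _ _

theorem glin_iso {n : ℕ} (g : GU n F q) (u v : Fin n → F) : herm q (glin g u) (glin g v) = herm q u v := by
  rw [glin_apply, glin_apply, herm_smul_GU]

theorem glin_pow {n : ℕ} (g : GU n F q) (k : ℕ) : glin (g ^ k) = glin g ^ k := by
  rw [glin, glin, SubmonoidClass.coe_pow, Units.val_pow_eq_pow_val, Matrix.toLin'_pow]

theorem glin_one {n : ℕ} : glin (1 : GU n F q) = 1 := by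
  refine LinearMap.ext fun v => ?_
  rw [glin_apply, one_smul]; rfl

variable (N : Num F q r i b c)
include N

/-- An element of order `r` of `GU_c` moving every vector. -/
theorem exists_base : ∃ y : GU c F q, y ^ r = 1 ∧ LinearMap.ker (glin y - 1) = ⊥ := by
  have hdvd : r ∣ Nat.card (GU c F q) := by
    rw [card_GU N.card]
    refine dvd_mul_of_dvd_right ?_ _
    have hc := N.c_pos
    have h := (N.dvd_iff c).2 dvd_rfl
    refine (dvd_trans ?_ (Finset.dvd_prod_of_mem _ (Finset.mem_range.2 (show c - 1 < c by omega))))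
    obtain ⟨k, rfl⟩ : ∃ k, c = k + 1 := ⟨c - 1, by omega⟩
    rw [Nat.add_sub_cancel]
    by_cases hk : Even k
    · rw [if_neg (by rw [Nat.even_add_one]; exact not_not_intro hk)] at h
      rwa [if_pos hk]
    · rw [if_pos (Nat.even_add_one.2 hk)] at h
      rwa [if_neg hk]
  obtain ⟨y, hy⟩ := exists_prime_orderOf_dvd_card' r hdvd
  have hyr : y ^ r = 1 := hy ▸ pow_orderOf_eq_one y
  have hTr : glin y ^ r = 1 := by rw [← glin_pow, hyr, glin_one]
  refine ⟨y, hyr, ?_⟩
  have hiso := glin_iso y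
  obtain ⟨hMn, -, -, hdim⟩ := parts N hiso hTr (W := ⊤) le_top (nd_top N.card)
  rw [Submodule.map_top] at hMn hdim
  obtain ⟨s, hs, -⟩ := moved_pieces N hiso hTr le_rfl Inv.map_range_sub_le hMn
  rw [finrank_top, Module.finrank_fin_fun, top_inf_eq] at hdim
  have hs0 : s ≠ 0 := by
    rintro rfl
    rw [zero_mul, Submodule.finrank_eq_zero, LinearMap.range_eq_bot, sub_eq_zero] at hs
    have : y = 1 := eq_of_smul_eq_GU fun v => by rw [← glin_apply, hs, one_smul]; rfl
    rw [this, orderOf_one] at hy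
    exact hr.out.one_lt.ne hy
  have : c ≤ s * c := Nat.le_mul_of_pos_left c (Nat.pos_of_ne_zero hs0)
  exact Submodule.finrank_eq_zero.1 (show finrank F ↥(LinearMap.ker (glin y - 1)) = 0 by omega)

omit N in
/-- An isometry built from blocks. -/
theorem exists_sum (hF : Fintype.card F = q ^ 2) {n s c k : ℕ} (hn : n = s * c + k) (Y : Fin s → GU c F q) :
    ∃ (T : Module.End F (Fin n → F)) (E : (Fin n → F) ≃ₗ[F] (Fin s → Fin c → F) × (Fin k → F)),
      (∀ u v, herm q (T u) (T v) = herm q u v) ∧ (∀ v, E (T v) = (fun l => glin (Y l) ((E v).1 l), (E v).2)) ∧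
      ∀ u v, herm q u v = (∑ l, herm q ((E u).1 l) ((E v).1 l)) + herm q (E u).2 (E v).2 := by
  classical
  let e : Fin n ≃ (Fin s × Fin c) ⊕ Fin k :=
    (Fintype.equivFinOfCardEq (α := (Fin s × Fin c) ⊕ Fin k) (by simp [hn])).symm
  let E : (Fin n → F) ≃ₗ[F] (Fin s → Fin c → F) × (Fin k → F) :=
    { toFun := fun v => (fun l j => v (e.symm (Sum.inl (l, j))), fun j => v (e.symm (Sum.inr j)))
      map_add' := fun _ _ => rfl
      map_smul' := fun _ _ => rfl
      invFun := fun p x => Sum.elim (fun y => p.1 y.1 y.2) p.2 (e x)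
      left_inv := fun v => funext fun x => by
        show Sum.elim (fun y => v (e.symm (Sum.inl (y.1, y.2)))) (fun j => v (e.symm (Sum.inr j))) (e x) = v x
        conv_rhs => rw [← e.symm_apply_apply x]
        cases e x <;> rfl
      right_inv := fun p => by simp }
  have hsum : ∀ u v, herm q u v = (∑ l, herm q ((E u).1 l) ((E v).1 l)) + herm q (E u).2 (E v).2 := fun u v => by
    simp only [herm, hermForm]
    rw [← e.symm.sum_comp, Fintype.sum_sum_type, Fintype.sum_prod_type]
    rfl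
  let P : Module.End F ((Fin s → Fin c → F) × (Fin k → F)) :=
    (LinearMap.pi fun l => glin (Y l) ∘ₗ LinearMap.proj l).prodMap LinearMap.id
  refine ⟨E.symm.toLinearMap ∘ₗ P ∘ₗ E.toLinearMap, E, fun u v => ?_, fun v => ?_, hsum⟩
  · rw [hsum, hsum u v]
    simp [P, glin_iso]
  · simp [P]
    rfl

omit N in
/-- Polynomials in a block isometry. -/
theorem sum_aeval {n s c k : ℕ} {Y : Fin s → GU c F q} {T : Module.End F (Fin n → F)}
    {E : (Fin n → F) ≃ₗ[F] (Fin s → Fin c → F) × (Fin k → F)}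
    (hT : ∀ v, E (T v) = (fun l => glin (Y l) ((E v).1 l), (E v).2)) (P : F[X]) (v : Fin n → F) :
    E (aeval T P v) = (fun l => aeval (glin (Y l)) P ((E v).1 l), P.eval 1 • (E v).2) := by
  induction P using Polynomial.induction_on' with
  | add P R hP hR =>
    simp only [map_add, LinearMap.add_apply, hP, hR, eval_add, add_smul, Prod.mk_add_mk]
    rfl
  | monomial m a =>
    induction m generalizing v with
    | zero => simp [Module.algebraMap_end_eq_smul_id]; rfl
    | succ m ih =>
      simp only [aeval_monomial, pow_succ, ← mul_assoc, Module.End.mul_apply, eval_monomial, one_pow, mul_one] at ih ⊢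
      rw [ih, hT]

omit N in
theorem sum_fixed {n s c k : ℕ} {Y : Fin s → GU c F q} (hY : ∀ l, LinearMap.ker (glin (Y l) - 1) = ⊥)
    {T : Module.End F (Fin n → F)} {E : (Fin n → F) ≃ₗ[F] (Fin s → Fin c → F) × (Fin k → F)}
    (hT : ∀ v, E (T v) = (fun l => glin (Y l) ((E v).1 l), (E v).2)) :
    finrank F (LinearMap.ker (T - 1)) = k := by
  have hk : LinearMap.ker (T - 1) = (LinearMap.range (LinearMap.inr F (Fin s → Fin c → F) (Fin k → F))).map E.symm.toLinearMap := by
    ext v
    rw [Submodule.mem_map_equiv, LinearEquiv.symm_symm, LinearMap.mem_ker, LinearMap.sub_apply, Module.End.one_apply,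
      sub_eq_zero]
    constructor
    · intro hv
      refine ⟨(E v).2, Prod.ext (funext fun l => ?_) rfl⟩
      have h1 := congrArg (fun w => (E w).1 l) hv
      simp only [hT] at h1
      have : (E v).1 l ∈ LinearMap.ker (glin (Y l) - 1) := by
        rw [LinearMap.mem_ker, LinearMap.sub_apply, Module.End.one_apply, h1, sub_self]
      rw [hY l, mem_bot] at this
      exact this.symm
    · rintro ⟨w, hw⟩
      apply E.injective
      rw [hT, ← hw]
      refine Prod.ext (funext fun l => ?_) rfl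
      simp
  rw [hk, LinearEquiv.finrank_map_eq, LinearMap.finrank_range_of_inj LinearMap.inr_injective, Module.finrank_fin_fun]

omit N in
theorem sum_pow_eq_one {n s c k : ℕ} {Y : Fin s → GU c F q} (hY : ∀ l, Y l ^ r = 1)
    {T : Module.End F (Fin n → F)} {E : (Fin n → F) ≃ₗ[F] (Fin s → Fin c → F) × (Fin k → F)}
    (hT : ∀ v, E (T v) = (fun l => glin (Y l) ((E v).1 l), (E v).2)) : T ^ r = 1 := by
  refine LinearMap.ext fun v => E.injective ?_
  have := sum_aeval hT ((X : F[X]) ^ r) v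
  rw [map_pow, aeval_X] at this
  rw [this, Module.End.one_apply]
  refine Prod.ext (funext fun l => ?_) (by simp)
  simp [← glin_pow, hY l, glin_one]

/-- Fixed points of prescribed codimension. -/
theorem exists_elem {n s : ℕ} (hn : s * c ≤ n) :
    ∃ T : Module.End F (Fin n → F), (∀ u v, herm q (T u) (T v) = herm q u v) ∧ T ^ r = 1 ∧
      finrank F (LinearMap.ker (T - 1)) = n - s * c := by
  obtain ⟨y, hy, hyk⟩ := exists_base N
  obtain ⟨T, E, hiso, hT, -⟩ := exists_sum N.card (k := n - s * c) (show n = s * c + (n - s * c) by omega)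
    fun _ : Fin s => y
  exact ⟨T, hiso, sum_pow_eq_one (fun _ => hy) hT, sum_fixed (fun _ => hyk) hT⟩

/-- Pairwise non-isomorphic irreducible blocks. -/
theorem exists_distinct (h4 : i % 4 = 2) {n u : ℕ} (hu : u * b ≤ r - 1) (hn : u * b ≤ n) :
    ∃ T : Module.End F (Fin n → F), (∀ u v, herm q (T u) (T v) = herm q u v) ∧ T ^ r = 1 ∧
      finrank F (LinearMap.ker (T - 1)) = n - u * b ∧
      ∀ g : F[X], Irreducible g → g ∣ ∑ j ∈ Finset.range r, (X : F[X]) ^ j →
        finrank F (LinearMap.ker (aeval T g)) ≤ b := by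
  classical
  obtain ⟨hcb, hbo, -⟩ := N.c_two h4
  subst hcb
  obtain ⟨y, hy, hyk⟩ := exists_base N
  obtain ⟨A, hA0, hA⟩ : ∃ A : Fin u → ℕ, (∀ l, (A l : ZMod r) ≠ 0) ∧
      ∀ l l', l ≠ l' → ∀ k, (A l' : ZMod r) ≠ A l * (Fintype.card F : ZMod r) ^ k := by
    have hq0 : (Fintype.card F : ZMod r) ≠ 0 := by rw [N.card, Nat.cast_pow]; exact pow_ne_zero _ N.q_ne
    set Q := Subgroup.zpowers (Units.mk0 (Fintype.card F : ZMod r) hq0) with hQ
    have hQc : Nat.card Q = c := by
      rw [hQ, Nat.card_zpowers, ← orderOf_units, Units.val_mk0, N.b_eq]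
    have hidx : u ≤ Fintype.card ((ZMod r)ˣ ⧸ Q) := by
      have h1 := Subgroup.card_eq_card_quotient_mul_card_subgroup Q
      rw [hQc, Nat.card_units, Nat.card_zmod, Nat.card_eq_fintype_card] at h1
      exact Nat.le_of_mul_le_mul_right (h1 ▸ hu) N.b_pos
    let f : Fin u ↪ (ZMod r)ˣ ⧸ Q :=
      (Fin.castLEEmb hidx).trans (Fintype.equivFin ((ZMod r)ˣ ⧸ Q)).symm.toEmbedding
    refine ⟨fun l => ((((f l).out : (ZMod r)ˣ)) : ZMod r).val, fun l => by
      rw [ZMod.natCast_zmod_val]; exact Units.ne_zero _, fun l l' hne k hk => hne (f.injective ?_)⟩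
    rw [ZMod.natCast_zmod_val, ZMod.natCast_zmod_val] at hk
    rw [← QuotientGroup.out_eq' (f l), ← QuotientGroup.out_eq' (f l'), QuotientGroup.eq]
    refine Subgroup.mem_zpowers_iff.2 ⟨(k : ℤ), ?_⟩
    rw [zpow_natCast, eq_inv_mul_iff_mul_eq]
    exact Units.ext (by push_cast; exact hk.symm)
  have hyn : ∀ m : ℕ, (m : ZMod r) ≠ 0 → (y ^ m) ^ r = 1 ∧ LinearMap.ker (glin (y ^ m) - 1) = ⊥ := by
    intro m hm
    refine ⟨by rw [← pow_mul, mul_comm, pow_mul, hy, one_pow], ?_⟩
    have hco : Nat.Coprime m r := ((hr.out.coprime_iff_not_dvd).2 fun h0 => hm ((ZMod.natCast_eq_zero_iff _ _).2 h0)).symm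
    obtain ⟨d, hd⟩ := Nat.exists_mul_mod_eq_one_of_coprime hco hr.out.one_lt
    rw [eq_bot_iff]
    intro v hv
    rw [LinearMap.mem_ker, LinearMap.sub_apply, Module.End.one_apply, sub_eq_zero, glin_apply] at hv
    have h1 : (y ^ m) ^ d • v = v := by
      have : ∀ j, (y ^ m) ^ j • v = v := fun j => by
        induction j with
        | zero => simp
        | succ j ih => rw [pow_succ, mul_smul, hv, ih]
      exact this d
    rw [← pow_mul, pow_eq_pow_mod _ hy, hd.2, pow_one] at h1
    rw [← hyk, LinearMap.mem_ker, LinearMap.sub_apply, Module.End.one_apply, sub_eq_zero, glin_apply, h1]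
  have hfpf : ∀ m : ℕ, (m : ZMod r) ≠ 0 → ∀ w, aeval (glin (y ^ m)) (∑ j ∈ Finset.range r, (X : F[X]) ^ j) w = 0 := by
    intro m hm w
    obtain ⟨hmr, hmk⟩ := hyn m hm
    obtain ⟨v, rfl⟩ := (LinearMap.injective_iff_surjective.1 (LinearMap.ker_eq_bot.1 hmk)) w
    exact Inv.geom_apply_sub (by rw [← glin_pow, hmr, glin_one]) v
  -- a polynomial vanishing somewhere on a block vanishes on all of it
  have hall : ∀ m : ℕ, (m : ZMod r) ≠ 0 → ∀ g : F[X], ¬ Function.Injective (aeval (glin (y ^ m)) g) →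
      aeval (glin (y ^ m)) g = 0 := by
    intro m hm g hg
    rw [← LinearMap.ker_eq_bot] at hg
    refine LinearMap.ker_eq_top.1 (Submodule.eq_top_of_finrank_eq (le_antisymm (Submodule.finrank_le _) ?_))
    have hinv : (LinearMap.ker (aeval (glin (y ^ m)) g)).map (glin (y ^ m)) ≤ LinearMap.ker (aeval (glin (y ^ m)) g) := by
      rintro _ ⟨v, hv, rfl⟩
      rw [SetLike.mem_coe, LinearMap.mem_ker] at hv
      rw [LinearMap.mem_ker]
      have : aeval (glin (y ^ m)) g * glin (y ^ m) = glin (y ^ m) * aeval (glin (y ^ m)) g := by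
        simpa using congrArg (aeval (glin (y ^ m))) (mul_comm g Polynomial.X)
      rw [← Module.End.mul_apply, this, Module.End.mul_apply, hv, map_zero]
    obtain ⟨j, hj⟩ := dvd_finrank (W := ⊤) N.card N.geom_ne N.geom_deg (fun w _ => hfpf m hm w) hinv le_top
    rw [Module.finrank_fin_fun, hj]
    exact Nat.le_mul_of_pos_right _ (Nat.pos_of_ne_zero fun e => hg (Submodule.finrank_eq_zero.1 (by rw [hj, e, mul_zero])))
  have hgeom : ∀ (g : F[X]), Irreducible g → g ∣ ∑ j ∈ Finset.range r, (X : F[X]) ^ j → ∀ l l',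
      ¬ Function.Injective (aeval (glin (y ^ A l)) g) → ¬ Function.Injective (aeval (glin (y ^ A l')) g) → l = l' := by
    intro g hg hgd l l' hl hl'
    by_contra hne
    obtain ⟨g1, hg1, hg1d, w, -, hw0, hgw⟩ := exists_factor N.card N.geom_ne N.geom_deg (W := ⊤)
      (fun w _ => by simpa using hfpf 1 (by simp) w) (P := ⊤) (T := glin y) le_top le_rfl (fun e => by
        have := congrArg (fun S : Submodule F (Fin c → F) => finrank F S) e
        simp at this; exact N.b_pos.ne' this)
    haveI := Fact.mk hg1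
    haveI : Module.Finite F (AdjoinRoot g1) := (AdjoinRoot.powerBasis hg1.ne_zero).finite
    haveI : Finite (AdjoinRoot g1) := Module.finite_of_finite F
    set θ := AdjoinRoot.root g1
    have hev : ∀ m : ℕ, aeval (glin (y ^ m)) g = 0 → aeval (θ ^ m) g = 0 := by
      intro m hm
      have hdvd : g1 ∣ g.comp (X ^ m) := by
        by_contra hnd
        obtain ⟨P, R, hPR⟩ := hg1.coprime_iff_not_dvd.2 hnd
        have h1 := LinearMap.congr_fun (congrArg (aeval (glin y)) hPR) w
        rw [map_add, map_mul, map_mul, LinearMap.add_apply, Module.End.mul_apply, Module.End.mul_apply, hgw,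
          aeval_comp, map_pow, aeval_X, ← glin_pow, hm] at h1
        simp at h1
        exact hw0 h1.symm
      have h3 := (AdjoinRoot.mk_eq_zero (f := g1)).2 hdvd
      rwa [← AdjoinRoot.aeval_eq, aeval_comp, map_pow, aeval_X] at h3
    obtain ⟨k, hk⟩ := root_conj hg (hev _ (hall _ (hA0 l) g hl)) (hev _ (hall _ (hA0 l') g hl'))
    have hθr : θ ^ r = 1 := by
      obtain ⟨d, hd⟩ : g1 ∣ X ^ r - 1 := by rw [← geom_sum_mul]; exact dvd_mul_of_dvd_left hg1d _
      have h0 := congrArg (AdjoinRoot.mk g1) hd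
      rw [map_mul, AdjoinRoot.mk_self, zero_mul, map_sub, map_pow, AdjoinRoot.mk_X, map_one, sub_eq_zero] at h0
      exact h0
    have hθ1 : θ ≠ 1 := by
      intro e1
      obtain ⟨d, hd⟩ := hg1d
      have h0 := congrArg (AdjoinRoot.mk g1) hd
      rw [map_mul, AdjoinRoot.mk_self, zero_mul, map_sum] at h0
      simp only [map_pow, AdjoinRoot.mk_X, θ] at e1 h0
      simp only [e1, one_pow, Finset.sum_const, Finset.card_range, nsmul_eq_mul, mul_one] at h0
      exact N.hrF ((algebraMap F (AdjoinRoot g1)).injective (by rw [map_natCast, h0, map_zero]))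
    rw [← pow_mul, (isOfFinOrder_iff_pow_eq_one.2 ⟨r, hr.out.pos, hθr⟩).pow_eq_pow_iff_modEq,
      orderOf_eq_prime hθr hθ1, ← ZMod.natCast_eq_natCast_iff, Nat.cast_mul, Nat.cast_pow] at hk
    exact hA l l' hne k hk
  obtain ⟨T, E, hiso, hT, -⟩ := exists_sum N.card (k := n - u * c) (show n = u * c + (n - u * c) by omega)
    fun l : Fin u => y ^ A l
  refine ⟨T, hiso, sum_pow_eq_one (fun l => (hyn _ (hA0 l)).1) hT, sum_fixed (fun l => (hyn _ (hA0 l)).2) hT,
    fun g hg hgd => ?_⟩
  have hg1 : g.eval 1 ≠ 0 := fun h0 => by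
    obtain ⟨d, hd⟩ := hgd
    have h2 := congrArg (eval 1) hd
    simp [eval_finsetSum, h0] at h2
    exact N.hrF h2
  have hsub : ∀ v ∈ LinearMap.ker (aeval T g), (E v).2 = 0 ∧ ∀ l, Function.Injective (aeval (glin (y ^ A l)) g) →
      (E v).1 l = 0 := by
    intro v hv
    have h := sum_aeval hT g v
    rw [LinearMap.mem_ker.1 hv, map_zero] at h
    refine ⟨(smul_eq_zero.1 (congrArg Prod.snd h).symm).resolve_left hg1, fun l hl => hl ?_⟩
    rw [map_zero]
    exact (congrFun (congrArg Prod.fst h) l).symm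
  by_cases hex : ∃ l0, ¬ Function.Injective (aeval (glin (y ^ A l0)) g)
  · obtain ⟨l0, hl0⟩ := hex
    let L : LinearMap.ker (aeval T g) →ₗ[F] (Fin c → F) :=
      LinearMap.proj l0 ∘ₗ LinearMap.fst F _ _ ∘ₗ E.toLinearMap ∘ₗ (LinearMap.ker (aeval T g)).subtype
    refine (LinearMap.finrank_le_finrank_of_injective (f := L) ?_).trans (by rw [Module.finrank_fin_fun])
    rw [← LinearMap.ker_eq_bot, eq_bot_iff]
    rintro ⟨v, hv⟩ hL
    obtain ⟨h2, h1⟩ := hsub v hv
    refine Subtype.ext (E.injective (Prod.ext (funext fun l => ?_) (by simpa using h2)))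
    by_cases hl : Function.Injective (aeval (glin (y ^ A l)) g)
    · simpa using h1 l hl
    · rw [hgeom g hg hgd l l0 hl hl0]
      simpa [L] using hL
  · push Not at hex
    have : LinearMap.ker (aeval T g) = ⊥ := (Submodule.eq_bot_iff _).2 fun v hv => by
      obtain ⟨h2, h1⟩ := hsub v hv
      exact E.injective (Prod.ext (funext fun l => by simpa using h1 l (hex l)) (by simpa using h2))
    rw [this, finrank_bot]
    exact Nat.zero_le _

omit N in
/-- A totally isotropic invariant subspace of blocks with small kernels is trivial. -/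
theorem ti_eq_bot (N : Num F q r i b c) (h4 : i % 4 = 2) {n : ℕ} {T : Module.End F (Fin n → F)}
    (hiso : ∀ u v, herm q (T u) (T v) = herm q u v) (hTr : T ^ r = 1)
    (hker : ∀ g : F[X], Irreducible g → g ∣ ∑ j ∈ Finset.range r, (X : F[X]) ^ j →
      finrank F (LinearMap.ker (aeval T g)) ≤ b)
    {P : Submodule F (Fin n → F)} (hPR : P ≤ LinearMap.range (T - 1)) (hP : P.map T ≤ P) (hPT : TI q P) : P = ⊥ := by
  by_contra hne
  obtain ⟨U, hUP, hUi, hUd, hb0, g, hg, hgf, hgU⟩ := exists_irr N.card N.geom_ne N.geom_deg (geom_kills N hiso hTr) hP hPR hne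
  obtain ⟨hcb, hbo, -⟩ := N.c_two h4
  have hRi := Inv.map_range_sub_le (F := F) (f := T)
  set K := LinearMap.ker (aeval T g)
  have hK : U = K := Submodule.eq_of_le_of_finrank_le (fun x hx => hgU x hx) (by rw [hUd]; exact hker g hg hgf)
  have hKi : K.map T ≤ K := hK ▸ hUi
  obtain ⟨C, hC, hCi⟩ := Inv.exists_invariant_compl N.hrF one_ne_zero (show T ^ r = (1 : F) • 1 by rw [one_smul, hTr]) hKi
  obtain ⟨hMn, -, -, -⟩ := parts N hiso hTr (W := ⊤) le_top (nd_top N.card)
  rw [Submodule.map_top] at hMn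
  set M := LinearMap.range (T - 1)
  have hKM : K ≤ M := hK ▸ hUP.trans hPR
  have hsup : K ⊔ (M ⊓ C) = M := by
    rw [inf_comm, ← sup_inf_assoc_of_le _ hKM, hC.sup_eq_top, top_inf_eq]
  set D := M ⊓ C
  have hDi : D.map T ≤ D := (Submodule.map_inf_le T).trans (inf_le_inf hRi hCi)
  have hinj : ∀ v ∈ D, aeval T g v = 0 → v = 0 := fun v hv h0 =>
    Submodule.disjoint_def.1 hC.disjoint v (LinearMap.mem_ker.2 h0) hv.2
  -- `g(T)` is bijective on the complement
  have hDimg : D.map (aeval T g) = D := by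
    refine Submodule.eq_of_le_of_finrank_eq (by rintro _ ⟨v, hv, rfl⟩; exact Inv.aeval_mem hDi g hv) ?_
    have h := Inv.finrank_split (aeval T g + 1) D
    rw [add_sub_cancel_right] at h
    have h0 : D ⊓ LinearMap.ker (aeval T g) = ⊥ := (Submodule.eq_bot_iff _).2 fun v hv => hinj v hv.1 hv.2
    rw [h0, finrank_bot] at h
    omega
  obtain ⟨x, hx, hx0⟩ := U.exists_mem_ne_zero_of_ne_bot fun e => by rw [e, finrank_bot] at hUd; omega
  refine hx0 (hMn x (hPR (hUP hx)) fun v hv => ?_)
  rw [← hsup] at hv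
  obtain ⟨a, ha, d, hd, rfl⟩ := mem_sup.1 hv
  rw [herm_add_right N.card, hPT x (hUP hx) a (hUP (hK ▸ ha)), zero_add]
  have hdimg : ∀ m : ℕ, ∀ w ∈ D, ∃ w' ∈ D, aeval T (g ^ m) w' = w := by
    intro m
    induction m with
    | zero => exact fun w hw => ⟨w, hw, by simp⟩
    | succ m ih =>
      intro w hw
      rw [← hDimg] at hw
      obtain ⟨w1, hw1, rfl⟩ := hw
      obtain ⟨w', hw', rfl⟩ := ih w1 hw1
      exact ⟨w', hw', by rw [pow_succ', map_mul, Module.End.mul_apply]⟩
  obtain ⟨w', hw', rfl⟩ := hdimg (q ^ b) d hd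
  rw [← adjoint N.card hiso hbo hRi (fun w _ => hQ N hiso hTr h4 w) g x (hPR (hUP hx)) w' hw'.1, hgU x hx,
    herm_zero_left]

end Cfsg.Agent.ClMax99.UnitFix
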