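import Cfsg.Agent.ClMax99.UnitInv

/-!
The adjoint of a polynomial in a unitary map as a Frobenius power, and its consequences for invariant subspaces.
-/

set_option autoImplicit false
set_option linter.unusedSectionVars false
set_option linter.style.haveILetI false

namespace Cfsg.Agent.ClMax99.UnitFix

open Module Polynomial Submodule
open Cfsg.Agent.Unitary

variable {F : Type*} [Field F] [Fintype F] {n q : ℕ}

variable (hF : Fintype.card F = q ^ 2)
include hF

theorem pow_pow_eq {b : ℕ} (hb : Odd b) (a : F) : (a ^ (q ^ b)) ^ q = a := by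
  obtain ⟨k, rfl⟩ := hb
  rw [← pow_mul, ← pow_succ, show 2 * k + 1 + 1 = 2 * (k + 1) by ring, pow_mul, ← hF, FiniteField.pow_card_pow]

theorem add_pow_poly {b : ℕ} (P R : F[X]) : (P + R) ^ (q ^ b) = P ^ (q ^ b) + R ^ (q ^ b) := by
  obtain ⟨p, k, hp, -, hc, rfl⟩ := exists_prime_pow hF
  haveI := hc
  haveI := Fact.mk hp
  rw [← pow_mul]
  exact add_pow_char_pow P R p (k * b)

theorem natCard_adjoinRoot {g : F[X]} (hg : Irreducible g) : Nat.card (AdjoinRoot g) = (q ^ g.natDegree) ^ 2 := by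
  haveI : Module.Finite F (AdjoinRoot g) := (AdjoinRoot.powerBasis hg.ne_zero).finite
  rw [Module.natCard_eq_pow_finrank (K := F), Nat.card_eq_fintype_card, hF,
    (AdjoinRoot.powerBasis hg.ne_zero).finrank, AdjoinRoot.powerBasis_dim, ← pow_mul, ← pow_mul, mul_comm]

theorem dvd_pow_sub {g : F[X]} (hg : Irreducible g) (P : F[X]) :
    g ∣ (P ^ (q ^ g.natDegree)) ^ (q ^ g.natDegree) - P := by
  haveI := Fact.mk hg
  haveI : Module.Finite F (AdjoinRoot g) := (AdjoinRoot.powerBasis hg.ne_zero).finite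
  haveI : Finite (AdjoinRoot g) := Module.finite_of_finite F
  haveI : Fintype (AdjoinRoot g) := Fintype.ofFinite _
  rw [← AdjoinRoot.mk_eq_zero, map_sub, map_pow, map_pow, ← pow_mul, ← pow_two,
    ← natCard_adjoinRoot hF hg, Nat.card_eq_fintype_card, FiniteField.pow_card, sub_self]

variable {T : Module.End F (Fin n → F)} (hiso : ∀ u v, herm q (T u) (T v) = herm q u v)
include hiso

section Herm

variable {b : ℕ} (hb : Odd b) {W : Submodule F (Fin n → F)} (hWi : W.map T ≤ W)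
  (hQ : ∀ w ∈ W, (T ^ (q ^ b)) (T w) = w)
include hb hWi hQ

omit hiso hb in
theorem pow_mul_cancel (k : ℕ) : ∀ w ∈ W, (T ^ (k * q ^ b)) ((T ^ k) w) = w := by
  induction k with
  | zero => simp
  | succ k ih =>
    intro w hw
    rw [Nat.add_one_mul, pow_add, pow_succ' T k, Module.End.mul_apply, Module.End.mul_apply,
      hQ _ (by
        have := Inv.aeval_mem hWi ((X : F[X]) ^ k) hw
        rwa [map_pow, aeval_X] at this), ih w hw]

/-- The adjoint of a polynomial. -/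
theorem adjoint (P : F[X]) : ∀ u ∈ W, ∀ v ∈ W,
    herm q (aeval T P u) v = herm q u (aeval T (P ^ (q ^ b)) v) := by
  induction P using Polynomial.induction_on' with
  | add P R hP hR =>
    intro u hu v hv
    rw [add_pow_poly hF, map_add, map_add, LinearMap.add_apply, LinearMap.add_apply, herm_add_left,
      herm_add_right hF, hP u hu v hv, hR u hu v hv]
  | monomial k a =>
    intro u hu v hv
    rw [monomial_pow, aeval_monomial, aeval_monomial]
    simp only [Module.End.mul_apply, Module.algebraMap_end_apply, herm_smul_left, herm_smul_right hF,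
      pow_pow_eq hF hb]
    congr 1
    have hcomm : (T ^ k) ((T ^ (k * q ^ b)) v) = v := by
      rw [← Module.End.mul_apply, ← pow_add, add_comm, pow_add, Module.End.mul_apply]
      exact pow_mul_cancel hF hWi hQ k v hv
    conv_lhs => rw [← hcomm]
    rw [form_pow hF hiso]

/-- The adjoint in the other argument. -/
theorem adjoint' (P : F[X]) : ∀ u ∈ W, ∀ v ∈ W,
    herm q u (aeval T P v) = herm q (aeval T (P ^ (q ^ b)) u) v := fun u hu v hv => by
  rw [herm_swap hF (aeval T P v) u, adjoint hF hiso hb hWi hQ P v hv u hu, ← herm_swap hF]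

variable {f : F[X]} (hf0 : f ≠ 0) (hdeg : ∀ g : F[X], Irreducible g → g ∣ f → g.natDegree = b)
  (hWf : ∀ w ∈ W, aeval T f w = 0) {r : ℕ} {z : F} (hrF : (r : F) ≠ 0) (hz : z ≠ 0) (hTr : T ^ r = z • 1)
include hf0 hdeg hWf hrF hz hTr

/-- Every nondegenerate invariant subspace has a nondegenerate irreducible piece. -/
theorem exists_nd {X : Submodule F (Fin n → F)} (hXW : X ≤ W) (hX : X.map T ≤ X) (hXn : Nd q X) (hne : X ≠ ⊥) :
    ∃ U ≤ X, U.map T ≤ U ∧ Nd q U ∧ finrank F U = b := by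
  obtain ⟨U, hUX, hUi, hUd, hb0, g, hg, hgf, hgU⟩ := exists_irr hF hf0 hdeg hWf hX hXW hne
  rcases nd_or_ti hF hiso hf0 hdeg hWf hUi (hUX.trans hXW) hUd with hUn | hUT
  · exact ⟨U, hUX, hUi, hUn, hUd⟩
  obtain ⟨R, hRX, hRi, hRd, hRU, -, -⟩ := exists_pair hF hiso hf0 hdeg hWf hrF hz hTr hWi hX hXW hXn hUi hUX hUT hUd hb0
  have hQR : ∀ x ∈ R, aeval T (g ^ (q ^ b)) x = 0 := fun x hx => hRU _ (Inv.aeval_mem hRi _ hx) fun u hu => by
    rw [herm_eq_zero_comm hF, ← adjoint hF hiso hb hWi hQ g u (hXW (hUX hu)) x (hXW (hRX hx)), hgU u hu,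
      herm_zero_left]
  have hK : (R ⊓ LinearMap.ker (aeval T g)).map T ≤ R ⊓ LinearMap.ker (aeval T g) := by
    rintro _ ⟨w, ⟨hwP, hwg⟩, rfl⟩
    refine ⟨hRi ⟨w, hwP, rfl⟩, ?_⟩
    rw [SetLike.mem_coe, LinearMap.mem_ker] at hwg ⊢
    have : aeval T g * T = T * aeval T g := by
      simpa using congrArg (aeval T) (mul_comm g Polynomial.X)
    rw [← Module.End.mul_apply, this, Module.End.mul_apply, hwg, map_zero]
  have hgR : ∀ x ∈ R, aeval T g x = 0 := by
    obtain ⟨k, hk⟩ := dvd_finrank hF hf0 hdeg hWf hK (inf_le_left.trans (hRX.trans hXW))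
    rcases Nat.eq_zero_or_pos k with rfl | hk0
    · exfalso
      rw [mul_zero, Submodule.finrank_eq_zero] at hk
      have hinj : ∀ (m : ℕ), ∀ x ∈ R, aeval T (g ^ m) x = 0 → x = 0 := by
        intro m
        induction m with
        | zero => intro x _ h; simpa using h
        | succ m ih =>
          intro x hx h
          rw [pow_succ, map_mul, Module.End.mul_apply] at h
          exact (mem_bot F).1 (hk ▸ (⟨hx, LinearMap.mem_ker.2 (ih _ (Inv.aeval_mem hRi _ hx) h)⟩ :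
            x ∈ R ⊓ LinearMap.ker (aeval T g)))
      have hR0 : R = ⊥ := (Submodule.eq_bot_iff R).2 fun x hx => hinj _ x hx (hQR x hx)
      rw [hR0, finrank_bot] at hRd
      omega
    · have he : R ⊓ LinearMap.ker (aeval T g) = R := Submodule.eq_of_le_of_finrank_eq inf_le_left (by
        have := Submodule.finrank_mono (inf_le_left : R ⊓ LinearMap.ker (aeval T g) ≤ R)
        have := Nat.le_mul_of_pos_right b hk0
        omega)
      intro x hx
      rw [← he] at hx
      exact LinearMap.mem_ker.1 hx.2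
  obtain ⟨u, hu, w, hw, huw⟩ : ∃ u ∈ U, ∃ w ∈ R, herm q u w ≠ 0 := by
    by_contra hc
    push Not at hc
    have hR0 : R = ⊥ := (Submodule.eq_bot_iff R).2 fun x hx => hRU x hx fun u hu =>
      (herm_eq_zero_comm hF).1 (hc u hu x hx)
    rw [hR0, finrank_bot] at hRd
    omega
  have hRT : herm q w w = 0 ∨ herm q w w ≠ 0 := em _
  obtain ⟨v, hv, hvg, hvv⟩ : ∃ v ∈ X, aeval T g v = 0 ∧ herm q v v ≠ 0 := by
    rcases hRT with hww | hww
    swap
    · exact ⟨w, hRX hw, hgR w hw, hww⟩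
    obtain ⟨t, ht⟩ := exists_trace_eq hF (t := (1 : F)) (one_pow q)
    refine ⟨(t / herm q u w) • u + w, add_mem (X.smul_mem _ (hUX hu)) (hRX hw),
      by rw [map_add, map_smul, hgU u hu, hgR w hw]; simp, ?_⟩
    rw [herm_add_left, herm_add_right hF, herm_add_right hF, herm_smul_left, herm_smul_left, herm_smul_right hF,
      hUT u hu u hu, hww, herm_smul_right hF, div_mul_cancel₀ _ huw, herm_swap hF u w, ← mul_pow,
      div_mul_cancel₀ _ huw]
    simp [ht]
  have hKX : (X ⊓ LinearMap.ker (aeval T g)).map T ≤ X ⊓ LinearMap.ker (aeval T g) := by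
    rintro _ ⟨x, ⟨hxP, hxg⟩, rfl⟩
    refine ⟨hX ⟨x, hxP, rfl⟩, ?_⟩
    rw [SetLike.mem_coe, LinearMap.mem_ker] at hxg ⊢
    have : aeval T g * T = T * aeval T g := by
      simpa using congrArg (aeval T) (mul_comm g Polynomial.X)
    rw [← Module.End.mul_apply, this, Module.End.mul_apply, hxg, map_zero]
  obtain ⟨P, hPK, hPi, hvP, hPd⟩ := SympInv.exists_cyclic hg hKX ⟨hv, LinearMap.mem_ker.2 hvg⟩ hvg
  rw [hdeg g hg hgf] at hPd
  have hPX : P ≤ X := hPK.trans inf_le_left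
  have hPd' : finrank F P = b := le_antisymm hPd (Nat.le_of_dvd (Nat.pos_of_ne_zero fun h0 => hvv (by
      rw [Submodule.finrank_eq_zero.1 h0] at hvP
      rw [(mem_bot F).1 hvP, herm_zero_left]))
    (dvd_finrank hF hf0 hdeg hWf hPi (hPX.trans hXW)))
  exact ⟨P, hPX, hPi, (nd_or_ti hF hiso hf0 hdeg hWf hPi (hPX.trans hXW) hPd').resolve_right
    fun h => hvv (h v hvP v hvP), hPd'⟩

/-- Two orthogonal pieces with the same factor contain a totally isotropic piece. -/
theorem exists_ti_of_same {g : F[X]} (hg : Irreducible g) (hgf : g ∣ f) {U₁ U₂ : Submodule F (Fin n → F)}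
    (h₁ : U₁ ≤ W) (h₁i : U₁.map T ≤ U₁) (h₁n : Nd q U₁) (h₁d : finrank F U₁ = b) (h₁g : ∀ x ∈ U₁, aeval T g x = 0)
    (h₂ : U₂ ≤ W) (h₂i : U₂.map T ≤ U₂) (h₂n : Nd q U₂) (h₂d : finrank F U₂ = b) (h₂g : ∀ x ∈ U₂, aeval T g x = 0)
    (ho : U₁ ≤ perp q U₂) :
    ∃ P ≤ U₁ ⊔ U₂, P.map T ≤ P ∧ TI q P ∧ finrank F P = b := by
  classical
  have hgb : g.natDegree = b := hdeg g hg hgf
  have hb0 : 0 < b := hgb ▸ hg.natDegree_pos
  obtain ⟨u₁, hu₁, hu₁0⟩ := U₁.exists_mem_ne_zero_of_ne_bot fun e => by rw [e, finrank_bot] at h₁d; omega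
  obtain ⟨u₂, hu₂, hu₂0⟩ := U₂.exists_mem_ne_zero_of_ne_bot fun e => by rw [e, finrank_bot] at h₂d; omega
  have hu₁W := h₁ hu₁
  have hu₂W := h₂ hu₂
  let π : F[X] →ₗ[F] U₁ :=
    { toFun := fun S => ⟨aeval T S u₁, Inv.aeval_mem h₁i S hu₁⟩
      map_add' := fun S S' => Subtype.ext (by simp)
      map_smul' := fun c S => Subtype.ext (by simp) }
  have hπ : ∀ S, (π S : Fin n → F) = aeval T S u₁ := fun S => rfl
  have hπsurj : Function.Surjective π := by
    rw [← LinearMap.range_eq_top]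
    refine Submodule.eq_top_of_finrank_eq ?_
    set M := (LinearMap.range π).map U₁.subtype with hM
    have hMi : M.map T ≤ M := by
      rintro _ ⟨_, ⟨_, ⟨S, rfl⟩, rfl⟩, rfl⟩
      exact ⟨π (X * S), ⟨_, rfl⟩, by simp [hπ]⟩
    have hMd := dvd_finrank hF hf0 hdeg hWf hMi (le_trans (by rintro _ ⟨x, -, rfl⟩; exact x.2) h₁)
    have he : finrank F M = finrank F (LinearMap.range π) :=
      ((Submodule.equivMapOfInjective U₁.subtype U₁.injective_subtype _).finrank_eq).symm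
    rw [he] at hMd
    have h0 : 0 < finrank F (LinearMap.range π) := Nat.pos_of_ne_zero fun h0 => hu₁0 (by
      have h2 : π 1 ∈ LinearMap.range π := ⟨1, rfl⟩
      rw [Submodule.finrank_eq_zero.1 h0, mem_bot] at h2
      simpa [hπ] using congrArg Subtype.val h2)
    have := Nat.le_of_dvd h0 hMd
    have := Submodule.finrank_le (LinearMap.range π)
    omega
  have hker : ∀ S, aeval T S u₁ = 0 → g ∣ S := fun S hS => by
    by_contra hnd
    obtain ⟨A, B, hAB⟩ := hg.coprime_iff_not_dvd.2 hnd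
    refine hu₁0 ?_
    have := LinearMap.congr_fun (congrArg (aeval T) hAB) u₁
    simpa [hS, h₁g u₁ hu₁] using this.symm
  have hdvd2 : ∀ S, g ∣ S → ∀ x, aeval T g x = 0 → aeval T S x = 0 := fun S hS x hx => by
    obtain ⟨A, rfl⟩ := hS
    rw [mul_comm, map_mul, Module.End.mul_apply, hx, map_zero]
  let L₂ : F[X] →ₗ[F] F :=
    { toFun := fun S => herm q (aeval T S u₂) u₂
      map_add' := fun S S' => by simp [herm_add_left]
      map_smul' := fun c S => by simp [herm_smul_left] }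
  have hL : LinearMap.ker π ≤ LinearMap.ker L₂ := fun S hS => by
    have h0 : aeval T S u₁ = 0 := congrArg Subtype.val (LinearMap.mem_ker.1 hS)
    rw [LinearMap.mem_ker]
    show herm q (aeval T S u₂) u₂ = 0
    rw [hdvd2 S (hker S h0) u₂ (h₂g u₂ hu₂), herm_zero_left]
  let Λ : U₁ →ₗ[F] F := (LinearMap.ker π).liftQ L₂ hL ∘ₗ
    (LinearMap.quotKerEquivOfSurjective π hπsurj).symm.toLinearMap
  have hΛ : ∀ S, Λ (π S) = L₂ S := fun S => by
    simp only [Λ, LinearMap.comp_apply, LinearEquiv.coe_coe]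
    rw [show (LinearMap.quotKerEquivOfSurjective π hπsurj).symm (π S) = Submodule.Quotient.mk S from
      (LinearEquiv.symm_apply_eq _).2 rfl]
    rfl
  let Ψ : U₁ → Module.Dual F U₁ := fun w =>
    { toFun := fun x => herm q (x : Fin n → F) w
      map_add' := fun x y => herm_add_left _ _ _
      map_smul' := fun c x => herm_smul_left _ _ _ }
  haveI : Finite (Module.Dual F U₁) := Module.finite_of_finite F
  have hΨ : Function.Bijective Ψ := by
    refine (Nat.bijective_iff_injective_and_card Ψ).2 ⟨fun w w' h => Subtype.ext (sub_eq_zero.1 ?_), ?_⟩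
    · refine h₁n _ (U₁.sub_mem w.2 w'.2) fun x hx => ?_
      rw [herm_eq_zero_comm hF, herm_sub_right hF, sub_eq_zero]
      exact LinearMap.congr_fun h ⟨x, hx⟩
    · rw [Module.natCard_eq_pow_finrank (K := F), Module.natCard_eq_pow_finrank (K := F) (V := Module.Dual F U₁),
        Subspace.dual_finrank_eq]
  obtain ⟨w, hw⟩ := hΨ.2 Λ
  obtain ⟨R, hR⟩ := hπsurj w
  set Q := q ^ b with hQdef
  set κ := R ^ Q with hκdef
  have hmemU : ∀ S, aeval T S u₁ ∈ W := fun S => h₁ (Inv.aeval_mem h₁i S hu₁)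
  have hκ : ∀ S, herm q (aeval T S u₂) u₂ = herm q (aeval T (κ * S) u₁) u₁ := fun S => by
    show L₂ S = _
    rw [← hΛ, ← hw]
    show herm q (aeval T S u₁) (w : Fin n → F) = _
    rw [← hR, hπ, adjoint' hF hiso hb hWi hQ R _ (hmemU S) _ hu₁W, ← Module.End.mul_apply, ← map_mul]
  have hκ2 : g ∣ κ ^ Q - κ := by
    have h0 : ∀ S, herm q (aeval T ((κ ^ Q - κ) * S ^ Q) u₁) u₁ = 0 := fun S => by
      have e1 : herm q (aeval T (S ^ Q) u₂) u₂ = herm q (aeval T S u₂) u₂ ^ q := by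
        rw [← adjoint' hF hiso hb hWi hQ S u₂ hu₂W u₂ hu₂W, ← herm_swap hF]
      have e2 : herm q (aeval T ((κ * S) ^ Q) u₁) u₁ = herm q (aeval T (κ * S) u₁) u₁ ^ q := by
        rw [← adjoint' hF hiso hb hWi hQ _ u₁ hu₁W u₁ hu₁W, ← herm_swap hF]
      rw [hκ, hκ, ← e2, mul_pow] at e1
      rw [sub_mul, map_sub, LinearMap.sub_apply, herm_sub_left, e1, sub_self]
    have h1 : ∀ S, herm q (aeval T ((κ ^ Q - κ) * S) u₁) u₁ = 0 := fun S => by
      have hS := dvd_pow_sub hF hg S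
      rw [hgb] at hS
      have e := hdvd2 _ (hS.mul_left (κ ^ Q - κ)) u₁ (h₁g u₁ hu₁)
      rw [mul_sub, map_sub, LinearMap.sub_apply, sub_eq_zero] at e
      rw [← e]
      exact h0 _
    refine hker _ (h₁n _ (Inv.aeval_mem h₁i _ hu₁) fun v hv => ?_)
    obtain ⟨S, hS⟩ := hπsurj ⟨v, hv⟩
    rw [show v = aeval T S u₁ from (congrArg Subtype.val hS).symm, adjoint' hF hiso hb hWi hQ S _ (hmemU _) _ hu₁W,
      ← Module.End.mul_apply, ← map_mul, mul_comm]
    exact h1 _
  haveI := Fact.mk hg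
  haveI : Module.Finite F (AdjoinRoot g) := (AdjoinRoot.powerBasis hg.ne_zero).finite
  haveI : Finite (AdjoinRoot g) := Module.finite_of_finite F
  letI : Fintype (AdjoinRoot g) := Fintype.ofFinite _
  have hK : Fintype.card (AdjoinRoot g) = Q ^ 2 := by
    rw [← Nat.card_eq_fintype_card, natCard_adjoinRoot hF hg, hgb]
  obtain ⟨μ', hμ'⟩ := exists_norm_eq hK (t := -AdjoinRoot.mk g κ) (by
    rw [neg_pow_q hK, ← map_pow, neg_inj, ← sub_eq_zero, ← map_sub, AdjoinRoot.mk_eq_zero]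
    exact hκ2)
  obtain ⟨μ, rfl⟩ := AdjoinRoot.mk_surjective μ'
  have hμ : g ∣ μ ^ (Q + 1) + κ := by
    rw [← AdjoinRoot.mk_eq_zero, map_add, map_pow, hμ', neg_add_cancel]
  set v := aeval T μ u₁ + u₂ with hv
  have hvW : v ∈ W := W.add_mem (hmemU μ) hu₂W
  have hSv : ∀ S, herm q (aeval T S v) v = 0 := fun S => by
    have o1 : herm q (aeval T S (aeval T μ u₁)) u₂ = 0 := ho (Inv.aeval_mem h₁i S (Inv.aeval_mem h₁i μ hu₁)) u₂ hu₂
    have o2 : herm q (aeval T S u₂) (aeval T μ u₁) = 0 :=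
      (herm_eq_zero_comm hF).1 (ho (Inv.aeval_mem h₁i μ hu₁) _ (Inv.aeval_mem h₂i S hu₂))
    rw [hv, map_add, herm_add_left, herm_add_right hF, herm_add_right hF, o1, o2, hκ S,
      ← Module.End.mul_apply, ← map_mul, adjoint' hF hiso hb hWi hQ μ _ (hmemU _) _ hu₁W, ← Module.End.mul_apply,
      ← map_mul, add_zero, zero_add, ← herm_add_left, ← LinearMap.add_apply, ← map_add,
      hdvd2 _ (show g ∣ μ ^ Q * (S * μ) + κ * S by
        have := hμ.mul_right S
        rwa [show μ ^ Q * (S * μ) + κ * S = (μ ^ (Q + 1) + κ) * S by ring]) u₁ (h₁g u₁ hu₁), herm_zero_left]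
  have hdis : Disjoint U₁ U₂ := by
    rw [Submodule.disjoint_def]
    exact fun x hx hx' => h₂n x hx' fun y hy => ho hx y hy
  have hv0 : v ≠ 0 := fun e => hu₂0 (by
    refine Submodule.disjoint_def.1 hdis u₂ ?_ hu₂
    rw [show u₂ = -aeval T μ u₁ from eq_neg_of_add_eq_zero_right e]
    exact U₁.neg_mem (Inv.aeval_mem h₁i μ hu₁))
  have hvg : aeval T g v = 0 := by
    rw [hv, map_add, ← Module.End.mul_apply, ← map_mul, mul_comm, map_mul, Module.End.mul_apply, h₁g u₁ hu₁, map_zero,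
      zero_add, h₂g u₂ hu₂]
  let ρ : F[X] →ₗ[F] (Fin n → F) :=
    { toFun := fun S => aeval T S v
      map_add' := fun S S' => by simp
      map_smul' := fun c S => by simp }
  have hρi : (LinearMap.range ρ).map T ≤ LinearMap.range ρ := by
    rintro _ ⟨_, ⟨S, rfl⟩, rfl⟩
    exact ⟨X * S, by simp [ρ]⟩
  have hρle : LinearMap.range ρ ≤ U₁ ⊔ U₂ := by
    rintro _ ⟨S, rfl⟩
    show aeval T S v ∈ _
    rw [hv, map_add]
    exact add_mem_sup (Inv.aeval_mem h₁i S (Inv.aeval_mem h₁i μ hu₁)) (Inv.aeval_mem h₂i S hu₂)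
  refine ⟨LinearMap.range ρ, hρle, hρi, ?_, le_antisymm ?_ (Nat.le_of_dvd (Nat.pos_of_ne_zero fun h0 => hv0 ?_)
    (dvd_finrank hF hf0 hdeg hWf hρi (hρle.trans (sup_le h₁ h₂))))⟩
  · rintro _ ⟨S, rfl⟩ _ ⟨S', rfl⟩
    show herm q (aeval T S v) (aeval T S' v) = 0
    rw [adjoint' hF hiso hb hWi hQ S' _ (Inv.aeval_mem hWi S hvW) _ hvW, ← Module.End.mul_apply, ← map_mul]
    exact hSv _
  · obtain ⟨P, -, hPi, hvP, hPd⟩ := SympInv.exists_cyclic hg (R := ⊤) le_top mem_top hvg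
    exact (Submodule.finrank_mono (show LinearMap.range ρ ≤ P by
      rintro _ ⟨S, rfl⟩; exact Inv.aeval_mem hPi S hvP)).trans (hgb ▸ hPd)
  · have h1 : ρ 1 ∈ LinearMap.range ρ := ⟨1, rfl⟩
    rw [Submodule.finrank_eq_zero.1 h0, mem_bot] at h1
    simpa [ρ] using h1

/-- Without totally isotropic pieces the dimension is at most the degree. -/
theorem exists_ti_of_lt : ∀ X ≤ W, X.map T ≤ X → Nd q X → f.natDegree < finrank F X →
    ∃ U ≤ X, U.map T ≤ U ∧ TI q U ∧ finrank F U = b := by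
  classical
  intro X hXW hX hXn hlt
  have hX0 : X ≠ ⊥ := fun e => by rw [e, finrank_bot] at hlt; omega
  have hb0 : 0 < b := hb.pos
  obtain ⟨s, hs, -, U, hU, hUo⟩ := exists_pieces hF hiso hf0 hdeg hWf hrF hz hTr hWi
    (fun Y hY hYi hYn hY0 => exists_nd hF hiso hb hWi hQ hf0 hdeg hWf hrF hz hTr hY hYi hYn hY0) hb0 X hXW hX hXn
  have hfac : ∀ l, ∃ g : F[X], g.Monic ∧ Irreducible g ∧ g ∣ f ∧ ∀ x ∈ U l, aeval T g x = 0 := fun l => by
    obtain ⟨hl1, hl2, -, hl4⟩ := hU l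
    obtain ⟨V, hV, hVi, hVd, -, g, hg, hgf, hgV⟩ := exists_irr hF hf0 hdeg hWf hl2 (hl1.trans hXW)
      fun e => by rw [e, finrank_bot] at hl4; omega
    rw [Submodule.eq_of_le_of_finrank_eq hV (hVd.trans hl4.symm)] at hgV
    have ha := (associated_normalize g).symm
    refine ⟨normalize g, monic_normalize hg.ne_zero, ha.symm.irreducible hg, ha.dvd.trans hgf, fun x hx => ?_⟩
    obtain ⟨u, hu⟩ := associated_normalize g
    rw [← hu, mul_comm, map_mul, Module.End.mul_apply, hgV x hx, map_zero]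
  choose g hgm hg hgf hgU using hfac
  by_contra hno
  push Not at hno
  have hinj : Function.Injective g := fun l l' e => by
    by_contra hne
    obtain ⟨P, hP, hPi, hPT, hPd⟩ := exists_ti_of_same hF hiso hb hWi hQ hf0 hdeg hWf hrF hz hTr (hg l) (hgf l)
      ((hU l).1.trans hXW) (hU l).2.1 (hU l).2.2.1 (hU l).2.2.2 (hgU l)
      ((hU l').1.trans hXW) (hU l').2.1 (hU l').2.2.1 (hU l').2.2.2 (e ▸ hgU l') (hUo l l' hne)
    exact hno P (hP.trans (sup_le (hU l).1 (hU l').1)) hPi hPT hPd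
  have hdvd : ∏ l, g l ∣ f := Finset.prod_dvd_of_coprime (fun l _ l' _ hne => (hg l).coprime_iff_not_dvd.2
    fun h => hne (hinj (Polynomial.eq_of_monic_of_associated (hgm l) (hgm l') ((hg l).associated_of_dvd (hg l') h))))
    fun l _ => hgf l
  have := Polynomial.natDegree_le_of_dvd hdvd hf0
  rw [natDegree_prod _ _ (fun l _ => (hg l).ne_zero), Finset.sum_congr rfl fun l _ => hdeg _ (hg l) (hgf l),
    Finset.sum_const, Finset.card_univ, Fintype.card_fin, smul_eq_mul, ← hs] at this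
  omega

end Herm

end Cfsg.Agent.ClMax99.UnitFix
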