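import Cfsg.Agent.Lib.Unitary.Basic
import Cfsg.Agent.ClMax99.SympInv
import Cfsg.Agent.ClMax99.InvCompl

/-!
Invariant subspaces of a unitary map with scalar power: orthogonal pieces and totally isotropic pieces.
-/

set_option autoImplicit false
set_option linter.unusedSectionVars false
set_option linter.style.haveILetI false

namespace Cfsg.Agent.ClMax99.UnitFix

open Module Polynomial Submodule
open Cfsg.Agent.Unitary

variable {F : Type*} [Field F] [Fintype F] {n q : ℕ}

/-- The form is nondegenerate on `W`. -/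
def Nd (q : ℕ) (W : Submodule F (Fin n → F)) : Prop := ∀ u ∈ W, (∀ v ∈ W, herm q u v = 0) → u = 0

/-- The form vanishes on `W`. -/
def TI (q : ℕ) (W : Submodule F (Fin n → F)) : Prop := ∀ u ∈ W, ∀ v ∈ W, herm q u v = 0

/-- Vectors orthogonal to `U`. -/
def perp (q : ℕ) (U : Submodule F (Fin n → F)) : Submodule F (Fin n → F) where
  carrier := {v | ∀ u ∈ U, herm q v u = 0}
  add_mem' ha hb u hu := by rw [herm_add_left, ha u hu, hb u hu, add_zero]
  zero_mem' u hu := herm_zero_left u
  smul_mem' c v hv u hu := by rw [herm_smul_left, hv u hu, mul_zero]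

theorem mem_perp {U : Submodule F (Fin n → F)} {v : Fin n → F} : v ∈ perp q U ↔ ∀ u ∈ U, herm q v u = 0 := Iff.rfl

variable (hF : Fintype.card F = q ^ 2)
include hF

theorem nd_bot : Nd q (⊥ : Submodule F (Fin n → F)) := fun u hu _ => (mem_bot F).1 hu

theorem nd_top : Nd q (⊤ : Submodule F (Fin n → F)) := fun u _ h => eq_zero_of_herm hF fun y => h y mem_top

omit hF in
theorem ti_bot : TI q (⊥ : Submodule F (Fin n → F)) := fun u hu v _ => by
  rw [(mem_bot F).1 hu, herm_zero_left]

theorem finrank_inf_perp_le {U X : Submodule F (Fin n → F)} :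
    finrank F X ≤ finrank F ↥(X ⊓ perp q U) + finrank F U := by
  classical
  let β := Module.finBasis F U
  let L : X →ₗ[F] (Fin (finrank F U) → F) :=
    { toFun := fun x l => herm q (x : Fin n → F) (β l : Fin n → F)
      map_add' := fun x y => funext fun l => herm_add_left _ _ _
      map_smul' := fun c x => funext fun l => herm_smul_left _ _ _ }
  have hker : (LinearMap.ker L).map X.subtype ≤ X ⊓ perp q U := by
    rintro _ ⟨x, hx, rfl⟩
    refine ⟨x.2, fun u hu => ?_⟩
    have hu' : u = ∑ l, β.repr ⟨u, hu⟩ l • (β l : Fin n → F) := by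
      have := congrArg Subtype.val (β.sum_repr ⟨u, hu⟩)
      simp only [Submodule.coe_sum, Submodule.coe_smul] at this
      exact this.symm
    rw [hu', ← hermB_apply hF, map_sum, LinearMap.sum_apply]
    refine Finset.sum_eq_zero fun l _ => ?_
    rw [map_smulₛₗ, LinearMap.smul_apply, hermB_apply]
    have := congrFun (LinearMap.mem_ker.1 hx) l
    exact smul_eq_zero_of_right _ this
  have h1 := LinearMap.finrank_range_add_finrank_ker L
  have h2 : finrank F (LinearMap.range L) ≤ finrank F U := (Submodule.finrank_le _).trans (by simp)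
  have h3 := Submodule.finrank_mono hker
  rw [(Submodule.equivMapOfInjective X.subtype X.injective_subtype (LinearMap.ker L)).finrank_eq] at h1
  omega

theorem split {U X : Submodule F (Fin n → F)} (hUX : U ≤ X) (hU : Nd q U) (hX : Nd q X) :
    Disjoint U (X ⊓ perp q U) ∧ U ⊔ (X ⊓ perp q U) = X ∧ Nd q (X ⊓ perp q U) ∧
      finrank F U + finrank F ↥(X ⊓ perp q U) = finrank F X := by
  have hd : Disjoint U (X ⊓ perp q U) := by
    rw [Submodule.disjoint_def]
    exact fun u hu hu' => hU u hu fun v hv => hu'.2 v hv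
  have h := Submodule.finrank_sup_add_finrank_inf_eq U (X ⊓ perp q U)
  rw [hd.eq_bot, finrank_bot, add_zero] at h
  have hle : U ⊔ (X ⊓ perp q U) ≤ X := sup_le hUX inf_le_left
  have h1 := Submodule.finrank_mono hle
  have h2 := finrank_inf_perp_le hF (U := U) (X := X)
  have hsup : U ⊔ (X ⊓ perp q U) = X := Submodule.eq_of_le_of_finrank_eq hle (by omega)
  refine ⟨hd, hsup, fun u hu h0 => hX u hu.1 fun v hv => ?_, by omega⟩
  rw [← hsup] at hv
  obtain ⟨a, ha, b, hb, rfl⟩ := mem_sup.1 hv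
  rw [herm_add_right hF, hu.2 a ha, h0 b hb, add_zero]

theorem nd_sup {U W : Submodule F (Fin n → F)} (hU : Nd q U) (hW : Nd q W) (h : W ≤ perp q U) :
    Nd q (U ⊔ W) ∧ finrank F ↥(U ⊔ W) = finrank F U + finrank F W := by
  have hd : Disjoint U W := by
    rw [Submodule.disjoint_def]
    exact fun u hu hu' => hU u hu fun v hv => h hu' v hv
  refine ⟨fun x hx h0 => ?_, ?_⟩
  · obtain ⟨a, ha, b, hb, rfl⟩ := mem_sup.1 hx
    have ha0 : a = 0 := hU a ha fun v hv => by
      have := h0 v (mem_sup_left hv)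
      rwa [herm_add_left, h hb v hv, add_zero] at this
    subst ha0
    rw [zero_add] at h0 ⊢
    exact hW b hb fun v hv => h0 v (mem_sup_right hv)
  · have := Submodule.finrank_sup_add_finrank_inf_eq U W
    rwa [hd.eq_bot, finrank_bot, add_zero] at this

/-- A totally isotropic subspace has at most half the dimension. -/
theorem ti_le {W X : Submodule F (Fin n → F)} (hWX : W ≤ X) (hX : Nd q X) (hW : TI q W) :
    2 * finrank F W ≤ finrank F X := by
  classical
  obtain ⟨C, hC⟩ := Submodule.exists_isCompl W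
  have hsup : W ⊔ (X ⊓ C) = X := by
    rw [inf_comm, ← sup_inf_assoc_of_le _ hWX, hC.sup_eq_top, top_inf_eq]
  have hdis : Disjoint W (X ⊓ C) := hC.disjoint.mono_right inf_le_right
  have h := Submodule.finrank_sup_add_finrank_inf_eq W (X ⊓ C)
  rw [hdis.eq_bot, finrank_bot, add_zero, hsup] at h
  have h2 := finrank_inf_perp_le hF (U := X ⊓ C) (X := W)
  have h3 : W ⊓ perp q (X ⊓ C) = ⊥ := by
    rw [Submodule.eq_bot_iff]
    intro w hw
    refine hX w (hWX hw.1) fun v hv => ?_
    rw [← hsup] at hv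
    obtain ⟨a, ha, b, hb, rfl⟩ := mem_sup.1 hv
    rw [herm_add_right hF, hW w hw.1 a ha, hw.2 b hb, add_zero]
  rw [h3, finrank_bot] at h2
  omega

/-- Totally isotropic subspaces of every possible dimension. -/
theorem exists_ti : ∀ (a : ℕ) {X : Submodule F (Fin n → F)}, Nd q X → 2 * a ≤ finrank F X →
    ∃ P ≤ X, TI q P ∧ finrank F P = a := by
  classical
  intro a
  induction a with
  | zero => exact fun {X} _ _ => ⟨⊥, bot_le, ti_bot, by simp⟩
  | succ a ih =>
    intro X hX hd
    obtain ⟨b, hbX, hb⟩ := Forms.exists_orthonormal_family (σ := conjHom hF) (conjHom_ne_id hF)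
      (pow_q_pow_q hF) (hermB hF n) ⟨fun x y => (herm_swap hF y x).symm⟩ (finrank F X) X
      (fun w hw h => hX w hw fun v hv => (herm_eq_zero_comm hF).1 (h v hv)) rfl
    have hbo : ∀ i j, herm q (b i) (b j) = if i = j then 1 else 0 := fun i j => by
      have := hb j i
      rw [hermB_apply] at this
      simp only [this, eq_comm]
    obtain ⟨s, hs⟩ := exists_norm_eq hF (t := -1) (by rw [neg_pow_q hF, one_pow])
    let i0 : Fin (finrank F X) := ⟨0, by omega⟩
    let i1 : Fin (finrank F X) := ⟨1, by omega⟩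
    have hne : i0 ≠ i1 := by simp [i0, i1, Fin.ext_iff]
    set v := b i0 + s • b i1 with hv
    have hvv : herm q v v = 0 := by
      simp only [hv, herm_add_left, herm_add_right hF, herm_smul_left, herm_smul_right hF, hbo, hne, hne.symm,
        if_true, if_false, mul_one, mul_zero, add_zero, zero_add, ← pow_succ']
      rw [pow_succ] at hs; linear_combination hs
    set U := Submodule.span F {b i0, b i1}
    have hUX : U ≤ X := span_le.2 (Set.insert_subset (hbX i0) (Set.singleton_subset_iff.2 (hbX i1)))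
    have hU : Nd q U := by
      intro u hu h
      obtain ⟨c, d, rfl⟩ := mem_span_pair.1 hu
      have e0 := h (b i0) (subset_span (Set.mem_insert _ _))
      have e1 := h (b i1) (subset_span (Set.mem_insert_of_mem _ rfl))
      simp only [herm_add_left, herm_smul_left, hbo, hne, hne.symm, if_true, if_false, mul_one, mul_zero, add_zero,
        zero_add] at e0 e1
      rw [e0, e1]; simp
    obtain ⟨-, -, hn', hfr⟩ := split hF hUX hU hX
    have hUd : finrank F U ≤ 2 := by
      refine (finrank_span_le_card _).trans ?_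
      rw [Set.toFinset_insert, Set.toFinset_singleton]
      exact Finset.card_le_two
    obtain ⟨P, hPX, hPT, hPd⟩ := ih hn' (by omega)
    have hvU : v ∈ U := add_mem (subset_span (Set.mem_insert _ _))
      (U.smul_mem _ (subset_span (Set.mem_insert_of_mem _ rfl)))
    have hv0 : v ≠ 0 := fun e => by
      have := congrArg (fun w => herm q w (b i0)) e
      simp [hv, herm_add_left, herm_smul_left, hbo, hne.symm] at this
    refine ⟨Submodule.span F {v} ⊔ P, sup_le (span_le.2 (Set.singleton_subset_iff.2 (hUX hvU)))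
      (hPX.trans inf_le_left), ?_, ?_⟩
    · intro x hx y hy
      obtain ⟨x1, hx1, x2, hx2, rfl⟩ := mem_sup.1 hx
      obtain ⟨y1, hy1, y2, hy2, rfl⟩ := mem_sup.1 hy
      obtain ⟨c, rfl⟩ := mem_span_singleton.1 hx1
      obtain ⟨d, rfl⟩ := mem_span_singleton.1 hy1
      have e1 : herm q x2 v = 0 := (hPX hx2).2 v hvU
      have e2 : herm q v y2 = 0 := (herm_eq_zero_comm hF).1 ((hPX hy2).2 v hvU)
      simp [herm_add_left, herm_add_right hF, herm_smul_left, herm_smul_right hF, hvv, e1, e2, hPT x2 hx2 y2 hy2]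
    · have hdis : Disjoint (Submodule.span F {v}) P := by
        rw [Submodule.disjoint_def]
        exact fun w hw hw' => hU w (span_le.2 (Set.singleton_subset_iff.2 hvU) hw) fun u hu => (hPX hw').2 u hu
      have h := Submodule.finrank_sup_add_finrank_inf_eq (Submodule.span F {v}) P
      rw [hdis.eq_bot, finrank_bot, finrank_span_singleton hv0, hPd] at h
      omega

variable {T : Module.End F (Fin n → F)} (hiso : ∀ u v, herm q (T u) (T v) = herm q u v)
include hiso

theorem injective : Function.Injective T := fun u v h => sub_eq_zero.1 (eq_zero_of_herm hF fun y => by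
  rw [← hiso, map_sub, h, sub_self, herm_zero_left])

theorem map_perp_le {U : Submodule F (Fin n → F)} (hU : U.map T ≤ U) : (perp q U).map T ≤ perp q U := by
  rintro _ ⟨v, hv, rfl⟩ u hu
  have : U.map T = U := Submodule.eq_of_le_of_finrank_eq hU
    (Submodule.equivMapOfInjective _ (injective hF hiso) U).finrank_eq.symm
  rw [← this] at hu
  obtain ⟨u', hu', rfl⟩ := hu
  rw [hiso]
  exact hv u' hu'

theorem map_inf_perp_le {U X : Submodule F (Fin n → F)} (hU : U.map T ≤ U) (hX : X.map T ≤ X) :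
    (X ⊓ perp q U).map T ≤ X ⊓ perp q U :=
  (Submodule.map_inf_le T).trans (inf_le_inf hX (map_perp_le hF hiso hU))

theorem form_pow (k : ℕ) (u v : Fin n → F) : herm q ((T ^ k) u) ((T ^ k) v) = herm q u v := by
  induction k with
  | zero => simp
  | succ k ih => rw [pow_succ', Module.End.mul_apply, Module.End.mul_apply, hiso, ih]

section Mov

variable {f : F[X]} {b : ℕ} (hf0 : f ≠ 0) (hdeg : ∀ g : F[X], Irreducible g → g ∣ f → g.natDegree = b)
include hf0 hdeg

theorem pos (hf : ∃ g : F[X], Irreducible g ∧ g ∣ f) : 0 < b := by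
  obtain ⟨g, hg, hgf⟩ := hf
  exact hdeg g hg hgf ▸ hg.natDegree_pos

variable {W : Submodule F (Fin n → F)} (hWf : ∀ w ∈ W, aeval T f w = 0)
include hWf

omit hiso in
theorem dvd_finrank {P : Submodule F (Fin n → F)} (hP : P.map T ≤ P) (hPW : P ≤ W) : b ∣ finrank F P := by
  obtain ⟨L, hL, hL0⟩ := Inv.exists_factor_list hf0 T
  obtain ⟨k, hk⟩ := Inv.dvd_sub_finrank L (fun g hg => (hL g hg).1) (fun g hg => hdeg g (hL g hg).1 (hL g hg).2)
    (W := ⊥) (by simp) hP bot_le (fun v hv => by rw [hL0 _ (hWf v (hPW hv))]; exact zero_mem _)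
  rw [hk, finrank_bot, zero_add]
  exact dvd_mul_left _ _

omit hiso in
theorem exists_factor {P : Submodule F (Fin n → F)} (hP : P.map T ≤ P) (hPW : P ≤ W) (hne : P ≠ ⊥) :
    ∃ g : F[X], Irreducible g ∧ g ∣ f ∧ ∃ v ∈ P, v ≠ 0 ∧ aeval T g v = 0 := by
  obtain ⟨L, hL, hL0⟩ := Inv.exists_factor_list hf0 T
  obtain ⟨u, hu, hu0⟩ := P.exists_mem_ne_zero_of_ne_bot hne
  obtain ⟨g, hg, w, hw, hw0, hgw⟩ := Inv.exists_factor_vec (f := T) (W := (⊥ : Submodule F (Fin n → F))) hP L u hu
    (by simpa using hu0) (by rw [hL0 _ (hWf u (hPW hu))]; exact zero_mem _)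
  exact ⟨g, (hL g hg).1, (hL g hg).2, w, hw, by simpa using hw0, by simpa using hgw⟩

omit hiso in
theorem exists_irr {P : Submodule F (Fin n → F)} (hP : P.map T ≤ P) (hPW : P ≤ W) (hne : P ≠ ⊥) :
    ∃ U ≤ P, U.map T ≤ U ∧ finrank F U = b ∧ 0 < b ∧
      ∃ g : F[X], Irreducible g ∧ g ∣ f ∧ ∀ x ∈ U, aeval T g x = 0 := by
  obtain ⟨g, hg, hgf, v, hv, hv0, hgv⟩ := exists_factor hF hf0 hdeg hWf hP hPW hne
  have hK : (P ⊓ LinearMap.ker (aeval T g)).map T ≤ P ⊓ LinearMap.ker (aeval T g) := by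
    rintro _ ⟨w, ⟨hwP, hwg⟩, rfl⟩
    refine ⟨hP ⟨w, hwP, rfl⟩, ?_⟩
    rw [SetLike.mem_coe, LinearMap.mem_ker] at hwg ⊢
    have : aeval T g * T = T * aeval T g := by
      simpa using congrArg (aeval T) (mul_comm g Polynomial.X)
    rw [← Module.End.mul_apply, this, Module.End.mul_apply, hwg, map_zero]
  obtain ⟨U, hUP, hUi, hvU, hUd⟩ := SympInv.exists_cyclic hg hK ⟨hv, LinearMap.mem_ker.2 hgv⟩ hgv
  have hb : g.natDegree = b := hdeg g hg hgf
  refine ⟨U, hUP.trans inf_le_left, hUi, le_antisymm (hb ▸ hUd) (Nat.le_of_dvd ?_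
    (dvd_finrank hF hf0 hdeg hWf hUi ((hUP.trans inf_le_left).trans hPW))), hb ▸ hg.natDegree_pos, g, hg, hgf,
    fun x hx => LinearMap.mem_ker.1 (hUP hx).2⟩
  exact Nat.pos_of_ne_zero fun h0 => hv0 (by rw [Submodule.finrank_eq_zero.1 h0] at hvU; simpa using hvU)

/-- An irreducible invariant subspace is nondegenerate or totally isotropic. -/
theorem nd_or_ti {U : Submodule F (Fin n → F)} (hU : U.map T ≤ U) (hUW : U ≤ W) (hUd : finrank F U = b) :
    Nd q U ∨ TI q U := by
  obtain ⟨k, hk⟩ := dvd_finrank hF hf0 hdeg hWf (map_inf_perp_le hF hiso hU hU) (inf_le_left.trans hUW)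
  have hle := Submodule.finrank_mono (inf_le_left : U ⊓ perp q U ≤ U)
  rcases Nat.eq_zero_or_pos k with rfl | hk0
  · rw [mul_zero, Submodule.finrank_eq_zero] at hk
    left
    intro u hu h
    exact (mem_bot F).1 (hk ▸ (⟨hu, h⟩ : u ∈ U ⊓ perp q U))
  · right
    have h2 : b ≤ finrank F ↥(U ⊓ perp q U) := hk ▸ Nat.le_mul_of_pos_right b hk0
    have he : U ⊓ perp q U = U := Submodule.eq_of_le_of_finrank_eq inf_le_left (by omega)
    intro u hu v hv
    rw [← he] at hu
    exact hu.2 v hv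

variable {r : ℕ} {z : F} (hrF : (r : F) ≠ 0) (hz : z ≠ 0) (hTr : T ^ r = z • 1)
include hrF hz hTr

/-- A totally isotropic piece pairs with another one. -/
theorem exists_pair (hWi : W.map T ≤ W) {X U : Submodule F (Fin n → F)} (hX : X.map T ≤ X) (hXW : X ≤ W)
    (hXn : Nd q X) (hU : U.map T ≤ U) (hUX : U ≤ X) (hUT : TI q U) (hUd : finrank F U = b) (hb : 0 < b) :
    ∃ R ≤ X, R.map T ≤ R ∧ finrank F R = b ∧ (∀ x ∈ R, (∀ u ∈ U, herm q x u = 0) → x = 0) ∧
      Nd q (U ⊔ R) ∧ finrank F ↥(U ⊔ R) = 2 * b := by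
  set Y := X ⊓ perp q U with hY
  have hYi := map_inf_perp_le hF hiso hU hX
  obtain ⟨C, hC, hCi⟩ := Inv.exists_invariant_compl hrF hz hTr hYi
  set R := X ⊓ C
  have hRi : R.map T ≤ R := (Submodule.map_inf_le T).trans (inf_le_inf hX hCi)
  have hsup : Y ⊔ R = X := by
    rw [show R = C ⊓ X from inf_comm _ _, ← sup_inf_assoc_of_le _ (inf_le_left : Y ≤ X), hC.sup_eq_top, top_inf_eq]
  have hdis : Disjoint Y R := hC.disjoint.mono_right inf_le_right
  have h := Submodule.finrank_sup_add_finrank_inf_eq Y R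
  rw [hdis.eq_bot, finrank_bot, add_zero, hsup] at h
  have hle : finrank F R ≤ b := by
    have := finrank_inf_perp_le hF (U := U) (X := X)
    rw [← hY, hUd] at this
    omega
  have hUY : U ≤ Y := le_inf hUX fun a ha => fun u hu => hUT a ha u hu
  have hR0 : R ≠ ⊥ := fun e => by
    rw [e, sup_bot_eq] at hsup
    have hU0 : U = ⊥ := (Submodule.eq_bot_iff U).2 fun u hu => hXn u (hUX hu) fun v hv => by
      rw [← hsup] at hv
      exact (herm_eq_zero_comm hF).1 (hv.2 u hu)
    rw [hU0, finrank_bot] at hUd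
    omega
  have hRd : finrank F R = b := le_antisymm hle (Nat.le_of_dvd
    (Nat.pos_of_ne_zero fun e => hR0 (Submodule.finrank_eq_zero.1 e))
    (dvd_finrank hF hf0 hdeg hWf hRi (inf_le_left.trans hXW)))
  have hRY : ∀ x ∈ R, (∀ u ∈ U, herm q x u = 0) → x = 0 := fun x hx hxu =>
    Submodule.disjoint_def.1 hdis x ⟨hx.1, hxu⟩ hx
  refine ⟨R, inf_le_left, hRi, hRd, hRY, fun w hw h0 => ?_, ?_⟩
  · obtain ⟨a, ha, x, hx, rfl⟩ := mem_sup.1 hw
    have hx0 : x = 0 := hRY x hx fun u hu => by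
      have := h0 u (mem_sup_left hu)
      rwa [herm_add_left, hUT a ha u hu, zero_add] at this
    subst hx0
    rw [add_zero] at h0 ⊢
    refine hXn a (hUX ha) fun v hv => ?_
    rw [← hsup] at hv
    obtain ⟨y, hy, x, hx, rfl⟩ := mem_sup.1 hv
    rw [herm_add_right hF, (herm_eq_zero_comm hF).1 (hy.2 a ha), h0 x (mem_sup_right hx), add_zero]
  · have h2 := Submodule.finrank_sup_add_finrank_inf_eq U R
    rw [(hdis.mono_left hUY).eq_bot, finrank_bot, hUd, hRd] at h2
    omega

/-- Totally isotropic invariant subspaces up to a defect `E`. -/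
theorem exists_ti_mult (hWi : W.map T ≤ W) {E : ℕ}
    (hE : ∀ X ≤ W, X.map T ≤ X → Nd q X → E < finrank F X → ∃ U ≤ X, U.map T ≤ U ∧ TI q U ∧ finrank F U = b)
    (hb : 0 < b) : ∀ X ≤ W, X.map T ≤ X → Nd q X →
      ∃ J, finrank F X ≤ 2 * (J * b) + E ∧ ∀ j ≤ J, ∃ P ≤ X, P.map T ≤ P ∧ TI q P ∧ finrank F P = j * b := by
  intro X
  induction hd : finrank F X using Nat.strong_induction_on generalizing X with
  | _ N ih =>
    intro hXW hX hXn
    rcases le_or_gt (finrank F X) E with hle | hlt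
    · refine ⟨0, by omega, fun j hj => ?_⟩
      exact ⟨⊥, bot_le, by simp, ti_bot, by rw [Nat.le_zero.1 hj, finrank_bot, zero_mul]⟩
    obtain ⟨U, hUX, hUi, hUT, hUd⟩ := hE X hXW hX hXn hlt
    obtain ⟨R, hRX, hRi, hRd, -, hMn, hMd⟩ := exists_pair hF hiso hf0 hdeg hWf hrF hz hTr hWi hX hXW hXn hUi hUX
      hUT hUd hb
    set M := U ⊔ R
    have hMX : M ≤ X := sup_le hUX hRX
    have hMi : M.map T ≤ M := by rw [Submodule.map_sup]; exact sup_le_sup hUi hRi
    obtain ⟨-, -, hn', hfr⟩ := split hF hMX hMn hXn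
    obtain ⟨J, hJ, hJP⟩ := ih (finrank F ↥(X ⊓ perp q M)) (by omega) (X ⊓ perp q M) rfl (inf_le_left.trans hXW)
      (map_inf_perp_le hF hiso hMi hX) hn'
    refine ⟨J + 1, by rw [add_mul, one_mul]; omega, fun j hj => ?_⟩
    rcases Nat.eq_zero_or_pos j with rfl | hj0
    · exact ⟨⊥, bot_le, by simp, ti_bot, by simp⟩
    obtain ⟨P, hPX, hPi, hPT, hPd⟩ := hJP (j - 1) (by omega)
    have hUP : ∀ x ∈ P, ∀ u ∈ U, herm q x u = 0 := fun x hx u hu => (hPX hx).2 u (mem_sup_left hu)
    refine ⟨U ⊔ P, sup_le hUX (hPX.trans inf_le_left), by rw [Submodule.map_sup]; exact sup_le_sup hUi hPi, ?_, ?_⟩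
    · intro x hx y hy
      obtain ⟨a, ha, c, hc, rfl⟩ := mem_sup.1 hx
      obtain ⟨a', ha', c', hc', rfl⟩ := mem_sup.1 hy
      rw [herm_add_left, herm_add_right hF, herm_add_right hF, hUT a ha a' ha', hPT c hc c' hc',
        hUP c hc a' ha', (herm_eq_zero_comm hF).1 (hUP c' hc' a ha)]
      simp
    · have hdis : Disjoint U P := by
        rw [Submodule.disjoint_def]
        exact fun w hw hw' => hMn w (mem_sup_left hw) fun v hv => (hPX hw').2 v hv
      have h := Submodule.finrank_sup_add_finrank_inf_eq U P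
      rw [hdis.eq_bot, finrank_bot, hUd, hPd] at h
      obtain ⟨j', rfl⟩ : ∃ j', j = j' + 1 := ⟨j - 1, by omega⟩
      rw [Nat.add_sub_cancel] at h
      rw [Nat.add_one_mul]
      omega

/-- Orthogonal nondegenerate pieces. -/
theorem exists_pieces (hWi : W.map T ≤ W) {c : ℕ}
    (hP : ∀ X ≤ W, X.map T ≤ X → Nd q X → X ≠ ⊥ → ∃ U ≤ X, U.map T ≤ U ∧ Nd q U ∧ finrank F U = c)
    (hc : 0 < c) : ∀ X ≤ W, X.map T ≤ X → Nd q X → ∃ s, finrank F X = s * c ∧
      (∀ j ≤ s, ∃ P ≤ X, P.map T ≤ P ∧ Nd q P ∧ finrank F P = j * c) ∧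
      ∃ U : Fin s → Submodule F (Fin n → F), (∀ l, U l ≤ X ∧ (U l).map T ≤ U l ∧ Nd q (U l) ∧ finrank F (U l) = c) ∧
        ∀ l l', l ≠ l' → U l ≤ perp q (U l') := by
  intro X
  induction hd : finrank F X using Nat.strong_induction_on generalizing X with
  | _ N ih =>
    intro hXW hX hXn
    by_cases hX0 : X = ⊥
    · refine ⟨0, by rw [← hd, hX0, finrank_bot, zero_mul], fun j hj => ?_, Fin.elim0, fun l => l.elim0,
        fun l => l.elim0⟩
      exact ⟨⊥, bot_le, by simp, nd_bot hF, by rw [Nat.le_zero.1 hj, finrank_bot, zero_mul]⟩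
    obtain ⟨U, hUX, hUi, hUn, hUd⟩ := hP X hXW hX hXn hX0
    obtain ⟨-, -, hn', hfr⟩ := split hF hUX hUn hXn
    obtain ⟨s, hs, hsP, V, hV, hVo⟩ := ih (finrank F ↥(X ⊓ perp q U)) (by omega) (X ⊓ perp q U) rfl
      (inf_le_left.trans hXW) (map_inf_perp_le hF hiso hUi hX) hn'
    refine ⟨s + 1, by rw [Nat.add_one_mul]; omega, fun j hj => ?_, Fin.cons U V, fun l => ?_, ?_⟩
    · rcases Nat.eq_zero_or_pos j with rfl | hj0
      · exact ⟨⊥, bot_le, by simp, nd_bot hF, by simp⟩
      obtain ⟨P, hPX, hPi, hPn, hPd⟩ := hsP (j - 1) (by omega)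
      obtain ⟨hn2, hd2⟩ := nd_sup hF hUn hPn (hPX.trans inf_le_right)
      refine ⟨U ⊔ P, sup_le hUX (hPX.trans inf_le_left), by rw [Submodule.map_sup]; exact sup_le_sup hUi hPi, hn2, ?_⟩
      obtain ⟨j', rfl⟩ : ∃ j', j = j' + 1 := ⟨j - 1, by omega⟩
      rw [Nat.add_sub_cancel] at hPd
      rw [hd2, hUd, hPd, Nat.add_one_mul]
      ring
    · cases l using Fin.cases with
      | zero => simpa using ⟨hUX, hUi, hUn, hUd⟩
      | succ l => simpa using ⟨(hV l).1.trans inf_le_left, (hV l).2⟩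
    · intro l l' hne
      cases l using Fin.cases with
      | zero =>
        cases l' using Fin.cases with
        | zero => exact absurd rfl hne
        | succ l' =>
          simp only [Fin.cons_zero, Fin.cons_succ]
          exact fun u hu v hv => (herm_eq_zero_comm hF).1 (((hV l').1 hv).2 u hu)
      | succ l =>
        cases l' using Fin.cases with
        | zero =>
          simp only [Fin.cons_zero, Fin.cons_succ]
          exact (hV l).1.trans inf_le_right
        | succ l' =>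
          simp only [Fin.cons_succ]
          exact hVo l l' fun e => hne (by rw [e])

end Mov

end Cfsg.Agent.ClMax99.UnitFix
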