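import Cfsg.Agent.ClMax99.UnitHerm

/-!
The moved part of a unitary element of prime order.
-/

set_option autoImplicit false
set_option linter.unusedSectionVars false
set_option linter.style.haveILetI false

namespace Cfsg.Agent.ClMax99.UnitFix

open Module Polynomial Submodule
open Cfsg.Agent.Unitary

variable {F : Type*} [Field F] [Fintype F] {n q : ℕ} {r : ℕ} [hr : Fact r.Prime]

/-- The numerical data attached to `q` and an odd prime `r`. -/
structure Num (F : Type*) [Field F] [Fintype F] (q r i b c : ℕ) : Prop where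
  card : Fintype.card F = q ^ 2
  hrF : (r : F) ≠ 0
  r2 : r ≠ 2
  hi : i = orderOf (q : ZMod r)
  hb : b = if Even i then i / 2 else i
  hc : c = if i % 4 = 0 then i else if i % 4 = 2 then i / 2 else 2 * i

variable {i b c : ℕ}

namespace Num

variable (N : Num F q r i b c)
include N

theorem not_dvd : ¬ r ∣ q := fun h => N.hrF (by
  obtain ⟨p, k, hp, -, hc, hq⟩ := exists_prime_pow N.card
  haveI := hc
  rw [hq] at h
  rw [(Nat.prime_dvd_prime_iff_eq hr.out hp).1 (hr.out.dvd_of_dvd_pow h)]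
  exact CharP.cast_eq_zero F p)

theorem q_ne : (q : ZMod r) ≠ 0 := fun e => N.not_dvd ((ZMod.natCast_eq_zero_iff _ _).1 e)

theorem i_pos : 0 < i := by
  rw [N.hi]
  exact Nat.pos_of_ne_zero fun e => orderOf_eq_zero_iff'.1 e (r - 1) (by have := hr.out.two_le; omega)
    (ZMod.pow_card_sub_one_eq_one N.q_ne)

theorem b_eq : b = orderOf (Fintype.card F : ZMod r) := by
  rw [N.card, Nat.cast_pow, orderOf_pow' _ two_ne_zero, ← N.hi, N.hb]
  split_ifs with h
  · rw [Nat.gcd_eq_right h.two_dvd]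
  · rw [(Nat.coprime_two_right.2 (Nat.not_even_iff_odd.1 h)).gcd_eq_one, Nat.div_one]

theorem b_pos : 0 < b := by
  have := N.i_pos
  rw [N.hb]; split_ifs with h
  · obtain ⟨k, hk⟩ := h; omega
  · exact this

theorem c_two (h : i % 4 = 2) : c = b ∧ Odd b ∧ i = 2 * b := by
  have hb' := N.hb
  rw [if_pos (Nat.even_iff.2 (by omega))] at hb'
  have hc' := N.hc
  rw [if_neg (by omega), if_pos h] at hc'
  exact ⟨by omega, Nat.odd_iff.2 (by omega), by omega⟩

theorem c_ne (h : i % 4 ≠ 2) : c = 2 * b := by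
  have hb' := N.hb
  have hc' := N.hc
  by_cases he : i % 4 = 0
  · rw [if_pos (Nat.even_iff.2 (by omega))] at hb'
    rw [if_pos he] at hc'
    omega
  · rw [if_neg (fun h' => by rw [Nat.even_iff] at h'; omega)] at hb'
    rw [if_neg he, if_neg h] at hc'
    omega

theorem c_pos : 0 < c := by
  have := N.b_pos
  by_cases h : i % 4 = 2
  · rw [(N.c_two h).1]; exact this
  · rw [N.c_ne h]; omega

theorem two_ne : (2 : ZMod r) ≠ 0 := fun h => N.r2 ((Nat.prime_dvd_prime_iff_eq hr.out Nat.prime_two).1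
  ((ZMod.natCast_eq_zero_iff _ _).1 (by exact_mod_cast h)))

theorem neg_one_iff {j : ℕ} : (q : ZMod r) ^ j = -1 ↔ i ∣ 2 * j ∧ ¬ i ∣ j := by
  constructor
  · intro h
    rw [N.hi]
    refine ⟨orderOf_dvd_of_pow_eq_one (by rw [mul_comm, pow_mul, h, neg_one_sq]), fun hd => ?_⟩
    rw [orderOf_dvd_iff_pow_eq_one.1 hd] at h
    exact N.two_ne (by linear_combination h)
  · rintro ⟨h1, h2⟩
    rw [N.hi] at h1 h2
    have h3 : (q : ZMod r) ^ j * (q : ZMod r) ^ j = 1 := by rw [← pow_add, ← two_mul, orderOf_dvd_iff_pow_eq_one.1 h1]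
    exact (mul_self_eq_one_iff.1 h3).resolve_left fun h => h2 (orderOf_dvd_of_pow_eq_one h)

/-- When `r` divides `q ^ j - (-1) ^ j`. -/
theorem dvd_iff (j : ℕ) : r ∣ (if Even j then q ^ j - 1 else q ^ j + 1) ↔ c ∣ j := by
  have hq : 1 ≤ q ^ j := Nat.one_le_pow _ _ (q_pos N.card)
  rw [← ZMod.natCast_eq_zero_iff]
  have hcop : ∀ k, ¬ Even k → Nat.Coprime k 2 := fun k hk => Nat.coprime_two_right.2 (Nat.not_even_iff_odd.1 hk)
  split_ifs with he
  · rw [Nat.cast_sub hq, sub_eq_zero, Nat.cast_pow, Nat.cast_one, ← orderOf_dvd_iff_pow_eq_one, ← N.hi]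
    by_cases h : i % 4 = 2
    · obtain ⟨hcb, hbo, hib⟩ := N.c_two h
      rw [hcb, hib]
      exact ⟨fun h' => (dvd_mul_left b 2).trans h', fun h' =>
        (Nat.coprime_two_left.2 hbo).mul_dvd_of_dvd_of_dvd he.two_dvd h'⟩
    · rw [N.hc]
      by_cases h0 : i % 4 = 0
      · rw [if_pos h0]
      · rw [if_neg h0, if_neg h]
        exact ⟨fun h' => (hcop i fun h'' => by rw [Nat.even_iff] at h''; omega).symm.mul_dvd_of_dvd_of_dvd he.two_dvd h',
          fun h' => (dvd_mul_left i 2).trans h'⟩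
  · rw [Nat.cast_add, Nat.cast_pow, Nat.cast_one, add_eq_zero_iff_eq_neg, N.neg_one_iff]
    have hjo : j % 2 = 1 := Nat.not_even_iff.1 he
    by_cases h : i % 4 = 2
    · obtain ⟨hcb, hbo, hib⟩ := N.c_two h
      rw [hcb, hib]
      exact ⟨fun h' => Nat.dvd_of_mul_dvd_mul_left two_pos h'.1, fun h' => ⟨mul_dvd_mul_left 2 h',
        fun h'' => he (even_iff_two_dvd.2 ((dvd_mul_right 2 b).trans h''))⟩⟩
    · have hcj : ¬ c ∣ j := fun h' => he (even_iff_two_dvd.2 ((N.c_ne h ▸ dvd_mul_right 2 b).trans h'))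
      refine iff_of_false (fun ⟨h1, h2⟩ => ?_) hcj
      by_cases h0 : i % 4 = 0
      · have := (Nat.dvd_of_mod_eq_zero h0).trans h1
        omega
      · exact h2 ((hcop i fun h'' => by rw [Nat.even_iff] at h''; omega).dvd_of_dvd_mul_left h1)

theorem dvd_succ (h : i % 4 = 2) : r ∣ q ^ b + 1 := by
  obtain ⟨hcb, hbo, -⟩ := N.c_two h
  have := (N.dvd_iff b).2 (hcb ▸ dvd_rfl)
  rwa [if_neg (Nat.not_even_iff_odd.2 hbo)] at this

theorem b_dvd_pred : b ∣ r - 1 := by
  rw [N.b_eq]
  exact orderOf_dvd_of_pow_eq_one (ZMod.pow_card_sub_one_eq_one (by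
    rw [N.card, Nat.cast_pow]; exact pow_ne_zero _ N.q_ne))

theorem geom_deg (g : F[X]) (hg : Irreducible g) (hgd : g ∣ ∑ j ∈ Finset.range r, (X : F[X]) ^ j) :
    g.natDegree = b := (Inv.natDegree_eq_orderOf N.hrF hg hgd).trans N.b_eq.symm

omit N in
theorem geom_natDegree_le : (∑ j ∈ Finset.range r, (X : F[X]) ^ j).natDegree ≤ r - 1 :=
  natDegree_sum_le_of_forall_le _ _ fun j hj => by
    rw [natDegree_X_pow]; have := Finset.mem_range.1 hj; omega

theorem geom_ne : (∑ j ∈ Finset.range r, (X : F[X]) ^ j) ≠ 0 := Inv.geom_ne_zero N.hrF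

end Num

/-- Conjugate roots in a finite extension. -/
theorem root_conj {K : Type*} [Field K] [Algebra F K] [Finite K] {g : F[X]} (hg : Irreducible g) {x y : K}
    (hx : aeval x g = 0) (hy : aeval y g = 0) : ∃ k : ℕ, y = x ^ (Fintype.card F ^ k) := by
  haveI := Fintype.ofFinite K
  haveI : Module.Finite F K := Module.Finite.of_finite
  have h : IsConjRoot F y x := by
    show minpoly F y = minpoly F x
    rw [← minpoly.eq_of_irreducible hg hx, ← minpoly.eq_of_irreducible hg hy]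
  obtain ⟨σ, hσ⟩ := isConjRoot_iff_exists_algEquiv.1 h
  obtain ⟨k, hk⟩ := (FiniteField.bijective_frobeniusAlgEquivOfAlgebraic_pow F K).2 σ
  refine ⟨k, ?_⟩
  rw [← hσ, ← hk]
  show (FiniteField.frobeniusAlgEquivOfAlgebraic F K ^ (k : ℕ)) x = _
  rw [AlgEquiv.coe_pow, FiniteField.coe_frobeniusAlgEquivOfAlgebraic_iterate]

variable (N : Num F q r i b c) {T : Module.End F (Fin n → F)}
  (hiso : ∀ u v, herm q (T u) (T v) = herm q u v) (hTr : T ^ r = 1)
include N hiso hTr

theorem orth_parts : ∀ u ∈ LinearMap.ker (T - 1), ∀ v ∈ LinearMap.range (T - 1), herm q v u = 0 := by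
  rintro u hu _ ⟨w, rfl⟩
  rw [LinearMap.mem_ker, LinearMap.sub_apply, Module.End.one_apply, sub_eq_zero] at hu
  have e := hiso w u
  rw [hu] at e
  rw [LinearMap.sub_apply, Module.End.one_apply, herm_sub_left, e, sub_self]

/-- The moved and fixed parts. -/
theorem parts {W : Submodule F (Fin n → F)} (hW : W.map T ≤ W) (hWn : Nd q W) :
    Nd q (W.map (T - 1)) ∧ Nd q (W ⊓ LinearMap.ker (T - 1)) ∧ W.map (T - 1) ≤ W ∧
      finrank F (W.map (T - 1)) + finrank F ↥(W ⊓ LinearMap.ker (T - 1)) = finrank F W := by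
  have horth := orth_parts N hiso hTr
  have hle : W.map (T - 1) ≤ W := by
    rintro _ ⟨v, hv, rfl⟩
    exact W.sub_mem (hW ⟨v, hv, rfl⟩) hv
  have hdim := Inv.finrank_split T W
  have hsup : W ⊓ LinearMap.ker (T - 1) ⊔ W.map (T - 1) = W := by
    refine Submodule.eq_of_le_of_finrank_eq (sup_le inf_le_left hle) ?_
    have h := Submodule.finrank_sup_add_finrank_inf_eq (W ⊓ LinearMap.ker (T - 1)) (W.map (T - 1))
    rw [((Inv.disjoint_ker_range N.hrF hTr).mono inf_le_right LinearMap.map_le_range).eq_bot, finrank_bot] at h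
    omega
  refine ⟨fun u hu h => hWn u (hle hu) fun v hv => ?_, fun u hu h => hWn u hu.1 fun v hv => ?_, hle, hdim⟩
  · rw [← hsup] at hv
    obtain ⟨x, hx, y, hy, rfl⟩ := mem_sup.1 hv
    rw [herm_add_right N.card, h y hy, horth x hx.2 u (LinearMap.map_le_range hu), add_zero]
  · rw [← hsup] at hv
    obtain ⟨x, hx, y, hy, rfl⟩ := mem_sup.1 hv
    rw [herm_add_right N.card, h x hx, (herm_eq_zero_comm N.card).1 (horth u hu.2 y (LinearMap.map_le_range hy)),
      add_zero]

theorem geom_kills : ∀ w ∈ LinearMap.range (T - 1), aeval T (∑ j ∈ Finset.range r, (X : F[X]) ^ j) w = 0 := by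
  rintro _ ⟨v, rfl⟩
  exact Inv.geom_apply_sub hTr v

theorem hQ (h : i % 4 = 2) (w : Fin n → F) : (T ^ (q ^ b)) (T w) = w := by
  obtain ⟨k, hk⟩ := N.dvd_succ h
  rw [← Module.End.mul_apply, ← pow_succ, hk, pow_mul, hTr, one_pow, Module.End.one_apply]

/-- Outside the case `i ≡ 2 (mod 4)` irreducible moved subspaces are totally isotropic. -/
theorem not_nd (h : i % 4 ≠ 2) {U : Submodule F (Fin n → F)} (hU : U.map T ≤ U)
    (hUR : U ≤ LinearMap.range (T - 1)) (hUd : finrank F U = b) : ¬ Nd q U := by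
  intro hUn
  classical
  obtain ⟨V, hVU, hVi, hVd, hb0, g, hg, hgf, hgV⟩ := exists_irr N.card N.geom_ne N.geom_deg (geom_kills N hiso hTr)
    hU hUR (fun e => by rw [e, finrank_bot] at hUd; exact N.b_pos.ne hUd)
  rw [Submodule.eq_of_le_of_finrank_eq hVU (hVd.trans hUd.symm)] at hgV
  set σ := conjHom N.card
  have hadj : ∀ (P : F[X]) u v, herm q (aeval T P u) v = herm q u (aeval T ((P.map σ).comp (X ^ (r - 1))) v) := by
    intro P
    induction P using Polynomial.induction_on' with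
    | add P R hP hR =>
      intro u v
      simp only [Polynomial.map_add, add_comp, map_add, LinearMap.add_apply, herm_add_left, herm_add_right N.card, hP, hR]
    | monomial k a =>
      intro u v
      rw [Polynomial.map_monomial, monomial_comp, ← pow_mul, aeval_monomial, map_mul, aeval_C, map_pow, aeval_X]
      simp only [Module.End.mul_apply, Module.algebraMap_end_apply, herm_smul_left, herm_smul_right N.card, σ,
        conjHom_apply, pow_q_pow_q N.card]
      congr 1
      have e : (T ^ k) ((T ^ ((r - 1) * k)) v) = v := by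
        rw [← Module.End.mul_apply, ← pow_add, show k + (r - 1) * k = r * k by
          obtain ⟨s, hs⟩ : ∃ s, r = s + 1 := ⟨r - 1, by have := hr.out.pos; omega⟩
          rw [hs, Nat.add_sub_cancel]; ring, pow_mul, hTr, one_pow, Module.End.one_apply]
      conv_lhs => rw [← e]
      rw [form_pow N.card hiso]
  obtain ⟨x, hx, hx0⟩ := U.exists_mem_ne_zero_of_ne_bot fun e => by rw [e, finrank_bot] at hUd; exact N.b_pos.ne hUd
  have hdvd : g ∣ (g.map σ).comp (X ^ (r - 1)) := by
    by_contra hnd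
    obtain ⟨A, B, hAB⟩ := hg.coprime_iff_not_dvd.2 hnd
    have h0 : aeval T ((g.map σ).comp (X ^ (r - 1))) x = 0 := hUn _ (Inv.aeval_mem hU _ hx) fun v hv => by
      rw [herm_eq_zero_comm N.card, ← hadj, hgV v hv, herm_zero_left]
    have := LinearMap.congr_fun (congrArg (aeval T) hAB) x
    simp only [map_add, map_mul, LinearMap.add_apply, Module.End.mul_apply, hgV x hx, h0, map_zero, add_zero,
      map_one, Module.End.one_apply] at this
    exact hx0 this.symm
  haveI := Fact.mk hg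
  haveI : Module.Finite F (AdjoinRoot g) := (AdjoinRoot.powerBasis hg.ne_zero).finite
  haveI : Finite (AdjoinRoot g) := Module.finite_of_finite F
  set θ := AdjoinRoot.root g
  set ι := algebraMap F (AdjoinRoot g)
  obtain ⟨p, e, hp, -, hcp, hq⟩ := exists_prime_pow N.card
  haveI := hcp
  haveI := Fact.mk hp
  haveI : CharP (AdjoinRoot g) p := charP_of_injective_algebraMap ι.injective p
  have h1 : aeval (θ ^ (r - 1)) (g.map σ) = 0 := by
    have := (AdjoinRoot.mk_eq_zero (f := g)).2 hdvd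
    rwa [← AdjoinRoot.aeval_eq, aeval_comp, map_pow, aeval_X] at this
  have h2 : aeval (θ ^ q) (g.map σ) = 0 := by
    have e0 : eval₂ ι θ g = 0 := by
      have := AdjoinRoot.mk_self (f := g)
      rwa [← AdjoinRoot.aeval_eq, aeval_def] at this
    have := congrArg (iterateFrobenius (AdjoinRoot g) p e) e0
    rw [hom_eval₂, map_zero, iterateFrobenius_def, ← hq] at this
    rw [aeval_def, eval₂_map]
    rwa [show ι.comp σ = (iterateFrobenius (AdjoinRoot g) p e).comp ι from RingHom.ext fun a => by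
      simp [iterateFrobenius_def, ← hq, σ, conjHom_apply]]
  obtain ⟨k, hk⟩ := root_conj ((MulEquiv.irreducible_iff (f := (Polynomial.mapEquiv (RingEquiv.ofBijective σ
    (Finite.injective_iff_bijective.1 σ.injective))).toMulEquiv)).2 hg : Irreducible (g.map σ)) h2 h1
  have hpow : θ ^ r = 1 := by
    obtain ⟨d, hd⟩ : g ∣ X ^ r - 1 := by rw [← geom_sum_mul]; exact dvd_mul_of_dvd_left hgf _
    have h0 := congrArg (AdjoinRoot.mk g) hd
    rw [map_mul, AdjoinRoot.mk_self, zero_mul, map_sub, map_pow, AdjoinRoot.mk_X, map_one, sub_eq_zero] at h0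
    exact h0
  have hθ1 : θ ≠ 1 := by
    intro e1
    obtain ⟨d, hd⟩ := hgf
    have h0 := congrArg (AdjoinRoot.mk g) hd
    rw [map_mul, AdjoinRoot.mk_self, zero_mul, map_sum] at h0
    simp only [map_pow, AdjoinRoot.mk_X, θ] at e1 h0
    simp only [e1, one_pow, Finset.sum_const, Finset.card_range, nsmul_eq_mul, mul_one] at h0
    exact N.hrF (ι.injective (by rw [map_natCast, h0, map_zero]))
  rw [← pow_mul, N.card, ← pow_mul, ← pow_succ', (isOfFinOrder_iff_pow_eq_one.2 ⟨r, hr.out.pos, hpow⟩).pow_eq_pow_iff_modEq, orderOf_eq_prime hpow hθ1,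
    ← ZMod.natCast_eq_natCast_iff, Nat.cast_sub hr.out.one_le, ZMod.natCast_self, Nat.cast_pow, Nat.cast_one,
    zero_sub] at hk
  obtain ⟨h1', h2'⟩ := N.neg_one_iff.1 hk.symm
  have hev : Even i := by
    by_contra ho
    exact h2' ((Nat.coprime_two_right.2 (Nat.not_even_iff_odd.1 ho)).dvd_of_dvd_mul_left h1')
  have h4 : i % 4 = 0 := by rw [Nat.even_iff] at hev; omega
  have := (Nat.dvd_of_mod_eq_zero h4).trans h1'
  omega

/-- Orthogonal pieces of the moved part. -/
theorem moved_pieces {X : Submodule F (Fin n → F)} (hXR : X ≤ LinearMap.range (T - 1)) (hX : X.map T ≤ X)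
    (hXn : Nd q X) :
    ∃ s, finrank F X = s * c ∧ ∀ j ≤ s, ∃ P ≤ X, P.map T ≤ P ∧ Nd q P ∧ finrank F P = j * c := by
  have hz : T ^ r = (1 : F) • 1 := by rw [one_smul, hTr]
  have hRi := Inv.map_range_sub_le (F := F) (f := T)
  refine (fun ⟨s, hs, hP, _⟩ => ⟨s, hs, hP⟩) (exists_pieces N.card hiso N.geom_ne N.geom_deg (geom_kills N hiso hTr)
    N.hrF one_ne_zero hz hRi (c := c) (fun Y hY hYi hYn hY0 => ?_) N.c_pos X hXR hX hXn)
  · by_cases h : i % 4 = 2
    · obtain ⟨hcb, hbo, -⟩ := N.c_two h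
      rw [hcb]
      exact exists_nd N.card hiso hbo hRi (fun w _ => hQ N hiso hTr h w) N.geom_ne N.geom_deg (geom_kills N hiso hTr)
        N.hrF one_ne_zero hz hY hYi hYn hY0
    · obtain ⟨U, hUY, hUi, hUd, hb0, -⟩ := exists_irr N.card N.geom_ne N.geom_deg (geom_kills N hiso hTr) hYi hY hY0
      have hUT := (nd_or_ti N.card hiso N.geom_ne N.geom_deg (geom_kills N hiso hTr) hUi (hUY.trans hY) hUd).resolve_left
        (not_nd N hiso hTr h hUi (hUY.trans hY) hUd)
      obtain ⟨R, hRY, hRi', -, -, hn, hd⟩ := exists_pair N.card hiso N.geom_ne N.geom_deg (geom_kills N hiso hTr) N.hrF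
        one_ne_zero hz hRi hYi hY hYn hUi hUY hUT hUd hb0
      exact ⟨U ⊔ R, sup_le hUY hRY, by rw [Submodule.map_sup]; exact sup_le_sup hUi hRi', hn, hd.trans (N.c_ne h).symm⟩

/-- Totally isotropic invariant subspaces of the moved part. -/
theorem moved_ti {X : Submodule F (Fin n → F)} (hXR : X ≤ LinearMap.range (T - 1)) (hX : X.map T ≤ X)
    (hXn : Nd q X) :
    ∃ J, finrank F X ≤ 2 * (J * b) + (if i % 4 = 2 then r - 1 else 0) ∧
      ∀ j ≤ J, ∃ P ≤ X, P.map T ≤ P ∧ TI q P ∧ finrank F P = j * b := by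
  have hz : T ^ r = (1 : F) • 1 := by rw [one_smul, hTr]
  have hRi := Inv.map_range_sub_le (F := F) (f := T)
  refine exists_ti_mult N.card hiso N.geom_ne N.geom_deg (geom_kills N hiso hTr) N.hrF one_ne_zero hz hRi
    (fun Y hY hYi hYn hlt => ?_) N.b_pos X hXR hX hXn
  by_cases h : i % 4 = 2
  · rw [if_pos h] at hlt
    exact exists_ti_of_lt N.card hiso (N.c_two h).2.1 hRi (fun w _ => hQ N hiso hTr h w) N.geom_ne N.geom_deg
      (geom_kills N hiso hTr) N.hrF one_ne_zero hz Y hY hYi hYn (lt_of_le_of_lt Num.geom_natDegree_le hlt)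
  · obtain ⟨U, hUY, hUi, hUd, -, -⟩ := exists_irr N.card N.geom_ne N.geom_deg (geom_kills N hiso hTr) hYi hY
      (fun e => by rw [e, finrank_bot] at hlt; omega)
    exact ⟨U, hUY, hUi, (nd_or_ti N.card hiso N.geom_ne N.geom_deg (geom_kills N hiso hTr) hUi (hUY.trans hY)
      hUd).resolve_left (not_nd N hiso hTr h hUi (hUY.trans hY) hUd), hUd⟩

theorem dvd_ti {P : Submodule F (Fin n → F)} (hPR : P ≤ LinearMap.range (T - 1)) (hP : P.map T ≤ P) :
    b ∣ finrank F P :=
  dvd_finrank N.card N.geom_ne N.geom_deg (geom_kills N hiso hTr) hP hPR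

end Cfsg.Agent.ClMax99.UnitFix
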