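import Cfsg.Agent.ClMax99.UnitSU
import Cfsg.Agent.Classical10.GUStabilizer

/-!
Nondegenerate subspaces: existence, orbit counting, pairs of totally isotropic eigenspaces (helper99).
-/

set_option autoImplicit false
set_option linter.unusedSectionVars false
set_option linter.style.haveILetI false

namespace Cfsg.Agent.ClMax99.UnitFix

open Module Polynomial Submodule
open Cfsg.Agent.Unitary

variable {F : Type*} [Field F] [Fintype F] {n q : ℕ} (hF : Fintype.card F = q ^ 2)
include hF

/-- An orthonormal basis of a nondegenerate subspace. -/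
theorem exists_orth {X : Submodule F (Fin n → F)} (hX : Nd q X) :
    ∃ b : Fin (finrank F X) → Fin n → F, (∀ i, b i ∈ X) ∧ (∀ i j, herm q (b i) (b j) = if i = j then 1 else 0) ∧
      ∀ v ∈ X, v = ∑ i, herm q v (b i) • b i := by
  classical
  obtain ⟨b, hbX, hb⟩ := Forms.exists_orthonormal_family (σ := conjHom hF) (conjHom_ne_id hF)
    (pow_q_pow_q hF) (hermB hF n) ⟨fun x y => (herm_swap hF y x).symm⟩ (finrank F X) X
    (fun w hw h => hX w hw fun v hv => (herm_eq_zero_comm hF).1 (h v hv)) rfl
  have hbo : ∀ i j, herm q (b i) (b j) = if i = j then 1 else 0 := fun i j => by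
    have := hb j i
    rw [hermB_apply] at this
    simp only [this, eq_comm]
  refine ⟨b, hbX, hbo, fun v hv => ?_⟩
  have hspan : Submodule.span F (Set.range b) = X := by
    refine Submodule.eq_of_le_of_finrank_eq (Submodule.span_le.2 (by rintro _ ⟨i, rfl⟩; exact hbX i)) ?_
    rw [_root_.finrank_span_eq_card, Fintype.card_fin]
    rw [Fintype.linearIndependent_iff]
    intro c hc i
    have := congrArg (fun z => herm q z (b i)) hc
    simpa [herm_sum_left, herm_smul_left, hbo, herm_zero_left] using this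
  rw [← hspan] at hv
  induction hv using Submodule.span_induction with
  | mem z hz =>
    obtain ⟨j, rfl⟩ := hz
    simp [hbo]
  | zero => simp
  | add y z _ _ hy hz =>
    conv_lhs => rw [hy, hz]
    simp [herm_add_left, add_smul, Finset.sum_add_distrib]
  | smul c y _ hy =>
    conv_lhs => rw [hy]
    simp [herm_smul_left, mul_smul, Finset.smul_sum]

/-- Nondegenerate subspaces of every dimension. -/
theorem exists_nd_sub {X : Submodule F (Fin n → F)} (hX : Nd q X) {a : ℕ} (ha : a ≤ finrank F X) :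
    ∃ P ≤ X, Nd q P ∧ finrank F P = a := by
  classical
  obtain ⟨b, hbX, hbo, -⟩ := exists_orth hF hX
  set c : Fin a → Fin n → F := fun i => b (Fin.castLE ha i) with hc
  have hco : ∀ i j, herm q (c i) (c j) = if i = j then 1 else 0 := fun i j => by
    rw [hc, hbo]
    simp [Fin.castLE_inj]
  refine ⟨span F (Set.range c), span_le.2 (by rintro _ ⟨i, rfl⟩; exact hbX _), fun u hu h => ?_, ?_⟩
  · obtain ⟨d, rfl⟩ := (mem_span_range_iff_exists_fun F).1 hu
    refine Finset.sum_eq_zero fun i _ => ?_
    have := h (c i) (subset_span ⟨i, rfl⟩)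
    simp [herm_sum_left, herm_smul_left, hco] at this
    simp [this]
  · rw [_root_.finrank_span_eq_card, Fintype.card_fin]
    rw [Fintype.linearIndependent_iff]
    intro d hd i
    have := congrArg (fun z => herm q z (c i)) hd
    simpa [herm_sum_left, herm_smul_left, hco, herm_zero_left] using this

/-- Transitivity on nondegenerate subspaces of a given dimension. -/
theorem exists_map_nd {W W' : Submodule F (Fin n → F)} (hW : Nd q W) (hW' : Nd q W')
    (hd : finrank F W = finrank F W') : ∃ g : GU n F q, ∀ v ∈ W, g • v ∈ W' := by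
  classical
  obtain ⟨b, hbW, hbo, hb⟩ := exists_orth hF hW
  obtain ⟨b', hbW', hbo', -⟩ := exists_orth hF hW'
  let f : (Fin n → F) →ₗ[F] (Fin n → F) :=
    { toFun := fun v => ∑ i, herm q v (b i) • b' (Fin.cast hd i)
      map_add' := fun x y => by simp [herm_add_left, add_smul, Finset.sum_add_distrib]
      map_smul' := fun c x => by simp [herm_smul_left, mul_smul, Finset.smul_sum] }
  have hf : ∀ u ∈ W, ∀ v ∈ W, herm q (f u) (f v) = herm q u v := by
    intro u hu v hv
    have hl : ∀ i, herm q (b' (Fin.cast hd i)) (f v) = herm q v (b i) ^ q := fun i => by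
      simp only [f, LinearMap.coe_mk, AddHom.coe_mk]
      rw [← hermB_apply hF, map_sum, LinearMap.sum_apply]
      simp [hermB_apply, hbo', conjHom_apply]
    have hr : ∀ i, herm q (b i) v = herm q v (b i) ^ q := fun i => herm_swap hF v (b i)
    rw [show f u = ∑ i, herm q u (b i) • b' (Fin.cast hd i) from rfl]
    rw [herm_sum_left]
    conv_rhs => rw [hb u hu, herm_sum_left]
    refine Finset.sum_congr rfl fun i _ => ?_
    rw [herm_smul_left, herm_smul_left, hl, hr]
  have hinj : ∀ v ∈ W, f v = 0 → v = 0 := fun v hv h0 => hW v hv fun u hu => by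
    rw [← hf v hv u hu, h0, herm_zero_left]
  obtain ⟨g, -, hg⟩ := exists_fixGU_of_map hF ∅ W f (by simp) (by simp) hinj hf
  refine ⟨g, fun v hv => ?_⟩
  rw [hg v hv]
  show (∑ i, herm q v (b i) • b' (Fin.cast hd i)) ∈ W'
  exact sum_mem fun i _ => W'.smul_mem _ (hbW' _)

/-- A prime not dividing `q` and dividing the number of nondegenerate `m`-subspaces. -/
theorem exists_dvd_factor_nd {r : ℕ} [hr : Fact r.Prime] (hrq : ¬ r ∣ q) {m : ℕ} (hmn : m ≤ n)
    (hΩ : r ∣ Nat.card {W : Submodule F (Fin n → F) // finrank F ↥W = m ∧ Nd q W}) :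
    ∃ j, n - m < j ∧ j ≤ n ∧ r ∣ (if Even j then q ^ j - 1 else q ^ j + 1) := by
  classical
  let Ω := {W : Submodule F (Fin n → F) // finrank F ↥W = m ∧ Nd q W}
  let lg : GU n F q → Module.End F (Fin n → F) := fun g => DistribSMul.toLinearMap F (Fin n → F) g
  have hlg : ∀ g, Function.Injective (lg g) := fun g a b e => MulAction.injective g e
  letI : MulAction (GU n F q) Ω :=
    { smul := fun g W => ⟨W.1.map (lg g),
        (Submodule.equivMapOfInjective _ (hlg g) W.1).finrank_eq.symm.trans W.2.1, by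
          rintro _ ⟨u, hu, rfl⟩ h
          have : u = 0 := W.2.2 u hu fun v hv => by
            rw [← herm_smul_GU g u v]; exact h _ ⟨v, hv, rfl⟩
          rw [this, map_zero]⟩
      one_smul := fun W => Subtype.ext (by
        show W.1.map (lg 1) = W.1
        rw [show lg 1 = LinearMap.id from LinearMap.ext fun v => one_smul _ v, Submodule.map_id])
      mul_smul := fun g g' W => Subtype.ext (by
        show W.1.map (lg (g * g')) = (W.1.map (lg g')).map (lg g)
        rw [← Submodule.map_comp]
        exact congrArg (fun φ => W.1.map φ) (LinearMap.ext fun v => mul_smul g g' v)) }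
  obtain ⟨W₁, -, hW1n, hW1d⟩ := exists_nd_sub hF (nd_top hF (n := n)) (a := m)
    (by rw [finrank_top, Module.finrank_fin_fun]; exact hmn)
  let W₀ : Ω := ⟨W₁, hW1d, hW1n⟩
  have horb : MulAction.orbit (GU n F q) W₀ = Set.univ := by
    refine Set.eq_univ_of_forall fun W => ?_
    obtain ⟨g, hg⟩ := exists_map_nd hF hW1n W.2.2 (hW1d.trans W.2.1.symm)
    refine ⟨g, Subtype.ext (Submodule.eq_of_le_of_finrank_eq ?_
      (((Submodule.equivMapOfInjective _ (hlg g) W₁).finrank_eq.symm.trans hW1d).trans W.2.1.symm))⟩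
    rintro _ ⟨v, hv, rfl⟩
    exact hg v hv
  have hcard : Nat.card Ω * Nat.card (MulAction.stabilizer (GU n F q) W₀) = Nat.card (GU n F q) := by
    rw [← Nat.card_univ (α := Ω), ← horb, ← Nat.card_prod]
    exact Nat.card_congr (MulAction.orbitProdStabilizerEquivGroup (GU n F q) W₀)
  have hstab : Nat.card (MulAction.stabilizer (GU n F q) W₀) =
      Nat.card (GU m F q) * Nat.card (GU (n - m) F q) := by
    rw [← Nat.card_prod]
    obtain ⟨E⟩ := Classical10.stabilizer_equiv_prod hF hmn W₁ hW1d hW1n
    refine (Nat.card_congr (Equiv.subtypeEquivRight fun g => ?_)).trans (Nat.card_congr E.toEquiv)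
    refine Iff.trans ?_ (Subgroup.mem_subgroupOf.trans (Forms.mem_stabilizing_submodule_iff _ W₁ _)).symm
    rw [MulAction.mem_stabilizer_iff, Subtype.ext_iff]
    show W₁.map (lg g) = W₁ ↔ _
    constructor
    · intro h w hw
      rw [← h]
      exact ⟨w, hw, rfl⟩
    · intro h
      refine Submodule.eq_of_le_of_finrank_eq ?_ (Submodule.equivMapOfInjective _ (hlg g) W₁).finrank_eq.symm
      rintro _ ⟨w, hw, rfl⟩
      exact h w hw
  rw [hstab, card_GU hF, card_GU hF, card_GU hF] at hcard
  set a : ℕ → ℕ := fun i => if Even i then q ^ (i + 1) + 1 else q ^ (i + 1) - 1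
  obtain ⟨k, rfl⟩ : ∃ k, n = k + m := ⟨n - m, by omega⟩
  rw [Nat.add_sub_cancel, Finset.prod_range_add a k m] at hcard
  set P := ∏ i ∈ Finset.range k, a i
  set R := ∏ i ∈ Finset.range m, a (k + i)
  have hpos : 0 < P := Finset.prod_pos fun i _ => by
    have := Nat.one_lt_pow (n := i + 1) (by omega) (show 1 < q by have := two_le_q hF; omega)
    dsimp only [a]; split_ifs <;> omega
  have h1 : r ∣ q ^ ((k + m) * (k + m - 1) / 2) * R := by
    have h2 : Nat.card Ω * (q ^ (m * (m - 1) / 2) * (∏ i ∈ Finset.range m, a i) * q ^ (k * (k - 1) / 2)) * P =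
        q ^ ((k + m) * (k + m - 1) / 2) * R * P := by
      refine Eq.trans ?_ (hcard.trans (by ring))
      ring
    rw [← Nat.eq_of_mul_eq_mul_right hpos h2]
    exact dvd_mul_of_dvd_left hΩ _
  have hd : r ∣ R := (hr.out.dvd_mul.1 h1).resolve_left fun h => hrq (hr.out.dvd_of_dvd_pow h)
  obtain ⟨j, hj, hj'⟩ := (hr.out.prime.dvd_finsetProd_iff _).1 hd
  rw [Finset.mem_range] at hj
  refine ⟨k + j + 1, by omega, by omega, ?_⟩
  by_cases h : Even (k + j)
  · rw [if_neg (Nat.even_add_one.not.2 (not_not_intro h))]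
    simpa [a, h] using hj'
  · rw [if_pos (Nat.even_add_one.2 h)]
    simpa [a, h] using hj'

/-- Nondegenerate invariant sums inside two complementary totally isotropic subspaces. -/
theorem exists_nd_pair {A B : Submodule F (Fin n → F)} (hAT : TI q A) (hBT : TI q B) (hc : IsCompl A B)
    {a : ℕ} (ha : a ≤ finrank F A) :
    ∃ P R, P ≤ A ∧ R ≤ B ∧ Nd q (P ⊔ R) ∧ finrank F ↥(P ⊔ R) = 2 * a := by
  classical
  let β := Module.finBasis F A
  have hli : LinearIndependent F fun l : Fin a => (β (Fin.castLE ha l) : Fin n → F) :=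
    (β.linearIndependent.comp _ (Fin.castLE_injective ha)).map' A.subtype A.ker_subtype
  set P := span F (Set.range fun l : Fin a => (β (Fin.castLE ha l) : Fin n → F))
  have hPA : P ≤ A := span_le.2 (by rintro _ ⟨l, rfl⟩; exact SetLike.coe_mem _)
  have hPd : finrank F P = a := by rw [finrank_span_eq_card hli, Fintype.card_fin]
  set K := B ⊓ perp q P
  obtain ⟨C, hC⟩ := Submodule.exists_isCompl K
  set R := B ⊓ C
  have hKB : K ≤ B := inf_le_left
  have hsup : K ⊔ R = B := by
    show K ⊔ B ⊓ C = B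
    rw [inf_comm, ← sup_inf_assoc_of_le _ hKB, hC.sup_eq_top, top_inf_eq]
  have hKR : Disjoint K R := hC.disjoint.mono_right inf_le_right
  have hdim := Submodule.finrank_sup_add_finrank_inf_eq K R
  rw [hKR.eq_bot, finrank_bot, add_zero, hsup] at hdim
  have h2 : finrank F B ≤ finrank F ↥(B ⊓ perp q P) + finrank F P := finrank_inf_perp_le hF
  have hRB : R ≤ B := inf_le_left
  have hnd : Nd q (P ⊔ R) := by
    intro x hx h
    obtain ⟨p, hp, s, hs, rfl⟩ := mem_sup.1 hx
    have hs0 : s = 0 := by
      refine Submodule.disjoint_def.1 hKR s ⟨hRB hs, fun u hu => ?_⟩ hs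
      have := h u (mem_sup_left hu)
      rwa [herm_add_left, hAT p (hPA hp) u (hPA hu), zero_add] at this
    subst hs0
    rw [add_zero] at h ⊢
    refine eq_zero_of_herm hF fun y => ?_
    obtain ⟨y1, hy1, y2, hy2, rfl⟩ := mem_sup.1 (hc.sup_eq_top ▸ Submodule.mem_top : y ∈ A ⊔ B)
    rw [← hsup] at hy2
    obtain ⟨k, hk, s, hs, rfl⟩ := mem_sup.1 hy2
    rw [herm_add_right hF, herm_add_right hF, hAT p (hPA hp) y1 hy1, (herm_eq_zero_comm hF).1 (hk.2 p hp),
      h s (mem_sup_right hs)]
    simp
  have hPR := ti_le hF (le_sup_left : P ≤ P ⊔ R) hnd fun u hu v hv => hAT u (hPA hu) v (hPA hv)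
  have hd2 := Submodule.finrank_sup_add_finrank_inf_eq P R
  rw [(hc.disjoint.mono hPA hRB).eq_bot, finrank_bot, add_zero] at hd2
  refine ⟨P, R, hPA, hRB, hnd, ?_⟩
  have : finrank F K = finrank F ↥(B ⊓ perp q P) := rfl
  omega

end Cfsg.Agent.ClMax99.UnitFix
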