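import Cfsg.Agent.ClMax99.UnitElt
import Cfsg.Agent.Classical10.SUParabolic

/-!
Elements of `SU_n(q)` of prime order modulo scalars, and special examples.
-/

set_option autoImplicit false
set_option linter.unusedSectionVars false
set_option linter.style.haveILetI false

namespace Cfsg.Agent.ClMax99.UnitFix

open Module Polynomial Submodule
open Cfsg.Agent.Unitary

variable {F : Type*} [Field F] [Fintype F] {n q : ℕ} (hF : Fintype.card F = q ^ 2)

/-- The endomorphism of a member of `SL_n`. -/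
noncomputable def slin (x : Matrix.SpecialLinearGroup (Fin n) F) : Module.End F (Fin n → F) :=
  Matrix.toLin' (x : Matrix (Fin n) (Fin n) F)

omit hF in
theorem mem_SU_iff {x : Matrix.SpecialLinearGroup (Fin n) F} :
    x ∈ Cfsg.SU n F q ↔ ∀ u v, herm q (slin x u) (slin x v) = herm q u v := by
  simp only [slin, Matrix.toLin'_apply]
  rfl

theorem scalar_pow {x : Matrix.SpecialLinearGroup (Fin n) F} {r : ℕ} {z : F}
    (h : ((x ^ r : Matrix.SpecialLinearGroup (Fin n) F) : Matrix (Fin n) (Fin n) F) = z • 1) :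
    slin x ^ r = z • 1 ∧ (x : Matrix (Fin n) (Fin n) F) ^ r = z • 1 := by
  rw [Matrix.SpecialLinearGroup.coe_pow] at h
  refine ⟨?_, h⟩
  rw [slin, ← Matrix.toLin'_pow, h, map_smul, Matrix.toLin'_one]; rfl

theorem not_scalar (hn : 0 < n) {x : Matrix.SpecialLinearGroup (Fin n) F} {T : Module.End F (Fin n → F)}
    (hx : slin x = T) (hT : ∀ c : F, T ≠ c • 1) (c : F) : (x : Matrix (Fin n) (Fin n) F) ≠ c • 1 := fun e =>
  hT c (by rw [← hx, slin, e, map_smul, Matrix.toLin'_one]; rfl)

include hF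

theorem exists_SU {T : Module.End F (Fin n → F)} (hiso : ∀ u v, herm q (T u) (T v) = herm q u v)
    (hdet : LinearMap.det T = 1) : ∃ x : Matrix.SpecialLinearGroup (Fin n) F, x ∈ Cfsg.SU n F q ∧ slin x = T := by
  refine ⟨⟨LinearMap.toMatrix' T, by rw [LinearMap.det_toMatrix', hdet]⟩, ?_, ?_⟩
  · refine mem_SU_iff.2 ?_
    simpa [slin] using hiso
  · simp [slin]

theorem det_norm_one {T : Module.End F (Fin n → F)} (hiso : ∀ u v, herm q (T u) (T v) = herm q u v) :
    LinearMap.det T ^ (q + 1) = 1 := by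
  have h := det_norm hF (mkGU hF (LinearMap.toMatrix' T) fun u v => by
    rw [LinearMap.toMatrix'_mulVec, LinearMap.toMatrix'_mulVec]; exact hiso u v)
  rwa [coe_detGU, show ((mkGU hF (LinearMap.toMatrix' T) _ : GU n F q) : GL (Fin n) F).val = LinearMap.toMatrix' T from rfl,
    LinearMap.det_toMatrix'] at h

theorem scalar_norm (hn : 0 < n) {T : Module.End F (Fin n → F)} (hiso : ∀ u v, herm q (T u) (T v) = herm q u v)
    {r : ℕ} {z : F} (hT : T ^ r = z • 1) : z ^ (q + 1) = 1 := by
  have h := form_pow hF hiso r (eI ⟨0, hn⟩) (eI ⟨0, hn⟩)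
  rw [hT] at h
  simp only [LinearMap.smul_apply, Module.End.one_apply, herm_smul_left, herm_smul_right hF, herm_eI_eI hF,
    if_true, mul_one] at h
  rwa [pow_succ]

theorem smul_iso {T : Module.End F (Fin n → F)} (hiso : ∀ u v, herm q (T u) (T v) = herm q u v) {w : F}
    (hw : w ^ (q + 1) = 1) (u v : Fin n → F) : herm q ((w • T) u) ((w • T) v) = herm q u v := by
  simp only [LinearMap.smul_apply, herm_smul_left, herm_smul_right hF, hiso, ← mul_assoc]
  rw [← pow_succ, hw, one_mul]

section Prime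

variable {r : ℕ} [hr : Fact r.Prime]

omit hF in
theorem card_sub_one (hF : Fintype.card F = q ^ 2) : Fintype.card F - 1 = (q + 1) * (q - 1) := by
  rw [hF, ← Nat.sq_sub_sq, one_pow]

/-- An `r`th root of norm one. -/
theorem exists_root {z : F} (hz : z ^ (q + 1) = 1) (h : r ≠ 2)
    (hp : r ∣ q + 1 → ∃ w, w ^ r = z) : ∃ w, w ^ r = z ∧ w ^ (q + 1) = 1 := by
  by_cases hd : r ∣ q + 1
  · obtain ⟨w, hw⟩ := hp hd
    refine ⟨w, hw, ?_⟩
    have hz0 : z ≠ 0 := fun e => by rw [e, zero_pow (by omega)] at hz; exact zero_ne_one hz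
    have hw0 : w ≠ 0 := fun e => hz0 (by rw [← hw, e, zero_pow hr.out.ne_zero])
    have h1 : (w ^ (q + 1)) ^ r = 1 := by rw [← pow_mul, mul_comm, pow_mul, hw, hz]
    have h2 : (w ^ (q + 1)) ^ (q - 1) = 1 := by
      rw [← pow_mul, ← card_sub_one hF]
      exact FiniteField.pow_card_sub_one_eq_one w hw0
    have hco : Nat.Coprime r (q - 1) := hr.out.coprime_iff_not_dvd.2 fun h' => h ((Nat.prime_dvd_prime_iff_eq hr.out
      Nat.prime_two).1 (by
        have := Nat.dvd_sub hd h'
        rwa [show q + 1 - (q - 1) = 2 by have := two_le_q hF; omega] at this))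
    have := pow_gcd_eq_one.mpr ⟨h1, h2⟩
    rwa [hco.gcd_eq_one, pow_one] at this
  · obtain ⟨s, hs⟩ := Nat.exists_mul_mod_eq_one_of_coprime (hr.out.coprime_iff_not_dvd.2 hd)
      (by have := two_le_q hF; omega)
    refine ⟨z ^ s, ?_, by rw [← pow_mul, mul_comm, pow_mul, hz, one_pow]⟩
    rw [← pow_mul, mul_comm, pow_eq_pow_mod _ hz, hs.2, pow_one]

/-- Normalising an element with scalar power. -/
theorem normalise (hn : 0 < n) {T : Module.End F (Fin n → F)} (hiso : ∀ u v, herm q (T u) (T v) = herm q u v)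
    {z w : F} (hT : T ^ r = z • 1) (hw : w ^ r = z) (hwq : w ^ (q + 1) = 1) :
    (∀ u v, herm q ((w⁻¹ • T) u) ((w⁻¹ • T) v) = herm q u v) ∧ (w⁻¹ • T) ^ r = 1 ∧ w ≠ 0 := by
  have hw0 : w ≠ 0 := fun e => by rw [e, zero_pow (by omega)] at hwq; exact zero_ne_one hwq
  refine ⟨smul_iso hF hiso (by rw [inv_pow, hwq, inv_one]), ?_, hw0⟩
  rw [_root_.smul_pow, hT, smul_smul, inv_pow, hw, inv_mul_cancel₀ (hw ▸ pow_ne_zero r hw0), one_smul]

theorem det_eq_one (hr1 : ¬ r ∣ q + 1) {T : Module.End F (Fin n → F)}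
    (hiso : ∀ u v, herm q (T u) (T v) = herm q u v) (hTr : T ^ r = 1) : LinearMap.det T = 1 := by
  have h1 : LinearMap.det T ^ r = 1 := by rw [← map_pow, hTr, map_one]
  have := pow_gcd_eq_one.mpr ⟨h1, det_norm_one hF hiso⟩
  rwa [(hr.out.coprime_iff_not_dvd.2 hr1).gcd_eq_one, pow_one] at this

open Fin.NatCast in
/-- A monomial element with scalar `r`th power. -/
theorem exists_cycle {z : F} (hz : z ^ (q + 1) = 1) : ∃ y : GU r F q, glin y ^ r = z • 1 := by
  classical
  haveI : NeZero r := ⟨hr.out.ne_zero⟩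
  let lam : Fin r → F := Function.update (fun _ => 1) 0 z
  have hlam : ∀ i, lam i ^ (q + 1) = 1 := fun i => by
    by_cases h : i = 0
    · subst h; simp [lam, hz]
    · simp [lam, Function.update_of_ne h]
  let T : Module.End F (Fin r → F) :=
    { toFun := fun v i => lam i * v (i + 1)
      map_add' := fun u v => funext fun i => mul_add _ _ _
      map_smul' := fun a v => funext fun i => by simp [mul_left_comm] }
  have hiso : ∀ u v, herm q (T u) (T v) = herm q u v := fun u v => by
    simp only [herm, hermForm, T, LinearMap.coe_mk, AddHom.coe_mk]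
    refine Fintype.sum_equiv (Equiv.addRight 1) _ _ fun i => ?_
    rw [mul_pow, mul_mul_mul_comm, ← pow_succ', hlam, one_mul]
    rfl
  have hpow : ∀ (j : ℕ) v i, (T ^ j) v i = (∏ l ∈ Finset.range j, lam (i + (l : Fin r))) * v (i + (j : Fin r)) := by
    intro j
    induction j with
    | zero => simp
    | succ j ih =>
      intro v i
      rw [pow_succ, Module.End.mul_apply, ih, Finset.prod_range_succ, mul_assoc, Nat.cast_succ, ← add_assoc]
      rfl
  refine ⟨mkGU hF (LinearMap.toMatrix' T) fun u v => by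
    rw [LinearMap.toMatrix'_mulVec, LinearMap.toMatrix'_mulVec]; exact hiso u v, ?_⟩
  rw [show glin (mkGU hF (LinearMap.toMatrix' T) _) = T from Matrix.toLin'_toMatrix' T]
  refine LinearMap.ext fun v => funext fun i => ?_
  rw [hpow, ← Fin.prod_univ_eq_prod_range (fun l => lam (i + (l : Fin r))) r, Fin.natCast_self, add_zero]
  have : ∏ l : Fin r, lam (i + ((l : ℕ) : Fin r)) = z := by
    rw [Fintype.prod_equiv (Equiv.addLeft i) _ lam fun l => by simp]
    rw [Finset.prod_update_of_mem (Finset.mem_univ _)]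
    simp
  rw [this]; rfl

/-- An element of `SU` whose invariant subspaces have dimensions divisible by `r`. -/
theorem exists_nonpower (hr2 : r ≠ 2) (hd : r ∣ q + 1) (hn : 0 < n)
    (hv : padicValNat r (q + 1) < padicValNat r n) :
    ∃ x : Matrix.SpecialLinearGroup (Fin n) F, x ∈ Cfsg.SU n F q ∧
      (∃ z : F, ((x ^ r : Matrix.SpecialLinearGroup (Fin n) F) : Matrix (Fin n) (Fin n) F) = z • 1) ∧
      (∀ c : F, (x : Matrix (Fin n) (Fin n) F) ≠ c • 1) ∧
      ∀ P : Submodule F (Fin n → F), P.map (slin x) ≤ P → r ∣ finrank F P := by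
  classical
  set v := padicValNat r (q + 1) with hvdef
  have hvd : r ^ v ∣ q + 1 := pow_padicValNat_dvd
  have hnd : r ^ (v + 1) ∣ n := (padicValNat_dvd_iff_le (by omega)).2 hv
  obtain ⟨k, hk⟩ : r ∣ n := dvd_trans (dvd_pow_self r (by omega)) hnd
  obtain ⟨g, hg⟩ := IsCyclic.exists_ofOrder_eq_natCard (α := Fˣ)
  rw [Nat.card_units, Nat.card_eq_fintype_card, card_sub_one hF] at hg
  obtain ⟨M, hM⟩ : r ^ v ∣ (q + 1) * (q - 1) := hvd.mul_right _
  have hM0 : M ≠ 0 := fun e => by
    rw [e, mul_zero, mul_eq_zero] at hM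
    have := two_le_q hF
    omega
  set z : F := ((g ^ M : Fˣ) : F) with hz
  have hord : orderOf z = r ^ v := by
    rw [hz, orderOf_units, orderOf_pow' _ hM0, hg, hM, Nat.gcd_mul_left_left, Nat.mul_div_cancel _ (Nat.pos_of_ne_zero hM0)]
  have hzq : z ^ (q + 1) = 1 := orderOf_dvd_iff_pow_eq_one.1 (hord ▸ hvd)
  have hzk : z ^ k = 1 := orderOf_dvd_iff_pow_eq_one.1 (by
    rw [hord]
    exact Nat.dvd_of_mul_dvd_mul_left hr.out.pos (by rwa [← pow_succ', ← hk]))
  have hnp : ∀ w : F, w ^ r ≠ z := fun w hw => by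
    obtain ⟨w', hw', hwq⟩ := exists_root hF hzq hr2 fun _ => ⟨w, hw⟩
    have h1 : orderOf w' ∣ q + 1 := orderOf_dvd_of_pow_eq_one hwq
    have hv0 : v ≠ 0 := by
      intro h0
      have := one_le_padicValNat_of_dvd (by omega : q + 1 ≠ 0) hd
      omega
    have hord' : orderOf w' = r ^ (v + 1) := by
      refine orderOf_eq_prime_pow (fun h => ?_) (by rw [pow_succ', pow_mul, hw', ← hord, pow_orderOf_eq_one])
      obtain ⟨v', hv'⟩ : ∃ v', v = v' + 1 := ⟨v - 1, by omega⟩
      rw [hv', pow_succ', pow_mul, hw'] at h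
      have := orderOf_dvd_of_pow_eq_one h
      rw [hord, hv'] at this
      have := Nat.le_of_dvd (pow_pos hr.out.pos _) this
      have := Nat.pow_lt_pow_right hr.out.one_lt (show v' < v' + 1 by omega)
      omega
    rw [hord'] at h1
    have := (padicValNat_dvd_iff_le (by omega)).1 h1
    omega
  obtain ⟨y, hy⟩ := exists_cycle hF hzq (r := r)
  obtain ⟨T, E, hiso, hT, -⟩ := exists_sum hF (k := 0) (show n = k * r + 0 by rw [hk]; ring) fun _ : Fin k => y
  have hTr : T ^ r = z • 1 := by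
    refine LinearMap.ext fun u => E.injective ?_
    have := sum_aeval hT ((X : F[X]) ^ r) u
    rw [map_pow, aeval_X] at this
    rw [this, LinearMap.smul_apply, Module.End.one_apply, map_smul]
    exact Prod.ext (funext fun l => by simp [hy]) (Subsingleton.elim _ _)
  have hA : LinearMap.toMatrix' T ^ r = z • 1 := by
    have := congrArg LinearMap.toMatrixAlgEquiv' hTr
    rw [map_pow, map_smul, map_one] at this
    exact this
  obtain ⟨k', hk', hdk⟩ := Inv.det_of_nonpower hnp hA
  have hdet : LinearMap.det T = 1 := by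
    rw [← LinearMap.det_toMatrix', hdk, show k' = k from Nat.eq_of_mul_eq_mul_left hr.out.pos (hk'.symm.trans hk),
      Even.neg_one_pow (Nat.even_add_one.2 (Nat.not_even_iff_odd.2 (hr.out.odd_of_ne_two hr2))), one_mul, hzk]
  obtain ⟨x, hx, hxT⟩ := exists_SU hF hiso hdet
  have hxm : (x : Matrix (Fin n) (Fin n) F) = LinearMap.toMatrix' T := by rw [← hxT, slin, LinearMap.toMatrix'_toLin']
  refine ⟨x, hx, ⟨z, by rw [Matrix.SpecialLinearGroup.coe_pow, hxm, hA]⟩, fun c hc => ?_, fun P hP => ?_⟩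
  · rw [← hxm, hc, _root_.smul_pow, one_pow] at hA
    haveI : Nonempty (Fin n) := ⟨⟨0, hn⟩⟩
    exact hnp c (smul_left_injective F (one_ne_zero : (1 : Matrix (Fin n) (Fin n) F) ≠ 0) hA)
  · rw [hxT] at hP
    exact Inv.dvd_finrank_of_nonpower hnp hTr hP

end Prime

end Cfsg.Agent.ClMax99.UnitFix
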