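import Cfsg.Agent.ClMax99.UnitNd
import Cfsg.Agent.ClMax99.JordanType

/-!
Unipotent unitary maps: orthogonal cyclic blocks and realisation of every Jordan type (helper99).
-/

set_option autoImplicit false
set_option linter.unusedSectionVars false
set_option linter.style.haveILetI false

namespace Cfsg.Agent.ClMax99.UnitFix

open Module Polynomial Submodule
open Cfsg.Agent.Unitary

variable {F : Type*} [Field F] [Fintype F] {n q : ℕ} (hF : Fintype.card F = q ^ 2)

/-- A map of `p`th power one is unipotent. -/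
theorem sub_one_pow_char {p : ℕ} [Fact p.Prime] [CharP F p] {V : Type*} [AddCommGroup V] [Module F V]
    {T : Module.End F V} (hT : T ^ p = 1) : (T - 1) ^ p = 0 := by
  have := congrArg (aeval T) (sub_pow_char (X : F[X]) 1 (p := p))
  simpa [hT] using this

include hF

theorem exists_trace_ne : ∃ lam : F, lam + lam ^ q ≠ 0 := by
  by_contra hcon
  push Not at hcon
  have h1 := hcon 1
  rw [one_pow] at h1
  refine conjHom_ne_id hF (RingHom.ext fun a => ?_)
  rw [conjHom_apply, RingHom.id_apply]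
  linear_combination hcon a - a * h1

section Blocks

variable {T : Module.End F (Fin n → F)} (hiso : ∀ u v, herm q (T u) (T v) = herm q u v)
  {p : ℕ} [hp : Fact p.Prime] (hTp : T ^ p = 1)
include hiso hTp

theorem step_form (u v : Fin n → F) :
    herm q ((T - 1) u) v = -herm q u ((T - 1) ((T ^ (p - 1)) v)) := by
  have hv : T ((T ^ (p - 1)) v) = v := by
    rw [← Module.End.mul_apply, ← pow_succ', Nat.sub_add_cancel hp.out.one_le, hTp, Module.End.one_apply]
  have h1 : herm q (T u) v = herm q u ((T ^ (p - 1)) v) := by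
    conv_lhs => rw [← hv]
    rw [hiso]
  simp only [LinearMap.sub_apply, Module.End.one_apply, herm_sub_left, herm_sub_right hF, hv, h1]
  ring

/-- Moving powers of `T - 1` across the form. -/
theorem form_shift : ∀ (i j : ℕ) (u v : Fin n → F), ((T - 1) ^ (i + j + 1)) v = 0 →
    herm q (((T - 1) ^ i) u) (((T - 1) ^ j) v) = (-1) ^ i * herm q u (((T - 1) ^ (i + j)) v) := by
  intro i
  induction i with
  | zero => intro j u v _; simp
  | succ i ih =>
    intro j u v hv
    have hcomm : ∀ (k : ℕ) (x : Fin n → F), ((T - 1) ^ k) ((T ^ (p - 1)) x) = (T ^ (p - 1)) (((T - 1) ^ k) x) :=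
      fun k x => by
        rw [← Module.End.mul_apply, ← Module.End.mul_apply]
        exact LinearMap.congr_fun ((((Commute.refl T).sub_left (Commute.one_left T)).pow_pow k (p - 1)).eq) x
    have hfix : T (((T - 1) ^ (i + 1 + j)) v) = ((T - 1) ^ (i + 1 + j)) v := by
      rw [pow_succ', Module.End.mul_apply, LinearMap.sub_apply, Module.End.one_apply, sub_eq_zero] at hv
      exact hv
    have hfix' : ∀ k : ℕ, (T ^ k) (((T - 1) ^ (i + 1 + j)) v) = ((T - 1) ^ (i + 1 + j)) v := by
      intro k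
      induction k with
      | zero => simp
      | succ k ihk => rw [pow_succ, Module.End.mul_apply, hfix, ihk]
    have e1 : (T - 1) ((T ^ (p - 1)) (((T - 1) ^ j) v)) = ((T - 1) ^ (j + 1)) ((T ^ (p - 1)) v) := by
      rw [← hcomm, pow_succ', Module.End.mul_apply]
    have h0 : ((T - 1) ^ (i + (j + 1) + 1)) ((T ^ (p - 1)) v) = 0 := by
      rw [hcomm, show i + (j + 1) + 1 = i + 1 + j + 1 by omega, hv, map_zero]
    rw [pow_succ', Module.End.mul_apply, step_form hF hiso hTp, e1, ih (j + 1) u _ h0, hcomm,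
      show i + (j + 1) = i + 1 + j by omega, hfix', pow_succ']
    ring

/-- A nondegenerate cyclic block of maximal length. -/
theorem exists_cyclic {X : Submodule F (Fin n → F)} (hX : X.map T ≤ X) (hXn : Nd q X) {e : ℕ}
    (he : ∀ v ∈ X, ((T - 1) ^ (e + 1)) v = 0) (he' : ∃ v ∈ X, ((T - 1) ^ e) v ≠ 0) :
    ∃ U ≤ X, U.map T ≤ U ∧ Nd q U ∧ finrank F U = e + 1 := by
  classical
  set N := T - 1 with hN
  have hNX : ∀ (k : ℕ), ∀ v ∈ X, (N ^ k) v ∈ X := by
    intro k
    induction k with
    | zero => simp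
    | succ k ih =>
      intro v hv
      rw [pow_succ', Module.End.mul_apply, hN, LinearMap.sub_apply, Module.End.one_apply]
      exact X.sub_mem (hX ⟨_, ih v hv, rfl⟩) (ih v hv)
  obtain ⟨v, hvX, hv⟩ : ∃ v ∈ X, herm q v ((N ^ e) v) ≠ 0 := by
    by_contra hcon
    push Not at hcon
    obtain ⟨v₀, hv₀, hv₀e⟩ := he'
    refine hv₀e (hXn _ (hNX e v₀ hv₀) fun u hu => ?_)
    obtain ⟨a, ha⟩ : ∃ a : F, a ^ q ≠ a := by
      by_contra h
      push Not at h
      exact conjHom_ne_id hF (RingHom.ext fun a => by rw [conjHom_apply, RingHom.id_apply, h])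
    have hpol : ∀ x ∈ X, ∀ y ∈ X, herm q x ((N ^ e) y) + herm q y ((N ^ e) x) = 0 := fun x hx y hy => by
      have := hcon (x + y) (X.add_mem hx hy)
      rw [map_add, herm_add_left, herm_add_right hF, herm_add_right hF, hcon x hx, hcon y hy] at this
      linear_combination this
    have h1 := hpol u hu v₀ hv₀
    have h2 := hpol (a • u) (X.smul_mem a hu) v₀ hv₀
    rw [map_smul, herm_smul_left, herm_smul_right hF] at h2
    have h3 : (a - a ^ q) * herm q u ((N ^ e) v₀) = 0 := by linear_combination h2 - a ^ q * h1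
    rw [herm_eq_zero_comm hF]
    exact (mul_eq_zero.1 h3).resolve_left (sub_ne_zero.2 (Ne.symm ha))
  let L : (Fin (e + 1) → F) →ₗ[F] (Fin n → F) :=
    { toFun := fun a => ∑ l, a l • (N ^ (l : ℕ)) v
      map_add' := fun a b => by simp [add_smul, Finset.sum_add_distrib]
      map_smul' := fun c a => by simp [mul_smul, Finset.smul_sum] }
  have hLv : ∀ k, (N ^ k) v ∈ LinearMap.range L := fun k => by
    by_cases hk : k < e + 1
    · refine ⟨Pi.single ⟨k, hk⟩ 1, ?_⟩
      show (∑ l, (Pi.single (⟨k, hk⟩ : Fin (e + 1)) (1 : F) : Fin (e + 1) → F) l • (N ^ (l : ℕ)) v) = _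
      rw [Finset.sum_eq_single_of_mem (⟨k, hk⟩ : Fin (e + 1)) (Finset.mem_univ _) fun l _ hl => by simp [hl]]
      simp
    · obtain ⟨d, rfl⟩ : ∃ d, k = d + (e + 1) := ⟨k - (e + 1), by omega⟩
      rw [pow_add, Module.End.mul_apply, he v hvX, map_zero]
      exact zero_mem _
  have hkey : ∀ a : Fin (e + 1) → F, (∀ y ∈ LinearMap.range L, herm q (L a) y = 0) → a = 0 := by
    intro a ha
    by_contra hne
    obtain ⟨l₁, hl₁⟩ := Function.ne_iff.1 hne
    obtain ⟨j, hj, hmin⟩ := Finset.exists_min_image (Finset.univ.filter fun l => a l ≠ 0) (fun l => (l : ℕ))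
      ⟨l₁, by simpa using hl₁⟩
    have hj' : a j ≠ 0 := by simpa using hj
    have h := ha _ (hLv (e - (j : ℕ)))
    change herm q (∑ l, a l • (N ^ (l : ℕ)) v) ((N ^ (e - (j : ℕ))) v) = 0 at h
    rw [herm_sum_left, Finset.sum_eq_single_of_mem j (Finset.mem_univ _)] at h
    · rw [herm_smul_left, form_shift hF hiso hTp (j : ℕ) _ v v (by
        rw [show (j : ℕ) + (e - (j : ℕ)) + 1 = e + 1 by omega]; exact he v hvX),
        show (j : ℕ) + (e - (j : ℕ)) = e by omega] at h
      exact mul_ne_zero hj' (mul_ne_zero (pow_ne_zero _ (neg_ne_zero.2 one_ne_zero)) hv) h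
    · intro l _ hl
      by_cases h0 : a l = 0
      · rw [h0, zero_smul, herm_zero_left]
      have hle := hmin l (by simpa using h0)
      have hlt : (j : ℕ) < (l : ℕ) := lt_of_le_of_ne hle fun h' => hl (Fin.ext h'.symm)
      have hz : ∀ d, e + 1 ≤ d → (N ^ d) v = 0 := fun d hd => by
        obtain ⟨d', rfl⟩ : ∃ d', d = d' + (e + 1) := ⟨d - (e + 1), by omega⟩
        rw [pow_add, Module.End.mul_apply, he v hvX, map_zero]
      rw [herm_smul_left, form_shift hF hiso hTp (l : ℕ) _ v v (hz _ (by omega)), hz _ (by omega),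
        herm_zero_right hF, mul_zero, mul_zero]
  refine ⟨LinearMap.range L, ?_, ?_, ?_, ?_⟩
  · rintro _ ⟨a, rfl⟩
    show (∑ l, a l • (N ^ (l : ℕ)) v) ∈ X
    exact X.sum_mem fun l _ => X.smul_mem _ (hNX _ v hvX)
  · rintro _ ⟨_, ⟨a, rfl⟩, rfl⟩
    show T (∑ l, a l • (N ^ (l : ℕ)) v) ∈ _
    rw [map_sum]
    refine sum_mem fun l _ => ?_
    rw [map_smul]
    refine Submodule.smul_mem _ _ ?_
    have : T ((N ^ (l : ℕ)) v) = (N ^ ((l : ℕ) + 1)) v + (N ^ (l : ℕ)) v := by
      rw [pow_succ', Module.End.mul_apply, hN, LinearMap.sub_apply, Module.End.one_apply]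
      abel
    rw [this]
    exact add_mem (hLv _) (hLv _)
  · rintro _ ⟨a, rfl⟩ h
    rw [hkey a h, map_zero]
  · rw [LinearMap.finrank_range_of_inj, Module.finrank_fin_fun]
    rw [← LinearMap.ker_eq_bot, LinearMap.ker_eq_bot']
    intro a ha
    exact hkey a fun y _ => by rw [ha, herm_zero_left]

/-- An orthogonal decomposition into cyclic blocks. -/
theorem exists_blocks (hN : (T - 1) ^ p = 0) : ∀ X : Submodule F (Fin n → F), X.map T ≤ X → Nd q X →
    ∃ μ : Multiset ℕ, (∀ a ∈ μ, 0 < a ∧ a ≤ p) ∧ μ.sum = finrank F X ∧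
      ∀ ν ≤ μ, ∃ W ≤ X, W.map T ≤ W ∧ Nd q W ∧ finrank F W = ν.sum := by
  classical
  intro X
  induction hd : finrank F X using Nat.strong_induction_on generalizing X with
  | _ d ih =>
    intro hX hXn
    by_cases hX0 : X = ⊥
    · refine ⟨0, by simp, by rw [← hd, hX0, finrank_bot]; simp, fun ν hν => ?_⟩
      rw [Multiset.le_zero.1 hν]
      exact ⟨⊥, bot_le, by simp, nd_bot hF, by simp⟩
    have hex : ∃ k : ℕ, ∀ v ∈ X, ((T - 1) ^ k) v = 0 := ⟨p, fun v _ => by rw [hN]; rfl⟩
    have hk0 : Nat.find hex ≠ 0 := fun h0 => hX0 ((Submodule.eq_bot_iff X).2 fun v hv => by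
      have := Nat.find_spec hex v hv
      rwa [h0, pow_zero, Module.End.one_apply] at this)
    obtain ⟨e, he⟩ : ∃ e, Nat.find hex = e + 1 := ⟨Nat.find hex - 1, by omega⟩
    have hep : e + 1 ≤ p := he ▸ Nat.find_le fun v _ => by rw [hN]; rfl
    have he' : ∃ v ∈ X, ((T - 1) ^ e) v ≠ 0 := by
      by_contra h
      push Not at h
      have := Nat.find_le (h := hex) h
      omega
    obtain ⟨U, hUX, hUi, hUn, hUd⟩ := exists_cyclic hF hiso hTp hX hXn (he ▸ Nat.find_spec hex) he'
    obtain ⟨-, -, hn', hfr⟩ := split hF hUX hUn hXn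
    obtain ⟨μ, hμ, hμs, hμW⟩ := ih (finrank F ↥(X ⊓ perp q U)) (by omega) (X ⊓ perp q U) rfl
      (map_inf_perp_le hF hiso hUi hX) hn'
    refine ⟨(e + 1) ::ₘ μ, ?_, by rw [Multiset.sum_cons]; omega, fun ν hν => ?_⟩
    · intro a ha
      rcases Multiset.mem_cons.1 ha with rfl | ha
      exacts [⟨by omega, hep⟩, hμ a ha]
    by_cases hmem : e + 1 ∈ ν
    · obtain ⟨W, hWX, hWi, hWn, hWd⟩ := hμW (ν.erase (e + 1)) (Multiset.erase_le_iff_le_cons.2 hν)
      obtain ⟨hn2, hd2⟩ := nd_sup hF hUn hWn (hWX.trans inf_le_right)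
      refine ⟨U ⊔ W, sup_le hUX (hWX.trans inf_le_left), by rw [Submodule.map_sup]; exact sup_le_sup hUi hWi, hn2, ?_⟩
      rw [hd2, hUd, hWd, ← Multiset.sum_cons, Multiset.cons_erase hmem]
    · obtain ⟨W, hWX, hWi, hWn, hWd⟩ := hμW ν ((Multiset.le_cons_of_notMem hmem).1 hν)
      exact ⟨W, hWX.trans inf_le_left, hWi, hWn, hWd⟩

end Blocks

/-- A single regular unipotent block. -/
theorem exists_block {e p : ℕ} (hep : e + 1 ≤ p) : ∃ T : Module.End F (Fin (e + 1) → F),
    (∀ u v, herm q (T u) (T v) = herm q u v) ∧ (T - 1) ^ (e + 1) = 0 ∧ (T - 1) ^ e ≠ 0 := by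
  classical
  obtain ⟨lam, hlam⟩ := exists_trace_ne hF
  obtain ⟨ε, hε, hε0⟩ : ∃ ε : F, ε ^ q = -ε ∧ ε ≠ 0 := by
    obtain ⟨a, ha⟩ : ∃ a : F, a ^ q ≠ a := by
      by_contra h
      push Not at h
      exact conjHom_ne_id hF (RingHom.ext fun a => by rw [conjHom_apply, RingHom.id_apply, h])
    refine ⟨a - a ^ q, ?_, sub_ne_zero.2 (Ne.symm ha)⟩
    have := map_sub (conjHom hF) a (a ^ q)
    simp only [conjHom_apply, pow_q_pow_q hF] at this
    rw [this]; ring
  let N : Module.End F (Fin (e + 1) → F) :=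
    { toFun := fun u => Fin.cons 0 fun j : Fin e => ε * u j.castSucc
      map_add' := fun u v => funext fun l => by cases l using Fin.cases <;> simp [mul_add]
      map_smul' := fun c u => funext fun l => by cases l using Fin.cases <;> simp [mul_left_comm] }
  let H : (Fin (e + 1) → F) → (Fin (e + 1) → F) → F := fun u v => ∑ l, u l * v l.rev ^ q
  have hskew : ∀ u v, H (N u) v = -H u (N v) := fun u v => by
    have e1 : H (N u) v = ∑ j : Fin e, ε * u j.castSucc * v (Fin.rev j.succ) ^ q := by
      simp [H, N, Fin.sum_univ_succ]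
    have e2 : H u (N v) = ∑ j : Fin e, u j.castSucc * (ε * v (Fin.rev j.succ)) ^ q := by
      simp [H, N, Fin.sum_univ_castSucc, Fin.rev_castSucc, Fin.rev_succ, zero_pow (q_pos hF).ne']
    rw [e1, e2, ← Finset.sum_neg_distrib]
    refine Finset.sum_congr rfl fun j _ => ?_
    rw [mul_pow, hε]; ring
  have hN0 : ∀ (j : ℕ) (u : (Fin (e + 1) → F)) (l : Fin (e + 1)), (l : ℕ) < j → (N ^ j) u l = 0 := by
    intro j
    induction j with
    | zero => intro u l hl; exact absurd hl (Nat.not_lt_zero _)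
    | succ j ih =>
      intro u l hl
      rw [pow_succ', Module.End.mul_apply]
      cases l using Fin.cases with
      | zero => simp [N]
      | succ l => simp [N, ih u l.castSucc (by simpa using hl)]
  have hNe : N ^ (e + 1) = 0 := LinearMap.ext fun u => funext fun l => hN0 _ u l l.2
  have hNn : ∀ (j : ℕ) (hj : j < e + 1), (N ^ j) (Pi.single 0 1) ⟨j, hj⟩ = ε ^ j := by
    intro j
    induction j with
    | zero => intro hj; simp
    | succ j ih =>
      intro hj
      rw [pow_succ', Module.End.mul_apply, show (⟨j + 1, hj⟩ : Fin (e + 1)) = Fin.succ ⟨j, by omega⟩ from rfl]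
      simp only [N, LinearMap.coe_mk, AddHom.coe_mk, Fin.cons_succ]
      rw [ show (⟨j, by omega⟩ : Fin e).castSucc = (⟨j, by omega⟩ : Fin (e + 1)) from rfl,
        ih (by omega), pow_succ']
  let B : (Fin (e + 1) → F) →ₛₗ[conjHom hF] (Fin (e + 1) → F) →ₗ[F] F := LinearMap.mk₂'ₛₗ (conjHom hF) (RingHom.id F) (fun x y => H y x)
    (fun x x' y => by
      have hadd : ∀ a b : F, (a + b) ^ q = a ^ q + b ^ q := fun a b => map_add (conjHom hF) a b
      simp [H, hadd, mul_add, Finset.sum_add_distrib])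
    (fun c x y => by simp [H, mul_pow, Finset.mul_sum, conjHom_apply, mul_left_comm])
    (fun x y y' => by simp [H, add_mul, Finset.sum_add_distrib])
    (fun c x y => by simp [H, Finset.mul_sum, mul_assoc])
  have hBH : ∀ x y, B x y = H y x := fun x y => rfl
  have hS : ∀ x y, conjHom hF (B x y) = B y x := fun x y => by
    rw [hBH, hBH, map_sum]
    refine Fintype.sum_equiv Fin.revPerm _ _ fun l => ?_
    simp [conjHom_apply, mul_pow, pow_q_pow_q hF, mul_comm]
  obtain ⟨b, -, hb⟩ := Forms.exists_orthonormal_family (σ := conjHom hF) (conjHom_ne_id hF)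
    (pow_q_pow_q hF) B ⟨hS⟩ (e + 1) ⊤
    (fun w _ h => funext fun l => by
      have := h (Pi.single l.rev 1) Submodule.mem_top
      simpa [hBH, H, Pi.single_apply, pow_q_eq_zero_iff hF] using this)
    (by rw [finrank_top, Module.finrank_fin_fun])
  let f : (Fin (e + 1) → F) →ₗ[F] (Fin (e + 1) → F) :=
    { toFun := fun x => ∑ i, x i • b i
      map_add' := fun x y => by simp [add_smul, Finset.sum_add_distrib]
      map_smul' := fun c x => by simp [mul_smul, Finset.smul_sum] }
  have hf : ∀ x y, H (f x) (f y) = herm q x y := fun x y => by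
    rw [← hBH]
    show B (∑ i, y i • b i) (∑ i, x i • b i) = _
    simp only [map_sum, LinearMap.sum_apply, LinearMap.map_smulₛₗ, LinearMap.smul_apply, hb, herm, hermForm]
    simp [conjHom_apply, mul_comm]
  have hinj : Function.Injective f := fun x y hxy => sub_eq_zero.1 (eq_zero_of_herm hF fun z => by
    rw [herm_sub_left, ← hf, ← hf, hxy, sub_self])
  let E := LinearEquiv.ofInjectiveEndo f hinj
  have hE : ∀ x, E x = f x := fun x => rfl
  let M := (lam ^ q) • N
  let A : Module.End F (Fin (e + 1) → F) := 1 + lam • N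
  let D : Module.End F (Fin (e + 1) → F) := 1 - M
  let S : Module.End F (Fin (e + 1) → F) := ∑ j ∈ Finset.range (e + 1), M ^ j
  have hM : M ^ (e + 1) = 0 := by simp only [M, _root_.smul_pow, hNe, smul_zero]
  have hDS : D * S = 1 := by rw [show D * S = 1 - M ^ (e + 1) from mul_neg_geom_sum M (e + 1), hM, sub_zero]
  have hSD : S * D = 1 := by rw [show S * D = 1 - M ^ (e + 1) from geom_sum_mul_neg M (e + 1), hM, sub_zero]
  have hH : ∀ x y, H (A x) (A y) = H (D x) (D y) := fun x y => by
    have hl : ∀ a c d, H (a + c) d = H a d + H c d := fun a c d => by simp [H, add_mul, Finset.sum_add_distrib]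
    have hr : ∀ a c d, H a (c + d) = H a c + H a d := fun a c d => by
      have hadd : ∀ a b : F, (a + b) ^ q = a ^ q + b ^ q := fun a b => map_add (conjHom hF) a b
      simp [H, hadd, mul_add, Finset.sum_add_distrib]
    have hsl : ∀ (t : F) a c, H (t • a) c = t * H a c := fun t a c => by simp [H, Finset.mul_sum, mul_assoc]
    have hsr : ∀ (t : F) a c, H a (t • c) = t ^ q * H a c := fun t a c => by
      simp [H, mul_pow, Finset.mul_sum, mul_left_comm]
    have hD : ∀ z, D z = z + (-(lam ^ q)) • N z := fun z => by simp [D, M, sub_eq_add_neg]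
    have hA : ∀ z, A z = z + lam • N z := fun z => rfl
    simp only [hA, hD, hl, hr, hsl, hsr, neg_pow_q hF, pow_q_pow_q hF]
    linear_combination (lam + lam ^ q) * hskew x y
  have hc : Commute N S := Commute.sum_right _ _ _ fun j _ => ((Commute.refl N).smul_right _).pow_right j
  have hTe : A * S - 1 = ((lam + lam ^ q) • N) * S := by
    conv_lhs => arg 2; rw [← hDS]
    rw [← sub_mul]
    congr 1
    simp only [A, D, M, add_smul]
    abel
  refine ⟨E.symm.conj (A * S), fun u v => ?_, ?_, ?_⟩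
  · rw [← hf, ← hf]
    simp only [LinearEquiv.conj_apply_apply, LinearEquiv.symm_symm, ← hE, LinearEquiv.apply_symm_apply,
      Module.End.mul_apply, hH]
    rw [← Module.End.mul_apply, ← Module.End.mul_apply D S, hDS]
    rfl
  · have h1 : (A * S - 1) ^ (e + 1) = 0 := by
      rw [hTe, (hc.smul_left _).mul_pow, _root_.smul_pow, hNe, smul_zero, zero_mul]
    refine LinearMap.ext fun x => E.injective ?_
    have h2 : ∀ (k : ℕ) x, E (((E.symm.conj (A * S) - 1) ^ k) x) = ((A * S - 1) ^ k) (E x) := by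
      intro k
      induction k with
      | zero => simp
      | succ k ih =>
        intro x
        rw [pow_succ', Module.End.mul_apply, pow_succ', Module.End.mul_apply, ← ih]
        simp [LinearEquiv.conj_apply_apply]
    rw [h2, h1]; simp
  · intro h0
    have h1 : (A * S - 1) ^ e = 0 := by
      refine LinearMap.ext fun y => ?_
      obtain ⟨x, rfl⟩ := E.surjective y
      have h2 : ∀ (k : ℕ) x, E (((E.symm.conj (A * S) - 1) ^ k) x) = ((A * S - 1) ^ k) (E x) := by
        intro k
        induction k with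
        | zero => simp
        | succ k ih =>
          intro x
          rw [pow_succ', Module.End.mul_apply, pow_succ', Module.End.mul_apply, ← ih]
          simp [LinearEquiv.conj_apply_apply]
      rw [← h2, h0]; simp
    rw [hTe, (hc.smul_left _).mul_pow, _root_.smul_pow] at h1
    have h3 := congrArg (· * D ^ e) h1
    simp only [zero_mul, mul_assoc] at h3
    rw [← (show Commute S D from hSD.trans hDS.symm).mul_pow, hSD, one_pow, mul_one] at h3
    rcases smul_eq_zero.1 h3 with h4 | h4
    · exact pow_ne_zero _ hlam h4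
    · have := hNn e (by omega)
      rw [h4] at this
      exact pow_ne_zero e hε0 this.symm

/-- Every Jordan type of bounded block size occurs. -/
theorem exists_unipotent {p : ℕ} : ∀ μ : Multiset ℕ, (∀ a ∈ μ, 0 < a ∧ a ≤ p) →
    ∃ T : Module.End F (Fin μ.sum → F), (∀ u v, herm q (T u) (T v) = herm q u v) ∧ (T - 1) ^ p = 0 ∧
      ∀ j, finrank F (LinearMap.ker ((T - 1) ^ j)) = JType.nul μ j := by
  classical
  intro μ
  induction μ using Multiset.induction_on with
  | empty =>
    intro _
    refine ⟨1, fun u v => rfl, LinearMap.ext fun v => funext fun l => l.elim0, fun j => ?_⟩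
    have h0 : finrank F (LinearMap.ker (((1 : Module.End F (Fin (0 : Multiset ℕ).sum → F)) - 1) ^ j)) ≤ 0 :=
      (Submodule.finrank_le _).trans (le_of_eq (Module.finrank_fin_fun F))
    simp only [JType.nul, Multiset.map_zero, Multiset.sum_zero] at h0 ⊢
    omega
  | cons a μ ih =>
    intro hμ
    obtain ⟨T₂, hiso₂, hN₂, hk₂⟩ := ih fun b hb => hμ b (Multiset.mem_cons_of_mem hb)
    obtain ⟨ha0, hap⟩ := hμ a (Multiset.mem_cons_self a μ)
    obtain ⟨e, rfl⟩ : ∃ e, a = e + 1 := ⟨a - 1, by omega⟩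
    obtain ⟨T₁, hiso₁, hN₁, hN₁'⟩ := exists_block hF hap
    have hN₁p : (T₁ - 1) ^ p = 0 := by
      obtain ⟨d, hd⟩ := Nat.exists_eq_add_of_le hap
      rw [hd, pow_add, hN₁, zero_mul]
    have hk₁ : ∀ j, finrank F (LinearMap.ker ((T₁ - 1) ^ j)) = min (e + 1) j := by
      obtain ⟨α, hα, hαs, hαk, -⟩ := JType.exists_type (T₁ - 1) hN₁
      rw [Module.finrank_fin_fun] at hαs
      obtain ⟨b, hb, hbe⟩ : ∃ b ∈ α, e < b := by
        by_contra hcon
        push Not at hcon
        refine hN₁' (LinearMap.ker_eq_top.1 (Submodule.eq_top_of_finrank_eq ?_))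
        rw [hαk, Module.finrank_fin_fun, JType.nul,
          Multiset.map_congr rfl (fun b hb => min_eq_left (hcon b hb)), Multiset.map_id', hαs]
      have hb' : b = e + 1 := le_antisymm (hα b hb).2 hbe
      subst hb'
      have hrest : α.erase (e + 1) = 0 := Multiset.eq_zero_of_forall_notMem fun c hc => by
        have h1 := (hα c (Multiset.mem_of_mem_erase hc)).1
        have h2 : c ≤ (α.erase (e + 1)).sum := Multiset.le_sum_of_mem hc
        have h3 := congrArg Multiset.sum (Multiset.cons_erase hb)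
        rw [Multiset.sum_cons] at h3
        omega
      intro j
      rw [hαk, ← Multiset.cons_erase hb, hrest, JType.nul]
      simp
    have hn : ((e + 1) ::ₘ μ).sum = (e + 1) + μ.sum := Multiset.sum_cons _ _
    let σ : Fin ((e + 1) ::ₘ μ).sum ≃ Fin (e + 1) ⊕ Fin μ.sum := (finCongr hn).trans finSumFinEquiv.symm
    let E : (Fin ((e + 1) ::ₘ μ).sum → F) ≃ₗ[F] (Fin (e + 1) → F) × (Fin μ.sum → F) :=
      (LinearEquiv.funCongrLeft F F σ.symm).trans (LinearEquiv.sumArrowLequivProdArrow _ _ F F)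
    have hEh : ∀ u v, herm q u v = herm q (E u).1 (E v).1 + herm q (E u).2 (E v).2 := fun u v => by
      simp only [herm, hermForm]
      rw [← σ.symm.sum_comp, Fintype.sum_sum_type]
      rfl
    let T : Module.End F (Fin ((e + 1) ::ₘ μ).sum → F) := E.symm.conj (T₁.prodMap T₂)
    have hpow : ∀ (j : ℕ) x, E (((T - 1) ^ j) x) = (((T₁ - 1) ^ j) (E x).1, ((T₂ - 1) ^ j) (E x).2) := by
      intro j
      induction j with
      | zero => simp
      | succ j ihj =>
        intro x
        rw [pow_succ', Module.End.mul_apply, pow_succ', Module.End.mul_apply, pow_succ', Module.End.mul_apply]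
        simp only [LinearMap.sub_apply, Module.End.one_apply, map_sub, T, LinearEquiv.conj_apply_apply,
          LinearEquiv.symm_symm, LinearEquiv.apply_symm_apply, ihj, LinearMap.prodMap_apply]
        rfl
    refine ⟨T, fun u v => ?_, LinearMap.ext fun x => E.injective ?_, fun j => ?_⟩
    · rw [hEh, hEh u v]
      simp [T, LinearEquiv.conj_apply_apply, hiso₁, hiso₂]
    · rw [hpow, hN₁p, hN₂]
      simp
    · have hker : LinearMap.ker ((T - 1) ^ j) =
          ((LinearMap.ker ((T₁ - 1) ^ j)).prod (LinearMap.ker ((T₂ - 1) ^ j))).map E.symm.toLinearMap := by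
        ext x
        rw [Submodule.mem_map_equiv, LinearEquiv.symm_symm, LinearMap.mem_ker, ← E.map_eq_zero_iff, hpow,
          Submodule.mem_prod, LinearMap.mem_ker, LinearMap.mem_ker, Prod.mk_eq_zero]
      rw [hker, LinearEquiv.finrank_map_eq, JType.finrank_prod_submodule, hk₁, hk₂]
      simp [JType.nul]

end Cfsg.Agent.ClMax99.UnitFix
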