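import Mathlib

/-! Imprimitive subgroups of alternating groups: the even part of the stabiliser of a partition into
`b` parts of size `a` is maximal unless `a b = 8`. -/

set_option autoImplicit false
set_option linter.unusedSectionVars false

namespace Cfsg.Agent.ClMax99

open Equiv Equiv.Perm

variable {Ω : Type*} {b : ℕ}

/-- The permutations preserving the partition into fibres of `f`, as a set. -/
def preservingSet (f : Ω → Fin b) : Set (Equiv.Perm Ω) :=
  {g | ∀ x y : Ω, f x = f y ↔ f (g x) = f (g y)}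

/-- The stabiliser of the partition into fibres of `f`. -/
def partStab (f : Ω → Fin b) : Subgroup (Equiv.Perm Ω) where
  carrier := preservingSet f
  mul_mem' {g h} hg hh x y := (hh x y).trans (hg (h x) (h y))
  one_mem' _ _ := Iff.rfl
  inv_mem' {g} hg x y := by simpa using (hg (g⁻¹ x) (g⁻¹ y)).symm

theorem closure_preservingSet (f : Ω → Fin b) :
    Subgroup.closure (preservingSet f) = partStab f :=
  Subgroup.closure_eq (partStab f)

variable [DecidableEq Ω]

/-- The permutation `swap x y * swap x z`. -/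
def tc (x y z : Ω) : Equiv.Perm Ω := swap x y * swap x z

theorem conj_tc (g : Equiv.Perm Ω) (x y z : Ω) : g * tc x y z * g⁻¹ = tc (g x) (g y) (g z) := by
  rw [tc, tc, Equiv.swap_apply_apply g x y, Equiv.swap_apply_apply g x z]
  group

theorem tc_inv (x y z : Ω) : (tc x y z)⁻¹ = tc x z y := by
  simp [tc, mul_inv_rev]

theorem tc_rot {x y z : Ω} (hxy : x ≠ y) (hxz : x ≠ z) (hyz : y ≠ z) : tc x y z = tc y z x := by
  ext w
  simp only [tc, Equiv.Perm.mul_apply, Equiv.swap_apply_def]
  split_ifs <;> simp_all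

theorem tc_apply_self {x y z : Ω} (hxz : x ≠ z) (hyz : y ≠ z) : tc x y z x = z := by
  rw [tc, Equiv.Perm.mul_apply, swap_apply_left, swap_apply_of_ne_of_ne hxz.symm hyz.symm]

section Finite

variable [Fintype Ω]

theorem tc_mem_alternating {x y z : Ω} (hxy : x ≠ y) (hxz : x ≠ z) :
    tc x y z ∈ alternatingGroup Ω :=
  Equiv.Perm.mul_mem_alternatingGroup_of_isSwap (Equiv.Perm.swap_isSwap_iff.2 hxy)
    (Equiv.Perm.swap_isSwap_iff.2 hxz)

variable {a : ℕ} {f : Ω → Fin b} (G : Subgroup (Equiv.Perm Ω))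

theorem alternatingGroup_le_of_tc
    (h : ∀ x y z : Ω, x ≠ y → x ≠ z → y ≠ z → tc x y z ∈ G) : alternatingGroup Ω ≤ G := by
  rw [← Equiv.Perm.closure_three_cycles_eq_alternating, Subgroup.closure_le]
  intro g hg
  obtain ⟨x, hx⟩ : ∃ x, x ∈ g.support := Finset.card_pos.1 (by rw [hg.card_support]; norm_num)
  rw [hg.eq_swap_mul_swap_iff_mem_support.2 hx, Equiv.swap_comm x (g x)]
  have hn := hg.nodup_iff_mem_support.2 hx
  simp only [List.nodup_cons, List.mem_cons, List.not_mem_nil, or_false, not_or] at hn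
  exact h _ _ _ (Ne.symm hn.1.1) hn.2.1 hn.1.2

theorem fibre_equiv (hf : ∀ i : Fin b, Nat.card {x : Ω // f x = i} = a) :
    ∃ e : Ω ≃ Fin b × Fin a, ∀ x, (e x).1 = f x := by
  classical
  refine ⟨((Equiv.sigmaFiberEquiv f).symm.trans
    (Equiv.sigmaCongrRight fun i => Finite.equivFinOfCardEq (hf i))).trans (Equiv.sigmaEquivProd _ _),
    fun x => rfl⟩

section

variable (e : Ω ≃ Fin b × Fin a) (he : ∀ x, (e x).1 = f x)

/-- The permutation moving the blocks by `σ` and the points of block `i` by `τ i`. -/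
def blockPerm (p : Equiv.Perm (Fin b) × (Fin b → Equiv.Perm (Fin a))) : Equiv.Perm Ω :=
  (e.trans (Equiv.prodShear p.1 p.2)).trans e.symm

include he in
theorem blockPerm_mem (p : Equiv.Perm (Fin b) × (Fin b → Equiv.Perm (Fin a))) :
    blockPerm e p ∈ partStab f := by
  intro x y
  simp [blockPerm, ← he, Equiv.prodShear]

include he in
theorem card_partStab (ha : 0 < a) :
    Nat.card (partStab f) = b.factorial * a.factorial ^ b := by
  classical
  let F : Equiv.Perm (Fin b) × (Fin b → Equiv.Perm (Fin a)) → partStab f :=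
    fun p => ⟨blockPerm e p, blockPerm_mem e he p⟩
  have hF : Function.Bijective F := by
    refine ⟨fun p q h => ?_, fun g => ?_⟩
    · have h' : ∀ i j, Equiv.prodShear p.1 p.2 (i, j) = Equiv.prodShear q.1 q.2 (i, j) := fun i j => by
        have := Equiv.ext_iff.1 (congrArg Subtype.val h) (e.symm (i, j))
        simpa [F, blockPerm] using this
      refine Prod.ext (Equiv.ext fun i => ?_) (funext fun i => Equiv.ext fun j => ?_)
      · exact congrArg Prod.fst (h' i ⟨0, ha⟩)
      · exact congrArg Prod.snd (h' i j)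
    · let j0 : Fin a := ⟨0, ha⟩
      let h : Equiv.Perm (Fin b × Fin a) := e.permCongr g
      have hh : ∀ u v : Fin b × Fin a, u.1 = v.1 ↔ (h u).1 = (h v).1 := fun u v => by
        have := g.2 (e.symm u) (e.symm v)
        simpa [h, ← he] using this
      let σ : Equiv.Perm (Fin b) := Equiv.ofBijective (fun i => (h (i, j0)).1)
        ⟨fun i i' hi => (hh (i, j0) (i', j0)).2 hi,
          Finite.injective_iff_surjective.1 fun i i' hi => (hh (i, j0) (i', j0)).2 hi⟩
      have hσ : ∀ i j, (h (i, j)).1 = σ i := fun i j => (hh (i, j) (i, j0)).1 rfl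
      let τ : Fin b → Equiv.Perm (Fin a) := fun i => Equiv.ofBijective (fun j => (h (i, j)).2)
        (Finite.injective_iff_bijective.1 fun j j' hj => by
          have : h (i, j) = h (i, j') := Prod.ext (by rw [hσ, hσ]) hj
          simpa using h.injective this)
      refine ⟨(σ, τ), Subtype.ext (Equiv.ext fun x => ?_)⟩
      show e.symm (Equiv.prodShear σ τ (e x)) = _
      rw [Equiv.symm_apply_eq]
      refine Prod.ext ?_ ?_
      · have := hσ (e x).1 (e x).2
        simp only [Prod.mk.eta, h, Equiv.permCongr_apply, Equiv.symm_apply_apply] at this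
        simpa [Equiv.prodShear] using this.symm
      · simp [Equiv.prodShear, τ, h]
  rw [← Nat.card_eq_of_bijective F hF, Nat.card_prod, Nat.card_pi, Finset.prod_const, Nat.card_perm,
    Nat.card_perm, Finset.card_univ, Fintype.card_fin, Nat.card_fin, Nat.card_fin]

include he in
theorem exists_same_block (x : Ω) (ha : 2 ≤ a) : ∃ y, y ≠ x ∧ f y = f x := by
  obtain ⟨j, hj⟩ := Fintype.exists_ne_of_one_lt_card (α := Fin a) (by simp; omega) (e x).2
  refine ⟨e.symm ((e x).1, j), fun h => hj ?_, ?_⟩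
  · rw [Equiv.symm_apply_eq] at h
    exact congrArg Prod.snd h
  · rw [← he, ← he, Equiv.apply_symm_apply]

include he in
theorem exists_same_block_two (x y : Ω) (ha : 3 ≤ a) :
    ∃ z, z ≠ x ∧ z ≠ y ∧ f z = f x := by
  obtain ⟨j, hj1, hj2⟩ : ∃ j : Fin a, j ≠ (e x).2 ∧ j ≠ (e y).2 := by
    by_contra! h
    have : (Finset.univ : Finset (Fin a)) ⊆ {(e x).2, (e y).2} := fun j _ => by
      by_cases hj : j = (e x).2
      · simp [hj]
      · simp [h j hj]
    have := (Finset.card_le_card this).trans Finset.card_le_two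
    simp at this
    omega
  refine ⟨e.symm ((e x).1, j), fun h => hj1 ?_, fun h => hj2 ?_, ?_⟩
  · rw [Equiv.symm_apply_eq] at h; exact congrArg Prod.snd h
  · rw [Equiv.symm_apply_eq] at h; exact congrArg Prod.snd h
  · rw [← he, ← he, Equiv.apply_symm_apply]

include he in
theorem exists_block_avoiding (s : Finset Ω) (h : s.card < b) (ha : 0 < a) :
    ∃ z, ∀ y ∈ s, f z ≠ f y := by
  obtain ⟨i, -, hi⟩ := Finset.exists_mem_notMem_of_card_lt_card (s := s.image f) (t := Finset.univ)
    (by simpa using Finset.card_image_le.trans_lt h)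
  refine ⟨e.symm (i, ⟨0, ha⟩), fun y hy hz => hi ?_⟩
  rw [← he, Equiv.apply_symm_apply] at hz
  exact Finset.mem_image.2 ⟨y, hy, hz.symm⟩

end

theorem swap_mem_partStab {x y : Ω} (h : f x = f y) : swap x y ∈ partStab f := by
  intro p q
  have : ∀ r, f (swap x y r) = f r := fun r => by
    rw [Equiv.swap_apply_def]
    split_ifs with h1 h2
    · rw [h1, h]
    · rw [h2, h]
    · rfl
  rw [this, this]

theorem swap_two_mem {x y z w : Ω} (h : f x = f y) (h' : f z = f w) (hxy : x ≠ y) (hzw : z ≠ w) :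
    swap x y * swap z w ∈ partStab f ⊓ alternatingGroup Ω :=
  ⟨(partStab f).mul_mem (swap_mem_partStab h) (swap_mem_partStab h'),
    Equiv.Perm.mul_mem_alternatingGroup_of_isSwap (Equiv.Perm.swap_isSwap_iff.2 hxy)
      (Equiv.Perm.swap_isSwap_iff.2 hzw)⟩

theorem exists_perm_two {α : Type*} [DecidableEq α] {p q r s : α} (hpq : p ≠ q) (hrs : r ≠ s) :
    ∃ g : Equiv.Perm α, g p = r ∧ g q = s := by
  refine ⟨swap (swap p r q) s * swap p r, ?_, by simp⟩
  have : swap p r q ≠ r := fun h => hpq ((swap p r).injective (by rw [h, swap_apply_left]))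
  simp [swap_apply_of_ne_of_ne this.symm hrs]

variable (e : Ω ≃ Fin b × Fin a) (he : ∀ x, (e x).1 = f x)
  (hG : partStab f ⊓ alternatingGroup Ω ≤ G)

include he hG in
/-- One 3-cycle meeting exactly two blocks gives them all. -/
theorem alternatingGroup_le_of_tc_mem (ha : 2 ≤ a) (hab : 3 ≤ a ∨ 3 ≤ b) {x x' y : Ω} (hx : x ≠ x')
    (hxx : f x = f x') (hy : f y ≠ f x) (hc : tc x x' y ∈ G) : alternatingGroup Ω ≤ G := by
  classical
  have htwo : ∀ r r' s : Ω, r ≠ r' → f r = f r' → f s ≠ f r → tc r r' s ∈ G := by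
    intro r r' s hr hrr hs
    obtain ⟨σ, hσ1, hσ2⟩ := exists_perm_two (p := f x) (q := f y) (r := f r) (s := f s) hy.symm hs.symm
    obtain ⟨τ1, hτ1, hτ1'⟩ := exists_perm_two (p := (e x).2) (q := (e x').2) (r := (e r).2) (s := (e r').2)
      (fun h => hx (e.injective (Prod.ext (by rw [he, he, hxx]) h)))
      (fun h => hr (e.injective (Prod.ext (by rw [he, he, hrr]) h)))
    let τ : Fin b → Equiv.Perm (Fin a) := fun i =>
      if i = f x then τ1 else swap (e y).2 (e s).2
    set h0 := blockPerm e (σ, τ) with hh0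
    have h0x : h0 x = r := by
      rw [hh0, blockPerm]; simp only [Equiv.trans_apply, Equiv.symm_apply_eq]
      refine Prod.ext ?_ ?_
      · simp [Equiv.prodShear, he, hσ1]
      · simp [Equiv.prodShear, he, τ, hτ1]
    have h0x' : h0 x' = r' := by
      rw [hh0, blockPerm]; simp only [Equiv.trans_apply, Equiv.symm_apply_eq]
      refine Prod.ext ?_ ?_
      · simp [Equiv.prodShear, he, ← hxx, hσ1, hrr]
      · simp [Equiv.prodShear, he, τ, ← hxx, hτ1']
    have h0y : h0 y = s := by
      rw [hh0, blockPerm]; simp only [Equiv.trans_apply, Equiv.symm_apply_eq]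
      refine Prod.ext ?_ ?_
      · simp [Equiv.prodShear, he, hσ2]
      · simp [Equiv.prodShear, he, τ, hy]
    obtain ⟨p, q, hpq, hfpq, hp, hq⟩ : ∃ p q : Ω, p ≠ q ∧ f p = f q ∧
        (∀ u ∈ [r, r', s], p ≠ u) ∧ (∀ u ∈ [r, r', s], q ≠ u) := by
      rcases hab with h | h
      · obtain ⟨p, hps, -, hfp⟩ := exists_same_block_two e he s s h
        obtain ⟨q, hqs, hqp, hfq⟩ := exists_same_block_two e he s p h
        refine ⟨p, q, hqp.symm, hfp.trans hfq.symm, ?_, ?_⟩ <;>
          (simp only [List.mem_cons, List.not_mem_nil, or_false]; rintro u (rfl | rfl | rfl) rfl) <;>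
          simp_all
      · obtain ⟨p, hp⟩ := exists_block_avoiding e he {r, s}
          (lt_of_le_of_lt Finset.card_le_two (by omega)) (by omega)
        obtain ⟨q, hqp, hfq⟩ := exists_same_block e he p ha
        have h1 := hp r (by simp)
        have h2 := hp s (by simp)
        refine ⟨p, q, hqp.symm, hfq.symm, ?_, ?_⟩ <;>
          (simp only [List.mem_cons, List.not_mem_nil, or_false]; rintro u (rfl | rfl | rfl) rfl) <;>
          simp_all
    obtain ⟨k, hk, hkr⟩ : ∃ k, k ∈ partStab f ⊓ alternatingGroup Ω ∧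
        k x = r ∧ k x' = r' ∧ k y = s := by
      by_cases hev : h0 ∈ alternatingGroup Ω
      · exact ⟨h0, ⟨blockPerm_mem e he _, hev⟩, h0x, h0x', h0y⟩
      · refine ⟨swap p q * h0, ⟨(partStab f).mul_mem (swap_mem_partStab hfpq) (blockPerm_mem e he _),
          ?_⟩, ?_, ?_, ?_⟩
        · show swap p q * h0 ∈ alternatingGroup Ω
          rw [Equiv.Perm.mem_alternatingGroup, map_mul, Equiv.Perm.sign_swap hpq]
          rw [Equiv.Perm.mem_alternatingGroup] at hev
          rcases Int.units_eq_one_or (Equiv.Perm.sign h0) with h | h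
          · exact absurd h hev
          · rw [h]; rfl
        · rw [Equiv.Perm.mul_apply, h0x]
          exact swap_apply_of_ne_of_ne (hp r (by simp)).symm (hq r (by simp)).symm
        · rw [Equiv.Perm.mul_apply, h0x']
          exact swap_apply_of_ne_of_ne (hp r' (by simp)).symm (hq r' (by simp)).symm
        · rw [Equiv.Perm.mul_apply, h0y]
          exact swap_apply_of_ne_of_ne (hp s (by simp)).symm (hq s (by simp)).symm
    obtain ⟨h1, h2, h3⟩ := hkr
    rw [← h1, ← h2, ← h3, ← conj_tc]
    exact G.mul_mem (G.mul_mem (hG hk) hc) (G.inv_mem (hG hk))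
  refine alternatingGroup_le_of_tc G fun u v w huv huw hvw => ?_
  by_cases h1 : f u = f v
  · by_cases h2 : f w = f u
    · exact hG ⟨(partStab f).mul_mem (swap_mem_partStab h1) (swap_mem_partStab h2.symm),
        tc_mem_alternating huv huw⟩
    · exact htwo u v w huv h1 h2
  · by_cases h2 : f v = f w
    · rw [tc_rot huv huw hvw]
      exact htwo v w u hvw h2 h1
    · by_cases h3 : f w = f u
      · rw [tc_rot huv huw hvw, tc_rot hvw huv.symm huw.symm]
        exact htwo w u v huw.symm h3 (by rw [h3]; exact Ne.symm h1)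
      · obtain ⟨v', hv', hfv⟩ := exists_same_block e he v ha
        have hv'u : v' ≠ u := fun h => h1 (by rw [← hfv, h])
        have hv'w : v' ≠ w := fun h => h2 (by rw [← hfv, h])
        have hd := htwo v v' w hv'.symm hfv.symm (Ne.symm h2)
        have hc' := htwo v v' u hv'.symm hfv.symm h1
        have e1 : tc v v' u v = u := tc_apply_self huv.symm hv'u
        have e2 : tc v v' u v' = v := by
          rw [tc, Equiv.Perm.mul_apply, swap_apply_of_ne_of_ne hv' hv'u, swap_apply_right]
        have e3 : tc v v' u w = w := by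
          rw [tc, Equiv.Perm.mul_apply, swap_apply_of_ne_of_ne hvw.symm huw.symm,
            swap_apply_of_ne_of_ne hvw.symm hv'w.symm]
        have := G.mul_mem (G.mul_mem hc' hd) (G.inv_mem hc')
        rwa [conj_tc, e1, e2, e3] at this

theorem exists_split {g : Equiv.Perm Ω} (hg : g ∉ partStab f) :
    ∃ h : Equiv.Perm Ω, (h = g ∨ h = g⁻¹) ∧ ∃ x y, f x = f y ∧ f (h x) ≠ f (h y) := by
  by_contra! hc
  refine hg fun x y => ⟨hc g (Or.inl rfl) x y, fun h => ?_⟩
  simpa using hc g⁻¹ (Or.inr rfl) (g x) (g y) h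

include he hG in
theorem alternatingGroup_le_of_three_le (ha : 3 ≤ a) {g : Equiv.Perm Ω} (hgG : g ∈ G)
    (hg : g ∉ partStab f) : alternatingGroup Ω ≤ G := by
  obtain ⟨h, hh, x, y, hxy, hhxy⟩ := exists_split hg
  have hhG : h ∈ G := by rcases hh with rfl | rfl; exacts [hgG, G.inv_mem hgG]
  have hne : x ≠ y := fun e => hhxy (by rw [e])
  obtain ⟨z, hzx, hzy, hfz⟩ := exists_same_block_two e he x y ha
  have ht : tc x y z ∈ G := hG ⟨(partStab f).mul_mem (swap_mem_partStab hxy)
    (swap_mem_partStab hfz.symm), tc_mem_alternating hne hzx.symm⟩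
  have hc : tc (h x) (h y) (h z) ∈ G := by
    rw [← conj_tc]; exact G.mul_mem (G.mul_mem hhG ht) (G.inv_mem hhG)
  have n1 : h x ≠ h y := h.injective.ne hne
  have n2 : h x ≠ h z := h.injective.ne hzx.symm
  have n3 : h y ≠ h z := h.injective.ne hzy.symm
  have key := @alternatingGroup_le_of_tc_mem Ω _ _ _ a f G e he hG (by omega) (Or.inl ha)
  by_cases h1 : f (h z) = f (h x)
  · refine key (y := h y) n2.symm h1 (fun e => hhxy (by rw [e, h1])) ?_
    rwa [tc_rot n2.symm n3.symm n1]
  · by_cases h2 : f (h z) = f (h y)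
    · refine key (y := h x) n3 h2.symm hhxy ?_
      rwa [← tc_rot n1 n2 n3]
    · obtain ⟨q', hq', hfq'⟩ := exists_same_block e he (h y) (by omega)
      obtain ⟨q'', hq''1, hq''2, hfq''⟩ := exists_same_block_two e he (h y) q' ha
      have hd : tc (h y) q' q'' ∈ G := hG ⟨(partStab f).mul_mem (swap_mem_partStab hfq'.symm)
        (swap_mem_partStab hfq''.symm), tc_mem_alternating hq'.symm hq''1.symm⟩
      have hq'x : q' ≠ h x := fun e => hhxy (by rw [← e, hfq'])
      have hq'z : q' ≠ h z := fun e => h2 (by rw [← e, hfq'])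
      have hqx : q'' ≠ h x := fun e => hhxy (by rw [← e, hfq''])
      have hqz : q'' ≠ h z := fun e => h2 (by rw [← e, hfq''])
      have e1 : tc (h x) (h y) (h z) (h y) = h x := by
        rw [tc, Equiv.Perm.mul_apply, swap_apply_of_ne_of_ne n1.symm n3, swap_apply_right]
      have e2 : ∀ q, q ≠ h x → q ≠ h y → q ≠ h z → tc (h x) (h y) (h z) q = q := fun q a b c => by
        rw [tc, Equiv.Perm.mul_apply, swap_apply_of_ne_of_ne a c, swap_apply_of_ne_of_ne a b]
      have := G.mul_mem (G.mul_mem hc hd) (G.inv_mem hc)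
      rw [conj_tc, e1, e2 q' hq'x hq' hq'z, e2 q'' hqx hq''1 hqz,
        tc_rot hq'x.symm hqx.symm hq''2.symm] at this
      exact key hq''2.symm (hfq'.trans hfq''.symm) (fun e => hhxy (by rw [e, hfq'])) this

include he hG in
theorem alternatingGroup_le_of_two (ha : a = 2) (hb : 5 ≤ b) {g : Equiv.Perm Ω} (hgG : g ∈ G)
    (hg : g ∉ partStab f) : alternatingGroup Ω ≤ G := by
  classical
  obtain ⟨h, hh, x, y, hxy, hhxy⟩ := exists_split hg
  have hhG : h ∈ G := by rcases hh with rfl | rfl; exacts [hgG, G.inv_mem hgG]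
  have hne : x ≠ y := fun e => hhxy (by rw [e])
  obtain ⟨u', hu', hfu'⟩ := exists_same_block e he (h x) (by omega)
  obtain ⟨w, hw⟩ := exists_block_avoiding e he {x, h⁻¹ u'}
    (lt_of_le_of_lt Finset.card_le_two (by omega)) (by omega)
  obtain ⟨w', hw', hfw'⟩ := exists_same_block e he w (by omega)
  have hwx := hw x (by simp)
  have hwu := hw (h⁻¹ u') (by simp)
  have hwy : f w ≠ f y := by rw [← hxy]; exact hwx
  have hs := G.mul_mem (G.mul_mem hhG (hG (swap_two_mem hxy hfw'.symm hne hw'.symm))) (G.inv_mem hhG)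
  rw [show h * (swap x y * swap w w') * h⁻¹ = swap (h x) (h y) * swap (h w) (h w') by
    rw [Equiv.swap_apply_apply h x y, Equiv.swap_apply_apply h w w']; group] at hs
  obtain ⟨z, hz⟩ := exists_block_avoiding e he ({h x, h y, h w, h w'} : Finset Ω)
    (lt_of_le_of_lt Finset.card_le_four (by omega)) (by omega)
  obtain ⟨z', hz', hfz'⟩ := exists_same_block e he z (by omega)
  have hd := hG (swap_two_mem hfu'.symm hfz'.symm hu'.symm hz'.symm)
  have nu1 : u' ≠ h y := fun e => hhxy (by rw [← e, hfu'])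
  have nu2 : u' ≠ h w := fun e => hwu (by simp [e])
  have nu3 : u' ≠ h w' := fun e => hwu (by simp [e, hfw'])
  have nw1 : h x ≠ h w := h.injective.ne fun e => hwx (by rw [e])
  have nw2 : h x ≠ h w' := h.injective.ne fun e => hwx (by rw [e, hfw'])
  have nz : ∀ p ∈ ({h x, h y, h w, h w'} : Finset Ω), z ≠ p ∧ z' ≠ p := fun p hp =>
    ⟨fun e => hz p hp (by rw [e]), fun e => hz p hp (by rw [← e, hfz'])⟩
  have zx := nz (h x) (by simp); have zy := nz (h y) (by simp)
  have zw := nz (h w) (by simp); have zw' := nz (h w') (by simp)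
  have zu : z ≠ u' ∧ z' ≠ u' := ⟨fun e => hz (h x) (by simp) (by rw [e, hfu']),
    fun e => hz (h x) (by simp) (by rw [← hfz', e, hfu'])⟩
  set s := swap (h x) (h y) * swap (h w) (h w') with hs_def
  have su : s (h x) = h y := by
    rw [hs_def, Equiv.Perm.mul_apply, swap_apply_of_ne_of_ne nw1 nw2, swap_apply_left]
  have sfix : ∀ p, p ≠ h x → p ≠ h y → p ≠ h w → p ≠ h w' → s p = p := fun p a b c d => by
    rw [hs_def, Equiv.Perm.mul_apply, swap_apply_of_ne_of_ne c d, swap_apply_of_ne_of_ne a b]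
  have h3 := G.mul_mem (G.mul_mem (G.mul_mem hs hd) (G.inv_mem hs)) hd
  rw [show s * (swap (h x) u' * swap z z') * s⁻¹ * (swap (h x) u' * swap z z') =
      swap (s (h x)) (s u') * swap (s z) (s z') * (swap (h x) u' * swap z z') by
        rw [Equiv.swap_apply_apply s (h x) u', Equiv.swap_apply_apply s z z']; group,
    su, sfix u' hu' nu1 nu2 nu3, sfix z zx.1 zy.1 zw.1 zw'.1, sfix z' zx.2 zy.2 zw.2 zw'.2] at h3
  have hcomm : swap z z' * swap (h x) u' = swap (h x) u' * swap z z' := by
    rw [Equiv.mul_swap_eq_swap_mul, swap_apply_of_ne_of_ne zx.1.symm zx.2.symm,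
      swap_apply_of_ne_of_ne zu.1.symm zu.2.symm]
  rw [mul_assoc, ← mul_assoc (swap z z'), hcomm, mul_assoc (swap (h x) u'), Equiv.swap_mul_self,
    mul_one, Equiv.swap_comm (h y) u', Equiv.swap_comm (h x) u'] at h3
  have h4 : tc u' (h y) (h x) ∈ G := h3
  refine @alternatingGroup_le_of_tc_mem Ω _ _ _ a f G e he hG (by omega) (Or.inr (by omega))
    u' (h x) (h y) hu' hfu' (fun e => hhxy (by rw [e, hfu'])) ?_
  rw [← tc_inv]
  exact G.inv_mem h4

end Finite

end Cfsg.Agent.ClMax99
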